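import Mathlib
import Groth.Prelude.Def_W4stkcategoriessitesFib

/-! 2-Yoneda lemma for fibred categories: `evalAtId` restricted to cartesian functors is an equivalence (helper86). -/

set_option autoImplicit false
set_option backward.isDefEq.respectTransparency false
set_option backward.isDefEq.respectTransparency.types false
open CategoryTheory
universe v u
open FibCat

namespace Groth.Agent.Lib.Helper86.TwoYoneda

variable {C : Type u} [Category.{v} C] {𝒳 : BasedCategory.{v, max u v} C} (U : C)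

theorem over_lift_eq {a b : Over U} (f : a.left ⟶ b.left) (φ : a ⟶ b) (h : (Over.forget U).IsHomLift f φ) :
    f = φ.left :=
  @IsHomLift.eq_of_isHomLift _ _ _ _ (Over.forget U) a b f φ h

/-- every morphism of `Over U` is strongly cartesian over its image -/
theorem over_sc {a b : Over U} (φ : a ⟶ b) : (Over.forget U).IsStronglyCartesian φ.left φ := by
  have h0 : (Over.forget U).IsHomLift φ.left φ := Functor.IsHomLift.map (p := Over.forget U) φ
  refine { toIsHomLift := h0, universal_property' := ?_ }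
  intro a' (g : a'.left ⟶ a.left) φ' (hφ' : (Over.forget U).IsHomLift (g ≫ φ.left) φ')
  have h1 : g ≫ φ.left = φ'.left := over_lift_eq U _ φ' hφ'
  have hg : g ≫ a.hom = a'.hom := by
    have e1 := Over.w φ
    have e2 := Over.w φ'
    rw [← e1, ← e2, ← h1, Category.assoc]
  refine ⟨Over.homMk g hg, ⟨?_, ?_⟩, ?_⟩
  · exact Functor.IsHomLift.map (p := Over.forget U) (Over.homMk g hg)
  · ext
    simp [h1]
  · rintro χ ⟨hχ1, hχ2⟩
    ext
    have := over_lift_eq U g χ hχ1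
    simpa using this.symm

theorem over_sc' {R S : C} (f : R ⟶ S) {a b : Over U} (φ : a ⟶ b) [h : (Over.forget U).IsHomLift f φ] :
    (Over.forget U).IsStronglyCartesian f φ := by
  obtain ⟨⟩ := h
  exact over_sc U _

section
variable {U}

abbrev T (U : C) : Over U := Over.mk (𝟙 U)
def t (a : Over U) : a ⟶ T U := Over.homMk a.hom (by simp)
@[simp] theorem t_left (a : Over U) : (t a).left = a.hom := rfl

theorem t_comp {a b : Over U} (h : a ⟶ b) : h ≫ t b = t a := by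
  ext; simp

theorem G_sc (G : overCat U ⥤ᵇ 𝒳) (hG : PreservesStronglyCartesian G) {a b : Over U} (φ : a ⟶ b) :
    𝒳.p.IsStronglyCartesian φ.left (G.map φ) :=
  hG φ.left φ (over_sc U φ)

theorem G_lift (G : overCat U ⥤ᵇ 𝒳) {a b : Over U} (φ : a ⟶ b) :
    𝒳.p.IsHomLift φ.left (G.map φ) := by
  have : (overCat U).p.IsHomLift φ.left φ := Functor.IsHomLift.map (p := Over.forget U) φ
  exact BasedFunctor.preserves_isHomLift G φ.left φ

theorem α_lift {G H : overCat U ⥤ᵇ 𝒳} (α : G ⟶ H) (a : Over U) :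
    𝒳.p.IsHomLift (𝟙 a.left) (α.toNatTrans.app a) :=
  BasedNatTrans.app_isHomLift α a

theorem ev_faithful : (ObjectProperty.ι (FibCat.PreservesStronglyCartesian (𝒳 := FibCat.overCat U) (𝒴 := 𝒳)) ⋙ FibCat.evalAtId 𝒳 U).Faithful := by
  constructor
  intro 𝒢 ℋ α β hαβ
  have h0 : α.hom.toNatTrans.app (T U) = β.hom.toNatTrans.app (T U) := congrArg Subtype.val hαβ
  apply ObjectProperty.hom_ext
  apply BasedNatTrans.ext
  apply NatTrans.ext
  funext a
  have hsc := G_sc ℋ.obj ℋ.property (t a)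
  have h1 := α_lift α.hom a
  have h2 := α_lift β.hom a
  apply Functor.IsStronglyCartesian.ext 𝒳.p (t a).left (ℋ.obj.map (t a)) (𝟙 a.left)
  have n1 := α.hom.toNatTrans.naturality (t a)
  have n2 := β.hom.toNatTrans.naturality (t a)
  rw [← n1, ← n2, h0]
end

section
variable {U}

theorem ev_full : (ObjectProperty.ι (FibCat.PreservesStronglyCartesian (𝒳 := FibCat.overCat U) (𝒴 := 𝒳)) ⋙ FibCat.evalAtId 𝒳 U).Full := by
  constructor
  intro 𝒢 ℋ ξ
  -- ξ.1 : 𝒢.obj.obj (T U) ⟶ ℋ.obj.obj (T U), lifting 𝟙 U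
  have hξ : 𝒳.p.IsHomLift (𝟙 U) ξ.1 := ξ.2
  have hsc : ∀ a : Over U, 𝒳.p.IsStronglyCartesian a.hom (ℋ.obj.map (t a)) := fun a => G_sc ℋ.obj ℋ.property (t a)
  have hl : ∀ a : Over U, 𝒳.p.IsHomLift a.hom (𝒢.obj.map (t a) ≫ ξ.1) := fun a => by
    have := G_lift 𝒢.obj (t a)
    have h2 : 𝒳.p.IsHomLift ((t a).left ≫ 𝟙 U) (𝒢.obj.map (t a) ≫ ξ.1) := inferInstance
    simpa using h2
  have e0 : ∀ a : Over U, a.hom = 𝟙 a.left ≫ a.hom := fun a => (Category.id_comp _).symm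
  let app : ∀ a : Over U, 𝒢.obj.obj a ⟶ ℋ.obj.obj a := fun a =>
    Functor.IsStronglyCartesian.map 𝒳.p a.hom (ℋ.obj.map (t a)) (e0 a) (𝒢.obj.map (t a) ≫ ξ.1)
  have happ : ∀ a, app a ≫ ℋ.obj.map (t a) = 𝒢.obj.map (t a) ≫ ξ.1 := fun a =>
    Functor.IsStronglyCartesian.fac 𝒳.p a.hom (ℋ.obj.map (t a)) (e0 a) (𝒢.obj.map (t a) ≫ ξ.1)
  have happl : ∀ a, 𝒳.p.IsHomLift (𝟙 a.left) (app a) := fun a => inferInstance
  have nat : ∀ {a b : Over U} (h : a ⟶ b), 𝒢.obj.map h ≫ app b = app a ≫ ℋ.obj.map h := by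
    intro a b h
    have := happl a
    have := happl b
    have := G_lift 𝒢.obj h
    have := G_lift ℋ.obj h
    have h1 : 𝒳.p.IsHomLift h.left (𝒢.obj.map h ≫ app b) := by
      have h2 : 𝒳.p.IsHomLift (h.left ≫ 𝟙 b.left) (𝒢.obj.map h ≫ app b) := inferInstance
      simpa using h2
    have h1' : 𝒳.p.IsHomLift h.left (app a ≫ ℋ.obj.map h) := by
      have h2 : 𝒳.p.IsHomLift (𝟙 a.left ≫ h.left) (app a ≫ ℋ.obj.map h) := inferInstance
      simpa using h2
    apply Functor.IsStronglyCartesian.ext 𝒳.p b.hom (ℋ.obj.map (t b)) h.left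
    rw [Category.assoc, Category.assoc, happ b, ← Functor.map_comp, t_comp, happ a, ← Category.assoc, ← Functor.map_comp, t_comp]
  let α : 𝒢.obj ⟶ ℋ.obj := { toNatTrans := { app := app, naturality := fun _ _ h => nat h }, isHomLift' := fun a => happl a }
  refine ⟨ObjectProperty.homMk α, ?_⟩
  apply Subtype.ext
  show app (T U) = ξ.1
  have h1 := happ (T U)
  have h2 : t (T U) = 𝟙 (T U) := by ext; simp
  rw [h2] at h1
  simpa using h1
end

section
variable {U} [𝒳.p.IsFibered] (x : 𝒳.p.Fiber U)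

open Functor.IsPreFibered in
noncomputable def pbObj (a : Over U) : 𝒳.obj := pullbackObj x.2 a.hom

open Functor.IsPreFibered in
noncomputable def pbMap (a : Over U) : pbObj x a ⟶ x.1 := pullbackMap x.2 a.hom

instance pbMap_cart (a : Over U) : 𝒳.p.IsCartesian a.hom (pbMap x a) :=
  Functor.IsPreFibered.pullbackMap.IsCartesian x.2 a.hom

instance pbMap_sc (a : Over U) : 𝒳.p.IsStronglyCartesian a.hom (pbMap x a) := inferInstance

theorem pbObj_proj (a : Over U) : 𝒳.p.obj (pbObj x a) = a.left :=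
  Functor.IsPreFibered.pullbackObj_proj x.2 a.hom

noncomputable def pbHom {a b : Over U} (h : a ⟶ b) : pbObj x a ⟶ pbObj x b :=
  Functor.IsStronglyCartesian.map 𝒳.p b.hom (pbMap x b) (g := h.left) (f' := a.hom) (Over.w h).symm (pbMap x a)

instance pbHom_lift {a b : Over U} (h : a ⟶ b) : 𝒳.p.IsHomLift h.left (pbHom x h) := by
  unfold pbHom; infer_instance

@[reassoc (attr := simp)]
theorem pbHom_fac {a b : Over U} (h : a ⟶ b) : pbHom x h ≫ pbMap x b = pbMap x a :=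
  Functor.IsStronglyCartesian.fac 𝒳.p b.hom (pbMap x b) (Over.w h).symm (pbMap x a)

noncomputable def pbFun : Over U ⥤ 𝒳.obj where
  obj := pbObj x
  map h := pbHom x h
  map_id a := by
    have : 𝒳.p.IsHomLift (𝟙 a.left) (𝟙 (pbObj x a)) := IsHomLift.id (pbObj_proj x a)
    have : 𝒳.p.IsHomLift (𝟙 a.left) (pbHom x (𝟙 a)) := pbHom_lift x (𝟙 a)
    apply Functor.IsStronglyCartesian.ext 𝒳.p a.hom (pbMap x a) (𝟙 a.left)
    simp
  map_comp {a b c} h k := by
    have : 𝒳.p.IsHomLift (h.left ≫ k.left) (pbHom x (h ≫ k)) := pbHom_lift x (h ≫ k)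
    have : 𝒳.p.IsHomLift (h.left ≫ k.left) (pbHom x h ≫ pbHom x k) := inferInstance
    apply Functor.IsStronglyCartesian.ext 𝒳.p c.hom (pbMap x c) (h.left ≫ k.left)
    simp

noncomputable def pbB : overCat U ⥤ᵇ 𝒳 where
  toFunctor := pbFun x
  w := CategoryTheory.Functor.ext (fun a => pbObj_proj x a) (fun a b h => IsHomLift.fac' 𝒳.p h.left (pbHom x h))

theorem pb_sc_aux {a b : Over U} (φ : a ⟶ b) : 𝒳.p.IsStronglyCartesian φ.left (pbHom x φ) := by
  have h1 : 𝒳.p.IsStronglyCartesian (φ.left ≫ b.hom) (pbHom x φ ≫ pbMap x b) := by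
    rw [pbHom_fac, Over.w φ]; infer_instance
  exact Functor.IsStronglyCartesian.of_comp 𝒳.p (f := φ.left) (g := b.hom) (φ := pbHom x φ) (ψ := pbMap x b)

theorem pbB_psc : PreservesStronglyCartesian (pbB x) := by
  intro R S f a b φ hφ
  have hl : (Over.forget U).IsHomLift f φ := hφ.toIsHomLift
  obtain ⟨⟩ := hl
  exact pb_sc_aux x _

theorem ev_essSurj : (ObjectProperty.ι (FibCat.PreservesStronglyCartesian (𝒳 := FibCat.overCat U) (𝒴 := 𝒳)) ⋙ FibCat.evalAtId 𝒳 U).EssSurj := by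
  constructor
  intro x
  refine ⟨⟨pbB x, pbB_psc x⟩, ⟨?_⟩⟩
  have hsc : 𝒳.p.IsStronglyCartesian (𝟙 U) (pbMap x (T U)) := pbMap_sc x (T U)
  have hiso : IsIso (pbMap x (T U)) := Functor.IsStronglyCartesian.isIso_of_base_isIso 𝒳.p (𝟙 U) (pbMap x (T U))
  have hl : 𝒳.p.IsHomLift (𝟙 U) (pbMap x (T U)) := inferInstance
  have hl' : 𝒳.p.IsHomLift (𝟙 U) (inv (pbMap x (T U))) := inferInstance
  exact { hom := ⟨pbMap x (T U), hl⟩, inv := ⟨inv (pbMap x (T U)), hl'⟩, hom_inv_id := Subtype.ext (IsIso.hom_inv_id _), inv_hom_id := Subtype.ext (IsIso.inv_hom_id _) }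

end

section
variable {U}

theorem ev_isEquivalence [𝒳.p.IsFibered] : (ObjectProperty.ι (FibCat.PreservesStronglyCartesian (𝒳 := FibCat.overCat U) (𝒴 := 𝒳)) ⋙ FibCat.evalAtId 𝒳 U).IsEquivalence :=
  { faithful := ev_faithful, full := ev_full, essSurj := ev_essSurj }

theorem sc_of_lift (h𝒳 : FibCat.IsFibGrpd 𝒳.p) {R S : C} (h : R ⟶ S) {a b : 𝒳.obj}
    (w : a ⟶ b) [hw : 𝒳.p.IsHomLift h w] : 𝒳.p.IsStronglyCartesian h w := by
  obtain ⟨⟩ := hw
  exact h𝒳.isStronglyCartesian _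

theorem isFibered_of_isFibGrpd (h𝒳 : FibCat.IsFibGrpd 𝒳.p) : 𝒳.p.IsFibered := by
  apply Functor.IsFibered.of_exists_isStronglyCartesian
  intro a R f
  obtain ⟨y, φ, hφ⟩ := h𝒳.exists_lift f
  exact ⟨y, φ, sc_of_lift h𝒳 f φ⟩

theorem psc_of_isFibGrpd (h𝒳 : FibCat.IsFibGrpd 𝒳.p) (G : overCat U ⥤ᵇ 𝒳) : PreservesStronglyCartesian G := by
  intro R S f a b φ hφ
  have : (overCat U).p.IsHomLift f φ := hφ.toIsHomLift
  have : 𝒳.p.IsHomLift f (G.map φ) := inferInstance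
  exact sc_of_lift h𝒳 f (G.map φ)

theorem evalAtId_isEquivalence_of_isFibGrpd (h𝒳 : FibCat.IsFibGrpd 𝒳.p) : (FibCat.evalAtId 𝒳 U).IsEquivalence := by
  have := isFibered_of_isFibGrpd h𝒳
  have hP := psc_of_isFibGrpd (U := U) h𝒳
  have hf := ev_faithful (𝒳 := 𝒳) (U := U)
  have hfu := ev_full (𝒳 := 𝒳) (U := U)
  have hes := ev_essSurj (𝒳 := 𝒳) (U := U)
  refine { faithful := ⟨?_⟩, full := ⟨?_⟩, essSurj := ⟨?_⟩ }
  · intro G H α β hαβ
    have h1 : (ObjectProperty.homMk α : (⟨G, hP G⟩ : ObjectProperty.FullSubcategory (PreservesStronglyCartesian (𝒳 := overCat U) (𝒴 := 𝒳))) ⟶ ⟨H, hP H⟩) = ObjectProperty.homMk β := by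
      apply hf.map_injective
      exact hαβ
    exact congrArg (fun m => m.hom) h1
  · intro G H ξ
    obtain ⟨m, hm⟩ := hfu.map_surjective (X := (⟨G, hP G⟩ : ObjectProperty.FullSubcategory (PreservesStronglyCartesian (𝒳 := overCat U) (𝒴 := 𝒳)))) (Y := ⟨H, hP H⟩) ξ
    exact ⟨m.hom, hm⟩
  · intro x
    obtain ⟨𝒢, ⟨e⟩⟩ := hes.mem_essImage x
    exact ⟨𝒢.obj, ⟨e⟩⟩

end

end Groth.Agent.Lib.Helper86.TwoYoneda
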