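import Mathlib

open TensorProduct

/-!
# Faithfully flat descent for modules, equalizer form: `0 → N → S ⊗ N → (S ⊗ S) ⊗ N` is exact
-/

namespace Groth.Agent.Lib.Helper86.FFDescentMod
universe u v w

variable (R : Type u) [CommRing R] (S : Type v) [CommRing S] [Algebra R S]
  (N : Type w) [AddCommGroup N] [Module R N]

/-- `n ↦ 1 ⊗ n`. -/
noncomputable def dF : N →ₗ[R] S ⊗[R] N := TensorProduct.mk R S N 1

/-- `s ⊗ n ↦ (s ⊗ 1 - 1 ⊗ s) ⊗ n`. -/
noncomputable def dG : S ⊗[R] N →ₗ[R] (S ⊗[R] S) ⊗[R] N :=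
  LinearMap.rTensor N (Algebra.TensorProduct.includeLeftSubRight R S)

theorem dG_dF (n : N) : dG R S N (dF R S N n) = 0 := by
  simp [dF, dG]

/-- `t ⊗ (s ⊗ n) ↦ ts ⊗ n`. -/
noncomputable def kk : S ⊗[R] (S ⊗[R] N) →ₗ[R] S ⊗[R] N :=
  (LinearMap.rTensor N (LinearMap.mul' R S)) ∘ₗ (TensorProduct.assoc R S S N).symm.toLinearMap

/-- `t ⊗ ((s₁ ⊗ s₂) ⊗ n) ↦ t s₁ ⊗ (s₂ ⊗ n)`. -/
noncomputable def hh : S ⊗[R] ((S ⊗[R] S) ⊗[R] N) →ₗ[R] S ⊗[R] (S ⊗[R] N) :=
  (LinearMap.rTensor (S ⊗[R] N) (LinearMap.mul' R S)) ∘ₗ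
    (TensorProduct.assoc R S S (S ⊗[R] N)).symm.toLinearMap ∘ₗ
    (LinearMap.lTensor S (TensorProduct.assoc R S S N).toLinearMap)

theorem hh_dG (z : S ⊗[R] (S ⊗[R] N)) :
    hh R S N (LinearMap.lTensor S (dG R S N) z) = LinearMap.lTensor S (dF R S N) (kk R S N z) - z := by
  induction z using TensorProduct.induction_on with
  | zero => simp
  | add x y hx hy => simp only [map_add, hx, hy]; abel
  | tmul t y =>
    induction y using TensorProduct.induction_on with
    | zero => simp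
    | add x y hx hy =>
      simp only [tmul_add, map_add, hx, hy]; abel
    | tmul s n =>
      simp [hh, kk, dG, dF, TensorProduct.tmul_sub, TensorProduct.sub_tmul]

theorem exact_dF_dG [Module.FaithfullyFlat R S] : Function.Exact (dF R S N) (dG R S N) := by
  apply Module.FaithfullyFlat.lTensor_reflects_exact R S
  intro z
  constructor
  · intro hz
    have := hh_dG R S N z
    rw [hz, map_zero] at this
    exact ⟨kk R S N z, (sub_eq_zero.1 this.symm)⟩
  · rintro ⟨w, rfl⟩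
    rw [← LinearMap.comp_apply, ← LinearMap.lTensor_comp]
    have : dG R S N ∘ₗ dF R S N = 0 := by
      ext n
      exact dG_dF R S N n
    rw [this, LinearMap.lTensor_zero, LinearMap.zero_apply]

end Groth.Agent.Lib.Helper86.FFDescentMod
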