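import Mathlib
import Groth.Agent.Lib.Helper86.FFDescentMod

open TensorProduct

/-!
# Exactness of the Amitsur complex of a faithfully flat algebra in degree one (module coefficients)
-/

namespace Groth.Agent.Lib.Helper86.FFDescentMod2
universe u v w
open Groth.Agent.Lib.Helper86.FFDescentMod

variable (R : Type u) [CommRing R] (S : Type v) [CommRing S] [Algebra R S]
  (N : Type w) [AddCommGroup N] [Module R N]

/-- `s₁ ⊗ s₂ ↦ (s₁ ⊗ s₂) ⊗ 1`. -/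
noncomputable def j12 : S ⊗[R] S →ₗ[R] (S ⊗[R] S) ⊗[R] S :=
  (Algebra.TensorProduct.includeLeft : S ⊗[R] S →ₐ[R] (S ⊗[R] S) ⊗[R] S).toLinearMap

/-- `s₁ ⊗ s₂ ↦ (s₁ ⊗ 1) ⊗ s₂`. -/
noncomputable def j13 : S ⊗[R] S →ₗ[R] (S ⊗[R] S) ⊗[R] S :=
  (Algebra.TensorProduct.map (Algebra.TensorProduct.includeLeft : S →ₐ[R] S ⊗[R] S)
    (AlgHom.id R S)).toLinearMap

/-- `s₁ ⊗ s₂ ↦ (1 ⊗ s₁) ⊗ s₂`. -/
noncomputable def j23 : S ⊗[R] S →ₗ[R] (S ⊗[R] S) ⊗[R] S :=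
  (Algebra.TensorProduct.map (Algebra.TensorProduct.includeRight : S →ₐ[R] S ⊗[R] S)
    (AlgHom.id R S)).toLinearMap

/-- the second differential of the Amitsur complex. -/
noncomputable def d2 : (S ⊗[R] S) ⊗[R] N →ₗ[R] ((S ⊗[R] S) ⊗[R] S) ⊗[R] N :=
  LinearMap.rTensor N (j12 R S - j13 R S + j23 R S)

theorem j12_tmul (s₁ s₂ : S) : j12 R S (s₁ ⊗ₜ s₂) = (s₁ ⊗ₜ s₂) ⊗ₜ 1 := rfl

theorem j13_tmul (s₁ s₂ : S) : j13 R S (s₁ ⊗ₜ s₂) = (s₁ ⊗ₜ 1) ⊗ₜ s₂ := rfl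

theorem j23_tmul (s₁ s₂ : S) : j23 R S (s₁ ⊗ₜ s₂) = (1 ⊗ₜ s₁) ⊗ₜ s₂ := rfl

theorem jj_lsr (s : S) :
    (j12 R S - j13 R S + j23 R S) (Algebra.TensorProduct.includeLeftSubRight R S s) = 0 := by
  rw [Algebra.TensorProduct.includeLeftSubRight_apply, map_sub, LinearMap.add_apply, LinearMap.sub_apply,
    LinearMap.add_apply, LinearMap.sub_apply, j12_tmul, j13_tmul, j23_tmul, j12_tmul, j13_tmul, j23_tmul]
  abel

theorem d2_dG (z : S ⊗[R] N) : d2 R S N (dG R S N z) = 0 := by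
  induction z using TensorProduct.induction_on with
  | zero => simp
  | add x y hx hy => rw [map_add, map_add, hx, hy, add_zero]
  | tmul s n =>
    rw [dG, d2, LinearMap.rTensor_tmul, LinearMap.rTensor_tmul, jj_lsr, zero_tmul]

/-- `t ⊗ (((s₁ ⊗ s₂) ⊗ s₃) ⊗ n) ↦ t s₁ ⊗ ((s₂ ⊗ s₃) ⊗ n)`. -/
noncomputable def k2 : S ⊗[R] (((S ⊗[R] S) ⊗[R] S) ⊗[R] N) →ₗ[R] S ⊗[R] ((S ⊗[R] S) ⊗[R] N) :=
  (LinearMap.rTensor ((S ⊗[R] S) ⊗[R] N) (LinearMap.mul' R S)) ∘ₗ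
    (TensorProduct.assoc R S S ((S ⊗[R] S) ⊗[R] N)).symm.toLinearMap ∘ₗ
    (LinearMap.lTensor S
      ((TensorProduct.assoc R S (S ⊗[R] S) N).toLinearMap ∘ₗ
        (LinearMap.rTensor N (TensorProduct.assoc R S S S).toLinearMap)))

theorem k2_tmul (t s₁ s₂ s₃ : S) (n : N) :
    k2 R S N (t ⊗ₜ (((s₁ ⊗ₜ s₂) ⊗ₜ s₃) ⊗ₜ n)) = (t * s₁) ⊗ₜ ((s₂ ⊗ₜ s₃) ⊗ₜ n) := by
  simp [k2]

theorem hh_tmul (t s₁ s₂ : S) (n : N) :
    hh R S N (t ⊗ₜ ((s₁ ⊗ₜ s₂) ⊗ₜ n)) = (t * s₁) ⊗ₜ (s₂ ⊗ₜ n) := by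
  simp [hh]

theorem k2_d2 (z : S ⊗[R] ((S ⊗[R] S) ⊗[R] N)) :
    k2 R S N (LinearMap.lTensor S (d2 R S N) z) =
      LinearMap.lTensor S (dG R S N) (hh R S N z) + z := by
  induction z using TensorProduct.induction_on with
  | zero => simp
  | add x y hx hy => simp only [map_add, hx, hy]; abel
  | tmul t y =>
    induction y using TensorProduct.induction_on with
    | zero => simp
    | add x y hx hy => simp only [tmul_add, map_add, hx, hy]; abel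
    | tmul ss n =>
      induction ss using TensorProduct.induction_on with
      | zero => simp
      | add x y hx hy => simp only [add_tmul, tmul_add, map_add, hx, hy]; abel
      | tmul s₁ s₂ =>
        have hd2 : d2 R S N ((s₁ ⊗ₜ s₂) ⊗ₜ n) =
            ((s₁ ⊗ₜ s₂) ⊗ₜ 1) ⊗ₜ n - ((s₁ ⊗ₜ 1) ⊗ₜ s₂) ⊗ₜ n + ((1 ⊗ₜ s₁) ⊗ₜ s₂) ⊗ₜ n := by
          rw [d2, LinearMap.rTensor_tmul, LinearMap.add_apply, LinearMap.sub_apply,
            j12_tmul, j13_tmul, j23_tmul, TensorProduct.add_tmul, TensorProduct.sub_tmul]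
        have hdG : dG R S N (s₂ ⊗ₜ n) = (s₂ ⊗ₜ 1) ⊗ₜ n - (1 ⊗ₜ s₂) ⊗ₜ n := by
          rw [dG, LinearMap.rTensor_tmul, Algebra.TensorProduct.includeLeftSubRight_apply,
            TensorProduct.sub_tmul]
        have hL : ∀ y, k2 R S N (t ⊗ₜ y) =
            (k2 R S N ∘ₗ TensorProduct.mk R S (((S ⊗[R] S) ⊗[R] S) ⊗[R] N) t) y := fun y => rfl
        have e3 : (t * s₁) ⊗ₜ[R] (((s₂ ⊗ₜ[R] (1 : S)) ⊗ₜ[R] n - ((1 : S) ⊗ₜ[R] s₂) ⊗ₜ[R] n :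
              (S ⊗[R] S) ⊗[R] N)) =
            (t * s₁) ⊗ₜ[R] ((s₂ ⊗ₜ[R] (1 : S)) ⊗ₜ[R] n) - (t * s₁) ⊗ₜ[R] (((1 : S) ⊗ₜ[R] s₂) ⊗ₜ[R] n) :=
          (TensorProduct.mk R S ((S ⊗[R] S) ⊗[R] N) (t * s₁)).map_sub _ _
        rw [hh_tmul, LinearMap.lTensor_tmul, LinearMap.lTensor_tmul, hd2, hdG, hL, map_add, map_sub,
          ← hL, ← hL, ← hL, k2_tmul, k2_tmul, k2_tmul, mul_one, e3]

theorem exact_dG_d2 [Module.FaithfullyFlat R S] : Function.Exact (dG R S N) (d2 R S N) := by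
  refine Module.FaithfullyFlat.lTensor_reflects_exact R S (N3 := ((S ⊗[R] S) ⊗[R] S) ⊗[R] N)
    (dG R S N) (d2 R S N) ?_
  intro z
  constructor
  · intro hz
    have := k2_d2 R S N z
    rw [hz, map_zero] at this
    refine ⟨- hh R S N z, ?_⟩
    rw [map_neg]
    exact (eq_neg_of_add_eq_zero_right this.symm).symm
  · rintro ⟨w, rfl⟩
    rw [← LinearMap.comp_apply, ← LinearMap.lTensor_comp]
    have : d2 R S N ∘ₗ dG R S N = 0 := LinearMap.ext (fun z => d2_dG R S N z)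
    rw [this, LinearMap.lTensor_zero, LinearMap.zero_apply]

end Groth.Agent.Lib.Helper86.FFDescentMod2
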