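import Mathlib

/-!
# Finite free resolutions over a Noetherian ring (helper86)

For a Noetherian commutative ring `R` and a finitely generated `R`-module `M` we build a
`ProjectiveResolution (ModuleCat.of R M)` all of whose terms are `Fin k → R`.
-/

set_option autoImplicit false
universe u

open CategoryTheory CategoryTheory.Limits

namespace Groth.Agent.Lib.Helper86.FinFreeRes

variable (R : Type u) [CommRing R]

/-- a finitely generated module, packaged -/
structure FG where
  M : ModuleCat.{u} R
  fin : Module.Finite R M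

variable {R}

namespace FG

noncomputable def rank (N : FG R) : ℕ :=
  haveI := N.fin
  (Module.Finite.exists_fin' R N.M).choose

noncomputable def cover (N : FG R) : (Fin N.rank → R) →ₗ[R] N.M :=
  haveI := N.fin
  (Module.Finite.exists_fin' R N.M).choose_spec.choose

lemma cover_surjective (N : FG R) : Function.Surjective N.cover :=
  haveI := N.fin
  (Module.Finite.exists_fin' R N.M).choose_spec.choose_spec

variable [IsNoetherianRing R]

noncomputable def next (N : FG R) : FG R where
  M := ModuleCat.of R (LinearMap.ker N.cover)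
  fin := by
    change Module.Finite R (LinearMap.ker N.cover)
    infer_instance

noncomputable def syz (M : FG R) : ℕ → FG R
  | 0 => M
  | n + 1 => (syz M n).next

/-- the terms of the resolution -/
noncomputable def X (M : FG R) (n : ℕ) : ModuleCat.{u} R := ModuleCat.of R (Fin (M.syz n).rank → R)

/-- the inclusion of the next syzygy -/
noncomputable def incl (M : FG R) (n : ℕ) :
    (M.syz (n + 1)).M →ₗ[R] (Fin (M.syz n).rank → R) :=
  (LinearMap.ker (M.syz n).cover).subtype

lemma cover_incl (M : FG R) (n : ℕ) (z : (M.syz (n + 1)).M) :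
    (M.syz n).cover (M.incl n z) = 0 :=
  LinearMap.mem_ker.1 (Subtype.property (p := fun y => y ∈ LinearMap.ker (M.syz n).cover) z)

lemma incl_injective (M : FG R) (n : ℕ) : Function.Injective (M.incl n) :=
  Submodule.subtype_injective _

lemma exists_incl_eq (M : FG R) (n : ℕ) (y : Fin (M.syz n).rank → R)
    (hy : (M.syz n).cover y = 0) : ∃ z, M.incl n z = y :=
  ⟨(⟨y, LinearMap.mem_ker.2 hy⟩ : LinearMap.ker (M.syz n).cover), rfl⟩

/-- the differential, as a linear map -/
noncomputable def dLin (M : FG R) (n : ℕ) :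
    (Fin (M.syz (n + 1)).rank → R) →ₗ[R] (Fin (M.syz n).rank → R) :=
  M.incl n ∘ₗ (M.syz (n + 1)).cover

noncomputable def d (M : FG R) (n : ℕ) : M.X (n + 1) ⟶ M.X n := ModuleCat.ofHom (M.dLin n)

lemma cover_dLin (M : FG R) (n : ℕ) (x : Fin (M.syz (n + 1)).rank → R) :
    (M.syz n).cover (M.dLin n x) = 0 :=
  M.cover_incl n _

lemma dLin_dLin (M : FG R) (n : ℕ) (x : Fin (M.syz (n + 2)).rank → R) :
    M.dLin n (M.dLin (n + 1) x) = 0 := by
  have h := M.cover_dLin (n + 1) x
  change M.incl n ((M.syz (n + 1)).cover (M.dLin (n + 1) x)) = 0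
  rw [h, map_zero]

lemma exists_of_dLin_eq_zero (M : FG R) (n : ℕ) (y : Fin (M.syz (n + 1)).rank → R)
    (hy : M.dLin n y = 0) : ∃ x, M.dLin (n + 1) x = y := by
  have h1 : (M.syz (n + 1)).cover y = 0 := by
    apply M.incl_injective n
    rw [map_zero]
    exact hy
  obtain ⟨z, hz⟩ := M.exists_incl_eq (n + 1) y h1
  obtain ⟨x, hx⟩ := (M.syz (n + 2)).cover_surjective z
  refine ⟨x, ?_⟩
  change M.incl (n + 1) ((M.syz (n + 2)).cover x) = y
  rw [hx, hz]

lemma exists_of_cover_eq_zero (M : FG R) (y : Fin (M.syz 0).rank → R)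
    (hy : (M.syz 0).cover y = 0) : ∃ x, M.dLin 0 x = y := by
  obtain ⟨z, hz⟩ := M.exists_incl_eq 0 y hy
  obtain ⟨x, hx⟩ := (M.syz 1).cover_surjective z
  refine ⟨x, ?_⟩
  change M.incl 0 ((M.syz 1).cover x) = y
  rw [hx, hz]

lemma d_comp_d (M : FG R) (n : ℕ) : M.d (n + 1) ≫ M.d n = 0 := by
  ext x
  exact M.dLin_dLin n x

/-- the resolution complex -/
noncomputable def complex (M : FG R) : ChainComplex (ModuleCat.{u} R) ℕ :=
  ChainComplex.of M.X M.d M.d_comp_d

lemma complex_X (M : FG R) (n : ℕ) : M.complex.X n = M.X n := rfl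

lemma complex_d (M : FG R) (n : ℕ) : M.complex.d (n + 1) n = M.d n := by
  simp [complex]

lemma complex_d_apply (M : FG R) (n : ℕ) (x : Fin (M.syz (n + 1)).rank → R) :
    (M.complex.d (n + 1) n).hom x = M.dLin n x := by
  rw [M.complex_d n]
  rfl

/-- the augmentation -/
noncomputable def aug (M : FG R) : M.X 0 ⟶ M.M := ModuleCat.ofHom (M.syz 0).cover

lemma π_f_zero_apply' (M : FG R) (y : Fin (M.syz 0).rank → R) :
    M.aug.hom y = (M.syz 0).cover y := rfl

lemma d_aug (M : FG R) : M.complex.d 1 0 ≫ M.aug = 0 := by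
  rw [M.complex_d 0]
  ext x
  exact M.cover_dLin 0 x

noncomputable def π (M : FG R) : M.complex ⟶ (ChainComplex.single₀ (ModuleCat.{u} R)).obj M.M :=
  (ChainComplex.toSingle₀Equiv _ _).symm ⟨M.aug, M.d_aug⟩

lemma π_f_zero_apply (M : FG R) (y : Fin (M.syz 0).rank → R) :
    (M.π.f 0).hom y = (M.syz 0).cover y := by
  have h : M.π.f 0 = M.aug := ChainComplex.toSingle₀Equiv_symm_apply_f_zero _ _
  rw [h]
  rfl

instance (M : FG R) (n : ℕ) : Projective (M.complex.X n) := by
  change Projective (ModuleCat.of R (Fin (M.syz n).rank → R))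
  exact (IsProjective.iff_projective (R := R) (P := Fin (M.syz n).rank → R)).1
    Module.Projective.of_free

lemma exactAt_succ (M : FG R) (n : ℕ) : M.complex.ExactAt (n + 1) := by
  rw [HomologicalComplex.exactAt_iff' _ (n + 1 + 1) (n + 1) n (by simp) (by simp)]
  rw [ShortComplex.moduleCat_exact_iff]
  intro y hy
  dsimp [HomologicalComplex.sc', HomologicalComplex.shortComplexFunctor'] at y hy ⊢
  have hy2 : M.dLin n y = 0 := (M.complex_d_apply n y).symm.trans hy
  obtain ⟨x, hx⟩ := M.exists_of_dLin_eq_zero n y hy2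
  exact ⟨x, (M.complex_d_apply (n + 1) x).trans hx⟩

set_option backward.defeqAttrib.useBackward true in
set_option backward.isDefEq.respectTransparency false in
lemma quasiIso_π (M : FG R) : QuasiIso M.π := ⟨fun n => by
  cases n
  · rw [ChainComplex.quasiIsoAt₀_iff, ShortComplex.quasiIso_iff_of_zeros']
    · dsimp
      constructor
      · rw [ShortComplex.moduleCat_exact_iff]
        intro y hy
        dsimp at y hy ⊢
        have hy' : (M.syz 0).cover y = 0 := (M.π_f_zero_apply y).symm.trans hy
        obtain ⟨x, hx⟩ := M.exists_of_cover_eq_zero y hy'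
        exact ⟨x, (M.complex_d_apply 0 x).trans hx⟩
      · rw [ModuleCat.epi_iff_surjective]
        intro z
        obtain ⟨y, hy⟩ := (M.syz 0).cover_surjective z
        exact ⟨y, (M.π_f_zero_apply y).trans hy⟩
    all_goals rfl
  · rw [quasiIsoAt_iff_exactAt']
    · apply exactAt_succ
    · apply ChainComplex.exactAt_succ_single_obj⟩

/-- the finite free resolution -/
noncomputable def res (M : FG R) : ProjectiveResolution M.M where
  complex := M.complex
  π := M.π
  quasiIso := M.quasiIso_π

lemma res_complex_X (M : FG R) (n : ℕ) :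
    M.res.complex.X n = ModuleCat.of R (Fin (M.syz n).rank → R) := rfl

end FG

/-- Over a Noetherian ring every finitely generated module has a projective resolution by
modules of the form `Fin k → R`. -/
theorem exists_finFree_resolution [IsNoetherianRing R] (M : ModuleCat.{u} R) [Module.Finite R M] :
    ∃ (P : ProjectiveResolution M) (k : ℕ → ℕ), ∀ n, P.complex.X n = ModuleCat.of R (Fin (k n) → R) :=
  ⟨(FG.mk M inferInstance).res, fun n => ((FG.mk M inferInstance).syz n).rank, fun _ => rfl⟩

end Groth.Agent.Lib.Helper86.FinFreeRes
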