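import Mathlib
import Groth.Agent.Lib.Helper68.FilteredMod

/-! Lazard's theorem: a module is flat iff it is a directed colimit of finite free modules.
`forward R M`, `backward R M J F hF e`; `Obj R M` = category of `(n, R^n → M)` (filtered for flat `M`),
`D R M` its diagram, `coc R M` the cocone with point `M`, `nonempty_isColimit`. -/

set_option autoImplicit false
open CategoryTheory CategoryTheory.Limits
universe u

namespace Groth.Agent.Lib.Helper86.Lazard

variable (R : Type u) [CommRing R] (M : Type u) [AddCommGroup M] [Module R M]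

/-- objects: finite free modules `R^n` with a map to `M` -/
structure Obj where
  n : ℕ
  x : (Fin n →₀ R) →ₗ[R] M

variable {R M}

noncomputable instance : Category (Obj R M) where
  Hom a b := {f : (Fin a.n →₀ R) →ₗ[R] (Fin b.n →₀ R) // b.x ∘ₗ f = a.x}
  id a := ⟨LinearMap.id, LinearMap.comp_id _⟩
  comp f g := ⟨g.1 ∘ₗ f.1, by rw [← LinearMap.comp_assoc, g.2, f.2]⟩

@[ext] lemma hom_ext {a b : Obj R M} (f g : a ⟶ b) (h : f.1 = g.1) : f = g := Subtype.ext h

@[simp] lemma comp_val {a b c : Obj R M} (f : a ⟶ b) (g : b ⟶ c) : (f ≫ g).1 = g.1 ∘ₗ f.1 := rfl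
@[simp] lemma id_val (a : Obj R M) : (𝟙 a : a ⟶ a).1 = LinearMap.id := rfl

variable (R M) in
/-- the diagram of finite free modules -/
noncomputable def D : Obj R M ⥤ ModuleCat.{u} R where
  obj a := ModuleCat.of R (Fin a.n →₀ R)
  map f := ModuleCat.ofHom f.1

variable (R M) in
/-- the cocone with point `M` -/
noncomputable def coc : Cocone (D R M) where
  pt := ModuleCat.of R M
  ι :=
    { app := fun a => ModuleCat.ofHom a.x
      naturality := fun a b f => by
        ext : 1
        exact f.2 }

instance [Module.Flat R M] : IsFiltered (Obj R M) where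
  nonempty := ⟨⟨0, 0⟩⟩
  cocone_objs a b := by
    let v : Fin (a.n + b.n) → M :=
      Fin.append (fun i => a.x (Finsupp.single i 1)) (fun j => b.x (Finsupp.single j 1))
    refine ⟨⟨a.n + b.n, Finsupp.linearCombination R v⟩,
      ⟨Finsupp.lmapDomain R R (Fin.castAdd b.n), ?_⟩,
      ⟨Finsupp.lmapDomain R R (Fin.natAdd a.n), ?_⟩, trivial⟩
    · ext i
      simp [v]
    · ext i
      simp [v]
  cocone_maps {a b} f g := by
    have h : b.x ∘ₗ (f.1 - g.1) = 0 := by
      rw [LinearMap.comp_sub, f.2, g.2, sub_self]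
    obtain ⟨k, a', y, hy, ha'⟩ := Module.Flat.exists_factorization_of_comp_eq_zero_of_free h
    refine ⟨⟨k, y⟩, ⟨a', hy.symm⟩, ?_⟩
    apply hom_ext
    rw [LinearMap.comp_sub] at ha'
    exact sub_eq_zero.mp ha'

lemma nonempty_isColimit [Module.Flat R M] : Nonempty (IsColimit (coc R M)) := by
  apply Groth.Agent.Lib.Helper68.FilteredMod.nonempty_isColimit
  · intro (m : M)
    refine ⟨⟨1, Finsupp.linearCombination R (fun _ => m)⟩, Finsupp.single 0 1, ?_⟩
    change Finsupp.linearCombination R (fun _ => m) (Finsupp.single 0 1) = m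
    simp
  · intro a (y : Fin a.n →₀ R) (hy : a.x y = 0)
    obtain ⟨k, a', y', hy', ha'⟩ := Module.Flat.exists_factorization_of_apply_eq_zero_of_free hy
    exact ⟨⟨k, y'⟩, ⟨a', hy'.symm⟩, ha'⟩


variable (R M) in
lemma forward [Module.Flat R M] :
    ∃ (J : Type u) (_ : Preorder J) (_ : IsDirected J (fun a b => a ≤ b)) (_ : Nonempty J)
      (F : J ⥤ ModuleCat.{u} R), (∀ j, Module.Finite R (F.obj j) ∧ Module.Free R (F.obj j)) ∧
      Nonempty (Limits.colimit F ≅ ModuleCat.of R M) := by
  obtain ⟨α, _, hd, hn, F, hF⟩ := IsFiltered.exists_directed (Obj R M)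
  obtain ⟨hc⟩ := nonempty_isColimit (R := R) (M := M)
  refine ⟨α, inferInstance, hd, hn, F ⋙ D R M, ?_, ?_⟩
  · intro j
    exact ⟨inferInstanceAs (Module.Finite R (Fin (F.obj j).n →₀ R)),
      inferInstanceAs (Module.Free R (Fin (F.obj j).n →₀ R))⟩
  · have h2 : IsColimit ((coc R M).whisker F) := (Functor.Final.isColimitWhiskerEquiv F _).symm hc
    exact ⟨colimit.isoColimitCocone ⟨_, h2⟩⟩

variable (R M) in
lemma backward (J : Type u) [Preorder J] [IsDirected J (fun a b => a ≤ b)] [Nonempty J]
    (F : J ⥤ ModuleCat.{u} R) (hF : ∀ j, Module.Finite R (F.obj j) ∧ Module.Free R (F.obj j))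
    (e : Limits.colimit F ≅ ModuleCat.of R M) : Module.Flat R M := by
  have : IsFiltered J := isFiltered_of_directed_le_nonempty J
  -- the legs of the colimit cocone with point M
  let ι : ∀ j : J, F.obj j →ₗ[R] M := fun j => (colimit.ι F j ≫ e.hom).hom
  have hιw : ∀ {i j : J} (h : i ⟶ j) (y : F.obj i), ι j (F.map h y) = ι i y := by
    intro i j h y
    have := colimit.w F h
    change e.hom (colimit.ι F j (F.map h y)) = e.hom (colimit.ι F i y)
    rw [← this]
    rfl
  have hrep0 : ∀ m : M, ∃ (j : J) (y : F.obj j), ι j y = m := by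
    intro m
    obtain ⟨j, y, hy⟩ := Groth.Agent.Lib.Helper68.FilteredMod.exists_rep (colimit.isColimit F)
      (e.inv m)
    refine ⟨j, y, ?_⟩
    change e.hom (colimit.ι F j y) = m
    have h1 : (colimit.cocone F).ι.app j y = colimit.ι F j y := rfl
    rw [← h1, hy]
    exact ConcreteCategory.congr_hom e.inv_hom_id m
  have hzero0 : ∀ (j : J) (y : F.obj j), ι j y = 0 → ∃ (k : J) (g : j ⟶ k), F.map g y = 0 := by
    intro j y hy
    apply Groth.Agent.Lib.Helper68.FilteredMod.exists_map_eq_zero (colimit.isColimit F) j y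
    change colimit.ι F j y = 0
    have h2 : e.inv (e.hom (colimit.ι F j y)) = colimit.ι F j y :=
      ConcreteCategory.congr_hom e.hom_inv_id _
    rw [← h2]
    have h3 : e.hom (colimit.ι F j y) = 0 := hy
    rw [h3, map_zero]
  apply Module.Flat.of_forall_exists_factorization
  intro l f x hxf
  -- lift the basis vectors
  choose j0 y0 hy0 using fun i : Fin l => hrep0 (x (Finsupp.single i 1))
  obtain ⟨j, hj⟩ := Finite.exists_le j0
  let v : Fin l → F.obj j := fun i => F.map (homOfLE (hj i)) (y0 i)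
  let xj : (Fin l →₀ R) →ₗ[R] F.obj j := Finsupp.linearCombination R v
  have hxj : ι j ∘ₗ xj = x := by
    ext i
    simp only [LinearMap.coe_comp, Function.comp_apply, Finsupp.lsingle_apply, xj,
      Finsupp.linearCombination_single, one_smul, v]
    exact (hιw _ _).trans (hy0 i)
  have h0 : ι j (xj f) = 0 := by
    have := LinearMap.congr_fun hxj f
    rw [hxf] at this
    exact this
  obtain ⟨k, g, hg⟩ := hzero0 j (xj f) h0
  have := (hF k).1
  have := (hF k).2
  have e' := ((Module.Free.chooseBasis R (F.obj k)).reindex (Fintype.equivFin _)).repr.symm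
  refine ⟨_, e'.symm.toLinearMap ∘ₗ (F.map g).hom ∘ₗ xj, ι k ∘ₗ e'.toLinearMap, ?_, ?_⟩
  · rw [← hxj]
    ext i
    simp only [LinearMap.coe_comp, Function.comp_apply, LinearEquiv.coe_coe,
      LinearEquiv.apply_symm_apply]
    exact (hιw g _).symm
  · simp only [LinearMap.coe_comp, Function.comp_apply, LinearEquiv.coe_coe]
    rw [hg, map_zero]

end Groth.Agent.Lib.Helper86.Lazard
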