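import Mathlib
import Groth.Agent.Lib.Helper86.Lazard

/-! Elementwise forms of Lazard's theorem.
* `exists_system R M` : a flat module is the elementwise directed colimit of finite free modules
  (data `Bi, t, φ` with `hcomp hsurj hzero hid htrans`, in the format of `Lib.Helper86.TPowColim`).
* `flat_of_system` : the converse flatness criterion. -/

set_option autoImplicit false
set_option linter.unusedSectionVars false

open CategoryTheory CategoryTheory.Limits

universe u

namespace Groth.Agent.Lib.Helper86.Lazard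

section Criterion

variable {A : Type u} [CommRing A] {B : Type u} [AddCommGroup B] [Module A B]
  {ι : Type u} [Preorder ι] [IsDirected ι (fun i j => i ≤ j)] [Nonempty ι]
  (Bi : ι → Type u) [∀ i, AddCommGroup (Bi i)] [∀ i, Module A (Bi i)]
  [∀ i, Module.Finite A (Bi i)] [∀ i, Module.Free A (Bi i)]
  (t : ∀ i j : ι, i ≤ j → (Bi i →ₗ[A] Bi j)) (φ : ∀ i : ι, Bi i →ₗ[A] B)
  (hcomp : ∀ (i j : ι) (h : i ≤ j), (φ j).comp (t i j h) = φ i)
  (hsurj : ∀ b : B, ∃ (i : ι) (x : Bi i), φ i x = b)
  (hzero : ∀ (i : ι) (x : Bi i), φ i x = 0 → ∃ (j : ι) (h : i ≤ j), t i j h x = 0)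

include hcomp hsurj hzero in
/-- a module which is elementwise a directed colimit of finite free modules is flat -/
theorem flat_of_system : Module.Flat A B := by
  apply Module.Flat.of_forall_exists_factorization
  intro l f x hxf
  choose j0 y0 hy0 using fun i : Fin l => hsurj (x (Finsupp.single i 1))
  obtain ⟨j, hj⟩ := Finite.exists_le j0
  let v : Fin l → Bi j := fun i => t _ j (hj i) (y0 i)
  let xj : (Fin l →₀ A) →ₗ[A] Bi j := Finsupp.linearCombination A v
  have hc : ∀ (i₁ j₁ : ι) (h₁ : i₁ ≤ j₁) (y : Bi i₁), φ j₁ (t i₁ j₁ h₁ y) = φ i₁ y := by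
    intro i₁ j₁ h₁ y
    have := DFunLike.congr_fun (hcomp i₁ j₁ h₁) y
    simpa only [LinearMap.comp_apply] using this
  have hxj : φ j ∘ₗ xj = x := by
    ext i
    simp only [LinearMap.coe_comp, Function.comp_apply, Finsupp.lsingle_apply, xj,
      Finsupp.linearCombination_single, one_smul, v]
    exact (hc _ _ _ _).trans (hy0 i)
  have h0 : φ j (xj f) = 0 := by
    have := LinearMap.congr_fun hxj f
    rw [hxf] at this
    exact this
  obtain ⟨k, g, hg⟩ := hzero j (xj f) h0
  have e' := ((Module.Free.chooseBasis A (Bi k)).reindex (Fintype.equivFin _)).repr.symm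
  refine ⟨_, e'.symm.toLinearMap ∘ₗ (t j k g) ∘ₗ xj, φ k ∘ₗ e'.toLinearMap, ?_, ?_⟩
  · rw [← hxj]
    ext i
    simp only [LinearMap.coe_comp, Function.comp_apply, LinearEquiv.coe_coe,
      LinearEquiv.apply_symm_apply]
    exact (hc _ _ g _).symm
  · simp only [LinearMap.coe_comp, Function.comp_apply, LinearEquiv.coe_coe]
    rw [hg, map_zero]

end Criterion

section System

variable (R : Type u) [CommRing R] (M : Type u) [AddCommGroup M] [Module R M]

/-- a flat module is, elementwise, a directed colimit of finite free modules -/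
theorem exists_system [Module.Flat R M] :
    ∃ (ι : Type u) (_ : Preorder ι) (_ : IsDirected ι (fun i j => i ≤ j)) (_ : Nonempty ι)
      (Bi : ι → Type u) (_ : ∀ i, AddCommGroup (Bi i)) (_ : ∀ i, Module R (Bi i))
      (_ : ∀ i, Module.Finite R (Bi i)) (_ : ∀ i, Module.Free R (Bi i))
      (t : ∀ i j : ι, i ≤ j → (Bi i →ₗ[R] Bi j)) (φ : ∀ i : ι, Bi i →ₗ[R] M),
      (∀ (i j : ι) (h : i ≤ j), (φ j).comp (t i j h) = φ i) ∧
      (∀ b : M, ∃ (i : ι) (x : Bi i), φ i x = b) ∧
      (∀ (i : ι) (x : Bi i), φ i x = 0 → ∃ (j : ι) (h : i ≤ j), t i j h x = 0) ∧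
      (∀ (i : ι) (h : i ≤ i), t i i h = LinearMap.id) ∧
      (∀ (i j k : ι) (hij : i ≤ j) (hjk : j ≤ k),
        (t j k hjk).comp (t i j hij) = t i k (hij.trans hjk)) := by
  obtain ⟨J, _, _, _, F, hF, ⟨e⟩⟩ := forward R M
  have : IsFiltered J := isFiltered_of_directed_le_nonempty J
  let ι' : ∀ j : J, F.obj j →ₗ[R] M := fun j => (colimit.ι F j ≫ e.hom).hom
  have hιw : ∀ {i j : J} (h : i ⟶ j) (y : F.obj i), ι' j (F.map h y) = ι' i y := by
    intro i j h y
    have := colimit.w F h
    change e.hom (colimit.ι F j (F.map h y)) = e.hom (colimit.ι F i y)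
    rw [← this]
    rfl
  have hrep0 : ∀ m : M, ∃ (j : J) (y : F.obj j), ι' j y = m := by
    intro m
    obtain ⟨j, y, hy⟩ := Groth.Agent.Lib.Helper68.FilteredMod.exists_rep (colimit.isColimit F)
      (e.inv m)
    refine ⟨j, y, ?_⟩
    change e.hom (colimit.ι F j y) = m
    have h1 : (colimit.cocone F).ι.app j y = colimit.ι F j y := rfl
    rw [← h1, hy]
    exact ConcreteCategory.congr_hom e.inv_hom_id m
  have hzero0 : ∀ (j : J) (y : F.obj j), ι' j y = 0 → ∃ (k : J) (g : j ⟶ k), F.map g y = 0 := by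
    intro j y hy
    apply Groth.Agent.Lib.Helper68.FilteredMod.exists_map_eq_zero (colimit.isColimit F) j y
    change colimit.ι F j y = 0
    have h2 : e.inv (e.hom (colimit.ι F j y)) = colimit.ι F j y :=
      ConcreteCategory.congr_hom e.hom_inv_id _
    rw [← h2]
    have h3 : e.hom (colimit.ι F j y) = 0 := hy
    rw [h3, map_zero]
  refine ⟨J, inferInstance, inferInstance, inferInstance, fun j => F.obj j, inferInstance,
    inferInstance, fun j => (hF j).1, fun j => (hF j).2,
    fun i j h => (F.map (homOfLE h)).hom, ι', ?_, hrep0, ?_, ?_, ?_⟩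
  · intro i j h
    ext y
    exact hιw (homOfLE h) y
  · intro j y hy
    obtain ⟨k, g, hg⟩ := hzero0 j y hy
    exact ⟨k, leOfHom g, hg⟩
  · intro i h
    have : homOfLE h = 𝟙 i := Subsingleton.elim _ _
    change (F.map (homOfLE h)).hom = LinearMap.id
    rw [this, F.map_id]
    rfl
  · intro i j k hij hjk
    have : homOfLE (hij.trans hjk) = homOfLE hij ≫ homOfLE hjk := Subsingleton.elim _ _
    change (F.map (homOfLE hjk)).hom ∘ₗ (F.map (homOfLE hij)).hom =
      (F.map (homOfLE (hij.trans hjk))).hom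
    rw [this, F.map_comp]
    rfl

end System

end Groth.Agent.Lib.Helper86.Lazard
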