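import Mathlib

/-! Tensor powers `⨂[A] _ : Fin d, N` of modules and symmetric tensors commute with directed colimits,
in elementwise form (module version of `Lib.Helper81.TSColim`, from which the proof is adapted).

Setting: a directed system of `A`-modules `Ni i` with transition maps `t i j h`, maps `φ i : Ni i → N`
compatible (`hcomp`), jointly surjective (`hsurj`), with `φ i x = 0` implying `t i j h x = 0` for some
`j ≥ i` (`hzero`), `hid`, `htrans`.  Results: `tm_exists_of`, `tm_zero_exact` (tensor powers),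
`sym_exists_of` (symmetric tensors lift to symmetric tensors at a finite stage). -/

set_option autoImplicit false
set_option linter.unusedSectionVars false

namespace Groth.Agent.Lib.Helper86.TPowColim

open scoped TensorProduct

universe u

section Functoriality

variable (A : Type u) [CommRing A] {B C D : Type u} [AddCommGroup B] [Module A B]
  [AddCommGroup C] [Module A C] [AddCommGroup D] [Module A D] (d : ℕ)

/-- the `d`-fold tensor power of a linear map -/
noncomputable abbrev tm (f : B →ₗ[A] C) : (⨂[A] _ : Fin d, B) →ₗ[A] (⨂[A] _ : Fin d, C) :=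
  PiTensorProduct.map (fun _ => f)

theorem tm_tprod (f : B →ₗ[A] C) (g : Fin d → B) :
    tm A d f (PiTensorProduct.tprod A g) = PiTensorProduct.tprod A (fun i => f (g i)) :=
  PiTensorProduct.map_tprod _ _

theorem tm_id_apply (z : ⨂[A] _ : Fin d, B) :
    tm A d (LinearMap.id : B →ₗ[A] B) z = z := by
  change PiTensorProduct.map (fun _ => LinearMap.id) z = z
  rw [PiTensorProduct.map_id]
  rfl

theorem tm_comp_apply (f : B →ₗ[A] C) (g : C →ₗ[A] D) (z : ⨂[A] _ : Fin d, B) :
    tm A d g (tm A d f z) = tm A d (g.comp f) z := by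
  change _ = PiTensorProduct.map (fun _ => g ∘ₗ f) z
  rw [PiTensorProduct.map_comp]
  rfl

theorem tm_reindex (f : B →ₗ[A] C) (σ : Equiv.Perm (Fin d)) (z : ⨂[A] _ : Fin d, B) :
    tm A d f (PiTensorProduct.reindex A (fun _ : Fin d => B) σ z) =
      PiTensorProduct.reindex A (fun _ : Fin d => C) σ (tm A d f z) :=
  PiTensorProduct.map_reindex (fun _ => f) σ z

end Functoriality

section Main

variable {A : Type u} [CommRing A] {B : Type u} [AddCommGroup B] [Module A B]
  {ι : Type u} [Preorder ι] [IsDirected ι (fun i j => i ≤ j)] [Nonempty ι] [DecidableEq ι]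
  (Bi : ι → Type u) [∀ i, AddCommGroup (Bi i)] [∀ i, Module A (Bi i)]
  (t : ∀ i j : ι, i ≤ j → (Bi i →ₗ[A] Bi j)) (φ : ∀ i : ι, Bi i →ₗ[A] B)
  (hcomp : ∀ (i j : ι) (h : i ≤ j), (φ j).comp (t i j h) = φ i)
  (hsurj : ∀ b : B, ∃ (i : ι) (x : Bi i), φ i x = b)
  (hzero : ∀ (i : ι) (x : Bi i), φ i x = 0 → ∃ (j : ι) (h : i ≤ j), t i j h x = 0)
  (hid : ∀ (i : ι) (h : i ≤ i), t i i h = LinearMap.id)
  (htrans : ∀ (i j k : ι) (hij : i ≤ j) (hjk : j ≤ k),
    (t j k hjk).comp (t i j hij) = t i k (hij.trans hjk))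

include hcomp hsurj in
theorem exists_lift {κ : Type*} [Finite κ] (b : κ → B) :
    ∃ (i : ι) (x : κ → Bi i), ∀ k, φ i (x k) = b k := by
  choose i0 x0 hx0 using hsurj
  obtain ⟨M, hM⟩ := Finite.exists_le (fun k => i0 (b k))
  refine ⟨M, fun k => t _ M (hM k) (x0 (b k)), fun k => ?_⟩
  have := DFunLike.congr_fun (hcomp _ M (hM k)) (x0 (b k))
  simp only [LinearMap.comp_apply] at this
  rw [this, hx0]

include hzero htrans in
theorem exists_eq {κ : Type*} [Finite κ] (i : ι) (x x' : κ → Bi i)
    (h : ∀ k, φ i (x k) = φ i (x' k)) :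
    ∃ (j : ι) (hij : i ≤ j), ∀ k, t i j hij (x k) = t i j hij (x' k) := by
  have h0 : ∀ k, ∃ (j : ι) (hij : i ≤ j), t i j hij (x k - x' k) = 0 := fun k =>
    hzero i _ (by rw [map_sub, h k, sub_self])
  choose j0 hj0 hx0 using h0
  obtain ⟨M0, hM0⟩ := Finite.exists_le j0
  obtain ⟨M, hiM, hM0M⟩ := exists_ge_ge i M0
  refine ⟨M, hiM, fun k => ?_⟩
  have h1 : t i M hiM (x k - x' k) = 0 := by
    have := DFunLike.congr_fun (htrans i (j0 k) M (hj0 k) ((hM0 k).trans hM0M)) (x k - x' k)
    simp only [LinearMap.comp_apply] at this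
    rw [← this, hx0, map_zero]
  rwa [map_sub, sub_eq_zero] at h1

variable (d : ℕ)

abbrev TP (i : ι) : Type u := ⨂[A] _ : Fin d, Bi i

noncomputable abbrev tl (i j : ι) (h : i ≤ j) : TP (A := A) Bi d i →ₗ[A] TP (A := A) Bi d j :=
  tm A d (t i j h)

include hid htrans in
theorem directedSystem :
    DirectedSystem (TP (A := A) Bi d) (fun i j h => tl Bi t d i j h) where
  map_self i x := by
    change tm A d (t i i le_rfl) x = x
    rw [hid, tm_id_apply]
  map_map k j i hij hjk x := by
    change tm A d (t j k hjk) (tm A d (t i j hij) x) = tm A d (t i k _) x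
    rw [tm_comp_apply, htrans]

abbrev L : Type u := Module.DirectLimit (TP (A := A) Bi d) (tl Bi t d)

noncomputable def muFun (b : Fin d → B) : L Bi t d :=
  Module.DirectLimit.of A ι (TP (A := A) Bi d) (tl Bi t d)
    (exists_lift Bi t φ hcomp hsurj b).choose
    (PiTensorProduct.tprod A (exists_lift Bi t φ hcomp hsurj b).choose_spec.choose)

include hzero htrans in
theorem muFun_eq (b : Fin d → B) (i : ι) (x : Fin d → Bi i) (hx : ∀ k, φ i (x k) = b k) :
    muFun Bi t φ hcomp hsurj d b =
      Module.DirectLimit.of A ι (TP (A := A) Bi d) (tl Bi t d) i (PiTensorProduct.tprod A x) := by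
  obtain ⟨i', hi'⟩ : ∃ i', i' = (exists_lift Bi t φ hcomp hsurj b).choose := ⟨_, rfl⟩
  obtain ⟨x', hx'⟩ : ∃ x' : Fin d → Bi (exists_lift Bi t φ hcomp hsurj b).choose,
    x' = (exists_lift Bi t φ hcomp hsurj b).choose_spec.choose := ⟨_, rfl⟩
  have hx'b : ∀ k, φ _ (x' k) = b k := by
    rw [hx']; exact (exists_lift Bi t φ hcomp hsurj b).choose_spec.choose_spec
  rw [muFun, ← hx']
  obtain ⟨j, hij, hi'j⟩ := exists_ge_ge i (exists_lift Bi t φ hcomp hsurj b).choose
  have hc : ∀ (i₁ j₁ : ι) (h₁ : i₁ ≤ j₁) (y : Bi i₁), φ j₁ (t i₁ j₁ h₁ y) = φ i₁ y := by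
    intro i₁ j₁ h₁ y
    have := DFunLike.congr_fun (hcomp i₁ j₁ h₁) y
    simpa only [LinearMap.comp_apply] using this
  obtain ⟨j', hjj', hj'⟩ := exists_eq Bi t φ hzero htrans j (fun k => t i j hij (x k))
    (fun k => t _ j hi'j (x' k)) (fun k => by rw [hc, hc, hx, hx'b])
  have e1 : Module.DirectLimit.of A ι (TP (A := A) Bi d) (tl Bi t d) i (PiTensorProduct.tprod A x) =
      Module.DirectLimit.of A ι (TP (A := A) Bi d) (tl Bi t d) j'
        (PiTensorProduct.tprod A fun k => t j j' hjj' (t i j hij (x k))) := by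
    rw [← Module.DirectLimit.of_f (hij := hij.trans hjj')]
    congr 1
    change tm A d (t i j' _) (PiTensorProduct.tprod A x) = _
    rw [tm_tprod]
    congr 1
    funext k
    have := DFunLike.congr_fun (htrans i j j' hij hjj') (x k)
    simpa only [LinearMap.comp_apply] using this.symm
  have e2 : Module.DirectLimit.of A ι (TP (A := A) Bi d) (tl Bi t d) _ (PiTensorProduct.tprod A x') =
      Module.DirectLimit.of A ι (TP (A := A) Bi d) (tl Bi t d) j'
        (PiTensorProduct.tprod A fun k => t j j' hjj' (t _ j hi'j (x' k))) := by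
    rw [← Module.DirectLimit.of_f (hij := hi'j.trans hjj')]
    congr 1
    change tm A d (t _ j' _) (PiTensorProduct.tprod A x') = _
    rw [tm_tprod]
    congr 1
    funext k
    have := DFunLike.congr_fun (htrans _ j j' hi'j hjj') (x' k)
    simpa only [LinearMap.comp_apply] using this.symm
  rw [e1, e2]
  congr 2
  funext k
  exact (hj' k).symm

include hcomp hsurj in
theorem exists_muFun_eq {κ : Type*} [Finite κ] (c : κ → B) (b : Fin d → B) :
    ∃ (i : ι) (x : Fin d → Bi i) (y : κ → Bi i), (∀ k, φ i (x k) = b k) ∧ (∀ l, φ i (y l) = c l) := by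
  obtain ⟨i, z, hz⟩ := exists_lift Bi t φ hcomp hsurj (Sum.elim b c)
  exact ⟨i, fun k => z (Sum.inl k), fun l => z (Sum.inr l), fun k => hz (Sum.inl k),
    fun l => hz (Sum.inr l)⟩

include hzero htrans in
noncomputable def mu : MultilinearMap A (fun _ : Fin d => B) (L Bi t d) where
  toFun := muFun Bi t φ hcomp hsurj d
  map_update_add' := by
    intro _ b k u v
    obtain ⟨i, x, y, hx, hy⟩ := exists_muFun_eq Bi t φ hcomp hsurj d
      (fun l : Fin 2 => if l = 0 then u else v) b
    have hu : φ i (y 0) = u := by simpa using hy 0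
    have hv : φ i (y 1) = v := by simpa using hy 1
    rw [muFun_eq Bi t φ hcomp hsurj hzero htrans d _ i (Function.update x k (y 0 + y 1)),
      muFun_eq Bi t φ hcomp hsurj hzero htrans d _ i (Function.update x k (y 0)),
      muFun_eq Bi t φ hcomp hsurj hzero htrans d _ i (Function.update x k (y 1)),
      MultilinearMap.map_update_add, map_add]
    · intro l
      by_cases hl : l = k
      · subst hl; simp [hv]
      · simp [Function.update_of_ne hl, hx]
    · intro l
      by_cases hl : l = k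
      · subst hl; simp [hu]
      · simp [Function.update_of_ne hl, hx]
    · intro l
      by_cases hl : l = k
      · subst hl; simp [hu, hv]
      · simp [Function.update_of_ne hl, hx]
  map_update_smul' := by
    intro _ b k c u
    obtain ⟨i, x, y, hx, hy⟩ := exists_muFun_eq Bi t φ hcomp hsurj d
      (fun _ : Fin 1 => u) b
    have hu : φ i (y 0) = u := hy 0
    rw [muFun_eq Bi t φ hcomp hsurj hzero htrans d _ i (Function.update x k (c • y 0)),
      muFun_eq Bi t φ hcomp hsurj hzero htrans d _ i (Function.update x k (y 0)),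
      MultilinearMap.map_update_smul, map_smul]
    · intro l
      by_cases hl : l = k
      · subst hl; simp [hu]
      · simp [Function.update_of_ne hl, hx]
    · intro l
      by_cases hl : l = k
      · subst hl; simp [hu]
      · simp [Function.update_of_ne hl, hx]

include hzero htrans in
theorem lift_mu_tm (i : ι) (y : ⨂[A] _ : Fin d, Bi i) :
    PiTensorProduct.lift (mu Bi t φ hcomp hsurj hzero htrans d) (tm A d (φ i) y) =
      Module.DirectLimit.of A ι (TP (A := A) Bi d) (tl Bi t d) i y := by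
  induction y using PiTensorProduct.induction_on with
  | smul_tprod r x =>
    rw [map_smul, tm_tprod, map_smul, PiTensorProduct.lift.tprod, map_smul]
    congr 1
    exact muFun_eq Bi t φ hcomp hsurj hzero htrans d _ i x (fun _ => rfl)
  | add x y hx hy => rw [map_add, map_add, hx, hy, map_add]

include hcomp hsurj hzero hid htrans in
theorem tm_zero_exact (i : ι) (y : ⨂[A] _ : Fin d, Bi i) (hy : tm A d (φ i) y = 0) :
    ∃ (j : ι) (h : i ≤ j), tm A d (t i j h) y = 0 := by
  have h0 : Module.DirectLimit.of A ι (TP (A := A) Bi d) (tl Bi t d) i y = 0 := by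
    rw [← lift_mu_tm Bi t φ hcomp hsurj hzero htrans d i y, hy, map_zero]
  have := directedSystem Bi t hid htrans d
  exact Module.DirectLimit.of.zero_exact h0

include hcomp hsurj in
theorem tm_exists_of (z : ⨂[A] _ : Fin d, B) :
    ∃ (i : ι) (y : ⨂[A] _ : Fin d, Bi i), tm A d (φ i) y = z := by
  induction z using PiTensorProduct.induction_on with
  | smul_tprod r b =>
    obtain ⟨i, x, hx⟩ := exists_lift Bi t φ hcomp hsurj b
    refine ⟨i, r • PiTensorProduct.tprod A x, ?_⟩
    rw [map_smul, tm_tprod]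
    congr 2
    funext k
    exact hx k
  | add z z' hz hz' =>
    obtain ⟨i, y, rfl⟩ := hz
    obtain ⟨i', y', rfl⟩ := hz'
    obtain ⟨j, hij, hi'j⟩ := exists_ge_ge i i'
    refine ⟨j, tm A d (t i j hij) y + tm A d (t i' j hi'j) y', ?_⟩
    rw [map_add, tm_comp_apply, tm_comp_apply, hcomp, hcomp]

/-- the predicate of being a symmetric tensor -/
def IsSym {P : Type u} [AddCommGroup P] [Module A P] (z : ⨂[A] _ : Fin d, P) : Prop :=
  ∀ σ : Equiv.Perm (Fin d), PiTensorProduct.reindex A (fun _ : Fin d => P) σ z = z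

include hcomp hsurj hzero hid htrans in
theorem sym_exists_of (z : ⨂[A] _ : Fin d, B) (hz : IsSym (A := A) d z) :
    ∃ (i : ι) (y : ⨂[A] _ : Fin d, Bi i), IsSym (A := A) d y ∧ tm A d (φ i) y = z := by
  obtain ⟨i, y, hy⟩ := tm_exists_of Bi t φ hcomp hsurj d z
  have h1 : ∀ σ : Equiv.Perm (Fin d), ∃ (j : ι) (h : i ≤ j), tm A d (t i j h)
      (PiTensorProduct.reindex A (fun _ : Fin d => Bi i) σ y - y) = 0 := by
    intro σ
    apply tm_zero_exact Bi t φ hcomp hsurj hzero hid htrans d
    rw [map_sub, tm_reindex, hy, hz σ, sub_self]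
  choose j0 hj0 hy0 using h1
  obtain ⟨M0, hM0⟩ := Finite.exists_le j0
  obtain ⟨M, hiM, hM0M⟩ := exists_ge_ge i M0
  refine ⟨M, tm A d (t i M hiM) y, ?_, ?_⟩
  · intro σ
    rw [← tm_reindex, ← sub_eq_zero, ← map_sub]
    rw [← htrans i (j0 σ) M (hj0 σ) ((hM0 σ).trans hM0M), ← tm_comp_apply, hy0, map_zero]
  · rw [tm_comp_apply, hcomp, hy]

end Main

end Groth.Agent.Lib.Helper86.TPowColim
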