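import Mathlib

/-! Symmetric tensors `TSsub R P n` (as in S14671) of a finite free module are finite free:
`free_finite_TSsub`. Coordinates: `mem_TSsub_iff_repr`, `ofOrb`, `ofOrb_bijective`. -/

set_option autoImplicit false
set_option linter.unusedSectionVars false
open scoped TensorProduct
universe u

namespace Groth.Agent.Lib.Helper86.TSFree

variable (R : Type u) [CommRing R] (P : Type u) [AddCommGroup P] [Module R P] (n : ℕ)

/-- the submodule of symmetric tensors -/
abbrev TSsub : Submodule R (⨂[R] _ : Fin n, P) :=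
  ⨅ σ : Equiv.Perm (Fin n),
    LinearMap.eqLocus (PiTensorProduct.reindex R (fun _ : Fin n => P) σ).toLinearMap LinearMap.id

variable {R P n}

lemma mem_TSsub_iff (z : ⨂[R] _ : Fin n, P) :
    z ∈ TSsub R P n ↔ ∀ σ : Equiv.Perm (Fin n),
      PiTensorProduct.reindex R (fun _ : Fin n => P) σ z = z := by
  simp only [TSsub, Submodule.mem_iInf, LinearMap.mem_eqLocus, LinearEquiv.coe_coe,
    LinearMap.id_coe, id_eq]

section Free

variable {κ : Type u} [Fintype κ] [DecidableEq κ] (b : Module.Basis κ R P)

/-- the basis of the tensor power -/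
noncomputable abbrev bb : Module.Basis (Fin n → κ) R (⨂[R] _ : Fin n, P) :=
  Basis.piTensorProduct (fun _ : Fin n => b)

lemma repr_reindex (σ : Equiv.Perm (Fin n)) (z : ⨂[R] _ : Fin n, P) (q : Fin n → κ) :
    (bb (n := n) b).repr (PiTensorProduct.reindex R (fun _ : Fin n => P) σ z) q =
      (bb (n := n) b).repr z (q ∘ σ) := by
  let l1 : (⨂[R] _ : Fin n, P) →ₗ[R] R :=
    (Finsupp.lapply q) ∘ₗ (bb (n := n) b).repr.toLinearMap ∘ₗ
      (PiTensorProduct.reindex R (fun _ : Fin n => P) σ).toLinearMap
  let l2 : (⨂[R] _ : Fin n, P) →ₗ[R] R :=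
    (Finsupp.lapply (q ∘ σ)) ∘ₗ (bb (n := n) b).repr.toLinearMap
  have : l1 = l2 := by
    apply (bb (n := n) b).ext
    intro p
    simp only [l1, l2, LinearMap.coe_comp, LinearEquiv.coe_coe, Function.comp_apply,
      Finsupp.lapply_apply, Module.Basis.repr_self]
    rw [Basis.piTensorProduct_apply, PiTensorProduct.reindex_tprod]
    have : (⨂ₜ[R] i, b (p (σ.symm i))) = (bb (n := n) b) (p ∘ σ.symm) := by
      rw [Basis.piTensorProduct_apply]
      rfl
    rw [this, Module.Basis.repr_self, Finsupp.single_apply, Finsupp.single_apply]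
    congr 1
    apply propext
    constructor
    · intro h
      rw [← h]
      funext i
      simp
    · intro h
      rw [h]
      funext i
      simp
  exact LinearMap.congr_fun this z

variable (n) in
/-- the orbit relation on multi-indices -/
def orb : Setoid (Fin n → κ) where
  r p q := ∃ σ : Equiv.Perm (Fin n), q = p ∘ σ
  iseqv :=
    { refl := fun p => ⟨1, rfl⟩
      symm := by
        rintro p q ⟨σ, rfl⟩
        exact ⟨σ⁻¹, by funext i; simp⟩
      trans := by
        rintro p q r ⟨σ, rfl⟩ ⟨τ, rfl⟩
        exact ⟨σ * τ, by funext i; simp⟩ }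

lemma mem_TSsub_iff_repr (z : ⨂[R] _ : Fin n, P) :
    z ∈ TSsub R P n ↔ ∀ (σ : Equiv.Perm (Fin n)) (q : Fin n → κ),
      (bb (n := n) b).repr z (q ∘ σ) = (bb (n := n) b).repr z q := by
  rw [mem_TSsub_iff]
  constructor
  · intro h σ q
    rw [← repr_reindex, h σ]
  · intro h σ
    apply (bb (n := n) b).repr.injective
    ext q
    rw [repr_reindex, h σ q]

/-- the map from functions on orbits to symmetric tensors -/
noncomputable def ofOrb : (Quotient (orb (κ := κ) n) → R) →ₗ[R] TSsub R P n where
  toFun g := ⟨(bb (n := n) b).equivFun.symm (fun p => g (Quotient.mk _ p)), by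
    rw [mem_TSsub_iff_repr b]
    intro σ q
    have h1 : ∀ p, (bb (n := n) b).repr ((bb (n := n) b).equivFun.symm
        (fun p => g (Quotient.mk _ p))) p = g (Quotient.mk _ p) := by
      intro p
      have := (bb (n := n) b).equivFun.apply_symm_apply (fun p => g (Quotient.mk _ p))
      exact congrFun this p
    rw [h1, h1]
    congr 1
    exact (Quotient.sound (⟨σ, rfl⟩ : (orb (κ := κ) n).r q (q ∘ σ))).symm⟩
  map_add' g g' := by
    apply Subtype.ext
    change (bb (n := n) b).equivFun.symm _ = (bb (n := n) b).equivFun.symm _ +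
      (bb (n := n) b).equivFun.symm _
    rw [← map_add]
    rfl
  map_smul' r g := by
    apply Subtype.ext
    change (bb (n := n) b).equivFun.symm _ = r • (bb (n := n) b).equivFun.symm _
    rw [← map_smul]
    rfl

lemma ofOrb_bijective : Function.Bijective (ofOrb (R := R) (n := n) b) := by
  constructor
  · intro g g' h
    have h1 := congrArg Subtype.val h
    change (bb (n := n) b).equivFun.symm _ = (bb (n := n) b).equivFun.symm _ at h1
    have h2 := (bb (n := n) b).equivFun.symm.injective h1
    funext x
    obtain ⟨p, rfl⟩ := Quotient.exists_rep x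
    exact congrFun h2 p
  · rintro ⟨z, hz⟩
    rw [mem_TSsub_iff_repr b] at hz
    refine ⟨Quotient.lift (fun p => (bb (n := n) b).repr z p) ?_, ?_⟩
    · rintro p q ⟨σ, rfl⟩
      exact (hz σ p).symm
    · apply Subtype.ext
      change (bb (n := n) b).equivFun.symm _ = z
      apply (bb (n := n) b).equivFun.injective
      rw [LinearEquiv.apply_symm_apply]
      rfl

end Free

variable (R P n) in
lemma free_finite_TSsub [Module.Free R P] [Module.Finite R P] :
    Module.Free R (TSsub R P n) ∧ Module.Finite R (TSsub R P n) := by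
  classical
  let b := Module.Free.chooseBasis R P
  let e : (Quotient (orb (κ := Module.Free.ChooseBasisIndex R P) n) → R) ≃ₗ[R] TSsub R P n :=
    LinearEquiv.ofBijective (ofOrb b) (ofOrb_bijective b)
  haveI : Finite (Quotient (orb (κ := Module.Free.ChooseBasisIndex R P) n)) := inferInstance
  exact ⟨Module.Free.of_equiv e, Module.Finite.equiv e⟩

end Groth.Agent.Lib.Helper86.TSFree
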