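import Mathlib

/-! Finiteness of the (co)structured arrow categories of the truncated simplex inclusion. -/

set_option autoImplicit false
open CategoryTheory CategoryTheory.Limits Opposite
universe v u

namespace Groth.Agent.Lib.Helper86.TruncFin

noncomputable instance (m : ℕ) : Fintype (SimplexCategory.Truncated m) := by
  classical
  exact Fintype.ofSurjective (fun i : Fin (m + 1) => (⟨SimplexCategory.mk i, Nat.le_of_lt_succ i.2⟩ : SimplexCategory.Truncated m))
    (fun X => ⟨⟨X.obj.len, Nat.lt_succ_of_le X.property⟩, rfl⟩)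

noncomputable instance (m : ℕ) : Fintype (SimplexCategory.Truncated m)ᵒᵖ :=
  Fintype.ofEquiv _ Opposite.equivToOpposite

instance (m : ℕ) (X Y : SimplexCategory.Truncated m) : Finite (X ⟶ Y) :=
  Finite.of_injective (fun f => f.hom) (fun _ _ h => ObjectProperty.hom_ext _ h)

instance (m : ℕ) (X Y : (SimplexCategory.Truncated m)ᵒᵖ) : Finite (X ⟶ Y) :=
  Finite.of_injective (fun f => f.unop) (fun _ _ h => Quiver.Hom.unop_inj h)

instance finHomOp (Y Z : SimplexCategoryᵒᵖ) : Finite (Y ⟶ Z) :=
  Finite.of_injective (fun f => f.unop) (fun _ _ h => Quiver.Hom.unop_inj h)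

noncomputable instance finCatStructured (m : ℕ) (Y : SimplexCategoryᵒᵖ) :
    FinCategory (StructuredArrow Y (SimplexCategory.Truncated.inclusion m).op) where
  fintypeObj := by
    classical
    haveI : ∀ r : (SimplexCategory.Truncated m)ᵒᵖ,
        Fintype (Y ⟶ (SimplexCategory.Truncated.inclusion m).op.obj r) := fun r =>
      @Fintype.ofFinite _ (finHomOp _ _)
    exact Fintype.ofSurjective
      (fun p : Σ r : (SimplexCategory.Truncated m)ᵒᵖ,
        (Y ⟶ (SimplexCategory.Truncated.inclusion m).op.obj r) => StructuredArrow.mk p.2)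
      (fun X => ⟨⟨X.right, X.hom⟩, by cases X; rfl⟩)
  fintypeHom X X' := by
    classical
    haveI : Finite (X ⟶ X') :=
      Finite.of_injective (fun f => f.right) (fun f g h => by ext; exact h)
    exact Fintype.ofFinite _

noncomputable instance finCatCostructured (m : ℕ) (Y : SimplexCategoryᵒᵖ) :
    FinCategory (CostructuredArrow (SimplexCategory.Truncated.inclusion m).op Y) where
  fintypeObj := by
    classical
    haveI : ∀ r : (SimplexCategory.Truncated m)ᵒᵖ,
        Fintype ((SimplexCategory.Truncated.inclusion m).op.obj r ⟶ Y) := fun r =>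
      @Fintype.ofFinite _ (finHomOp _ _)
    exact Fintype.ofSurjective
      (fun p : Σ r : (SimplexCategory.Truncated m)ᵒᵖ,
        ((SimplexCategory.Truncated.inclusion m).op.obj r ⟶ Y) => CostructuredArrow.mk p.2)
      (fun X => ⟨⟨X.left, X.hom⟩, by cases X; rfl⟩)
  fintypeHom X X' := by
    classical
    haveI : Finite (X ⟶ X') :=
      Finite.of_injective (fun f => f.left) (fun f g h => by ext; exact h)
    exact Fintype.ofFinite _

noncomputable instance finCatStructuredIncl (n m : ℕ) (h : n ≤ m) (Y : (SimplexCategory.Truncated m)ᵒᵖ) :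
    FinCategory (StructuredArrow Y (SimplexCategory.Truncated.incl n m h).op) where
  fintypeObj := by
    classical
    haveI : ∀ r : (SimplexCategory.Truncated n)ᵒᵖ,
        Fintype (Y ⟶ (SimplexCategory.Truncated.incl n m h).op.obj r) := fun r =>
      Fintype.ofFinite _
    exact Fintype.ofSurjective
      (fun p : Σ r : (SimplexCategory.Truncated n)ᵒᵖ,
        (Y ⟶ (SimplexCategory.Truncated.incl n m h).op.obj r) => StructuredArrow.mk p.2)
      (fun X => ⟨⟨X.right, X.hom⟩, by cases X; rfl⟩)
  fintypeHom X X' := by
    classical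
    haveI : Finite (X ⟶ X') :=
      Finite.of_injective (fun f => f.right) (fun f g h => by ext; exact h)
    exact Fintype.ofFinite _

end Groth.Agent.Lib.Helper86.TruncFin
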