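import Mathlib

set_option autoImplicit false
universe u
open TensorProduct

namespace Groth.Agent.Lib.Helper86.MovDT

theorem ringKrullDim_le_of_isIntegral {A B : Type u} [CommRing A] [CommRing B] [Algebra A B]
    [Algebra.IsIntegral A B] : ringKrullDim B ≤ ringKrullDim A := by
  refine Order.krullDim_le_of_strictMono (PrimeSpectrum.comap (algebraMap A B)) ?_
  intro P Q hPQ
  have : P.asIdeal < Q.asIdeal := hPQ
  exact Ideal.IsIntegral.comap_lt_comap this

theorem ringKrullDim_tensor_le {k : Type u} [Field k] (A E : Type u) [CommRing A] [Algebra k A]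
    [CommRing E] [Algebra k E] [Module.Finite k E] :
    ringKrullDim (A ⊗[k] E) ≤ ringKrullDim A := by
  haveI : Module.Finite A (A ⊗[k] E) := inferInstance
  haveI : Algebra.IsIntegral A (A ⊗[k] E) := inferInstance
  exact ringKrullDim_le_of_isIntegral

end Groth.Agent.Lib.Helper86.MovDT
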