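import Mathlib.Algebra.Category.ModuleCat.Ext.HasExt
import Mathlib.Algebra.Homology.DerivedCategory.Ext.Linear
import Mathlib.Algebra.Homology.DerivedCategory.Ext.ExactSequences
import Mathlib.RingTheory.Regular.RegularSequence
import Mathlib.RingTheory.Regular.Category
import Mathlib.LinearAlgebra.Quotient.Basic
import Mathlib.RingTheory.Ideal.Quotient.Basic

/-!
# `Ext` of quotients by weakly regular sequences (helper86)

`Ext^{r+p}(N/(xs)N, M) ≃ₗ Ext^r(N, M)/(xs)` when `xs` is weakly regular on `N` of length `p` and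
`Ext^i(N, M) = 0` for `i > r`.
-/

set_option autoImplicit false
universe u

open CategoryTheory Abelian Pointwise

namespace Groth.Agent.Lib.Helper86.ExtReg

variable {A : Type u} [CommRing A]

/-- Transport of `P ⧸ I • ⊤` along a linear equivalence. -/
noncomputable def quotSMulTopCongr (I : Ideal A) {P Q : Type*} [AddCommGroup P] [Module A P]
    [AddCommGroup Q] [Module A Q] (e : P ≃ₗ[A] Q) :
    (P ⧸ I • (⊤ : Submodule A P)) ≃ₗ[A] (Q ⧸ I • (⊤ : Submodule A Q)) :=
  Submodule.Quotient.equiv _ _ e (by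
    rw [Submodule.map_smul'', Submodule.map_top, LinearEquiv.range])

/-- Linear congruence of `Ext` in the first variable. -/
noncomputable def extCongrLeft {X X' : ModuleCat.{u} A} (e : X ≅ X') (Y : ModuleCat.{u} A)
    (n : ℕ) : Ext X' Y n ≃ₗ[A] Ext X Y n :=
  LinearEquiv.ofLinearMap (Ext.precompOfLinear (Ext.mk₀ e.hom) A Y (zero_add n))
    (Ext.precompOfLinear (Ext.mk₀ e.inv) A Y (zero_add n))
    (by
      ext α
      simp only [LinearMap.coe_comp, Function.comp_apply, Ext.bilinearCompOfLinear_apply_apply,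
        LinearMap.id_coe, id_eq]
      rw [Ext.mk₀_comp_mk₀_assoc, e.hom_inv_id, Ext.mk₀_id_comp])
    (by
      ext α
      simp only [LinearMap.coe_comp, Function.comp_apply, Ext.bilinearCompOfLinear_apply_apply,
        LinearMap.id_coe, id_eq]
      rw [Ext.mk₀_comp_mk₀_assoc, e.inv_hom_id, Ext.mk₀_id_comp])

section Step

variable (M N : ModuleCat.{u} A) (x : A)

/-- Vanishing of `Ext^i(N/xN, M)` for `i > r + 1`. -/
lemma subsingleton_ext_quotSMulTop (hx : IsSMulRegular N x) (r : ℕ)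
    (h : ∀ i, r < i → Subsingleton (Ext N M i)) (i : ℕ) (hi : r + 1 < i) :
    Subsingleton (Ext (ModuleCat.of A (QuotSMulTop x N)) M i) := by
  obtain ⟨i', rfl⟩ : ∃ i', i = i' + 1 := ⟨i - 1, by omega⟩
  have hS := hx.smulShortComplex_shortExact
  suffices ∀ a : Ext (N.smulShortComplex x).X₃ M (i' + 1), a = 0 from
    ⟨fun a b => (this a).trans (this b).symm⟩
  intro a
  have h1 : Subsingleton (Ext (N.smulShortComplex x).X₂ M (i' + 1)) := h (i' + 1) (by omega)
  obtain ⟨x₁, hx₁⟩ := Ext.contravariant_sequence_exact₃ hS M a (Subsingleton.elim _ _)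
    (add_comm 1 i')
  have h2 : Subsingleton (Ext (N.smulShortComplex x).X₁ M i') := h i' (by omega)
  rw [← hx₁, Subsingleton.elim x₁ 0, Ext.comp_zero]

/-- The connecting map `Ext^r(N, M) → Ext^{r+1}(N/xN, M)`. -/
noncomputable def δ (hx : IsSMulRegular N x) (r : ℕ) :
    Ext N M r →ₗ[A] Ext (ModuleCat.of A (QuotSMulTop x N)) M (r + 1) :=
  Ext.precompOfLinear hx.smulShortComplex_shortExact.extClass A M (add_comm 1 r)

lemma δ_apply (hx : IsSMulRegular N x) (r : ℕ) (y : Ext N M r) :
    δ M N x hx r y = hx.smulShortComplex_shortExact.extClass.comp y (add_comm 1 r) := rfl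

lemma mk₀_smulShortComplex_f_comp (r : ℕ) (y : Ext N M r) :
    (Ext.mk₀ (N.smulShortComplex x).f).comp y (zero_add r) = x • y := by
  change (Ext.mk₀ (x • 𝟙 N)).comp y (zero_add r) = x • y
  rw [Ext.mk₀_smul, Ext.smul_comp, Ext.mk₀_id_comp]

lemma δ_surjective (hx : IsSMulRegular N x) (r : ℕ) (h : Subsingleton (Ext N M (r + 1))) :
    Function.Surjective (δ M N x hx r) := by
  intro a
  have h1 : Subsingleton (Ext (N.smulShortComplex x).X₂ M (r + 1)) := h
  obtain ⟨x₁, hx₁⟩ := Ext.contravariant_sequence_exact₃ hx.smulShortComplex_shortExact M a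
    (Subsingleton.elim _ _) (add_comm 1 r)
  exact ⟨x₁, hx₁⟩

lemma ker_δ (hx : IsSMulRegular N x) (r : ℕ) :
    LinearMap.ker (δ M N x hx r) = x • (⊤ : Submodule A (Ext N M r)) := by
  ext y
  rw [LinearMap.mem_ker, δ_apply, Submodule.mem_smul_pointwise_iff_exists]
  constructor
  · intro hy
    obtain ⟨x₂, hx₂⟩ := Ext.contravariant_sequence_exact₁ hx.smulShortComplex_shortExact M y
      (add_comm 1 r) hy
    refine ⟨x₂, Submodule.mem_top, ?_⟩
    rw [← hx₂]
    exact (mk₀_smulShortComplex_f_comp M N x r x₂).symm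
  · rintro ⟨z, -, rfl⟩
    rw [← mk₀_smulShortComplex_f_comp M N x r z]
    exact hx.smulShortComplex_shortExact.extClass_comp_assoc z

/-- `Ext^{r+1}(N/xN, M) ≃ Ext^r(N, M)/x`. -/
noncomputable def extQuotSMulTopEquiv (hx : IsSMulRegular N x) (r : ℕ)
    (h : Subsingleton (Ext N M (r + 1))) :
    Ext (ModuleCat.of A (QuotSMulTop x N)) M (r + 1) ≃ₗ[A] QuotSMulTop x (Ext N M r) :=
  ((δ M N x hx r).quotKerEquivOfSurjective (δ_surjective M N x hx r h)).symm ≪≫ₗ
    Submodule.quotEquivOfEq _ _ (ker_δ M N x hx r)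

end Step

/-- Main dimension-shifting theorem for weakly regular sequences. -/
theorem ext_quot_ofList (M : ModuleCat.{u} A) : ∀ (xs : List A) (N : ModuleCat.{u} A) (r : ℕ),
    RingTheory.Sequence.IsWeaklyRegular N xs → (∀ i, r < i → Subsingleton (Ext N M i)) →
    (∀ i, r + xs.length < i →
      Subsingleton (Ext (ModuleCat.of A (N ⧸ Ideal.ofList xs • (⊤ : Submodule A N))) M i)) ∧
    ∀ n, n = r + xs.length →
      Nonempty (Ext (ModuleCat.of A (N ⧸ Ideal.ofList xs • (⊤ : Submodule A N))) M n ≃ₗ[A]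
        (Ext N M r ⧸ Ideal.ofList xs • (⊤ : Submodule A (Ext N M r)))) := by
  intro xs
  induction xs with
  | nil =>
    intro N r _ h
    have hbot : Ideal.ofList ([] : List A) • (⊤ : Submodule A N) = ⊥ := by
      rw [Ideal.ofList_nil, Submodule.bot_smul]
    let e : ModuleCat.of A (N ⧸ Ideal.ofList ([] : List A) • (⊤ : Submodule A N)) ≅ N :=
      (Submodule.quotEquivOfEqBot _ hbot).toModuleIso
    refine ⟨fun i hi => ?_, fun n hn => ?_⟩
    · have := h i (by simpa using hi)
      exact (extCongrLeft e M i).symm.toEquiv.subsingleton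
    · obtain rfl : n = r := by simpa using hn
      have hbot' : Ideal.ofList ([] : List A) • (⊤ : Submodule A (Ext N M n)) = ⊥ := by
        rw [Ideal.ofList_nil, Submodule.bot_smul]
      exact ⟨(extCongrLeft e M n).symm ≪≫ₗ (Submodule.quotEquivOfEqBot _ hbot').symm⟩
  | cons x xs ih =>
    intro N r hreg h
    rw [RingTheory.Sequence.isWeaklyRegular_cons_iff] at hreg
    obtain ⟨hx, hreg'⟩ := hreg
    obtain ⟨ih1, ih2⟩ := ih (ModuleCat.of A (QuotSMulTop x N)) (r + 1) hreg'
      (subsingleton_ext_quotSMulTop M N x hx r h)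
    let e : ModuleCat.of A (N ⧸ Ideal.ofList (x :: xs) • (⊤ : Submodule A N)) ≅
        ModuleCat.of A (QuotSMulTop x N ⧸ Ideal.ofList xs • (⊤ : Submodule A (QuotSMulTop x N))) :=
      (Submodule.quotOfListConsSMulTopEquivQuotSMulTopInner N x xs).toModuleIso
    refine ⟨fun i hi => ?_, fun n hn => ?_⟩
    · have := ih1 i (by simp only [List.length_cons] at hi; omega)
      exact (extCongrLeft e M i).symm.toEquiv.subsingleton
    · obtain ⟨φ⟩ := ih2 n (by simp only [List.length_cons] at hn; omega)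
      have e1 := extQuotSMulTopEquiv M N x hx r (h (r + 1) (by omega))
      exact ⟨(extCongrLeft e M n).symm ≪≫ₗ φ ≪≫ₗ quotSMulTopCongr (Ideal.ofList xs) e1 ≪≫ₗ
        (Submodule.quotOfListConsSMulTopEquivQuotSMulTopInner (Ext N M r) x xs).symm⟩

end Groth.Agent.Lib.Helper86.ExtReg
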