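import Mathlib
import Groth.Prelude.Def_Adeq

/-!
# Basic API for module-valued functors (`Adeq.MVF A`): pointwise kernels/cokernels, `IsKer`,
criteria for adequate / linearly adequate functors.
-/

open CategoryTheory Limits TensorProduct Opposite

namespace Groth.Agent.Lib.Helper86.AdeqBasic

universe u
variable {A : Type u} [CommRing A]

/-- evaluation at an index. -/
def ev (X : (Adeq.Alg A)ᵒᵖᵒᵖ) : Adeq.MVF A ⥤ ModuleCat.{u+1} ((Adeq.ringOf A).obj X) :=
  PresheafOfModules.evaluation.{u+1} (Adeq.ringOf A) X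

instance (X : (Adeq.Alg A)ᵒᵖᵒᵖ) : (ev (A := A) X).Additive :=
  PresheafOfModules.instAdditiveModuleCatCarrierObjOppositeRingCatEvaluation _ _
instance (X : (Adeq.Alg A)ᵒᵖᵒᵖ) : PreservesFiniteLimits (ev (A := A) X) :=
  PresheafOfModules.evaluation_preservesFiniteLimits _ _
instance (X : (Adeq.Alg A)ᵒᵖᵒᵖ) : PreservesFiniteColimits (ev (A := A) X) :=
  PresheafOfModules.Finite.evaluation_preservesFiniteColimits _ _
instance (X : (Adeq.Alg A)ᵒᵖᵒᵖ) : (ev (A := A) X).PreservesHomology :=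
  inferInstance

theorem comp_app_apply {F G H : Adeq.MVF A} (φ : F ⟶ G) (ψ : G ⟶ H) (X) (x : F.obj X) :
    (φ ≫ ψ).app X x = ψ.app X (φ.app X x) := rfl

theorem congr_app_apply {F G : Adeq.MVF A} {φ ψ : F ⟶ G} (h : φ = ψ) (X) (x : F.obj X) :
    φ.app X x = ψ.app X x := by rw [h]

theorem kernel_ι_injective {F G : Adeq.MVF A} (φ : F ⟶ G) (X) :
    Function.Injective ((kernel.ι φ).app X) :=
  PresheafOfModules.injective_of_mono _ X

theorem kernel_ι_exists {F G : Adeq.MVF A} (φ : F ⟶ G) (X) (y : F.obj X) (hy : φ.app X y = 0) :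
    ∃ x, (kernel.ι φ).app X x = y := by
  have hex : (ShortComplex.mk (kernel.ι φ) φ (kernel.condition φ)).Exact :=
    ShortComplex.exact_of_f_is_kernel _ (kernelIsKernel φ)
  have h2 := hex.map (ev X)
  rw [ShortComplex.moduleCat_exact_iff] at h2
  exact h2 y hy

theorem kernel_ι_apply {F G : Adeq.MVF A} (φ : F ⟶ G) (X) (x : (kernel φ).obj X) :
    φ.app X ((kernel.ι φ).app X x) = 0 :=
  congr_app_apply (kernel.condition φ) X x

theorem cokernel_π_surjective {F G : Adeq.MVF A} (φ : F ⟶ G) (X) :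
    Function.Surjective ((cokernel.π φ).app X) :=
  PresheafOfModules.surjective_of_epi _ X

theorem cokernel_π_apply {F G : Adeq.MVF A} (φ : F ⟶ G) (X) (x : F.obj X) :
    (cokernel.π φ).app X (φ.app X x) = 0 :=
  congr_app_apply (cokernel.condition φ) X x

theorem cokernel_π_exists {F G : Adeq.MVF A} (φ : F ⟶ G) (X) (y : G.obj X)
    (hy : (cokernel.π φ).app X y = 0) : ∃ x, φ.app X x = y := by
  have hex : (ShortComplex.mk φ (cokernel.π φ) (cokernel.condition φ)).Exact :=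
    ShortComplex.exact_of_g_is_cokernel _ (cokernelIsCokernel φ)
  have h2 := hex.map (ev X)
  rw [ShortComplex.moduleCat_exact_iff] at h2
  exact h2 y hy

/-- `i : K ⟶ F` is (pointwise) a kernel of `φ : F ⟶ G`. -/
structure IsKer {K F G : Adeq.MVF A} (i : K ⟶ F) (φ : F ⟶ G) : Prop where
  w : i ≫ φ = 0
  inj : ∀ X, Function.Injective (i.app X)
  ex : ∀ X (y : F.obj X), φ.app X y = 0 → ∃ x, i.app X x = y

theorem isKer_kernel {F G : Adeq.MVF A} (φ : F ⟶ G) : IsKer (kernel.ι φ) φ :=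
  ⟨kernel.condition φ, kernel_ι_injective φ, kernel_ι_exists φ⟩

namespace IsKer

variable {K F G : Adeq.MVF A} {i : K ⟶ F} {φ : F ⟶ G}

theorem apply (h : IsKer i φ) (X) (x : K.obj X) : φ.app X (i.app X x) = 0 :=
  congr_app_apply h.w X x

theorem mono (h : IsKer i φ) : Mono i :=
  PresheafOfModules.mono_of_injective (fun X => h.inj X)

theorem isIso_lift (h : IsKer i φ) : IsIso (kernel.lift φ i h.w) := by
  haveI := h.mono
  haveI : Mono (kernel.lift φ i h.w) := mono_of_mono_fac (kernel.lift_ι φ i h.w)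
  haveI : Epi (kernel.lift φ i h.w) := by
    apply PresheafOfModules.epi_of_surjective
    intro X z
    obtain ⟨x, hx⟩ := h.ex X ((kernel.ι φ).app X z) (kernel_ι_apply φ X z)
    refine ⟨x, kernel_ι_injective φ X ?_⟩
    rw [← hx]
    exact congr_app_apply (kernel.lift_ι φ i h.w) X x
  exact isIso_of_mono_of_epi _

/-- the iso with the categorical kernel. -/
noncomputable def iso (h : IsKer i φ) : K ≅ kernel φ :=
  haveI := h.isIso_lift
  asIso (kernel.lift φ i h.w)

@[simp] theorem iso_hom_ι (h : IsKer i φ) : h.iso.hom ≫ kernel.ι φ = i :=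
  kernel.lift_ι φ i h.w

@[simp] theorem iso_inv_comp (h : IsKer i φ) : h.iso.inv ≫ i = kernel.ι φ := by
  rw [Iso.inv_comp_eq, iso_hom_ι]

theorem exists_lift (h : IsKer i φ) {K' : Adeq.MVF A} (j : K' ⟶ F) (hj : j ≫ φ = 0) :
    ∃ l : K' ⟶ K, l ≫ i = j :=
  ⟨kernel.lift φ j hj ≫ h.iso.inv, by rw [Category.assoc, iso_inv_comp, kernel.lift_ι]⟩

theorem of_iso (h : IsKer i φ) {K' : Adeq.MVF A} (e : K' ≅ K) : IsKer (e.hom ≫ i) φ where
  w := by rw [Category.assoc, h.w, comp_zero]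
  inj X := by
    haveI : Mono (e.hom ≫ i) := by haveI := h.mono; infer_instance
    exact PresheafOfModules.injective_of_mono _ X
  ex X y hy := by
    obtain ⟨x, hx⟩ := h.ex X y hy
    refine ⟨e.inv.app X x, ?_⟩
    rw [comp_app_apply, ← comp_app_apply e.inv e.hom, e.inv_hom_id]
    exact hx

end IsKer

/-- pointwise short exactness -/
structure IsSES {F G H : Adeq.MVF A} (j : F ⟶ G) (p : G ⟶ H) : Prop where
  w : j ≫ p = 0
  inj : ∀ X, Function.Injective (j.app X)
  ex : ∀ X (y : G.obj X), p.app X y = 0 → ∃ x, j.app X x = y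
  surj : ∀ X, Function.Surjective (p.app X)

theorem isSES_of_shortExact (S : ShortComplex (Adeq.MVF A)) (hS : S.ShortExact) : IsSES S.f S.g := by
  haveI := hS.mono_f
  haveI := hS.epi_g
  refine ⟨S.zero, fun X => PresheafOfModules.injective_of_mono _ X, ?_,
    fun X => PresheafOfModules.surjective_of_epi _ X⟩
  intro X y hy
  have h2 := hS.exact.map (ev X)
  rw [ShortComplex.moduleCat_exact_iff] at h2
  exact h2 y hy

theorem adequate_iff (F : Adeq.MVF A) : Adeq.adequate A F ↔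
    ∃ (M N : ModuleCat.{u + 1} A) (φ : M ⟶ N) (i : F ⟶ (Adeq.underline A).obj M),
      IsKer i ((Adeq.underline A).map φ) := by
  constructor
  · rintro ⟨M, N, φ, ⟨e⟩⟩
    exact ⟨M, N, φ, e.hom ≫ kernel.ι _, (isKer_kernel _).of_iso e⟩
  · rintro ⟨M, N, φ, i, h⟩
    exact ⟨M, N, φ, ⟨h.iso⟩⟩

theorem linAdequate_iff (F : Adeq.MVF A) : Adeq.linAdequate A F ↔
    ∃ (M N : ModuleCat.{u + 1} A) (φ : M ⟶ N) (i : F ⟶ (Adeq.underline A).obj M),
      Module.Finite A M ∧ Module.Free A M ∧ Module.Finite A N ∧ Module.Free A N ∧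
      IsKer i ((Adeq.underline A).map φ) := by
  constructor
  · rintro ⟨M, N, φ, h1, h2, h3, h4, ⟨e⟩⟩
    exact ⟨M, N, φ, e.hom ≫ kernel.ι _, h1, h2, h3, h4, (isKer_kernel _).of_iso e⟩
  · rintro ⟨M, N, φ, i, h1, h2, h3, h4, h⟩
    exact ⟨M, N, φ, h1, h2, h3, h4, ⟨h.iso⟩⟩

theorem adequate_of_linAdequate {F : Adeq.MVF A} (h : Adeq.linAdequate A F) : Adeq.adequate A F := by
  obtain ⟨M, N, φ, _, _, _, _, e⟩ := h
  exact ⟨M, N, φ, e⟩

end Groth.Agent.Lib.Helper86.AdeqBasic
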