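import Mathlib
import Groth.Prelude.Def_Adeq
import Groth.Agent.Lib.Helper86.AdeqBasic

/-!
# First-order (dual number) calculus for module-valued functors
-/

open CategoryTheory Limits TensorProduct Opposite

namespace Groth.Agent.Lib.Helper86.AdeqFO

universe u
variable {A : Type u} [CommRing A]

open Groth.Agent.Lib.Helper86.AdeqBasic

/-- transition map as an additive map with honest types. -/
noncomputable def mp (H : Adeq.MVF A) {B B' : Adeq.Alg A} (f : B ⟶ B') :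
    H.obj (Adeq.pt B) →+ H.obj (Adeq.pt B') where
  toFun s := H.map (Adeq.ptHom f) s
  map_zero' := map_zero _
  map_add' x y := map_add _ x y

theorem mp_apply (H : Adeq.MVF A) {B B' : Adeq.Alg A} (f : B ⟶ B') (s : H.obj (Adeq.pt B)) :
    mp H f s = H.map (Adeq.ptHom f) s := rfl

theorem mp_smul (H : Adeq.MVF A) {B B' : Adeq.Alg A} (f : B ⟶ B') (b : B) (s : H.obj (Adeq.pt B)) :
    mp H f (b • s) = (f.hom b) • mp H f s :=
  H.map_smul (Adeq.ptHom f) b s

theorem mp_id (H : Adeq.MVF A) (B : Adeq.Alg A) (s : H.obj (Adeq.pt B)) : mp H (𝟙 B) s = s := by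
  change H.map (𝟙 _) s = s
  rw [H.map_id]
  rfl

theorem mp_comp (H : Adeq.MVF A) {B B' B'' : Adeq.Alg A} (f : B ⟶ B') (g : B' ⟶ B'')
    (s : H.obj (Adeq.pt B)) : mp H (f ≫ g) s = mp H g (mp H f s) := by
  change H.map (Adeq.ptHom f ≫ Adeq.ptHom g) s = _
  rw [H.map_comp]
  rfl

theorem mp_congr (H : Adeq.MVF A) {B B' : Adeq.Alg A} {f g : B ⟶ B'} (h : f = g)
    (s : H.obj (Adeq.pt B)) : mp H f s = mp H g s := by rw [h]

theorem app_mp {H H' : Adeq.MVF A} (φ : H ⟶ H') {B B' : Adeq.Alg A} (f : B ⟶ B')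
    (s : H.obj (Adeq.pt B)) :
    φ.app (Adeq.pt B') (mp H f s) = mp H' f (φ.app (Adeq.pt B) s) :=
  PresheafOfModules.naturality_apply φ (Adeq.ptHom f) s

theorem app_smul {H H' : Adeq.MVF A} (φ : H ⟶ H') (B : Adeq.Alg A) (b : B)
    (s : H.obj (Adeq.pt B)) :
    φ.app (Adeq.pt B) (b • s) = b • φ.app (Adeq.pt B) s :=
  (φ.app (Adeq.pt B)).hom.map_smul b s

/-- identity, from the value of `underline M` at `B` to the tensor product. -/
noncomputable def toT (M : ModuleCat.{u+1} A) (B : Adeq.Alg A) :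
    ((Adeq.underline A).obj M).obj (Adeq.pt B) ≃ₗ[B] B ⊗[A] M :=
  LinearEquiv.refl B _

theorem toT_mp (M : ModuleCat.{u+1} A) {B B' : Adeq.Alg A} (f : B ⟶ B')
    (x : ((Adeq.underline A).obj M).obj (Adeq.pt B)) :
    toT M B' (mp ((Adeq.underline A).obj M) f x) = (f.hom.toLinearMap.rTensor M) (toT M B x) := rfl

theorem toT_map_app {M N : ModuleCat.{u+1} A} (g : M ⟶ N) (B : Adeq.Alg A)
    (x : ((Adeq.underline A).obj M).obj (Adeq.pt B)) :
    toT N B (((Adeq.underline A).map g).app (Adeq.pt B) x) = g.hom.lTensor B (toT M B x) := rfl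

/-- dual numbers over `B`, as an `A`-algebra. -/
abbrev D (B : Adeq.Alg A) : Adeq.Alg A := Adeq.algOf A (TrivSqZeroExt B B)

def dInl (B : Adeq.Alg A) : B ⟶ D B := CommAlgCat.ofHom (TrivSqZeroExt.inlAlgHom A B B)
def dAug (B : Adeq.Alg A) : D B ⟶ B := CommAlgCat.ofHom (TrivSqZeroExt.fstHom A B B)

theorem dInl_dAug (B : Adeq.Alg A) : dInl B ≫ dAug B = 𝟙 B := by
  ext x
  rfl

/-- the element ε. -/
def dε (B : Adeq.Alg A) : D B := TrivSqZeroExt.inr (1 : B)

/-- `s ↦ ε • H(inl)(s)` -/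
noncomputable def eps (H : Adeq.MVF A) (B : Adeq.Alg A) (s : H.obj (Adeq.pt B)) :
    H.obj (Adeq.pt (D B)) :=
  (dε B) • mp H (dInl B) s

theorem eps_add (H : Adeq.MVF A) (B : Adeq.Alg A) (s t : H.obj (Adeq.pt B)) :
    eps H B (s + t) = eps H B s + eps H B t := by
  unfold eps
  rw [map_add, smul_add]

theorem eps_zero (H : Adeq.MVF A) (B : Adeq.Alg A) : eps H B 0 = 0 := by
  unfold eps
  rw [map_zero, smul_zero]

theorem eps_neg (H : Adeq.MVF A) (B : Adeq.Alg A) (s : H.obj (Adeq.pt B)) :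
    eps H B (-s) = - eps H B s := by
  unfold eps
  rw [map_neg, smul_neg]

theorem eps_sub (H : Adeq.MVF A) (B : Adeq.Alg A) (s t : H.obj (Adeq.pt B)) :
    eps H B (s - t) = eps H B s - eps H B t := by
  rw [sub_eq_add_neg, eps_add, eps_neg, ← sub_eq_add_neg]

theorem app_eps {H H' : Adeq.MVF A} (φ : H ⟶ H') (B : Adeq.Alg A) (s : H.obj (Adeq.pt B)) :
    φ.app (Adeq.pt (D B)) (eps H B s) = eps H' B (φ.app (Adeq.pt B) s) := by
  unfold eps
  rw [app_smul, app_mp]

theorem aug_eps (H : Adeq.MVF A) (B : Adeq.Alg A) (s : H.obj (Adeq.pt B)) :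
    mp H (dAug B) (eps H B s) = 0 := by
  unfold eps
  rw [mp_smul]
  have : (dAug B).hom (dε B) = 0 := rfl
  rw [this, zero_smul]

/-- `A`-linear `inr : B → B[ε]`. -/
def inrA (B : Adeq.Alg A) : B →ₗ[A] TrivSqZeroExt B B :=
  (TrivSqZeroExt.inrHom B B).restrictScalars A
def sndA (B : Adeq.Alg A) : TrivSqZeroExt B B →ₗ[A] B :=
  (TrivSqZeroExt.sndHom B B).restrictScalars A

theorem toT_eps (M : ModuleCat.{u+1} A) (B : Adeq.Alg A)
    (x : ((Adeq.underline A).obj M).obj (Adeq.pt B)) :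
    toT M (D B) (eps ((Adeq.underline A).obj M) B x) = ((inrA B).rTensor M) (toT M B x) := by
  unfold eps
  rw [map_smul, toT_mp]
  generalize toT M B x = y
  induction y using TensorProduct.induction_on with
  | zero => simp
  | tmul c m =>
    rw [LinearMap.rTensor_tmul, LinearMap.rTensor_tmul, TensorProduct.smul_tmul']
    congr 1
    change TrivSqZeroExt.inr (1 : B) * TrivSqZeroExt.inl c = TrivSqZeroExt.inr c
    rw [TrivSqZeroExt.inr_mul_inl]
    simp
  | add x y hx hy =>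
    rw [map_add, smul_add, map_add, hx, hy]

/-- The first-order property. -/
def FO (H : Adeq.MVF A) : Prop :=
  ∀ B : Adeq.Alg A, Function.Injective (eps H B) ∧
    ∀ t, mp H (dAug B) t = 0 → ∃ s, eps H B s = t

theorem fo_underline (M : ModuleCat.{u+1} A) : FO ((Adeq.underline A).obj M) := by
  intro B
  have h1 : (sndA B) ∘ₗ (inrA B) = LinearMap.id := by
    ext x; rfl
  constructor
  · intro x y hxy
    have h2 := congrArg (toT M (D B)) hxy
    rw [toT_eps, toT_eps] at h2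
    have := congrArg ((sndA B).rTensor M) h2
    rw [← LinearMap.comp_apply, ← LinearMap.comp_apply, ← LinearMap.rTensor_comp, h1,
      LinearMap.rTensor_id] at this
    exact (toT M B).injective this
  · intro t ht
    have ht' : ((dAug B).hom.toLinearMap.rTensor M) (toT M (D B) t) = 0 := by
      rw [← toT_mp, ht, map_zero]
    refine ⟨(toT M B).symm (((sndA B).rTensor M) (toT M (D B) t)), ?_⟩
    apply (toT M (D B)).injective
    rw [toT_eps, LinearEquiv.apply_symm_apply]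
    generalize toT M (D B) t = y at ht' ⊢
    have hid : (LinearMap.id : TrivSqZeroExt B B →ₗ[A] TrivSqZeroExt B B) =
        (TrivSqZeroExt.inlAlgHom A B B).toLinearMap ∘ₗ (dAug B).hom.toLinearMap
          + (inrA B) ∘ₗ (sndA B) := by
      ext x
      · simp [dAug, inrA, sndA]
      · simp [dAug, inrA, sndA]
    have h3 : y = (LinearMap.rTensor M (LinearMap.id : TrivSqZeroExt B B →ₗ[A] TrivSqZeroExt B B)) y := by
      rw [LinearMap.rTensor_id]; rfl
    conv_rhs => rw [h3, hid, LinearMap.rTensor_add, LinearMap.add_apply, LinearMap.rTensor_comp,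
      LinearMap.rTensor_comp, LinearMap.comp_apply, LinearMap.comp_apply]
    rw [ht', map_zero, zero_add]

theorem fo_of_isKer {K F G : Adeq.MVF A} {i : K ⟶ F} {φ : F ⟶ G} (h : IsKer i φ)
    (hF : FO F) (hG : FO G) : FO K := by
  intro B
  constructor
  · intro x y hxy
    apply h.inj (Adeq.pt B)
    apply (hF B).1
    rw [← app_eps, ← app_eps, hxy]
  · intro t ht
    have h1 : mp F (dAug B) (i.app (Adeq.pt (D B)) t) = 0 := by
      rw [← app_mp, ht, map_zero]
    obtain ⟨y, hy⟩ := (hF B).2 _ h1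
    have h2 : φ.app (Adeq.pt B) y = 0 := by
      apply (hG B).1
      rw [← app_eps, hy, h.apply, eps_zero]
    obtain ⟨s, hs⟩ := h.ex (Adeq.pt B) y h2
    refine ⟨s, h.inj (Adeq.pt (D B)) ?_⟩
    rw [app_eps, hs, hy]

theorem fo_of_isSES {F G H : Adeq.MVF A} {j : F ⟶ G} {p : G ⟶ H} (h : IsSES j p)
    (hF : FO F) (hH : FO H) : FO G := by
  intro B
  constructor
  · intro x y hxy
    have h0 : eps G B (x - y) = 0 := by rw [eps_sub, hxy, sub_self]
    have h1 : p.app (Adeq.pt B) (x - y) = 0 := by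
      apply (hH B).1
      rw [← app_eps, h0, map_zero, eps_zero]
    obtain ⟨z, hz⟩ := h.ex _ _ h1
    have h2 : z = 0 := by
      apply (hF B).1
      apply h.inj (Adeq.pt (D B))
      rw [app_eps, hz, h0, eps_zero, map_zero]
    rw [h2, map_zero] at hz
    exact sub_eq_zero.mp hz.symm
  · intro t ht
    have h1 : mp H (dAug B) (p.app (Adeq.pt (D B)) t) = 0 := by
      rw [← app_mp, ht, map_zero]
    obtain ⟨ξ, hξ⟩ := (hH B).2 _ h1
    obtain ⟨s, hs⟩ := h.surj (Adeq.pt B) ξ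
    have h2 : p.app (Adeq.pt (D B)) (t - eps G B s) = 0 := by
      rw [map_sub, app_eps, hs, hξ, sub_self]
    obtain ⟨μ', hμ'⟩ := h.ex _ _ h2
    have h3 : mp F (dAug B) μ' = 0 := by
      apply h.inj (Adeq.pt B)
      rw [app_mp, hμ', map_sub, ht, aug_eps, sub_zero, map_zero]
    obtain ⟨μ, hμ⟩ := (hF B).2 _ h3
    refine ⟨s + j.app (Adeq.pt B) μ, ?_⟩
    rw [eps_add, ← app_eps, hμ, hμ']
    abel

variable (A) in
/-- the base algebra. -/
abbrev A0 : Adeq.Alg A := Adeq.algOf A A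

/-- structure map `A → B`. -/
def stru (B : Adeq.Alg A) : A0 A ⟶ B := CommAlgCat.ofHom (Algebra.ofId A B)

theorem stru_ext {B : Adeq.Alg A} (f g : A0 A ⟶ B) : f = g := by
  ext

section T
variable (A)
variable (N : Type u) [AddCommGroup N] [Module A N] [Module Aᵐᵒᵖ N] [IsCentralScalar A N]

/-- trivial square zero extension of `A` by `N` as an object of `Alg A`. -/
abbrev T : Adeq.Alg A := Adeq.algOf A (TrivSqZeroExt A N)

def tAug : T A N ⟶ A0 A := CommAlgCat.ofHom (TrivSqZeroExt.fstHom A A N)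
def tUnit : A0 A ⟶ T A N := CommAlgCat.ofHom (TrivSqZeroExt.inlAlgHom A A N)

theorem tUnit_tAug : tUnit A N ≫ tAug A N = 𝟙 _ := by
  ext

variable {A N}

/-- the algebra map `T N → B[ε]` attached to a linear map `q : N → B`. -/
def tLiftAlg {B : Adeq.Alg A} (q : N →ₗ[A] B) : TrivSqZeroExt A N →ₐ[A] TrivSqZeroExt B B :=
  TrivSqZeroExt.lift (Algebra.ofId A (TrivSqZeroExt B B)) ((inrA B) ∘ₗ q)
    (fun x y => by simp [inrA])
    (fun r x => by
      simp only [LinearMap.coe_comp, Function.comp_apply, map_smul, Algebra.ofId_apply]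
      rw [Algebra.smul_def])
    (fun r x => by
      simp only [LinearMap.coe_comp, Function.comp_apply, op_smul_eq_smul, map_smul, Algebra.ofId_apply]
      rw [Algebra.smul_def, mul_comm])

def tLift {B : Adeq.Alg A} (q : N →ₗ[A] B) : T A N ⟶ D B := CommAlgCat.ofHom (tLiftAlg q)

theorem tLift_inr {B : Adeq.Alg A} (q : N →ₗ[A] B) (x : N) :
    (tLift q).hom (TrivSqZeroExt.inr x) = TrivSqZeroExt.inr (q x) := by
  change tLiftAlg q (TrivSqZeroExt.inr x) = _
  unfold tLiftAlg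
  rw [TrivSqZeroExt.lift_apply_inr]
  rfl

theorem tLift_apply {B : Adeq.Alg A} (q : N →ₗ[A] B) (x : TrivSqZeroExt A N) :
    (tLift q).hom x = TrivSqZeroExt.inl (algebraMap A B x.fst) + TrivSqZeroExt.inr (q x.snd) := by
  change tLiftAlg q x = _
  unfold tLiftAlg
  rw [TrivSqZeroExt.lift_def, Algebra.ofId_apply, TrivSqZeroExt.algebraMap_eq_inl']
  rfl

theorem tLift_dAug {B : Adeq.Alg A} (q : N →ₗ[A] B) : tLift q ≫ dAug B = tAug A N ≫ stru B := by
  ext x
  change TrivSqZeroExt.fst ((tLift q).hom (TrivSqZeroExt.inr x)) = algebraMap A B (TrivSqZeroExt.fst (TrivSqZeroExt.inr x : TrivSqZeroExt A N))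
  rw [tLift_apply]
  simp

end T

theorem alg_ext {B B' : Adeq.Alg A} (f g : B ⟶ B') (h : ∀ x, f.hom x = g.hom x) : f = g :=
  CommAlgCat.hom_ext (AlgHom.ext h)

theorem comp_hom_apply {B B' B'' : Adeq.Alg A} (f : B ⟶ B') (g : B' ⟶ B'') (x : B) :
    (f ≫ g).hom x = g.hom (f.hom x) := rfl

/-- `B[ε] → B'[ε]` induced by `h : B → B'`. -/
def dMapAlg {B B' : Adeq.Alg A} (h : B ⟶ B') : TrivSqZeroExt B B →ₐ[A] TrivSqZeroExt B' B' :=
  TrivSqZeroExt.lift ((TrivSqZeroExt.inlAlgHom A B' B').comp h.hom) ((inrA B') ∘ₗ h.hom.toLinearMap)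
    (fun x y => by simp [inrA])
    (fun r x => by
      change TrivSqZeroExt.inr (h.hom (r • x)) = TrivSqZeroExt.inl (h.hom r) * TrivSqZeroExt.inr (h.hom x)
      rw [TrivSqZeroExt.inl_mul_inr, smul_eq_mul, map_mul, smul_eq_mul])
    (fun r x => by
      change TrivSqZeroExt.inr (h.hom (MulOpposite.op r • x)) = TrivSqZeroExt.inr (h.hom x) * TrivSqZeroExt.inl (h.hom r)
      rw [TrivSqZeroExt.inr_mul_inl, MulOpposite.smul_eq_mul_unop, MulOpposite.unop_op, map_mul,
        MulOpposite.smul_eq_mul_unop, MulOpposite.unop_op])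

def dMap {B B' : Adeq.Alg A} (h : B ⟶ B') : D B ⟶ D B' := CommAlgCat.ofHom (dMapAlg h)

theorem dMap_apply {B B' : Adeq.Alg A} (h : B ⟶ B') (x : TrivSqZeroExt B B) :
    (dMap h).hom x = TrivSqZeroExt.inl (h.hom x.fst) + TrivSqZeroExt.inr (h.hom x.snd) := by
  change dMapAlg h x = _
  unfold dMapAlg
  rw [TrivSqZeroExt.lift_def]
  rfl

theorem dInl_apply (B : Adeq.Alg A) (x : B) : (dInl B).hom x = TrivSqZeroExt.inl x := rfl

theorem dInl_dMap {B B' : Adeq.Alg A} (h : B ⟶ B') : dInl B ≫ dMap h = h ≫ dInl B' := by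
  apply alg_ext
  intro x
  rw [comp_hom_apply, comp_hom_apply, dInl_apply, dInl_apply, dMap_apply]
  simp

theorem dMap_dε {B B' : Adeq.Alg A} (h : B ⟶ B') : (dMap h).hom (dε B) = dε B' := by
  rw [dMap_apply]
  simp [dε]

theorem mp_dMap_eps (H : Adeq.MVF A) {B B' : Adeq.Alg A} (h : B ⟶ B') (s : H.obj (Adeq.pt B)) :
    mp H (dMap h) (eps H B s) = eps H B' (mp H h s) := by
  unfold eps
  rw [mp_smul, dMap_dε, ← mp_comp, ← mp_comp, dInl_dMap]

/-- `ε ↦ bε`. -/
def dMulAlg {B : Adeq.Alg A} (b : B) : TrivSqZeroExt B B →ₐ[A] TrivSqZeroExt B B :=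
  (TrivSqZeroExt.map (LinearMap.mulLeft B b)).restrictScalars A

def dMul {B : Adeq.Alg A} (b : B) : D B ⟶ D B := CommAlgCat.ofHom (dMulAlg b)

theorem dMul_apply {B : Adeq.Alg A} (b : B) (x : TrivSqZeroExt B B) :
    (dMul b).hom x = TrivSqZeroExt.inl x.fst + TrivSqZeroExt.inr (b * x.snd) := by
  change TrivSqZeroExt.map (LinearMap.mulLeft B b) x = _
  ext <;> simp

theorem dInl_dMul {B : Adeq.Alg A} (b : B) : dInl B ≫ dMul b = dInl B := by
  apply alg_ext
  intro x
  rw [comp_hom_apply, dInl_apply, dMul_apply]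
  simp

theorem mp_dMul_eps (H : Adeq.MVF A) {B : Adeq.Alg A} (b : B) (s : H.obj (Adeq.pt B)) :
    mp H (dMul b) (eps H B s) = eps H B (b • s) := by
  unfold eps
  rw [mp_smul, ← mp_comp, dInl_dMul, mp_smul, ← mul_smul]
  congr 1
  rw [dMul_apply, dInl_apply]
  change _ = TrivSqZeroExt.inr (1 : B) * TrivSqZeroExt.inl b
  rw [TrivSqZeroExt.inr_mul_inl]
  simp [dε]

section T2
variable {N N' : Type u} [AddCommGroup N] [Module A N] [Module Aᵐᵒᵖ N] [IsCentralScalar A N]
  [AddCommGroup N'] [Module A N'] [Module Aᵐᵒᵖ N'] [IsCentralScalar A N']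

def tMap (r : N →ₗ[A] N') : T A N ⟶ T A N' := CommAlgCat.ofHom (TrivSqZeroExt.map r)

theorem tMap_apply (r : N →ₗ[A] N') (x : TrivSqZeroExt A N) :
    (tMap r).hom x = TrivSqZeroExt.inl x.fst + TrivSqZeroExt.inr (r x.snd) := by
  change TrivSqZeroExt.map r x = _
  ext <;> simp

theorem tMap_tLift (r : N →ₗ[A] N') {B : Adeq.Alg A} (q : N' →ₗ[A] B) :
    tMap r ≫ tLift q = tLift (q ∘ₗ r) := by
  apply alg_ext
  intro x
  rw [comp_hom_apply, tMap_apply, tLift_apply, tLift_apply]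
  simp

theorem tLift_dMap {B B' : Adeq.Alg A} (q : N →ₗ[A] B) (h : B ⟶ B') :
    tLift q ≫ dMap h = tLift (h.hom.toLinearMap ∘ₗ q) := by
  apply alg_ext
  intro x
  rw [comp_hom_apply, tLift_apply, tLift_apply, dMap_apply]
  simp

theorem tLift_dMul {B : Adeq.Alg A} (q : N →ₗ[A] B) (b : B) :
    tLift q ≫ dMul b = tLift ((LinearMap.mulLeft A b) ∘ₗ q) := by
  apply alg_ext
  intro x
  rw [comp_hom_apply, tLift_apply, tLift_apply, dMul_apply]
  simp

theorem tMap_tAug (r : N →ₗ[A] N') : tMap r ≫ tAug A N' = tAug A N := by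
  apply alg_ext
  intro x
  rw [comp_hom_apply, tMap_apply]
  change TrivSqZeroExt.fst _ = TrivSqZeroExt.fst x
  simp

theorem tUnit_tMap (r : N →ₗ[A] N') : tUnit A N ≫ tMap r = tUnit A N' := stru_ext _ _

theorem tMap_comp {N'' : Type u} [AddCommGroup N''] [Module A N''] [Module Aᵐᵒᵖ N''] [IsCentralScalar A N'']
    (r : N →ₗ[A] N') (r' : N' →ₗ[A] N'') : tMap r ≫ tMap r' = tMap (r' ∘ₗ r) := by
  apply alg_ext
  intro x
  rw [comp_hom_apply, tMap_apply, tMap_apply, tMap_apply]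
  simp

theorem tMap_id : tMap (LinearMap.id : N →ₗ[A] N) = 𝟙 _ := by
  apply alg_ext
  intro x
  rw [tMap_apply]
  change _ = x
  ext <;> simp

end T2

/-- constructor for morphisms of module valued functors. -/
noncomputable def mkHom {F G : Adeq.MVF A} (σ : ∀ B : Adeq.Alg A, F.obj (Adeq.pt B) →ₗ[B] G.obj (Adeq.pt B))
    (hnat : ∀ {B B' : Adeq.Alg A} (h : B ⟶ B') (x : F.obj (Adeq.pt B)),
      σ B' (mp F h x) = mp G h (σ B x)) : F ⟶ G where
  app X := ModuleCat.ofHom (σ X.unop.unop)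
  naturality {X Y} f := by
    ext x
    exact hnat f.unop.unop x

theorem mkHom_app {F G : Adeq.MVF A} (σ : ∀ B : Adeq.Alg A, F.obj (Adeq.pt B) →ₗ[B] G.obj (Adeq.pt B))
    (hnat : ∀ {B B' : Adeq.Alg A} (h : B ⟶ B') (x : F.obj (Adeq.pt B)),
      σ B' (mp F h x) = mp G h (σ B x)) (B : Adeq.Alg A) (x : F.obj (Adeq.pt B)) :
    (mkHom σ hnat).app (Adeq.pt B) x = σ B x := rfl

theorem tMap_zero {N N' : Type u} [AddCommGroup N] [Module A N] [Module Aᵐᵒᵖ N] [IsCentralScalar A N]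
    [AddCommGroup N'] [Module A N'] [Module Aᵐᵒᵖ N'] [IsCentralScalar A N'] :
    tMap (0 : N →ₗ[A] N') = tAug A N ≫ tUnit A N' := by
  apply alg_ext
  intro x
  rw [tMap_apply, comp_hom_apply]
  change _ = TrivSqZeroExt.inl (TrivSqZeroExt.fst x)
  simp

end Groth.Agent.Lib.Helper86.AdeqFO
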