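import Mathlib
import Groth.Prelude.Def_Adeq
import Groth.Agent.Lib.Helper86.AdeqFO

open CategoryTheory Limits TensorProduct Opposite

/-!
# Universal first-order element of a linearly adequate functor; the extension lemma (Stacks 46.3.5)
-/

namespace Groth.Agent.Lib.Helper86.AdeqExt
universe u
variable {A : Type u} [CommRing A]

open Groth.Agent.Lib.Helper86.AdeqBasic Groth.Agent.Lib.Helper86.AdeqFO

section Coord
variable {P : Type (u+1)} [AddCommGroup P] [Module A P] {n : ℕ} (b : Module.Basis (Fin n) A P)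

/-- coordinate functions on `B ⊗ P`. -/
noncomputable def coordB (B : Type u) [CommRing B] [Algebra A B] (i : Fin n) : B ⊗[A] P →ₗ[A] B :=
  (TensorProduct.rid A B).toLinearMap ∘ₗ (b.coord i).lTensor B

theorem coordB_tmul (B : Type u) [CommRing B] [Algebra A B] (i : Fin n) (c : B) (p : P) :
    coordB b B i (c ⊗ₜ p) = (b.repr p i) • c := by
  simp [coordB]

theorem recon (B : Type u) [CommRing B] [Algebra A B] (y : B ⊗[A] P) :
    y = ∑ i, coordB b B i y ⊗ₜ[A] b i := by
  induction y using TensorProduct.induction_on with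
  | zero => simp
  | tmul c p =>
    simp_rw [coordB_tmul]
    conv_lhs => rw [← b.sum_repr p, TensorProduct.tmul_sum]
    refine Finset.sum_congr rfl (fun i _ => ?_)
    rw [TensorProduct.tmul_smul, TensorProduct.smul_tmul']
  | add x y hx hy =>
    simp_rw [map_add, TensorProduct.add_tmul, Finset.sum_add_distrib]
    rw [← hx, ← hy]

theorem coordB_sum (B : Type u) [CommRing B] [Algebra A B] (β : Fin n → B) (i : Fin n) :
    coordB b B i (∑ k, β k ⊗ₜ[A] b k) = β i := by
  simp_rw [map_sum, coordB_tmul]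
  simp [Finsupp.single_apply]

end Coord

section Univ
variable {P P' : ModuleCat.{u+1} A} {n m : ℕ} (b : Module.Basis (Fin n) A P)
  (b' : Module.Basis (Fin m) A P') (α : P ⟶ P')

/-- rows of the matrix. -/
noncomputable def rows (j : Fin m) : Fin n → A := fun k => b'.repr (α.hom (b k)) j

theorem coord_alpha (B : Type u) [CommRing B] [Algebra A B] (j : Fin m) (y : B ⊗[A] P) :
    coordB b' B j (α.hom.lTensor B y) = ∑ k, rows b b' α j k • coordB b B k y := by
  induction y using TensorProduct.induction_on with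
  | zero => simp
  | tmul c p =>
    rw [LinearMap.lTensor_tmul, coordB_tmul]
    simp_rw [coordB_tmul, rows]
    conv_lhs => rw [← b.sum_repr p]
    rw [map_sum, map_sum, Finsupp.coe_finsetSum, Finset.sum_apply, Finset.sum_smul]
    refine Finset.sum_congr rfl (fun k _ => ?_)
    rw [map_smul, map_smul, Finsupp.smul_apply, smul_eq_mul, mul_comm, mul_smul]
  | add x y hx hy =>
    simp_rw [map_add, hx, hy, smul_add, Finset.sum_add_distrib]

/-- the relation submodule. -/
noncomputable def relS : Submodule A (Fin n → A) := Submodule.span A (Set.range (rows b b' α))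

/-- the universal first order module. -/
abbrev Q : Type u := (Fin n → A) ⧸ relS b b' α

noncomputable def e (k : Fin n) : Q b b' α := Submodule.Quotient.mk (Pi.single k 1)

theorem sum_rows_e (j : Fin m) : ∑ k, rows b b' α j k • e b b' α k = 0 := by
  unfold e
  have : ∑ k, rows b b' α j k • (Submodule.Quotient.mk (Pi.single k 1) : Q b b' α)
      = (relS b b' α).mkQ (∑ k, rows b b' α j k • Pi.single k 1) := by
    rw [map_sum]
    rfl
  rw [this, Submodule.mkQ_apply, Submodule.Quotient.mk_eq_zero]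
  apply Submodule.subset_span
  refine ⟨j, ?_⟩
  ext k
  simp [Finset.sum_apply, Pi.single_apply]

/-- linear map out of `Q` from a solution of the relations. -/
noncomputable def qβ {B : Type u} [CommRing B] [Algebra A B] (β : Fin n → B)
    (hβ : ∀ j, ∑ k, rows b b' α j k • β k = 0) : Q b b' α →ₗ[A] B :=
  (relS b b' α).liftQ (Fintype.linearCombination A β) (by
    unfold relS
    rw [Submodule.span_le]
    rintro _ ⟨j, rfl⟩
    change Fintype.linearCombination A β (rows b b' α j) = 0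
    rw [Fintype.linearCombination_apply]
    exact hβ j)

theorem qβ_mk {B : Type u} [CommRing B] [Algebra A B] (β : Fin n → B)
    (hβ : ∀ j, ∑ k, rows b b' α j k • β k = 0) (v : Fin n → A) :
    qβ b b' α β hβ (Submodule.Quotient.mk v) = ∑ k, v k • β k := by
  unfold qβ
  rw [Submodule.liftQ_apply, Fintype.linearCombination_apply]

theorem qβ_e {B : Type u} [CommRing B] [Algebra A B] (β : Fin n → B)
    (hβ : ∀ j, ∑ k, rows b b' α j k • β k = 0) (k : Fin n) :
    qβ b b' α β hβ (e b b' α k) = β k := by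
  unfold e
  rw [qβ_mk]
  simp [Pi.single_apply]


variable {L : Adeq.MVF A} {i : L ⟶ (Adeq.underline A).obj P}
  (hL : IsKer i ((Adeq.underline A).map α))

/-- coordinates of an element of `L(B)`. -/
noncomputable def βof (B : Adeq.Alg A) (ξ : L.obj (Adeq.pt B)) : Fin n → B :=
  fun k => coordB b B k (toT P B (i.app (Adeq.pt B) ξ))

include hL in
theorem βof_rel (B : Adeq.Alg A) (ξ : L.obj (Adeq.pt B)) (j : Fin m) :
    ∑ k, rows b b' α j k • βof (i := i) b B ξ k = 0 := by
  unfold βof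
  rw [← coord_alpha b b' α, ← toT_map_app, hL.apply, map_zero, map_zero]

theorem recon_i (B : Adeq.Alg A) (ξ : L.obj (Adeq.pt B)) :
    toT P B (i.app (Adeq.pt B) ξ) = ∑ k, βof (i := i) b B ξ k ⊗ₜ[A] b k :=
  recon b B _

/-- the linear map `Q → B` attached to `ξ ∈ L(B)`. -/
noncomputable def qOf (B : Adeq.Alg A) (ξ : L.obj (Adeq.pt B)) : Q b b' α →ₗ[A] B :=
  qβ b b' α (βof (i := i) b B ξ) (βof_rel b b' α hL B ξ)

theorem qOf_e (B : Adeq.Alg A) (ξ : L.obj (Adeq.pt B)) (k : Fin n) :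
    qOf b b' α hL B ξ (e b b' α k) = βof (i := i) b B ξ k := qβ_e _ _ _ _ _ k

theorem qOf_mk (B : Adeq.Alg A) (ξ : L.obj (Adeq.pt B)) (v : Fin n → A) :
    qOf b b' α hL B ξ (Submodule.Quotient.mk v) = ∑ k, v k • βof (i := i) b B ξ k := qβ_mk _ _ _ _ _ v

/-- the coordinates of `y₀`. -/
noncomputable def β0 : Fin n → (T A (Q b b' α) : Type u) :=
  fun k => (TrivSqZeroExt.inr (e b b' α k) : TrivSqZeroExt A (Q b b' α))

/-- the element `y₀`. -/
noncomputable def y0 : (T A (Q b b' α) : Type u) ⊗[A] P :=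
  ∑ k, β0 b b' α k ⊗ₜ[A] b k

theorem alpha_y0 : α.hom.lTensor _ (y0 b b' α) = 0 := by
  rw [recon b' _ (α.hom.lTensor _ (y0 b b' α))]
  refine Finset.sum_eq_zero (fun j _ => ?_)
  rw [coord_alpha b b' α]
  unfold y0
  have h1 : ∀ k, coordB b (T A (Q b b' α)) k (∑ k, β0 b b' α k ⊗ₜ[A] b k) = β0 b b' α k :=
    fun k => coordB_sum b _ (β0 b b' α) k
  simp_rw [h1]
  have : ∑ k, rows b b' α j k • β0 b b' α k
      = (TrivSqZeroExt.inr (∑ k, rows b b' α j k • e b b' α k) : TrivSqZeroExt A (Q b b' α)) := by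
    rw [TrivSqZeroExt.inr_sum]
    refine Finset.sum_congr rfl (fun k _ => ?_)
    rw [TrivSqZeroExt.inr_smul]
    rfl
  rw [this, sum_rows_e, TrivSqZeroExt.inr_zero, TensorProduct.zero_tmul]

include hL in
theorem exists_xi0 : ∃ ξ₀ : L.obj (Adeq.pt (T A (Q b b' α))),
    toT P (T A (Q b b' α)) (i.app _ ξ₀) = y0 b b' α := by
  obtain ⟨x, hx⟩ := hL.ex (Adeq.pt (T A (Q b b' α))) ((toT P (T A (Q b b' α))).symm (y0 b b' α)) (by
    apply (toT P' (T A (Q b b' α))).injective
    rw [toT_map_app, LinearEquiv.apply_symm_apply, alpha_y0, map_zero])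
  exact ⟨x, by rw [hx, LinearEquiv.apply_symm_apply]⟩


theorem rTensor_sum_tmul {B B' : Type u} [CommRing B] [Algebra A B] [CommRing B'] [Algebra A B']
    {M : Type (u+1)} [AddCommGroup M] [Module A M]
    (f : B →ₗ[A] B') (β : Fin n → B) (mm : Fin n → M) :
    f.rTensor M (∑ k, β k ⊗ₜ[A] mm k) = ∑ k, f (β k) ⊗ₜ[A] mm k := by
  rw [map_sum]
  rfl

theorem lTensor_sum_tmul {B : Type u} [CommRing B] [Algebra A B]
    {M M' : Type (u+1)} [AddCommGroup M] [Module A M] [AddCommGroup M'] [Module A M']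
    (g : M →ₗ[A] M') (β : Fin n → B) (mm : Fin n → M) :
    g.lTensor B (∑ k, β k ⊗ₜ[A] mm k) = ∑ k, β k ⊗ₜ[A] g (mm k) := by
  rw [map_sum]
  rfl

/-- (U): the universal property of `ξ₀`. -/
theorem univ_prop (ξ₀ : L.obj (Adeq.pt (T A (Q b b' α))))
    (hξ₀ : toT P (T A (Q b b' α)) (i.app _ ξ₀) = y0 b b' α)
    (B : Adeq.Alg A) (ξ : L.obj (Adeq.pt B)) :
    mp L (tLift (qOf b b' α hL B ξ)) ξ₀ = eps L B ξ := by
  apply hL.inj
  apply (toT P (D B)).injective
  rw [app_mp, toT_mp, hξ₀, app_eps, toT_eps, recon_i b B ξ]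
  unfold y0
  rw [rTensor_sum_tmul, rTensor_sum_tmul]
  refine Finset.sum_congr rfl (fun k _ => ?_)
  congr 1
  change (tLift (qOf b b' α hL B ξ)).hom (TrivSqZeroExt.inr (e b b' α k)) = TrivSqZeroExt.inr _
  rw [tLift_inr, qOf_e]

include hL in
/-- (U1) -/
theorem aug_xi0 (ξ₀ : L.obj (Adeq.pt (T A (Q b b' α))))
    (hξ₀ : toT P (T A (Q b b' α)) (i.app _ ξ₀) = y0 b b' α) :
    mp L (tAug A (Q b b' α)) ξ₀ = 0 := by
  apply hL.inj
  apply (toT P (A0 A)).injective
  rw [app_mp, toT_mp, hξ₀, map_zero, map_zero]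
  unfold y0
  rw [rTensor_sum_tmul]
  refine Finset.sum_eq_zero (fun k _ => ?_)
  have : (tAug A (Q b b' α)).hom.toLinearMap (β0 b b' α k) = 0 := rfl
  rw [this, TensorProduct.zero_tmul]


theorem exists_pi_decomp {M : Type (u+1)} [AddCommGroup M] [Module A M] (z : (Fin n → A) ⊗[A] M) :
    ∃ mm : Fin n → M, z = ∑ k, (Pi.single k (1 : A) : Fin n → A) ⊗ₜ[A] mm k := by
  induction z using TensorProduct.induction_on with
  | zero => exact ⟨0, by simp⟩
  | tmul v m =>
    refine ⟨fun k => v k • m, ?_⟩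
    have : ∀ k, (Pi.single k (1 : A) : Fin n → A) ⊗ₜ[A] (v k • m)
        = (v k • (Pi.single k (1 : A) : Fin n → A)) ⊗ₜ[A] m := fun k => by
      rw [TensorProduct.tmul_smul, TensorProduct.smul_tmul']
    simp_rw [this, ← TensorProduct.sum_tmul]
    congr 1
    ext k
    simp [Finset.sum_apply, Pi.single_apply]
  | add x y hx hy =>
    obtain ⟨mx, rfl⟩ := hx
    obtain ⟨my, rfl⟩ := hy
    refine ⟨mx + my, ?_⟩
    simp_rw [Pi.add_apply, TensorProduct.tmul_add, Finset.sum_add_distrib]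

/-- decomposition of augmentation-zero elements of `T Q ⊗ M`. -/
theorem exists_decomp {M : Type (u+1)} [AddCommGroup M] [Module A M]
    (θ : (T A (Q b b' α) : Type u) ⊗[A] M)
    (hθ : (tAug A (Q b b' α)).hom.toLinearMap.rTensor M θ = 0) :
    ∃ mm : Fin n → M, θ = ∑ k, β0 b b' α k ⊗ₜ[A] mm k := by
  have hid : (LinearMap.id : TrivSqZeroExt A (Q b b' α) →ₗ[A] TrivSqZeroExt A (Q b b' α)) =
      (TrivSqZeroExt.inlAlgHom A A (Q b b' α)).toLinearMap ∘ₗ (tAug A (Q b b' α)).hom.toLinearMap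
        + (TrivSqZeroExt.inrHom A (Q b b' α)) ∘ₗ (TrivSqZeroExt.sndHom A (Q b b' α)) := by
    ext x
    · simp [tAug]
    · simp [tAug]
  have h3 : θ = (LinearMap.rTensor M (LinearMap.id : TrivSqZeroExt A (Q b b' α) →ₗ[A] TrivSqZeroExt A (Q b b' α))) θ := by
    rw [LinearMap.rTensor_id]; rfl
  rw [hid, LinearMap.rTensor_add, LinearMap.add_apply, LinearMap.rTensor_comp,
      LinearMap.rTensor_comp, LinearMap.comp_apply, LinearMap.comp_apply, hθ, map_zero, zero_add] at h3
  obtain ⟨z, hz⟩ := LinearMap.rTensor_surjective M (Submodule.mkQ_surjective (relS b b' α))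
    ((TrivSqZeroExt.sndHom A (Q b b' α)).rTensor M θ)
  obtain ⟨mm, rfl⟩ := exists_pi_decomp z
  refine ⟨mm, ?_⟩
  rw [h3, ← hz, map_sum, map_sum]
  rfl


include hL b b' in
/-- Extension lemma (Stacks 46.3.5) in `IsKer` form with chosen bases. -/
theorem exists_extension_basis (M : ModuleCat.{u+1} A) (φ : L ⟶ (Adeq.underline A).obj M) :
    ∃ g : P ⟶ M, i ≫ (Adeq.underline A).map g = φ := by
  obtain ⟨ξ₀, hξ₀⟩ := exists_xi0 b b' α hL
  have haug : (tAug A (Q b b' α)).hom.toLinearMap.rTensor M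
      (toT M (T A (Q b b' α)) (φ.app _ ξ₀)) = 0 := by
    rw [← toT_mp, ← app_mp, aug_xi0 b b' α hL ξ₀ hξ₀, map_zero, map_zero]
  obtain ⟨mm, hmm⟩ := exists_decomp b b' α _ haug
  refine ⟨ModuleCat.ofHom (b.constr A mm), ?_⟩
  apply PresheafOfModules.hom_ext
  intro X
  obtain ⟨⟨B⟩⟩ := X
  apply ModuleCat.hom_ext
  apply LinearMap.ext
  intro ξ
  change ((Adeq.underline A).map (ModuleCat.ofHom (b.constr A mm))).app (Adeq.pt B) (i.app (Adeq.pt B) ξ)
    = φ.app (Adeq.pt B) ξ
  apply (fo_underline M B).1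
  apply (toT M (D B)).injective
  rw [← app_eps φ, ← univ_prop b b' α hL ξ₀ hξ₀ B ξ, app_mp, toT_mp, hmm, rTensor_sum_tmul,
    toT_eps, toT_map_app, recon_i b B ξ, lTensor_sum_tmul, rTensor_sum_tmul]
  refine Finset.sum_congr rfl (fun k _ => ?_)
  have h1 : (tLift (qOf b b' α hL B ξ)).hom.toLinearMap (β0 b b' α k)
      = (inrA B) (βof (i := i) b B ξ k) := by
    change (tLift (qOf b b' α hL B ξ)).hom (TrivSqZeroExt.inr (e b b' α k)) = TrivSqZeroExt.inr _
    rw [tLift_inr, qOf_e]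
  rw [h1]
  congr 1
  change b.constr A mm (b k) = mm k
  rw [Module.Basis.constr_basis]

end Univ

/-- Extension lemma (Stacks 46.3.5) in `IsKer` form. -/
theorem exists_extension {P P' : ModuleCat.{u+1} A} [Module.Finite A P] [Module.Free A P]
    [Module.Finite A P'] [Module.Free A P'] (α : P ⟶ P') {L : Adeq.MVF A}
    {i : L ⟶ (Adeq.underline A).obj P} (hL : IsKer i ((Adeq.underline A).map α))
    (M : ModuleCat.{u+1} A) (φ : L ⟶ (Adeq.underline A).obj M) :
    ∃ g : P ⟶ M, i ≫ (Adeq.underline A).map g = φ :=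
  exists_extension_basis
    ((Module.Free.chooseBasis A P).reindex (Fintype.equivFin _))
    ((Module.Free.chooseBasis A P').reindex (Fintype.equivFin _)) α hL M φ

section Coord
variable {P : Type (u+1)} [AddCommGroup P] [Module A P] {n : ℕ} (b : Module.Basis (Fin n) A P)

theorem coordB_rTensor {B B' : Type u} [CommRing B] [Algebra A B] [CommRing B'] [Algebra A B']
    (f : B →ₗ[A] B') (i : Fin n) (y : B ⊗[A] P) :
    coordB b B' i (f.rTensor P y) = f (coordB b B i y) := by
  induction y using TensorProduct.induction_on with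
  | zero => simp
  | tmul c p => simp [coordB_tmul]
  | add x y hx hy => simp [hx, hy]

theorem coordB_smul (B : Type u) [CommRing B] [Algebra A B] (i : Fin n) (c : B) (y : B ⊗[A] P) :
    coordB b B i (c • y) = c * coordB b B i y := by
  induction y using TensorProduct.induction_on with
  | zero => simp
  | tmul c' p =>
    rw [TensorProduct.smul_tmul', coordB_tmul, coordB_tmul, smul_eq_mul, mul_smul_comm]
  | add x y hx hy => rw [smul_add, map_add, map_add, hx, hy, mul_add]

end Coord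

section Univ
variable {P P' : ModuleCat.{u+1} A} {n m : ℕ} (b : Module.Basis (Fin n) A P)
  (b' : Module.Basis (Fin m) A P') (α : P ⟶ P')

theorem qext {N : Type u} [AddCommGroup N] [Module A N] (q q' : Q b b' α →ₗ[A] N)
    (h : ∀ k, q (e b b' α k) = q' (e b b' α k)) : q = q' := by
  apply Submodule.linearMap_qext
  apply LinearMap.pi_ext'
  intro k
  apply LinearMap.ext_ring
  exact h k

variable {L : Adeq.MVF A} {i : L ⟶ (Adeq.underline A).obj P}
  (hL : IsKer i ((Adeq.underline A).map α))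

theorem qOf_add (B : Adeq.Alg A) (ξ ξ' : L.obj (Adeq.pt B)) :
    qOf b b' α hL B (ξ + ξ') = qOf b b' α hL B ξ + qOf b b' α hL B ξ' := by
  apply qext
  intro k
  rw [LinearMap.add_apply, qOf_e, qOf_e, qOf_e]
  unfold βof
  rw [map_add, map_add, map_add]

theorem qOf_smul (B : Adeq.Alg A) (c : B) (ξ : L.obj (Adeq.pt B)) :
    qOf b b' α hL B (c • ξ) = LinearMap.mulLeft A c ∘ₗ qOf b b' α hL B ξ := by
  apply qext
  intro k
  rw [LinearMap.comp_apply, qOf_e, qOf_e]
  unfold βof
  rw [app_smul, map_smul, coordB_smul]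
  rfl

theorem qOf_mp {B B' : Adeq.Alg A} (h : B ⟶ B') (ξ : L.obj (Adeq.pt B)) :
    qOf b b' α hL B' (mp L h ξ) = h.hom.toLinearMap ∘ₗ qOf b b' α hL B ξ := by
  apply qext
  intro k
  rw [LinearMap.comp_apply, qOf_e, qOf_e]
  unfold βof
  rw [app_mp, toT_mp, coordB_rTensor]

end Univ

end Groth.Agent.Lib.Helper86.AdeqExt
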