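import Mathlib
import Groth.Prelude.Def_Adeq
import Groth.Agent.Lib.Helper86.AdeqFO

open CategoryTheory Limits TensorProduct Opposite

/-!
# Every adequate functor is a quotient of a coproduct of linearly adequate functors (Stacks 46.3.4)
-/

namespace Groth.Agent.Lib.Helper86.AdeqGen
universe u
variable {A : Type u} [CommRing A]

open Groth.Agent.Lib.Helper86.AdeqBasic Groth.Agent.Lib.Helper86.AdeqFO

section Lift
variable {M N : Type (u+1)} [AddCommGroup M] [Module A M] [AddCommGroup N] [Module A N]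
  (φ : M →ₗ[A] N)

/-- the surjection `M × (N →₀ A) → N`. -/
noncomputable def piMap : (M × (N →₀ A)) →ₗ[A] N :=
  φ ∘ₗ LinearMap.fst A M (N →₀ A) + (Finsupp.linearCombination A id) ∘ₗ LinearMap.snd A M (N →₀ A)

theorem piMap_apply (x : M × (N →₀ A)) :
    piMap φ x = φ x.1 + Finsupp.linearCombination A id x.2 := rfl

theorem piMap_surjective : Function.Surjective (piMap φ) := by
  intro x
  refine ⟨(0, Finsupp.single x 1), ?_⟩
  simp [piMap_apply]

theorem piMap_inl : piMap φ ∘ₗ LinearMap.inl A M (N →₀ A) = φ := by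
  ext m
  simp [piMap_apply]

omit [AddCommGroup M] [Module A M] in
theorem exact_ker_lTensor {M' : Type (u+1)} [AddCommGroup M'] [Module A M'] (π : M' →ₗ[A] N)
    (hπ : Function.Surjective π) (B : Type u) [CommRing B] [Algebra A B] :
    Function.Exact ((LinearMap.ker π).subtype.lTensor B) (π.lTensor B) := by
  have h1 : Function.Exact (LinearMap.ker π).subtype π := LinearMap.exact_subtype_ker_map π
  exact lTensor_exact B h1 hπ

theorem exists_ker_lift (B : Type u) [CommRing B] [Algebra A B] (y : B ⊗[A] M)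
    (hy : φ.lTensor B y = 0) :
    ∃ w : B ⊗[A] (LinearMap.ker (piMap φ)),
      (LinearMap.ker (piMap φ)).subtype.lTensor B w = (LinearMap.inl A M (N →₀ A)).lTensor B y := by
  apply (exact_ker_lTensor (piMap φ) (piMap_surjective φ) B _).1
  rw [← LinearMap.comp_apply, ← LinearMap.lTensor_comp, piMap_inl, hy]


section Fam
variable {φ} {ι : Type (u+1)} [Fintype ι] [DecidableEq ι] [DecidableEq N] (κ : ι → LinearMap.ker (piMap φ))

/-- union of supports. -/
noncomputable def supp : Finset N := Finset.univ.biUnion (fun p : ι => (κ p).1.2.support)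

theorem mem_supp (p : ι) (ν : N) (h : (κ p).1.2 ν ≠ 0) : ν ∈ supp κ := by
  unfold supp
  rw [Finset.mem_biUnion]
  exact ⟨p, Finset.mem_univ _, Finsupp.mem_support_iff.mpr h⟩

noncomputable def αmap : (ι → A) →ₗ[A] (↥(supp κ) → A) :=
  Fintype.linearCombination A (fun p : ι => (fun ν : ↥(supp κ) => -((κ p).1.2 ν.1)))

noncomputable def gmap : (ι → A) →ₗ[A] M := Fintype.linearCombination A (fun p : ι => (κ p).1.1)

noncomputable def g'map : (↥(supp κ) → A) →ₗ[A] N :=
  Fintype.linearCombination A (fun ν : ↥(supp κ) => ν.1)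

/-- extension by zero -/
noncomputable def ρmap : (↥(supp κ) → A) →ₗ[A] (N →₀ A) :=
  Fintype.linearCombination A (fun ν : ↥(supp κ) => Finsupp.single ν.1 (1 : A))

/-- restriction -/
noncomputable def rmap : (N →₀ A) →ₗ[A] (↥(supp κ) → A) where
  toFun f := fun ν => f ν.1
  map_add' f g := by ext ν; simp
  map_smul' a f := by ext ν; simp

theorem rmap_ρmap : rmap κ ∘ₗ ρmap κ = LinearMap.id := by
  apply LinearMap.pi_ext'
  intro ν
  apply LinearMap.ext_ring
  funext ν'
  change (ρmap κ (Pi.single ν 1)) ν'.1 = (Pi.single ν (1:A) : _ → A) ν'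
  unfold ρmap
  rw [Fintype.linearCombination_apply_single, one_smul, Finsupp.single_apply, Pi.single_apply]
  by_cases h : ν' = ν
  · rw [if_pos h, if_pos (by rw [h])]
  · rw [if_neg h, if_neg (fun h' => h (Subtype.ext h'.symm))]

theorem ρmap_αmap_single (p : ι) : ρmap κ (αmap κ (Pi.single p 1)) = - (κ p).1.2 := by
  classical
  unfold αmap ρmap
  rw [Fintype.linearCombination_apply_single, one_smul, Fintype.linearCombination_apply]
  ext ν
  simp only [Finsupp.coe_finsetSum, Finset.sum_apply, Finsupp.smul_apply, Finsupp.single_apply,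
    smul_eq_mul, Finsupp.coe_neg, Pi.neg_apply]
  by_cases hν : ν ∈ supp κ
  · rw [Finset.sum_eq_single ⟨ν, hν⟩]
    · simp
    · intro ν' _ hne
      rw [if_neg]
      · simp
      · intro h
        exact hne (Subtype.ext h)
    · intro h
      exact absurd (Finset.mem_univ _) h
  · have h0 : (κ p).1.2 ν = 0 := by
      by_contra h
      exact hν (mem_supp κ p ν h)
    rw [h0, neg_zero]
    apply Finset.sum_eq_zero
    intro ν' _
    rw [if_neg]
    · simp
    · intro h
      exact hν (h ▸ ν'.2)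

theorem g'map_αmap_single (p : ι) : g'map κ (αmap κ (Pi.single p 1)) = φ (κ p).1.1 := by
  classical
  have h1 : g'map κ = Finsupp.linearCombination A id ∘ₗ ρmap κ := by
    apply LinearMap.pi_ext'
    intro ν
    ext
    simp [g'map, ρmap, Fintype.linearCombination_apply_single]
  rw [h1, LinearMap.comp_apply, ρmap_αmap_single, map_neg]
  have := (κ p).2
  rw [LinearMap.mem_ker, piMap_apply] at this
  rw [neg_eq_iff_add_eq_zero, add_comm]
  exact this


theorem fam_conclusion (B : Type u) [CommRing B] [Algebra A B] (c : ι → B) (y : B ⊗[A] M)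
    (hw : ∑ p, c p ⊗ₜ[A] ((κ p).1 : M × (N →₀ A)) = (LinearMap.inl A M (N →₀ A)).lTensor B y) :
    φ ∘ₗ gmap κ = g'map κ ∘ₗ αmap κ ∧
      (αmap κ).lTensor B (∑ p, c p ⊗ₜ[A] (Pi.single p (1 : A) : ι → A)) = 0 ∧
      (gmap κ).lTensor B (∑ p, c p ⊗ₜ[A] (Pi.single p (1 : A) : ι → A)) = y := by
  refine ⟨?_, ?_, ?_⟩
  · apply LinearMap.pi_ext'
    intro p
    apply LinearMap.ext_ring
    change φ (gmap κ (Pi.single p 1)) = g'map κ (αmap κ (Pi.single p 1))
    rw [g'map_αmap_single]
    unfold gmap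
    rw [Fintype.linearCombination_apply_single, one_smul]
  · have h1 : (αmap κ).lTensor B (∑ p, c p ⊗ₜ[A] (Pi.single p (1 : A) : ι → A))
        = (rmap κ).lTensor B ((ρmap κ ∘ₗ αmap κ).lTensor B (∑ p, c p ⊗ₜ[A] (Pi.single p (1 : A) : ι → A))) := by
      rw [← LinearMap.comp_apply, ← LinearMap.lTensor_comp, ← LinearMap.comp_assoc, rmap_ρmap,
        LinearMap.id_comp]
    rw [h1, map_sum]
    have h2 : ∀ p, (ρmap κ ∘ₗ αmap κ).lTensor B (c p ⊗ₜ[A] (Pi.single p (1 : A) : ι → A))
        = - (LinearMap.snd A M (N →₀ A)).lTensor B (c p ⊗ₜ[A] ((κ p).1 : M × (N →₀ A))) := by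
      intro p
      rw [LinearMap.lTensor_tmul, LinearMap.lTensor_tmul, LinearMap.comp_apply, ρmap_αmap_single,
        TensorProduct.tmul_neg]
      rfl
    simp_rw [h2]
    rw [Finset.sum_neg_distrib, ← map_sum, hw, ← LinearMap.comp_apply, ← LinearMap.lTensor_comp]
    have : LinearMap.snd A M (N →₀ A) ∘ₗ LinearMap.inl A M (N →₀ A) = 0 := by
      ext; simp
    rw [this, LinearMap.lTensor_zero, LinearMap.zero_apply, neg_zero, map_zero]
  · rw [map_sum]
    have h2 : ∀ p, (gmap κ).lTensor B (c p ⊗ₜ[A] (Pi.single p (1 : A) : ι → A))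
        = (LinearMap.fst A M (N →₀ A)).lTensor B (c p ⊗ₜ[A] ((κ p).1 : M × (N →₀ A))) := by
      intro p
      rw [LinearMap.lTensor_tmul, LinearMap.lTensor_tmul]
      unfold gmap
      rw [Fintype.linearCombination_apply_single, one_smul]
      rfl
    simp_rw [h2]
    rw [← map_sum, hw, ← LinearMap.comp_apply, ← LinearMap.lTensor_comp]
    have : LinearMap.fst A M (N →₀ A) ∘ₗ LinearMap.inl A M (N →₀ A) = LinearMap.id := by
      ext; simp
    rw [this, LinearMap.lTensor_id, LinearMap.id_apply]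

end Fam

/-- Finite free approximation of an element of `ker (B ⊗ M → B ⊗ N)`. -/
theorem exists_finite_free_lift (B : Type u) [CommRing B] [Algebra A B] (y : B ⊗[A] M)
    (hy : φ.lTensor B y = 0) :
    ∃ (ι ι' : Type (u+1)) (_ : Fintype ι) (_ : Fintype ι') (α : (ι → A) →ₗ[A] (ι' → A))
      (g : (ι → A) →ₗ[A] M) (g' : (ι' → A) →ₗ[A] N) (ζ : B ⊗[A] (ι → A)),
      φ ∘ₗ g = g' ∘ₗ α ∧ α.lTensor B ζ = 0 ∧ g.lTensor B ζ = y := by
  classical
  obtain ⟨w, hw⟩ := exists_ker_lift φ B y hy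
  obtain ⟨S, hS⟩ := TensorProduct.exists_finset w
  have hw' : ∑ p : ↥S, p.1.1 ⊗ₜ[A] ((p.1.2).1 : M × (N →₀ A))
      = (LinearMap.inl A M (N →₀ A)).lTensor B y := by
    rw [← hw, hS, map_sum, ← Finset.sum_coe_sort S]
    rfl
  obtain ⟨h1, h2, h3⟩ := fam_conclusion (κ := fun p : ↥S => p.1.2) B (fun p => p.1.1) y hw'
  exact ⟨↥S, ↥(supp (fun p : ↥S => p.1.2)), inferInstance, inferInstance, _, _, _, _, h1, h2, h3⟩

end Lift

/-- every element of an adequate functor is hit from a linearly adequate functor. -/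
theorem exists_linAdequate_through {F : Adeq.MVF A} {M N : ModuleCat.{u+1} A} {φ : M ⟶ N}
    {i : F ⟶ (Adeq.underline A).obj M} (hi : IsKer i ((Adeq.underline A).map φ))
    (B : Adeq.Alg A) (ξ : F.obj (Adeq.pt B)) :
    ∃ (L : Adeq.MVF A) (_ : Adeq.linAdequate A L) (ψ : L ⟶ F) (ζ : L.obj (Adeq.pt B)),
      ψ.app (Adeq.pt B) ζ = ξ := by
  have hy : φ.hom.lTensor B (toT M B (i.app (Adeq.pt B) ξ)) = 0 := by
    rw [← toT_map_app, hi.apply, map_zero]
  obtain ⟨ι, ι', _, _, α, g, g', ζ, h1, h2, h3⟩ := exists_finite_free_lift φ.hom B _ hy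
  let P : ModuleCat.{u+1} A := ModuleCat.of A (ι → A)
  let P' : ModuleCat.{u+1} A := ModuleCat.of A (ι' → A)
  let α' : P ⟶ P' := ModuleCat.ofHom α
  let gg : P ⟶ M := ModuleCat.ofHom g
  let gg' : P' ⟶ N := ModuleCat.ofHom g'
  have hcomm : gg ≫ φ = α' ≫ gg' := by
    apply ModuleCat.hom_ext
    exact h1
  have hw : (kernel.ι ((Adeq.underline A).map α') ≫ (Adeq.underline A).map gg) ≫
      (Adeq.underline A).map φ = 0 := by
    rw [Category.assoc, ← Functor.map_comp, hcomm, Functor.map_comp, ← Category.assoc,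
      kernel.condition, zero_comp]
  obtain ⟨ψ, hψ⟩ := hi.exists_lift _ hw
  obtain ⟨ζ', hζ'⟩ := kernel_ι_exists ((Adeq.underline A).map α') (Adeq.pt B) ((toT P B).symm ζ) (by
    apply (toT P' B).injective
    rw [toT_map_app, LinearEquiv.apply_symm_apply, map_zero]
    exact h2)
  refine ⟨kernel ((Adeq.underline A).map α'), ⟨P, P', α', ?_, ?_, ?_, ?_, ⟨Iso.refl _⟩⟩, ψ, ζ', ?_⟩
  · change Module.Finite A (ι → A); infer_instance
  · change Module.Free A (ι → A); infer_instance
  · change Module.Finite A (ι' → A); infer_instance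
  · change Module.Free A (ι' → A); infer_instance
  · apply hi.inj
    rw [← comp_app_apply, hψ, comp_app_apply, hζ']
    apply (toT M B).injective
    rw [toT_map_app, LinearEquiv.apply_symm_apply]
    exact h3

instance hasCoproducts_MVF (ι : Type (u+1)) : HasColimitsOfShape (Discrete ι) (Adeq.MVF A) :=
  PresheafOfModules.hasColimitsOfShape.{u+1} (R := Adeq.ringOf A) (J := Discrete ι)

/-- Stacks 46.3.4 -/
theorem exists_epi_cofan (F : Adeq.MVF A) (hF : Adeq.adequate A F) :
    ∃ (ι : Type (u + 1)) (L : ι → Adeq.MVF A), (∀ i, Adeq.linAdequate A (L i)) ∧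
      ∃ (c : Cofan L) (_ : IsColimit c) (π : c.pt ⟶ F), Epi π := by
  obtain ⟨M, N, φ, i, hi⟩ := (adequate_iff F).1 hF
  choose L hL ψ ζ hζ using fun (p : Σ B : Adeq.Alg A, F.obj (Adeq.pt B)) =>
    exists_linAdequate_through hi p.1 p.2
  refine ⟨_, L, hL, Cofan.mk (∐ L) (Sigma.ι L), coproductIsCoproduct L, Sigma.desc ψ, ?_⟩
  apply PresheafOfModules.epi_of_surjective
  intro X ξ
  obtain ⟨⟨B⟩⟩ := X
  refine ⟨(Sigma.ι L ⟨B, ξ⟩).app _ (ζ ⟨B, ξ⟩), ?_⟩
  rw [← comp_app_apply, Sigma.ι_desc]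
  exact hζ ⟨B, ξ⟩

end Groth.Agent.Lib.Helper86.AdeqGen
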