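import Mathlib
import Groth.Prelude.Def_Adeq
import Groth.Agent.Lib.Helper86.AdeqExt
import Groth.Agent.Lib.Helper86.AdeqGen

open CategoryTheory Limits TensorProduct Opposite DirectSum

/-!
# Closure properties of adequate functors (Stacks 46.3.6 - 46.3.9)
-/

namespace Groth.Agent.Lib.Helper86.AdeqClosure
universe u
variable {A : Type u} [CommRing A]

open Groth.Agent.Lib.Helper86.AdeqBasic Groth.Agent.Lib.Helper86.AdeqFO
open Groth.Agent.Lib.Helper86.AdeqExt Groth.Agent.Lib.Helper86.AdeqGen

section DS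
variable {ι : Type (u+1)} [DecidableEq ι] (P : ι → Type (u+1)) [∀ i, AddCommGroup (P i)]
  [∀ i, Module A (P i)]

variable (A) in
/-- truncation to a finite set of indices. -/
noncomputable def trunc (s : Finset ι) : (⨁ i, P i) →ₗ[A] (⨁ i, P i) :=
  ∑ i ∈ s, (DirectSum.lof A ι P i) ∘ₗ (DirectSum.component A ι P i)

theorem trunc_eq_self (x : ⨁ i, P i) : ∃ s : Finset ι, ∀ s', s ⊆ s' → trunc A P s' x = x := by
  classical
  induction x using DirectSum.induction_on with
  | zero => exact ⟨∅, fun s' _ => map_zero _⟩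
  | of i x =>
    refine ⟨{i}, fun s' hs' => ?_⟩
    unfold trunc
    rw [LinearMap.sum_apply, Finset.sum_eq_single i]
    · rw [LinearMap.comp_apply]
      change DirectSum.lof A ι P i (DirectSum.component A ι P i (DirectSum.lof A ι P i x)) = DirectSum.lof A ι P i x
      rw [DirectSum.component.lof_self]
    · intro k _ hk
      rw [LinearMap.comp_apply]
      change DirectSum.lof A ι P k (DirectSum.component A ι P k (DirectSum.lof A ι P i x)) = 0
      rw [DirectSum.component.of, dif_neg (Ne.symm hk), map_zero]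
    · intro h
      exact absurd (hs' (Finset.mem_singleton_self i)) h
  | add x y hx hy =>
    obtain ⟨s1, h1⟩ := hx
    obtain ⟨s2, h2⟩ := hy
    refine ⟨s1 ∪ s2, fun s' hs' => ?_⟩
    rw [map_add, h1 s' (Finset.union_subset_left hs'), h2 s' (Finset.union_subset_right hs')]

theorem trunc_lTensor_eq_self (B : Type u) [CommRing B] [Algebra A B] (p : B ⊗[A] (⨁ i, P i)) :
    ∃ s : Finset ι, ∀ s', s ⊆ s' → (trunc A P s').lTensor B p = p := by
  induction p using TensorProduct.induction_on with
  | zero => exact ⟨∅, fun s' _ => map_zero _⟩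
  | tmul b x =>
    obtain ⟨s, hs⟩ := trunc_eq_self (A := A) P x
    exact ⟨s, fun s' hs' => by rw [LinearMap.lTensor_tmul, hs s' hs']⟩
  | add x y hx hy =>
    obtain ⟨s1, h1⟩ := hx
    obtain ⟨s2, h2⟩ := hy
    refine ⟨s1 ∪ s2, fun s' hs' => ?_⟩
    rw [map_add, h1 s' (Finset.union_subset_left hs'), h2 s' (Finset.union_subset_right hs')]

theorem exists_decomp_ds (B : Type u) [CommRing B] [Algebra A B] (p : B ⊗[A] (⨁ i, P i)) :
    ∃ s : Finset ι, p = ∑ i ∈ s, (DirectSum.lof A ι P i).lTensor B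
      ((DirectSum.component A ι P i).lTensor B p) := by
  obtain ⟨s, hs⟩ := trunc_lTensor_eq_self P B p
  refine ⟨s, ?_⟩
  conv_lhs => rw [← hs s (Finset.Subset.refl s)]
  unfold trunc
  have : (∑ i ∈ s, DirectSum.lof A ι P i ∘ₗ DirectSum.component A ι P i).lTensor B
      = ∑ i ∈ s, (DirectSum.lof A ι P i ∘ₗ DirectSum.component A ι P i).lTensor B :=
    map_sum (LinearMap.lTensorHom B) _ s
  rw [this, LinearMap.sum_apply]
  refine Finset.sum_congr rfl (fun i _ => ?_)
  rw [LinearMap.lTensor_comp, LinearMap.comp_apply]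

end DS

section PO
variable {P P' M : Type (u+1)} [AddCommGroup P] [Module A P] [AddCommGroup P'] [Module A P']
  [AddCommGroup M] [Module A M] (α : P →ₗ[A] P') (g : P →ₗ[A] M)

/-- `p ↦ (α p, - g p)` -/
def θ : P →ₗ[A] P' × M := α.prod (-g)

/-- the pushout module. -/
abbrev PO : Type (u+1) := (P' × M) ⧸ LinearMap.range (θ α g)

def jM : M →ₗ[A] PO α g := (LinearMap.range (θ α g)).mkQ ∘ₗ LinearMap.inr A P' M
def jP' : P' →ₗ[A] PO α g := (LinearMap.range (θ α g)).mkQ ∘ₗ LinearMap.inl A P' M

theorem jM_g : jM α g ∘ₗ g = jP' α g ∘ₗ α := by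
  ext p
  simp only [jM, jP', LinearMap.comp_apply, LinearMap.inr_apply, LinearMap.inl_apply,
    Submodule.mkQ_apply]
  symm
  rw [Submodule.Quotient.eq]
  refine ⟨p, ?_⟩
  simp [θ]

theorem exact_θ_lTensor (B : Type u) [CommRing B] [Algebra A B] :
    Function.Exact ((θ α g).lTensor B) ((LinearMap.range (θ α g)).mkQ.lTensor B) := by
  have h1 : Function.Exact (θ α g) (LinearMap.range (θ α g)).mkQ := LinearMap.exact_map_mkQ_range _
  exact lTensor_exact B h1 (Submodule.mkQ_surjective _)

theorem exists_of_jM_zero (B : Type u) [CommRing B] [Algebra A B] (y : B ⊗[A] M)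
    (hy : (jM α g).lTensor B y = 0) :
    ∃ p : B ⊗[A] P, α.lTensor B p = 0 ∧ g.lTensor B p = -y := by
  have h0 : (LinearMap.range (θ α g)).mkQ.lTensor B ((LinearMap.inr A P' M).lTensor B y) = 0 := by
    rw [← LinearMap.comp_apply, ← LinearMap.lTensor_comp]
    exact hy
  obtain ⟨p, hp⟩ := (exact_θ_lTensor α g B _).1 h0
  refine ⟨p, ?_, ?_⟩
  · have h1 := congrArg ((LinearMap.fst A P' M).lTensor B) hp
    rw [← LinearMap.comp_apply, ← LinearMap.comp_apply, ← LinearMap.lTensor_comp,
      ← LinearMap.lTensor_comp] at h1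
    have e1 : LinearMap.fst A P' M ∘ₗ θ α g = α := by ext; simp [θ]
    have e2 : LinearMap.fst A P' M ∘ₗ LinearMap.inr A P' M = 0 := by ext; simp
    rw [e1, e2, LinearMap.lTensor_zero, LinearMap.zero_apply] at h1
    exact h1
  · have h1 := congrArg ((LinearMap.snd A P' M).lTensor B) hp
    rw [← LinearMap.comp_apply, ← LinearMap.comp_apply, ← LinearMap.lTensor_comp,
      ← LinearMap.lTensor_comp] at h1
    have e1 : LinearMap.snd A P' M ∘ₗ θ α g = -g := by ext; simp [θ]
    have e2 : LinearMap.snd A P' M ∘ₗ LinearMap.inr A P' M = LinearMap.id := by ext; simp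
    rw [e1, e2, LinearMap.lTensor_id, LinearMap.id_apply, LinearMap.lTensor_neg,
      LinearMap.neg_apply] at h1
    rw [← h1, neg_neg]

end PO

theorem sum_app_apply {F G : Adeq.MVF A} {κ : Type*} (s : Finset κ) (f : κ → (F ⟶ G)) (X)
    (x : F.obj X) : (∑ k ∈ s, f k).app X x = ∑ k ∈ s, (f k).app X x := by
  classical
  induction s using Finset.induction_on with
  | empty => simp
  | insert a s ha ih =>
    rw [Finset.sum_insert ha, Finset.sum_insert ha, PresheafOfModules.add_app]
    change (f a).app X x + (∑ k ∈ s, f k).app X x = _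
    rw [ih]

/-- Key lemma (Stacks 46.3.6): the image of a map from a quotient of a coproduct of linearly
adequate functors to `underline M` is the kernel of `underline j` for some `j : M ⟶ N`. -/
theorem exists_range_eq_ker {ι : Type (u+1)} {L : ι → Adeq.MVF A}
    (hL : ∀ i, Adeq.linAdequate A (L i)) {c : Cofan L} (hc : IsColimit c) {F : Adeq.MVF A}
    (π : c.pt ⟶ F) [Epi π] {M : ModuleCat.{u+1} A} (ψ : F ⟶ (Adeq.underline A).obj M) :
    ∃ (N : ModuleCat.{u+1} A) (j : M ⟶ N), ψ ≫ (Adeq.underline A).map j = 0 ∧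
      ∀ (B : Adeq.Alg A) (y : ((Adeq.underline A).obj M).obj (Adeq.pt B)),
        ((Adeq.underline A).map j).app (Adeq.pt B) y = 0 → ∃ x, ψ.app (Adeq.pt B) x = y := by
  classical
  choose P P' α ιL hfin hfree hfin' hfree' hker using fun i => (linAdequate_iff (L i)).1 (hL i)
  have hext : ∀ i, ∃ g : P i ⟶ M, ιL i ≫ (Adeq.underline A).map g = c.inj i ≫ π ≫ ψ := fun i => by
    have := hfin i; have := hfree i; have := hfin' i; have := hfree' i
    exact exists_extension (α i) (hker i) M _
  choose g hg using hext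
  -- direct sums
  let αs : (⨁ i, (P i : Type (u+1))) →ₗ[A] (⨁ i, (P' i : Type (u+1))) :=
    DirectSum.toModule A ι _ (fun i => (DirectSum.lof A ι (fun i => (P' i : Type (u+1))) i) ∘ₗ (α i).hom)
  let gs : (⨁ i, (P i : Type (u+1))) →ₗ[A] M := DirectSum.toModule A ι _ (fun i => (g i).hom)
  have hαs : ∀ i, αs ∘ₗ DirectSum.lof A ι (fun i => (P i : Type (u+1))) i
      = (DirectSum.lof A ι (fun i => (P' i : Type (u+1))) i) ∘ₗ (α i).hom := fun i => by
    ext x; simp [αs]
  have hgs : ∀ i, gs ∘ₗ DirectSum.lof A ι (fun i => (P i : Type (u+1))) i = (g i).hom := fun i => by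
    ext x; simp [gs]
  have hcomp : ∀ i, DirectSum.component A ι (fun i => (P' i : Type (u+1))) i ∘ₗ αs
      = (α i).hom ∘ₗ DirectSum.component A ι (fun i => (P i : Type (u+1))) i := fun i => by
    apply DirectSum.linearMap_ext
    intro k
    ext x
    simp only [LinearMap.comp_apply]
    rw [← LinearMap.comp_apply αs, hαs k]
    simp only [LinearMap.comp_apply, DirectSum.component.of]
    by_cases hki : k = i
    · subst hki; simp
    · rw [dif_neg hki, dif_neg hki, map_zero]
  refine ⟨ModuleCat.of A (PO αs gs), ModuleCat.ofHom (jM αs gs), ?_, ?_⟩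
  · rw [← cancel_epi π]
    apply Cofan.IsColimit.hom_ext hc
    intro i
    rw [comp_zero, comp_zero, ← Category.assoc, ← Category.assoc, Category.assoc (c.inj i), ← hg i,
      Category.assoc, ← Functor.map_comp]
    have h1 : g i ≫ ModuleCat.ofHom (jM αs gs)
        = α i ≫ ModuleCat.ofHom (jP' αs gs ∘ₗ DirectSum.lof A ι (fun i => (P' i : Type (u+1))) i) := by
      apply ModuleCat.hom_ext
      change jM αs gs ∘ₗ (g i).hom = (jP' αs gs ∘ₗ DirectSum.lof A ι (fun i => (P' i : Type (u+1))) i) ∘ₗ (α i).hom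
      rw [← hgs i, ← LinearMap.comp_assoc, jM_g, LinearMap.comp_assoc, hαs i, LinearMap.comp_assoc]
    rw [h1, Functor.map_comp, ← Category.assoc, (hker i).w, zero_comp]
  · intro B y hy
    have hy' : (jM αs gs).lTensor B (toT M B y) = 0 := by
      have := congrArg (toT (ModuleCat.of A (PO αs gs)) B) hy
      rw [toT_map_app, map_zero] at this
      exact this
    obtain ⟨p, hp1, hp2⟩ := exists_of_jM_zero αs gs B _ hy'
    obtain ⟨s, hs⟩ := exists_decomp_ds (fun i => (P i : Type (u+1))) B p
    -- components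
    have hcomp0 : ∀ i, (α i).hom.lTensor B
        ((DirectSum.component A ι (fun i => (P i : Type (u+1))) i).lTensor B p) = 0 := fun i => by
      rw [← LinearMap.comp_apply, ← LinearMap.lTensor_comp, ← hcomp i, LinearMap.lTensor_comp,
        LinearMap.comp_apply, hp1, map_zero]
    have hz : ∀ i, ∃ z : (L i).obj (Adeq.pt B), toT (P i) B ((ιL i).app (Adeq.pt B) z)
        = (DirectSum.component A ι (fun i => (P i : Type (u+1))) i).lTensor B p := fun i => by
      obtain ⟨z, hz⟩ := (hker i).ex (Adeq.pt B) ((toT (P i) B).symm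
        ((DirectSum.component A ι (fun i => (P i : Type (u+1))) i).lTensor B p)) (by
          apply (toT (P' i) B).injective
          rw [toT_map_app, LinearEquiv.apply_symm_apply, map_zero]
          exact hcomp0 i)
      exact ⟨z, by rw [hz, LinearEquiv.apply_symm_apply]⟩
    choose z hz using hz
    refine ⟨π.app (Adeq.pt B) (∑ i ∈ s, (c.inj i).app (Adeq.pt B) (-(z i))), ?_⟩
    apply (toT M B).injective
    rw [map_sum, map_sum, map_sum]
    have h2 : ∀ i, toT M B (ψ.app (Adeq.pt B) (π.app (Adeq.pt B) ((c.inj i).app (Adeq.pt B) (-(z i)))))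
        = - gs.lTensor B ((DirectSum.lof A ι (fun i => (P i : Type (u+1))) i).lTensor B
            ((DirectSum.component A ι (fun i => (P i : Type (u+1))) i).lTensor B p)) := fun i => by
      rw [← comp_app_apply, ← comp_app_apply, ← hg i, comp_app_apply, map_neg, map_neg, map_neg,
        toT_map_app, hz i, ← LinearMap.comp_apply (gs.lTensor B), ← LinearMap.lTensor_comp, hgs i]
    simp_rw [h2]
    rw [Finset.sum_neg_distrib, ← map_sum, ← hs, hp2, neg_neg]

/-- key lemma for adequate `F`. -/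
theorem key {F : Adeq.MVF A} (hF : Adeq.adequate A F) {M : ModuleCat.{u+1} A}
    (ψ : F ⟶ (Adeq.underline A).obj M) :
    ∃ (N : ModuleCat.{u+1} A) (j : M ⟶ N), ψ ≫ (Adeq.underline A).map j = 0 ∧
      ∀ (B : Adeq.Alg A) (y : ((Adeq.underline A).obj M).obj (Adeq.pt B)),
        ((Adeq.underline A).map j).app (Adeq.pt B) y = 0 → ∃ x, ψ.app (Adeq.pt B) x = y := by
  obtain ⟨ι, L, hL, c, hc, π, hπ⟩ := exists_epi_cofan F hF
  exact exists_range_eq_ker hL hc π ψ

/-- right exactness of `underline`, pointwise. -/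
theorem underline_rightExact {M N : ModuleCat.{u+1} A} (j : M ⟶ N) (B : Adeq.Alg A)
    (y' : ((Adeq.underline A).obj N).obj (Adeq.pt B))
    (hy' : ((Adeq.underline A).map (cokernel.π j)).app (Adeq.pt B) y' = 0) :
    ∃ y, ((Adeq.underline A).map j).app (Adeq.pt B) y = y' := by
  have hex : Function.Exact j.hom (cokernel.π j).hom := by
    have := (ShortComplex.exact_of_g_is_cokernel (ShortComplex.mk j (cokernel.π j) (cokernel.condition j))
      (cokernelIsCokernel j))
    rw [ShortComplex.ShortExact.moduleCat_exact_iff_function_exact] at this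
    exact this
  have hsurj : Function.Surjective (cokernel.π j).hom := by
    rw [← ModuleCat.epi_iff_surjective]
    infer_instance
  have h2 := lTensor_exact B hex hsurj
  have h3 : (cokernel.π j).hom.lTensor B (toT N B y') = 0 := by
    rw [← toT_map_app, hy', map_zero]
  obtain ⟨y, hy⟩ := (h2 _).1 h3
  refine ⟨(toT M B).symm y, ?_⟩
  apply (toT N B).injective
  rw [toT_map_app, LinearEquiv.apply_symm_apply, hy]

/-- Stacks 46.3.6 -/
theorem adequate_cokernel_to_underline {F : Adeq.MVF A} (hF : Adeq.adequate A F)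
    {M : ModuleCat.{u+1} A} (ψ : F ⟶ (Adeq.underline A).obj M) :
    Adeq.adequate A (cokernel ψ) := by
  obtain ⟨N, j, hw, hj⟩ := key hF ψ
  rw [adequate_iff]
  refine ⟨N, cokernel j, cokernel.π j, cokernel.desc ψ _ hw, ?_, ?_, ?_⟩
  · rw [← cancel_epi (cokernel.π ψ), ← Category.assoc, cokernel.π_desc, ← Functor.map_comp,
      cokernel.condition, Functor.map_zero, comp_zero]
  · intro X
    obtain ⟨⟨B⟩⟩ := X
    rw [injective_iff_map_eq_zero]
    intro x hx
    obtain ⟨y, rfl⟩ := cokernel_π_surjective ψ _ x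
    rw [← comp_app_apply, cokernel.π_desc] at hx
    obtain ⟨x', rfl⟩ := hj B y hx
    exact cokernel_π_apply ψ _ x'
  · intro X y' hy'
    obtain ⟨⟨B⟩⟩ := X
    obtain ⟨y, rfl⟩ := underline_rightExact j B y' hy'
    refine ⟨(cokernel.π ψ).app _ y, ?_⟩
    rw [← comp_app_apply, cokernel.π_desc]

/-- A mono from an adequate functor to `underline M` is a kernel of some `underline j`. -/
theorem isKer_of_mono {F : Adeq.MVF A} (hF : Adeq.adequate A F) {M : ModuleCat.{u+1} A}
    (ψ : F ⟶ (Adeq.underline A).obj M) (hψ : ∀ X, Function.Injective (ψ.app X)) :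
    ∃ (N : ModuleCat.{u+1} A) (j : M ⟶ N), IsKer ψ ((Adeq.underline A).map j) := by
  obtain ⟨N, j, hw, hj⟩ := key hF ψ
  refine ⟨N, j, hw, hψ, ?_⟩
  intro X y hy
  obtain ⟨⟨B⟩⟩ := X
  exact hj B y hy

/-- Stacks 46.3.7 -/
theorem adequate_cokernel {F G : Adeq.MVF A} (φ : F ⟶ G) (hF : Adeq.adequate A F)
    (hG : Adeq.adequate A G) : Adeq.adequate A (cokernel φ) := by
  obtain ⟨M', N', ρ, iG, hiG⟩ := (adequate_iff G).1 hG
  obtain ⟨N, j, hw, hj⟩ := key hF (φ ≫ iG)
  obtain ⟨N₂, j₂, hw₂, hj₂⟩ := key hG (iG ≫ (Adeq.underline A).map j)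
  rw [adequate_iff]
  have hφ : φ ≫ iG ≫ (Adeq.underline A).map j = 0 := by rw [← Category.assoc, hw]
  refine ⟨N, N₂, j₂, cokernel.desc φ _ hφ, ?_, ?_, ?_⟩
  · rw [← cancel_epi (cokernel.π φ), ← Category.assoc, cokernel.π_desc, hw₂, comp_zero]
  · intro X
    obtain ⟨⟨B⟩⟩ := X
    rw [injective_iff_map_eq_zero]
    intro x hx
    obtain ⟨y, rfl⟩ := cokernel_π_surjective φ _ x
    rw [← comp_app_apply, cokernel.π_desc, comp_app_apply] at hx
    obtain ⟨x', hx'⟩ := hj B _ hx
    rw [comp_app_apply] at hx'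
    have := hiG.inj _ hx'
    rw [← this]
    exact cokernel_π_apply φ _ x'
  · intro X y' hy'
    obtain ⟨⟨B⟩⟩ := X
    obtain ⟨y, rfl⟩ := hj₂ B y' hy'
    refine ⟨(cokernel.π φ).app _ y, ?_⟩
    rw [← comp_app_apply, cokernel.π_desc]

theorem prod_ext_lTensor {K M' : Type (u+1)} [AddCommGroup K] [Module A K] [AddCommGroup M']
    [Module A M'] (B : Type u) [CommRing B] [Algebra A B] (z : B ⊗[A] (K × M'))
    (h1 : (LinearMap.fst A K M').lTensor B z = 0) (h2 : (LinearMap.snd A K M').lTensor B z = 0) :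
    z = 0 := by
  have hid : (LinearMap.id : (K × M') →ₗ[A] (K × M')) =
      LinearMap.inl A K M' ∘ₗ LinearMap.fst A K M' + LinearMap.inr A K M' ∘ₗ LinearMap.snd A K M' := by
    ext x <;> simp
  have h3 : z = (LinearMap.lTensor B (LinearMap.id : (K × M') →ₗ[A] (K × M'))) z := by
    rw [LinearMap.lTensor_id]; rfl
  rw [hid, LinearMap.lTensor_add, LinearMap.add_apply, LinearMap.lTensor_comp,
    LinearMap.lTensor_comp, LinearMap.comp_apply, LinearMap.comp_apply, h1, h2, map_zero, map_zero,
    add_zero] at h3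
  exact h3

/-- Stacks 46.3.8 -/
theorem adequate_kernel {F G : Adeq.MVF A} (φ : F ⟶ G) (hF : Adeq.adequate A F)
    (hG : Adeq.adequate A G) : Adeq.adequate A (kernel φ) := by
  obtain ⟨M, N₀, ρ₀, iF, hiF⟩ := (adequate_iff F).1 hF
  obtain ⟨M', N', ρ, iG, hiG⟩ := (adequate_iff G).1 hG
  let M'' : ModuleCat.{u+1} A := ModuleCat.of A (M × M')
  let inl' : M ⟶ M'' := ModuleCat.ofHom (LinearMap.inl A M M')
  let inr' : M' ⟶ M'' := ModuleCat.ofHom (LinearMap.inr A M M')
  let fst' : M'' ⟶ M := ModuleCat.ofHom (LinearMap.fst A M M')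
  let snd' : M'' ⟶ M' := ModuleCat.ofHom (LinearMap.snd A M M')
  let k : F ⟶ (Adeq.underline A).obj M'' :=
    iF ≫ (Adeq.underline A).map inl' + φ ≫ iG ≫ (Adeq.underline A).map inr'
  have hk1 : k ≫ (Adeq.underline A).map fst' = iF := by
    rw [Preadditive.add_comp, Category.assoc, Category.assoc, Category.assoc,
      ← Functor.map_comp, ← Functor.map_comp]
    have e1 : inl' ≫ fst' = 𝟙 M := by
      apply ModuleCat.hom_ext; exact LinearMap.fst_comp_inl A M M'
    have e2 : inr' ≫ fst' = 0 := by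
      apply ModuleCat.hom_ext; exact LinearMap.fst_comp_inr A M M'
    rw [e1, e2, CategoryTheory.Functor.map_id, Functor.map_zero, Category.comp_id, comp_zero, comp_zero, add_zero]
  have hk2 : k ≫ (Adeq.underline A).map snd' = φ ≫ iG := by
    rw [Preadditive.add_comp, Category.assoc, Category.assoc, Category.assoc,
      ← Functor.map_comp, ← Functor.map_comp]
    have e1 : inl' ≫ snd' = 0 := by
      apply ModuleCat.hom_ext; exact LinearMap.snd_comp_inl A M M'
    have e2 : inr' ≫ snd' = 𝟙 M' := by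
      apply ModuleCat.hom_ext; exact LinearMap.snd_comp_inr A M M'
    rw [e1, e2, CategoryTheory.Functor.map_id, Functor.map_zero, Category.comp_id, comp_zero, zero_add]
  have hkinj : ∀ X, Function.Injective (k.app X) := by
    intro X x y hxy
    apply hiF.inj X
    rw [← hk1, comp_app_apply, comp_app_apply, hxy]
  obtain ⟨K, j, hkj⟩ := isKer_of_mono hF k hkinj
  let j' : M'' ⟶ ModuleCat.of A (K × M') := ModuleCat.ofHom (j.hom.prod (LinearMap.snd A M M'))
  have hj'1 : j' ≫ ModuleCat.ofHom (LinearMap.fst A K M') = j := by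
    apply ModuleCat.hom_ext; exact LinearMap.fst_prod _ _
  have hj'2 : j' ≫ ModuleCat.ofHom (LinearMap.snd A K M') = snd' := by
    apply ModuleCat.hom_ext; exact LinearMap.snd_prod _ _
  have hzero : ∀ (B : Adeq.Alg A) (y : ((Adeq.underline A).obj M'').obj (Adeq.pt B)),
      ((Adeq.underline A).map j').app (Adeq.pt B) y = 0 ↔
        (((Adeq.underline A).map j).app (Adeq.pt B) y = 0 ∧
          ((Adeq.underline A).map snd').app (Adeq.pt B) y = 0) := by
    intro B y
    constructor
    · intro h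
      constructor
      · rw [← hj'1, Functor.map_comp, comp_app_apply, h, map_zero]
      · rw [← hj'2, Functor.map_comp, comp_app_apply, h, map_zero]
    · rintro ⟨h1, h2⟩
      apply (toT (ModuleCat.of A (K × M')) B).injective
      rw [map_zero]
      apply prod_ext_lTensor
      · have := congrArg (toT K B) h1
        rw [← hj'1, Functor.map_comp, comp_app_apply, toT_map_app, map_zero] at this
        exact this
      · have := congrArg (toT M' B) h2
        rw [← hj'2, Functor.map_comp, comp_app_apply, toT_map_app, map_zero] at this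
        exact this
  rw [adequate_iff]
  refine ⟨M'', ModuleCat.of A (K × M'), j', kernel.ι φ ≫ k, ?_, ?_, ?_⟩
  · apply PresheafOfModules.hom_ext
    intro X
    obtain ⟨⟨B⟩⟩ := X
    apply ModuleCat.hom_ext
    apply LinearMap.ext
    intro x
    change ((Adeq.underline A).map j').app (Adeq.pt B) ((kernel.ι φ ≫ k).app (Adeq.pt B) x) = 0
    rw [hzero]
    constructor
    · rw [comp_app_apply, hkj.apply]
    · rw [← comp_app_apply, Category.assoc, hk2, ← Category.assoc, kernel.condition, zero_comp]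
      rfl
  · intro X x y hxy
    apply kernel_ι_injective φ X
    apply hkinj X
    exact hxy
  · intro X y hy
    obtain ⟨⟨B⟩⟩ := X
    rw [hzero] at hy
    obtain ⟨x, rfl⟩ := hkj.ex _ y hy.1
    have h2 : φ.app (Adeq.pt B) x = 0 := by
      apply hiG.inj
      rw [← comp_app_apply, ← hk2, comp_app_apply, hy.2, map_zero]
    obtain ⟨x', rfl⟩ := kernel_ι_exists φ _ x h2
    exact ⟨x', rfl⟩

end Groth.Agent.Lib.Helper86.AdeqClosure
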