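import Mathlib
import Groth.Prelude.Def_Adeq
import Groth.Agent.Lib.Helper86.AdeqClosure

open CategoryTheory Limits TensorProduct Opposite

/-!
# Change of rings for adequate functors: `restr` and `push` preserve adequacy (Stacks 46.3.13, 46.3.14)
-/

namespace Groth.Agent.Lib.Helper86.AdeqChange
universe u
variable {A : Type u} [CommRing A]

open Groth.Agent.Lib.Helper86.AdeqBasic Groth.Agent.Lib.Helper86.AdeqFO
open Groth.Agent.Lib.Helper86.AdeqClosure

theorem isKer_comp_bij {K F G F' G' : Adeq.MVF A} {i : K ⟶ F} {φ : F ⟶ G} (h : IsKer i φ)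
    (ρ : F ⟶ F') (ρ' : G ⟶ G') (φ' : F' ⟶ G') (hρ : ∀ X, Function.Bijective (ρ.app X))
    (hρ' : ∀ X, Function.Injective (ρ'.app X)) (hcomm : ρ ≫ φ' = φ ≫ ρ') :
    IsKer (i ≫ ρ) φ' where
  w := by rw [Category.assoc, hcomm, ← Category.assoc, h.w, zero_comp]
  inj X := (hρ X).1.comp (h.inj X)
  ex X y hy := by
    obtain ⟨z, rfl⟩ := (hρ X).2 y
    have h1 : ρ'.app X (φ.app X z) = 0 := by
      rw [← comp_app_apply, ← hcomm, comp_app_apply, hy]
    have h2 : φ.app X z = 0 := hρ' X (by rw [h1, map_zero])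
    obtain ⟨x, rfl⟩ := h.ex X z h2
    exact ⟨x, rfl⟩

section Restr
variable (A) (A' : Type u) [CommRing A'] [Algebra A A']

/-- restriction of scalars on algebras. -/
abbrev rB (B' : Adeq.Alg A') : Adeq.Alg A := (Adeq.Alg.restr A A').obj B'

variable {A A'}

/-- identity. -/
noncomputable def toR (F : Adeq.MVF A) (B' : Adeq.Alg A') :
    ((Adeq.restr A A').obj F).obj (Adeq.pt B') ≃+ F.obj (Adeq.pt (rB A A' B')) :=
  AddEquiv.refl _

theorem toR_smul (F : Adeq.MVF A) (B' : Adeq.Alg A') (b : B')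
    (x : ((Adeq.restr A A').obj F).obj (Adeq.pt B')) :
    toR F B' (b • x) = (show (rB A A' B') from b) • toR F B' x := rfl

theorem toR_mp (F : Adeq.MVF A) {B' B'' : Adeq.Alg A'} (g : B' ⟶ B'')
    (x : ((Adeq.restr A A').obj F).obj (Adeq.pt B')) :
    toR F B'' (mp ((Adeq.restr A A').obj F) g x) = mp F ((Adeq.Alg.restr A A').map g) (toR F B' x) := rfl

theorem toR_app {F G : Adeq.MVF A} (φ : F ⟶ G) (B' : Adeq.Alg A')
    (x : ((Adeq.restr A A').obj F).obj (Adeq.pt B')) :
    toR G B' (((Adeq.restr A A').map φ).app (Adeq.pt B') x) = φ.app (Adeq.pt (rB A A' B')) (toR F B' x) := rfl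

theorem isKer_restr {K F G : Adeq.MVF A} {i : K ⟶ F} {φ : F ⟶ G} (h : IsKer i φ) :
    IsKer ((Adeq.restr A A').map i) ((Adeq.restr A A').map φ) where
  w := by
    rw [← Functor.map_comp, h.w]
    rfl
  inj X := by
    obtain ⟨⟨B'⟩⟩ := X
    exact h.inj (Adeq.pt (rB A A' B'))
  ex X y hy := by
    obtain ⟨⟨B'⟩⟩ := X
    exact h.ex (Adeq.pt (rB A A' B')) y hy

/-- the `A`-algebra structure on an `A'`-algebra. -/
@[reducible] def algR (B' : Adeq.Alg A') : Algebra A B' :=
  ((algebraMap A' B').comp (algebraMap A A')).toAlgebra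

theorem isScalarTower_algR (B' : Adeq.Alg A') :
    letI := algR (A := A) B'
    IsScalarTower A A' B' :=
  letI := algR (A := A) B'
  IsScalarTower.of_algebraMap_eq (fun _ => rfl)

/-- the base changed module. -/
abbrev bcMod (A' : Type u) [CommRing A'] [Algebra A A'] (M : ModuleCat.{u+1} A) : ModuleCat.{u+1} A' :=
  ModuleCat.of A' (A' ⊗[A] M)

/-- `B' ⊗_A M ≃ B' ⊗_{A'} (A' ⊗_A M)`. -/
noncomputable def cbc (M : ModuleCat.{u+1} A) (B' : Adeq.Alg A') :
    (rB A A' B') ⊗[A] M ≃ₗ[B'] B' ⊗[A'] (A' ⊗[A] M) :=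
  letI := algR (A := A) B'
  haveI := isScalarTower_algR (A := A) B'
  (TensorProduct.AlgebraTensorModule.cancelBaseChange A A' B' B' M).symm

theorem cbc_tmul (M : ModuleCat.{u+1} A) (B' : Adeq.Alg A') (b : B') (m : M) :
    cbc M B' ((show (rB A A' B') from b) ⊗ₜ[A] m) = b ⊗ₜ[A'] ((1 : A') ⊗ₜ[A] m) := rfl

theorem cbc_nat_B (M : ModuleCat.{u+1} A) {B' B'' : Adeq.Alg A'} (g : B' ⟶ B'')
    (x : (rB A A' B') ⊗[A] M) :
    cbc M B'' ((((Adeq.Alg.restr A A').map g).hom.toLinearMap.rTensor M) x)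
      = (g.hom.toLinearMap.rTensor (A' ⊗[A] M)) (cbc M B' x) := by
  induction x using TensorProduct.induction_on with
  | zero => simp only [map_zero]
  | tmul b m => rfl
  | add x y hx hy => simp only [map_add, hx, hy]

theorem cbc_nat_M {M N : ModuleCat.{u+1} A} (φ : M ⟶ N) (B' : Adeq.Alg A')
    (x : (rB A A' B') ⊗[A] M) :
    cbc N B' ((φ.hom.lTensor (rB A A' B')) x)
      = ((φ.hom.baseChange A').lTensor B') (cbc M B' x) := by
  induction x using TensorProduct.induction_on with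
  | zero => simp only [map_zero]
  | tmul b m => rfl
  | add x y hx hy => simp only [map_add, hx, hy]

/-- the comparison `restr (underline M) ⟶ underline (A' ⊗ M)`, pointwise. -/
noncomputable def ρσ (M : ModuleCat.{u+1} A) (B' : Adeq.Alg A') :
    ((Adeq.restr A A').obj ((Adeq.underline A).obj M)).obj (Adeq.pt B') →ₗ[B']
      ((Adeq.underline A').obj (bcMod A' M)).obj (Adeq.pt B') where
  toFun x := (toT (bcMod A' M) B').symm (cbc M B' (toT M (rB A A' B') (toR _ B' x)))
  map_add' x y := by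
    rw [map_add, map_add, map_add, map_add]
  map_smul' b x := by
    have h1 : toT M (rB A A' B') (toR _ B' (b • x)) = (b : B') • toT M (rB A A' B') (toR _ B' x) := by
      rw [toR_smul]
      exact (toT M (rB A A' B')).map_smul _ _
    rw [h1, (cbc M B').map_smul, (toT (bcMod A' M) B').symm.map_smul]
    rfl

theorem ρσ_bijective (M : ModuleCat.{u+1} A) (B' : Adeq.Alg A') :
    Function.Bijective (ρσ (A' := A') M B') := by
  have : (ρσ (A' := A') M B' : _ → _) = (toT (bcMod A' M) B').symm ∘ (cbc M B') ∘ (toT M (rB A A' B')) ∘ (toR _ B') := rfl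
  rw [this]
  exact (LinearEquiv.bijective _).comp ((LinearEquiv.bijective _).comp
    ((LinearEquiv.bijective _).comp (AddEquiv.bijective _)))

/-- the comparison `restr (underline M) ⟶ underline (A' ⊗ M)`. -/
noncomputable def ρ (A' : Type u) [CommRing A'] [Algebra A A'] (M : ModuleCat.{u+1} A) :
    (Adeq.restr A A').obj ((Adeq.underline A).obj M) ⟶ (Adeq.underline A').obj (bcMod A' M) :=
  mkHom (ρσ M) (by
    intro B' B'' g x
    apply (toT (bcMod A' M) B'').injective
    rw [toT_mp]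
    change cbc M B'' (toT M (rB A A' B'') (toR _ B'' (mp _ g x))) = _
    rw [toR_mp, toT_mp, cbc_nat_B]
    rfl)

theorem ρ_bijective (M : ModuleCat.{u+1} A) (X) : Function.Bijective ((ρ A' M).app X) := by
  obtain ⟨⟨B'⟩⟩ := X
  exact ρσ_bijective M B'

theorem ρ_nat {M N : ModuleCat.{u+1} A} (φ : M ⟶ N) :
    ρ A' M ≫ (Adeq.underline A').map (ModuleCat.ofHom (φ.hom.baseChange A'))
      = (Adeq.restr A A').map ((Adeq.underline A).map φ) ≫ ρ A' N := by
  ext X x
  obtain ⟨⟨B'⟩⟩ := X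
  rw [comp_app_apply, comp_app_apply]
  apply (toT (bcMod A' N) B').injective
  rw [toT_map_app]
  change (LinearMap.lTensor B' (φ.hom.baseChange A')) (cbc M B' (toT M (rB A A' B') (toR _ B' x))) =
    cbc N B' (toT N (rB A A' B') (toR _ B' (((Adeq.restr A A').map ((Adeq.underline A).map φ)).app _ x)))
  rw [toR_app, toT_map_app, cbc_nat_M]

theorem adequate_restr (F : Adeq.MVF A) (hF : Adeq.adequate A F) :
    Adeq.adequate A' ((Adeq.restr A A').obj F) := by
  obtain ⟨M, N, φ, i, hi⟩ := (adequate_iff F).1 hF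
  rw [adequate_iff]
  exact ⟨bcMod A' M, bcMod A' N, ModuleCat.ofHom (φ.hom.baseChange A'), _,
    isKer_comp_bij (isKer_restr hi) (ρ A' M) (ρ A' N) _ (ρ_bijective M) (fun X => (ρ_bijective N X).1)
      (ρ_nat φ)⟩

end Restr

section Push
variable (A) (A' : Type u) [CommRing A'] [Algebra A A']

/-- base change of algebras. -/
abbrev pB (B : Adeq.Alg A) : Adeq.Alg A' := (Adeq.Alg.baseChange A A').obj B

variable {A A'}

/-- identity. -/
noncomputable def toP (F' : Adeq.MVF A') (B : Adeq.Alg A) :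
    ((Adeq.push A A').obj F').obj (Adeq.pt B) ≃+ F'.obj (Adeq.pt (pB A A' B)) :=
  AddEquiv.refl _

theorem toP_smul (F' : Adeq.MVF A') (B : Adeq.Alg A) (b : B)
    (x : ((Adeq.push A A').obj F').obj (Adeq.pt B)) :
    toP F' B (b • x) = (show (pB A A' B) from (1 : A') ⊗ₜ[A] b) • toP F' B x := rfl

theorem toP_mp (F' : Adeq.MVF A') {B B'' : Adeq.Alg A} (g : B ⟶ B'')
    (x : ((Adeq.push A A').obj F').obj (Adeq.pt B)) :
    toP F' B'' (mp ((Adeq.push A A').obj F') g x)
      = mp F' ((Adeq.Alg.baseChange A A').map g) (toP F' B x) := rfl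

theorem toP_app {F' G' : Adeq.MVF A'} (φ : F' ⟶ G') (B : Adeq.Alg A)
    (x : ((Adeq.push A A').obj F').obj (Adeq.pt B)) :
    toP G' B (((Adeq.push A A').map φ).app (Adeq.pt B) x)
      = φ.app (Adeq.pt (pB A A' B)) (toP F' B x) := rfl

theorem isKer_push {K F G : Adeq.MVF A'} {i : K ⟶ F} {φ : F ⟶ G} (h : IsKer i φ) :
    IsKer ((Adeq.push A A').map i) ((Adeq.push A A').map φ) where
  w := by
    rw [← Functor.map_comp, h.w]
    rfl
  inj X := by
    obtain ⟨⟨B⟩⟩ := X
    exact h.inj (Adeq.pt (pB A A' B))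
  ex X y hy := by
    obtain ⟨⟨B⟩⟩ := X
    exact h.ex (Adeq.pt (pB A A' B)) y hy

/-- restriction of scalars of a module. -/
noncomputable abbrev rsMod (A : Type u) [CommRing A] {A' : Type u} [CommRing A'] [Algebra A A']
    (M' : ModuleCat.{u+1} A') : ModuleCat.{u+1} A :=
  (ModuleCat.restrictScalars (algebraMap A A')).obj M'

/-- `(A' ⊗_A B) ⊗_{A'} M' ≃ B ⊗_A M'` (additive). -/
noncomputable def pbc (M' : ModuleCat.{u+1} A') (B : Adeq.Alg A) :
    (pB A A' B) ⊗[A'] M' ≃+ B ⊗[A] (rsMod A M') :=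
  letI : Module A M' := Module.compHom M' (algebraMap A A')
  haveI : IsScalarTower A A' M' := IsScalarTower.of_algebraMap_smul (fun _ _ => rfl)
  (TensorProduct.comm A' (A' ⊗[A] B) M').toAddEquiv.trans
    ((TensorProduct.AlgebraTensorModule.cancelBaseChange A A' A' M' B).toAddEquiv.trans
      (TensorProduct.comm A M' B).toAddEquiv)

theorem pbc_tmul (M' : ModuleCat.{u+1} A') (B : Adeq.Alg A) (a' : A') (b : B) (m : M') :
    pbc M' B ((show (pB A A' B) from a' ⊗ₜ[A] b) ⊗ₜ[A'] m) = b ⊗ₜ[A] (show rsMod A M' from a' • m) := rfl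

/-- double induction principle. -/
theorem pB_tensor_induction (M' : ModuleCat.{u+1} A') (B : Adeq.Alg A)
    {P : (pB A A' B) ⊗[A'] M' → Prop} (h0 : P 0)
    (ht : ∀ (a' : A') (b : B) (m : M'), P ((show (pB A A' B) from a' ⊗ₜ[A] b) ⊗ₜ[A'] m))
    (hadd : ∀ x y, P x → P y → P (x + y)) (x) : P x := by
  induction x using TensorProduct.induction_on with
  | zero => exact h0
  | tmul t m =>
    change A' ⊗[A] B at t
    induction t using TensorProduct.induction_on with
    | zero =>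
      have : ((0 : A' ⊗[A] B) ⊗ₜ[A'] m : (pB A A' B) ⊗[A'] M') = 0 := TensorProduct.zero_tmul _ _
      rw [this]
      exact h0
    | tmul a' b => exact ht a' b m
    | add t₁ t₂ h₁ h₂ =>
      have : ((t₁ + t₂ : A' ⊗[A] B) ⊗ₜ[A'] m : (pB A A' B) ⊗[A'] M')
          = (t₁ ⊗ₜ[A'] m : (pB A A' B) ⊗[A'] M') + t₂ ⊗ₜ[A'] m := TensorProduct.add_tmul _ _ _
      rw [this]
      exact hadd _ _ h₁ h₂
  | add x y hx hy => exact hadd _ _ hx hy

theorem pbc_smul (M' : ModuleCat.{u+1} A') (B : Adeq.Alg A) (b₀ : B) (x : (pB A A' B) ⊗[A'] M') :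
    pbc M' B ((show (pB A A' B) from (1 : A') ⊗ₜ[A] b₀) • x) = b₀ • pbc M' B x := by
  induction x using pB_tensor_induction with
  | h0 => rw [smul_zero, map_zero, smul_zero]
  | ht a' b m =>
    rw [TensorProduct.smul_tmul', pbc_tmul, TensorProduct.smul_tmul']
    have : (show (pB A A' B) from (1 : A') ⊗ₜ[A] b₀) • (show (pB A A' B) from a' ⊗ₜ[A] b)
        = (show (pB A A' B) from a' ⊗ₜ[A] (b₀ * b)) := by
      change ((1 : A') ⊗ₜ[A] b₀ : A' ⊗[A] B) * (a' ⊗ₜ[A] b) = _
      rw [Algebra.TensorProduct.tmul_mul_tmul, one_mul]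
    rw [this, pbc_tmul]
    rfl
  | hadd x y hx hy => rw [smul_add, map_add, map_add, smul_add, hx, hy]

theorem pbc_nat_B (M' : ModuleCat.{u+1} A') {B B'' : Adeq.Alg A} (g : B ⟶ B'')
    (x : (pB A A' B) ⊗[A'] M') :
    pbc M' B'' ((((Adeq.Alg.baseChange A A').map g).hom.toLinearMap.rTensor M') x)
      = (g.hom.toLinearMap.rTensor (rsMod A M')) (pbc M' B x) := by
  induction x using pB_tensor_induction with
  | h0 => simp only [map_zero]
  | ht a' b m => rfl
  | hadd x y hx hy => simp only [map_add, hx, hy]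

theorem pbc_nat_M {M' N' : ModuleCat.{u+1} A'} (ψ : M' ⟶ N') (B : Adeq.Alg A)
    (x : (pB A A' B) ⊗[A'] M') :
    pbc N' B ((ψ.hom.lTensor (pB A A' B)) x)
      = (((ModuleCat.restrictScalars (algebraMap A A')).map ψ).hom.lTensor B) (pbc M' B x) := by
  induction x using pB_tensor_induction with
  | h0 => simp only [map_zero]
  | ht a' b m =>
    rw [LinearMap.lTensor_tmul, pbc_tmul, pbc_tmul, LinearMap.lTensor_tmul]
    congr 1
    exact (ψ.hom.map_smul a' m).symm
  | hadd x y hx hy => simp only [map_add, hx, hy]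

/-- the comparison `push (underline M') ⟶ underline (M'|_A)`, pointwise. -/
noncomputable def πσ (M' : ModuleCat.{u+1} A') (B : Adeq.Alg A) :
    ((Adeq.push A A').obj ((Adeq.underline A').obj M')).obj (Adeq.pt B) →ₗ[B]
      ((Adeq.underline A).obj (rsMod A M')).obj (Adeq.pt B) where
  toFun x := (toT (rsMod A M') B).symm (pbc M' B (toT M' (pB A A' B) (toP _ B x)))
  map_add' x y := by
    rw [map_add, map_add, map_add, map_add]
  map_smul' b x := by
    have h1 : toT M' (pB A A' B) (toP _ B (b • x))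
        = (show (pB A A' B) from (1 : A') ⊗ₜ[A] b) • toT M' (pB A A' B) (toP _ B x) := by
      rw [toP_smul]
      exact (toT M' (pB A A' B)).map_smul _ _
    rw [h1, pbc_smul, (toT (rsMod A M') B).symm.map_smul]
    rfl

theorem πσ_bijective (M' : ModuleCat.{u+1} A') (B : Adeq.Alg A) :
    Function.Bijective (πσ (A := A) M' B) := by
  have : (πσ (A := A) M' B : _ → _)
      = (toT (rsMod A M') B).symm ∘ (pbc M' B) ∘ (toT M' (pB A A' B)) ∘ (toP _ B) := rfl
  rw [this]
  exact (LinearEquiv.bijective _).comp ((AddEquiv.bijective _).comp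
    ((LinearEquiv.bijective _).comp (AddEquiv.bijective _)))

/-- the comparison `push (underline M') ⟶ underline (M'|_A)`. -/
noncomputable def π (A : Type u) [CommRing A] {A' : Type u} [CommRing A'] [Algebra A A']
    (M' : ModuleCat.{u+1} A') :
    (Adeq.push A A').obj ((Adeq.underline A').obj M') ⟶ (Adeq.underline A).obj (rsMod A M') :=
  mkHom (πσ M') (by
    intro B B'' g x
    apply (toT (rsMod A M') B'').injective
    rw [toT_mp]
    change pbc M' B'' (toT M' (pB A A' B'') (toP _ B'' (mp _ g x))) = _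
    rw [toP_mp, toT_mp, pbc_nat_B]
    rfl)

theorem π_bijective (M' : ModuleCat.{u+1} A') (X) : Function.Bijective ((π A M').app X) := by
  obtain ⟨⟨B⟩⟩ := X
  exact πσ_bijective M' B

theorem π_nat {M' N' : ModuleCat.{u+1} A'} (ψ : M' ⟶ N') :
    π A M' ≫ (Adeq.underline A).map ((ModuleCat.restrictScalars (algebraMap A A')).map ψ)
      = (Adeq.push A A').map ((Adeq.underline A').map ψ) ≫ π A N' := by
  ext X x
  obtain ⟨⟨B⟩⟩ := X
  rw [comp_app_apply, comp_app_apply]
  apply (toT (rsMod A N') B).injective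
  rw [toT_map_app]
  change (LinearMap.lTensor B ((ModuleCat.restrictScalars (algebraMap A A')).map ψ).hom)
      (pbc M' B (toT M' (pB A A' B) (toP _ B x))) =
    pbc N' B (toT N' (pB A A' B) (toP _ B (((Adeq.push A A').map ((Adeq.underline A').map ψ)).app _ x)))
  rw [toP_app, toT_map_app, pbc_nat_M]

theorem adequate_push (F' : Adeq.MVF A') (hF' : Adeq.adequate A' F') :
    Adeq.adequate A ((Adeq.push A A').obj F') := by
  obtain ⟨M, N, φ, i, hi⟩ := (adequate_iff F').1 hF'
  rw [adequate_iff]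
  exact ⟨rsMod A M, rsMod A N, (ModuleCat.restrictScalars (algebraMap A A')).map φ, _,
    isKer_comp_bij (isKer_push hi) (π A M) (π A N) _ (π_bijective M) (fun X => (π_bijective N X).1)
      (π_nat φ)⟩

end Push

end Groth.Agent.Lib.Helper86.AdeqChange
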