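import Mathlib
import Groth.Prelude.Def_Adeq2
import Groth.Agent.Lib.Helper86.AdeqChange

open CategoryTheory Limits TensorProduct Opposite AlgebraicGeometry

/-!
# Adequate modules on big sites: basic transport lemmas (Stacks 46.5)
-/

namespace Groth.Agent.Lib.Helper86.Adeq2Basic
universe u
open Groth.Agent.Lib.Helper86.AdeqBasic Groth.Agent.Lib.Helper86.AdeqFO

variable (K : Precoverage Scheme.{u}) [BigSite.OSh K] {S T : Scheme.{u}}

noncomputable def pullσ (f : T ⟶ S) (M : BigSite.Mod K S) {R : CommRingCat.{u}} (b : Spec R ⟶ T)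
    (B : Adeq.Alg R) :
    ((Adeq.toMVF K b).obj ((BigSite.pullMod K f).obj M)).obj (Adeq.pt B) →ₗ[B]
      ((Adeq.toMVF K (b ≫ f)).obj M).obj (Adeq.pt B) where
  toFun x := x
  map_add' _ _ := rfl
  map_smul' _ _ := rfl

noncomputable def pullσ' (f : T ⟶ S) (M : BigSite.Mod K S) {R : CommRingCat.{u}} (b : Spec R ⟶ T)
    (B : Adeq.Alg R) :
    ((Adeq.toMVF K (b ≫ f)).obj M).obj (Adeq.pt B) →ₗ[B]
      ((Adeq.toMVF K b).obj ((BigSite.pullMod K f).obj M)).obj (Adeq.pt B) where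
  toFun x := x
  map_add' _ _ := rfl
  map_smul' _ _ := rfl

noncomputable def pullIso (f : T ⟶ S) (M : BigSite.Mod K S) {R : CommRingCat.{u}} (b : Spec R ⟶ T) :
    (Adeq.toMVF K b).obj ((BigSite.pullMod K f).obj M) ≅ (Adeq.toMVF K (b ≫ f)).obj M where
  hom := mkHom (pullσ K f M b) (fun _ _ => rfl)
  inv := mkHom (pullσ' K f M b) (fun _ _ => rfl)
  hom_inv_id := by
    ext X x
    rfl
  inv_hom_id := by
    ext X x
    rfl

theorem adequateMod_of_cover [K.IsStableUnderComposition] (M : BigSite.Mod K S) (ι : Type u)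
    (T : ι → Scheme.{u}) (f : ∀ i, T i ⟶ S) (hcov : Presieve.ofArrows T f ∈ K.coverings S)
    (h : ∀ i, Adeq.adequateMod K (T i) ((BigSite.pullMod K (f i)).obj M)) :
    Adeq.adequateMod K S M := by
  choose κ R b hb hadq using h
  refine ⟨Σ i, κ i, fun p => R p.1 p.2, fun p => b p.1 p.2 ≫ f p.1, ?_, ?_⟩
  · exact Precoverage.comp_mem_coverings f hcov b hb
  · rintro ⟨i, j⟩
    exact (Adeq.adequate (R i j)).prop_of_iso (pullIso K (f i) M (b i j)) (hadq i j)

end Groth.Agent.Lib.Helper86.Adeq2Basic
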