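import Mathlib
import Groth.Prelude.Def_Adeq2
import Groth.Agent.Lib.Helper86.Adeq2Basic

open CategoryTheory Limits TensorProduct Opposite AlgebraicGeometry

/-!
# Adequate modules on big sites: transport along equal structure maps, reindexing to affines over an affine,
refinement of coverings, pullbacks and kernels (Stacks 46.5)
-/

namespace Groth.Agent.Lib.Helper86.Adeq2Transport
universe u
open Groth.Agent.Lib.Helper86.AdeqBasic Groth.Agent.Lib.Helper86.AdeqFO
open Groth.Agent.Lib.Helper86.AdeqChange Groth.Agent.Lib.Helper86.Adeq2Basic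

variable (K : Precoverage Scheme.{u}) [BigSite.OSh K] {S T : Scheme.{u}}

section Transport
variable {K}
variable (P : PresheafOfModules.{u+1} (BigSite.ORing K S).obj)

/-- the identity of `Z`, as a morphism between two structure maps that are equal. -/
def idHom {Z : Scheme.{u}} (x y : Z ⟶ S) (h : x = y) : Over.mk y ⟶ Over.mk x :=
  Over.homMk (𝟙 Z) (by simp [h])

/-- transport of sections along an equality of structure maps. -/
noncomputable def trp {Z : Scheme.{u}} (x y : Z ⟶ S) (h : x = y) :
    P.obj (op (Over.mk x)) →+ P.obj (op (Over.mk y)) :=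
  (P.map (idHom x y h).op).hom.toAddMonoidHom

theorem trp_smul {Z : Scheme.{u}} (x y : Z ⟶ S) (h : x = y)
    (r : (BigSite.ORing K S).obj.obj (op (Over.mk x))) (m : P.obj (op (Over.mk x))) :
    trp P x y h (r • m) = (show (BigSite.ORing K S).obj.obj (op (Over.mk y)) from r) • trp P x y h m := by
  have h1 := P.map_smul (idHom x y h).op r m
  refine h1.trans ?_
  congr 1

theorem idHom_rfl {Z : Scheme.{u}} (x : Z ⟶ S) : idHom x x rfl = 𝟙 (Over.mk x) := by
  ext
  rfl

theorem trp_rfl {Z : Scheme.{u}} (x : Z ⟶ S) (m : P.obj (op (Over.mk x))) : trp P x x rfl m = m := by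
  unfold trp
  rw [idHom_rfl]
  change P.map (𝟙 (op (Over.mk x))) m = m
  rw [P.map_id]
  rfl

theorem trp_bijective {Z : Scheme.{u}} (x y : Z ⟶ S) (h : x = y) : Function.Bijective (trp P x y h) := by
  subst h
  have : (trp P x x rfl : _ → _) = id := funext (trp_rfl P x)
  rw [this]
  exact Function.bijective_id

/-- naturality of transport. -/
theorem trp_map {Z Z' : Scheme.{u}} (g : Z' ⟶ Z) (x y : Z ⟶ S) (h : x = y) (x' y' : Z' ⟶ S)
    (h' : x' = y') (hx : g ≫ x = x') (hy : g ≫ y = y') (m : P.obj (op (Over.mk x))) :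
    trp P x' y' h' (P.map (Over.homMk g hx : Over.mk x' ⟶ Over.mk x).op m)
      = P.map (Over.homMk g hy : Over.mk y' ⟶ Over.mk y).op (trp P x y h m) := by
  subst h
  subst h'
  refine (trp_rfl P x' _).trans ?_
  rw [trp_rfl]

end Transport

section Reindex
variable {R R' : CommRingCat.{u}} [Algebra R R'] (a : Spec R ⟶ S) (b : Spec R' ⟶ S)
  (hb : b = Spec.map (CommRingCat.ofHom (algebraMap R R')) ≫ a)

include hb in
theorem str_eq (B' : Adeq.Alg R') :
    Spec.map (CommRingCat.ofHom (algebraMap R' B')) ≫ b =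
      Spec.map (CommRingCat.ofHom (algebraMap R (rB R R' B'))) ≫ a := by
  rw [hb, ← Category.assoc, ← Spec.map_comp, ← CommRingCat.ofHom_comp]

variable (M : BigSite.Mod K S)

/-- the reindexing map, as a linear map. -/
noncomputable def reσ (B' : Adeq.Alg R') :
    ((Adeq.toMVF K b).obj M).obj (Adeq.pt B') →ₗ[B']
      ((Adeq.restr R R').obj ((Adeq.toMVF K a).obj M)).obj (Adeq.pt B') where
  toFun x := trp M.val _ _ (str_eq a b hb B') x
  map_add' x y := map_add _ x y
  map_smul' r x := by
    have := trp_smul M.val _ _ (str_eq a b hb B') (Adeq.toSect K b B' r) x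
    exact this

theorem reσ_bijective (B' : Adeq.Alg R') : Function.Bijective (reσ K a b hb M B') :=
  trp_bijective M.val _ _ (str_eq a b hb B')

/-- the reindexing morphism. -/
noncomputable def reidx :
    (Adeq.toMVF K b).obj M ⟶ (Adeq.restr R R').obj ((Adeq.toMVF K a).obj M) :=
  mkHom (reσ K a b hb M) (by
    intro B' B'' h x
    exact trp_map M.val (Spec.map (CommRingCat.ofHom h.hom.toRingHom)) _ _ (str_eq a b hb B') _ _
      (str_eq a b hb B'') (Over.w ((Adeq.specOver b).map h.op))
      (Over.w ((Adeq.specOver a).map ((Adeq.Alg.restr R R').map h).op)) x)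

theorem isIso_of_bijective {A : Type u} [CommRing A] {F G : Adeq.MVF A} (φ : F ⟶ G)
    (h : ∀ X, Function.Bijective (φ.app X)) : IsIso φ := by
  haveI : Mono φ := PresheafOfModules.mono_of_injective (fun X => (h X).1)
  haveI : Epi φ := PresheafOfModules.epi_of_surjective (fun X => (h X).2)
  exact isIso_of_mono_of_epi _

theorem isIso_reidx : IsIso (reidx K a b hb M) :=
  isIso_of_bijective _ (fun X => reσ_bijective K a b hb M X.unop.unop)

include hb in
/-- adequacy passes to affines over an affine. -/
theorem adequate_reindex (h : Adeq.adequate R ((Adeq.toMVF K a).obj M)) :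
    Adeq.adequate R' ((Adeq.toMVF K b).obj M) := by
  haveI := isIso_reidx K a b hb M
  exact (Adeq.adequate R').prop_of_iso (asIso (reidx K a b hb M)).symm (adequate_restr _ h)

end Reindex

/-- version with a ring map. -/
theorem adequate_of_factor {R R' : CommRingCat.{u}} (ψ : R ⟶ R') (a : Spec R ⟶ S) (b : Spec R' ⟶ S)
    (hb : b = Spec.map ψ ≫ a) (M : BigSite.Mod K S) (h : Adeq.adequate R ((Adeq.toMVF K a).obj M)) :
    Adeq.adequate R' ((Adeq.toMVF K b).obj M) := by
  letI : Algebra R R' := ψ.hom.toAlgebra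
  exact adequate_reindex K a b hb M h

/-- version with a scheme map between affines. -/
theorem adequate_of_factor' {R R' : CommRingCat.{u}} (g : Spec R' ⟶ Spec R) (a : Spec R ⟶ S) (b : Spec R' ⟶ S)
    (hb : b = g ≫ a) (M : BigSite.Mod K S) (h : Adeq.adequate R ((Adeq.toMVF K a).obj M)) :
    Adeq.adequate R' ((Adeq.toMVF K b).obj M) := by
  obtain ⟨ψ, rfl⟩ := Spec.map_surjective g
  exact adequate_of_factor K ψ a b hb M h

section Refine
variable [K.IsStableUnderBaseChange] [K.IsStableUnderComposition]
  (hK : Scheme.zariskiPrecoverage.{u} ≤ K)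

include hK in
theorem exists_affine_refinement (f : T ⟶ S) {ι : Type u} (R : ι → CommRingCat.{u})
    (a : ∀ i, Spec (R i) ⟶ S)
    (hcov : Presieve.ofArrows (fun i => Spec (R i)) a ∈ K.coverings S) :
    ∃ (κ : Type u) (R' : κ → CommRingCat.{u}) (a' : ∀ k, Spec (R' k) ⟶ T) (idx : κ → ι)
      (g : ∀ k, Spec (R' k) ⟶ Spec (R (idx k))),
      Presieve.ofArrows (fun k => Spec (R' k)) a' ∈ K.coverings T ∧
        ∀ k, a' k ≫ f = g k ≫ a (idx k) := by
  have h1 : Presieve.ofArrows (fun i => pullback f (a i)) (fun i => pullback.fst f (a i)) ∈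
      K.coverings T :=
    Precoverage.mem_coverings_of_isPullback a hcov f _ (fun i => pullback.snd f (a i))
      (fun i => IsPullback.of_hasPullback f (a i))
  refine ⟨Σ i, (pullback f (a i)).affineOpenCover.I₀,
    fun p => (pullback f (a p.1)).affineOpenCover.X p.2,
    fun p => (pullback f (a p.1)).affineOpenCover.f p.2 ≫ pullback.fst f (a p.1),
    fun p => p.1,
    fun p => (pullback f (a p.1)).affineOpenCover.f p.2 ≫ pullback.snd f (a p.1), ?_, ?_⟩
  · exact Precoverage.comp_mem_coverings (fun i => pullback.fst f (a i)) h1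
      (fun i j => (pullback f (a i)).affineOpenCover.f j)
      (fun i => hK _ (pullback f (a i)).affineOpenCover.openCover.mem₀)
  · rintro ⟨i, j⟩
    simp only [Category.assoc]
    rw [pullback.condition]

include hK in
/-- pullbacks of adequate modules are adequate. -/
theorem adequateMod_pull (f : T ⟶ S) (M : BigSite.Mod K S) (hM : Adeq.adequateMod K S M) :
    Adeq.adequateMod K T ((BigSite.pullMod K f).obj M) := by
  obtain ⟨ι, R, a, hcov, hadq⟩ := hM
  obtain ⟨κ, R', a', idx, g, hcov', hfac⟩ := exists_affine_refinement K hK f R a hcov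
  exact ⟨κ, R', a', hcov', fun k => (Adeq.adequate (R' k)).prop_of_iso (pullIso K f M (a' k)).symm
    (adequate_of_factor' K (g k) (a (idx k)) (a' k ≫ f) (hfac k) M (hadq _))⟩

include hK in
/-- two adequate modules are adequate on a common covering. -/
theorem exists_common_cover (M N : BigSite.Mod K S) (hM : Adeq.adequateMod K S M)
    (hN : Adeq.adequateMod K S N) :
    ∃ (ι : Type u) (R : ι → CommRingCat.{u}) (a : ∀ i, Spec (R i) ⟶ S),
      Presieve.ofArrows (fun i => Spec (R i)) a ∈ K.coverings S ∧
        (∀ i, Adeq.adequate (R i) ((Adeq.toMVF K (a i)).obj M)) ∧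
        ∀ i, Adeq.adequate (R i) ((Adeq.toMVF K (a i)).obj N) := by
  obtain ⟨ι, R, a, hcov, hadq⟩ := hM
  have h := fun i => adequateMod_pull K hK (a i) N hN
  choose κ R' b hb hadq' using h
  refine ⟨Σ i, κ i, fun p => R' p.1 p.2, fun p => b p.1 p.2 ≫ a p.1, ?_, ?_, ?_⟩
  · exact Precoverage.comp_mem_coverings a hcov b hb
  · rintro ⟨i, j⟩
    exact adequate_of_factor' K (b i j) (a i) _ rfl M (hadq i)
  · rintro ⟨i, j⟩
    exact (Adeq.adequate (R' i j)).prop_of_iso (pullIso K (a i) N (b i j)) (hadq' i j)

end Refine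

section Kernel

theorem isKer_toMVF {R : CommRingCat.{u}} (a : Spec R ⟶ S) {M N : BigSite.Mod K S} (φ : M ⟶ N) :
    IsKer ((Adeq.toMVF K a).map (kernel.ι φ)) ((Adeq.toMVF K a).map φ) where
  w := by rw [← Functor.map_comp, kernel.condition, Functor.map_zero]
  inj X := by
    let U : (Over S)ᵒᵖ := op ((Adeq.specOver a).obj (op X.unop.unop))
    haveI : Mono ((SheafOfModules.evaluation (BigSite.ORing K S) U).map (kernel.ι φ)) :=
      inferInstance
    exact (ModuleCat.mono_iff_injective
      ((SheafOfModules.evaluation (BigSite.ORing K S) U).map (kernel.ι φ))).1 this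
  ex X y hy := by
    let U : (Over S)ᵒᵖ := op ((Adeq.specOver a).obj (op X.unop.unop))
    let C : ShortComplex (BigSite.Mod K S) := ShortComplex.mk (kernel.ι φ) φ (kernel.condition φ)
    have hC : C.Exact := ShortComplex.exact_of_f_is_kernel _ (kernelIsKernel φ)
    haveI : (SheafOfModules.evaluation (BigSite.ORing K S) U).PreservesZeroMorphisms :=
      inferInstanceAs ((SheafOfModules.forget _ ⋙
        PresheafOfModules.evaluation _ U).PreservesZeroMorphisms)
    have h2 := hC.map_of_mono_of_preservesKernel (SheafOfModules.evaluation (BigSite.ORing K S) U)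
      (inferInstanceAs (Mono (kernel.ι φ))) inferInstance
    rw [ShortComplex.moduleCat_exact_iff] at h2
    exact h2 y hy

variable [K.IsStableUnderBaseChange] [K.IsStableUnderComposition]
  (hK : Scheme.zariskiPrecoverage.{u} ≤ K)

include hK in
/-- kernels of maps of adequate modules are adequate. -/
theorem adequateMod_kernel {M N : BigSite.Mod K S} (φ : M ⟶ N) (hM : Adeq.adequateMod K S M)
    (hN : Adeq.adequateMod K S N) : Adeq.adequateMod K S (kernel φ) := by
  obtain ⟨ι, R, a, hcov, hM', hN'⟩ := exists_common_cover K hK M N hM hN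
  refine ⟨ι, R, a, hcov, fun i => ?_⟩
  exact (Adeq.adequate (R i)).prop_of_iso (isKer_toMVF K (a i) φ).iso.symm
    (Groth.Agent.Lib.Helper86.AdeqClosure.adequate_kernel _ (hM' i) (hN' i))

end Kernel

end Groth.Agent.Lib.Helper86.Adeq2Transport
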