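import Mathlib
import Groth.Prelude.Def_Adeq
import Groth.Agent.Lib.Helper86.AdeqClosure

open CategoryTheory Limits TensorProduct Opposite DirectSum

/-!
# Coproducts and colimits of adequate functors (Stacks 46.3.9)
-/

namespace Groth.Agent.Lib.Helper86.AdeqColim
universe u
variable {A : Type u} [CommRing A]

open Groth.Agent.Lib.Helper86.AdeqBasic Groth.Agent.Lib.Helper86.AdeqFO
open Groth.Agent.Lib.Helper86.AdeqExt Groth.Agent.Lib.Helper86.AdeqGen
open Groth.Agent.Lib.Helper86.AdeqClosure

/-- leg of a cocone with honest target type. -/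
def leg {R : Type u} [Ring R] {ι : Type (u+1)}
    {K : Discrete ι ⥤ ModuleCat.{u+1} R} (c : Cocone K) (j : ι) : K.obj ⟨j⟩ →ₗ[R] c.pt :=
  (c.ι.app ⟨j⟩).hom

/-- In a module category, the injections of a colimit cocone over a discrete category jointly span. -/
theorem iSup_range_eq_top {R : Type u} [Ring R] {ι : Type (u+1)}
    {K : Discrete ι ⥤ ModuleCat.{u+1} R} {c : Cocone K} (hc : IsColimit c) :
    (⨆ j : ι, LinearMap.range (leg c j)) = ⊤ := by
  set S := ⨆ j : ι, LinearMap.range (leg c j) with hS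
  have h : ModuleCat.ofHom S.mkQ = (0 : c.pt ⟶ ModuleCat.of R (c.pt ⧸ S)) := by
    apply hc.hom_ext
    rintro ⟨j⟩
    rw [comp_zero]
    apply ModuleCat.hom_ext
    apply LinearMap.ext
    intro x
    change S.mkQ (leg c j x) = 0
    rw [Submodule.mkQ_apply, Submodule.Quotient.mk_eq_zero]
    exact (le_iSup (fun j : ι => LinearMap.range (leg c j)) j) ⟨x, rfl⟩
  have h2 : S.mkQ = 0 := congrArg ModuleCat.Hom.hom h
  rw [← Submodule.ker_mkQ S, h2, LinearMap.ker_zero]

theorem exists_finset_sum_inj {R : Type u} [Ring R] {ι : Type (u+1)}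
    {K : Discrete ι ⥤ ModuleCat.{u+1} R} {c : Cocone K} (hc : IsColimit c) (x : c.pt) :
    ∃ (s : Finset ι) (xx : ∀ j : ι, K.obj ⟨j⟩), x = ∑ j ∈ s, leg c j (xx j) := by
  classical
  have hx : x ∈ ⨆ j : ι, LinearMap.range (leg c j) := by
    rw [iSup_range_eq_top hc]; trivial
  induction hx using Submodule.iSup_induction' with
  | mem j x hx =>
    obtain ⟨y, rfl⟩ := hx
    refine ⟨{j}, fun k => if h : k = j then h ▸ y else 0, ?_⟩
    simp
  | zero => exact ⟨∅, fun _ => 0, by simp⟩
  | add x y _ _ hx hy =>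
    obtain ⟨s1, x1, rfl⟩ := hx
    obtain ⟨s2, x2, rfl⟩ := hy
    refine ⟨s1 ∪ s2, fun j => (if j ∈ s1 then x1 j else 0) + (if j ∈ s2 then x2 j else 0), ?_⟩
    simp_rw [map_add, Finset.sum_add_distrib]
    congr 1
    · rw [← Finset.sum_subset (Finset.subset_union_left (s₂ := s2))]
      · exact Finset.sum_congr rfl (fun j hj => by rw [if_pos hj])
      · intro j _ hj; rw [if_neg hj, map_zero]
    · rw [← Finset.sum_subset (Finset.subset_union_right (s₁ := s1))]
      · exact Finset.sum_congr rfl (fun j hj => by rw [if_pos hj])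
      · intro j _ hj; rw [if_neg hj, map_zero]

instance ev_preservesCoproducts (X : (Adeq.Alg A)ᵒᵖᵒᵖ) (ι : Type (u+1)) :
    PreservesColimitsOfShape (Discrete ι) (ev (A := A) X) :=
  PresheafOfModules.evaluation_preservesColimitsOfShape.{u+1} (R := Adeq.ringOf A) (J := Discrete ι) X

/-- elements of a coproduct in `MVF A` are finite sums of images. -/
theorem exists_finset_sum_inj_mvf {ι : Type (u+1)} {F : ι → Adeq.MVF A} {c : Cofan F}
    (hc : IsColimit c) (X : (Adeq.Alg A)ᵒᵖᵒᵖ) (x : c.pt.obj X) :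
    ∃ (s : Finset ι) (xx : ∀ j : ι, (F j).obj X), x = ∑ j ∈ s, (c.inj j).app X (xx j) :=
  exists_finset_sum_inj (isColimitOfPreserves (ev X) hc) x

/-- A coproduct of adequate functors is adequate. -/
theorem adequate_of_isColimit_cofan {ι : Type (u+1)} {F : ι → Adeq.MVF A}
    (hF : ∀ j, Adeq.adequate A (F j)) {c : Cofan F} (hc : IsColimit c) : Adeq.adequate A c.pt := by
  classical
  choose M N ρ iF hiF using fun j => (adequate_iff (F j)).1 (hF j)
  choose κ L hL cL hcL π hπ using fun j => exists_epi_cofan (F j) (hF j)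
  -- the big coproduct of linearly adequate functors
  let L' : (Σ j, κ j) → Adeq.MVF A := fun p => L p.1 p.2
  have hL' : ∀ p, Adeq.linAdequate A (L' p) := fun p => hL p.1 p.2
  let c' : Cofan L' := Cofan.mk (∐ L') (Sigma.ι L')
  have hc' : IsColimit c' := coproductIsCoproduct L'
  let π' : c'.pt ⟶ c.pt := Sigma.desc (fun p => (cL p.1).inj p.2 ≫ π p.1 ≫ c.inj p.1)
  have : Epi π' := by
    constructor
    intro Z h₁ h₂ h
    apply Cofan.IsColimit.hom_ext hc
    intro j
    have := hπ j
    rw [← cancel_epi (π j)]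
    apply Cofan.IsColimit.hom_ext (hcL j)
    intro i
    have := congrArg (fun t => Sigma.ι L' ⟨j, i⟩ ≫ t) h
    simp only [π', ← Category.assoc, Sigma.ι_desc] at this
    simpa only [Category.assoc] using this
  -- the direct sum module and the map to its underline
  let Ms : ModuleCat.{u+1} A := ModuleCat.of A (⨁ j, (M j : Type (u+1)))
  let lofj : ∀ j, M j ⟶ Ms := fun j => ModuleCat.ofHom (DirectSum.lof A ι (fun j => (M j : Type (u+1))) j)
  let ψ : c.pt ⟶ (Adeq.underline A).obj Ms :=
    Cofan.IsColimit.desc hc (fun j => iF j ≫ (Adeq.underline A).map (lofj j))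
  have hψ : ∀ j, c.inj j ≫ ψ = iF j ≫ (Adeq.underline A).map (lofj j) := fun j =>
    Cofan.IsColimit.fac hc _ j
  have hinj : ∀ X, Function.Injective (ψ.app X) := by
    intro X
    obtain ⟨⟨B⟩⟩ := X
    rw [injective_iff_map_eq_zero]
    intro x hx
    obtain ⟨s, xx, rfl⟩ := exists_finset_sum_inj_mvf hc _ x
    apply Finset.sum_eq_zero
    intro k hk
    have h1 : ∀ j, toT Ms B (ψ.app (Adeq.pt B) ((c.inj j).app (Adeq.pt B) (xx j)))
        = (DirectSum.lof A ι (fun j => (M j : Type (u+1))) j).lTensor B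
            (toT (M j) B ((iF j).app (Adeq.pt B) (xx j))) := fun j => by
      rw [← comp_app_apply, hψ j, comp_app_apply, toT_map_app]
      rfl
    have h2 := congrArg (toT Ms B) hx
    rw [map_sum, map_sum, map_zero] at h2
    simp_rw [h1] at h2
    have h3 := congrArg ((DirectSum.component A ι (fun j => (M j : Type (u+1))) k).lTensor B) h2
    rw [map_sum, map_zero, Finset.sum_eq_single k] at h3
    · rw [← LinearMap.comp_apply, ← LinearMap.lTensor_comp] at h3
      have e : DirectSum.component A ι (fun j => (M j : Type (u+1))) k ∘ₗ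
          DirectSum.lof A ι (fun j => (M j : Type (u+1))) k = LinearMap.id := by
        ext x; simp
      rw [e, LinearMap.lTensor_id, LinearMap.id_apply] at h3
      have h4 : (iF k).app (Adeq.pt B) (xx k) = 0 := by
        apply (toT (M k) B).injective
        rw [h3, map_zero]
      have h5 : xx k = 0 := by
        apply (hiF k).inj
        rw [h4, map_zero]
      rw [h5, map_zero]
    · intro j _ hjk
      rw [← LinearMap.comp_apply, ← LinearMap.lTensor_comp]
      have e : DirectSum.component A ι (fun j => (M j : Type (u+1))) k ∘ₗ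
          DirectSum.lof A ι (fun j => (M j : Type (u+1))) j = 0 := by
        ext x
        simp only [LinearMap.comp_apply, LinearMap.zero_apply]
        change DirectSum.component A ι (fun j => (M j : Type (u+1))) k
          (DirectSum.lof A ι (fun j => (M j : Type (u+1))) j x) = 0
        rw [DirectSum.component.of, dif_neg hjk]
      rw [e, LinearMap.lTensor_zero, LinearMap.zero_apply]
    · intro h
      exact absurd hk h
  obtain ⟨N', j, hw, hj⟩ := exists_range_eq_ker hL' hc' π' ψ
  rw [adequate_iff]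
  refine ⟨Ms, N', j, ψ, hw, hinj, ?_⟩
  intro X y hy
  obtain ⟨⟨B⟩⟩ := X
  exact hj B y hy

instance hasColimits_MVF (J : Type (u+1)) [SmallCategory J] : HasColimitsOfShape J (Adeq.MVF A) :=
  PresheafOfModules.hasColimitsOfShape.{u+1} (R := Adeq.ringOf A) (J := J)

section Colim
variable {J : Type (u + 1)} [SmallCategory J] (D : J ⥤ Adeq.MVF A)

/-- arrows of `J`. -/
abbrev Arr (J : Type (u + 1)) [SmallCategory J] : Type (u+1) := Σ p : J × J, p.1 ⟶ p.2

abbrev F₁ : Arr J → Adeq.MVF A := fun f => D.obj f.1.1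
abbrev F₂ : J → Adeq.MVF A := fun j => D.obj j

noncomputable def sMap : ∐ (F₁ D) ⟶ ∐ (F₂ D) :=
  Limits.Sigma.desc (fun f : Arr J => D.map f.2 ≫ Limits.Sigma.ι (F₂ D) f.1.2)
noncomputable def tMap' : ∐ (F₁ D) ⟶ ∐ (F₂ D) :=
  Limits.Sigma.desc (fun f : Arr J => Limits.Sigma.ι (F₂ D) f.1.1)
noncomputable def pMap : ∐ (F₂ D) ⟶ colimit D := Limits.Sigma.desc (fun j => colimit.ι D j)

theorem ι_sMap (f : Arr J) : Limits.Sigma.ι (F₁ D) f ≫ sMap D = D.map f.2 ≫ Limits.Sigma.ι (F₂ D) f.1.2 :=
  Limits.Sigma.ι_desc _ _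
theorem ι_tMap' (f : Arr J) : Limits.Sigma.ι (F₁ D) f ≫ tMap' D = Limits.Sigma.ι (F₂ D) f.1.1 :=
  Limits.Sigma.ι_desc _ _
theorem ι_pMap (j : J) : Limits.Sigma.ι (F₂ D) j ≫ pMap D = colimit.ι D j :=
  Limits.Sigma.ι_desc _ _

theorem d_p : (sMap D - tMap' D) ≫ pMap D = 0 := by
  apply Limits.Sigma.hom_ext
  intro f
  rw [Preadditive.sub_comp, Preadditive.comp_sub, ← Category.assoc, ← Category.assoc, ι_sMap,
    ι_tMap', Category.assoc, ι_pMap, ι_pMap, colimit.w, sub_self, comp_zero]

/-- the cocone induced by a map out of the coproduct killing `s - t`. -/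
noncomputable def coconeOf {Z : Adeq.MVF A} (q : ∐ (F₂ D) ⟶ Z) (hq : (sMap D - tMap' D) ≫ q = 0) :
    Cocone D where
  pt := Z
  ι :=
    { app := fun j => Limits.Sigma.ι (F₂ D) j ≫ q
      naturality := by
        intro j j' f
        have := congrArg (fun t => Limits.Sigma.ι (F₁ D) ⟨(j, j'), f⟩ ≫ t) hq
        simp only [Preadditive.sub_comp, Preadditive.comp_sub, comp_zero] at this
        rw [← Category.assoc, ← Category.assoc, ι_sMap, ι_tMap', sub_eq_zero] at this
        simp only [Functor.const_obj_obj, Functor.const_obj_map, Category.comp_id]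
        rw [← Category.assoc]
        exact this }

noncomputable def descOf {Z : Adeq.MVF A} (q : ∐ (F₂ D) ⟶ Z) (hq : (sMap D - tMap' D) ≫ q = 0) :
    colimit D ⟶ Z := colimit.desc D (coconeOf D q hq)

theorem ι_descOf {Z : Adeq.MVF A} (q : ∐ (F₂ D) ⟶ Z) (hq : (sMap D - tMap' D) ≫ q = 0) (j : J) :
    colimit.ι D j ≫ descOf D q hq = Limits.Sigma.ι (F₂ D) j ≫ q :=
  colimit.ι_desc _ _

noncomputable def isCokernel : IsColimit (CokernelCofork.ofπ (pMap D) (d_p D)) :=
  CokernelCofork.IsColimit.ofπ _ _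
    (fun {Z} q hq => descOf D q hq)
    (by
      intro Z q hq
      apply Limits.Sigma.hom_ext
      intro j
      rw [← Category.assoc, ι_pMap, ι_descOf])
    (by
      intro Z q hq m hm
      apply colimit.hom_ext
      intro j
      rw [ι_descOf, ← ι_pMap, Category.assoc, hm])

/-- Stacks 46.3.9: colimits of adequate functors are adequate. -/
theorem adequate_colimit (hD : ∀ j, Adeq.adequate A (D.obj j)) :
    Adeq.adequate A (colimit D) := by
  have h₁ : Adeq.adequate A (∐ (F₁ D)) :=
    adequate_of_isColimit_cofan (F := F₁ D) (c := Cofan.mk (∐ (F₁ D)) (Limits.Sigma.ι (F₁ D)))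
      (fun f => hD f.1.1) (coproductIsCoproduct (F₁ D))
  have h₂ : Adeq.adequate A (∐ (F₂ D)) :=
    adequate_of_isColimit_cofan (F := F₂ D) (c := Cofan.mk (∐ (F₂ D)) (Limits.Sigma.ι (F₂ D)))
      (fun j => hD j) (coproductIsCoproduct (F₂ D))
  have e : colimit D ≅ cokernel (sMap D - tMap' D) :=
    IsColimit.coconePointUniqueUpToIso (isCokernel D) (colimit.isColimit _)
  exact (Adeq.adequate A).prop_of_iso e.symm (adequate_cokernel _ h₁ h₂)

end Colim

end Groth.Agent.Lib.Helper86.AdeqColim
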