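import Mathlib
import Groth.Prelude.Def_Adeq
import Groth.Agent.Lib.Helper86.AdeqExt
import Groth.Agent.Lib.Helper86.AdeqClosure

open CategoryTheory Limits TensorProduct Opposite

/-!
# Extensions of a linearly adequate functor by `underline M` split (Stacks 46.3.11)
-/

namespace Groth.Agent.Lib.Helper86.AdeqSplit
universe u
variable {A : Type u} [CommRing A]

open Groth.Agent.Lib.Helper86.AdeqBasic Groth.Agent.Lib.Helper86.AdeqFO
open Groth.Agent.Lib.Helper86.AdeqExt

section T2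
variable (N : Type u) [AddCommGroup N] [Module A N] [Module Aᵐᵒᵖ N] [IsCentralScalar A N]

/-- linear identity on `T (N × N)`. -/
theorem t2_identity :
    (LinearMap.id : TrivSqZeroExt A (N × N) →ₗ[A] TrivSqZeroExt A (N × N)) =
      (tMap (LinearMap.inl A N N)).hom.toLinearMap ∘ₗ (tMap (LinearMap.fst A N N)).hom.toLinearMap
      + (tMap (LinearMap.inr A N N)).hom.toLinearMap ∘ₗ (tMap (LinearMap.snd A N N)).hom.toLinearMap
      - (tUnit A (N × N)).hom.toLinearMap ∘ₗ (tAug A N).hom.toLinearMap ∘ₗ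
          (tMap (LinearMap.fst A N N)).hom.toLinearMap := by
  apply LinearMap.ext
  intro x
  simp only [LinearMap.id_apply, LinearMap.sub_apply, LinearMap.add_apply, LinearMap.comp_apply,
    AlgHom.toLinearMap_apply]
  rw [tMap_apply, tMap_apply, tMap_apply, tMap_apply]
  change x = _ + _ - TrivSqZeroExt.inl (TrivSqZeroExt.fst _)
  ext <;> simp

theorem eq_zero_of_t2 {M : Type (u+1)} [AddCommGroup M] [Module A M]
    (μ : (T A (N × N) : Type u) ⊗[A] M)
    (h1 : (tMap (LinearMap.fst A N N)).hom.toLinearMap.rTensor M μ = 0)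
    (h2 : (tMap (LinearMap.snd A N N)).hom.toLinearMap.rTensor M μ = 0) : μ = 0 := by
  have h3 : μ = (LinearMap.rTensor M (LinearMap.id : TrivSqZeroExt A (N × N) →ₗ[A] TrivSqZeroExt A (N × N))) μ := by
    rw [LinearMap.rTensor_id]; rfl
  rw [t2_identity, LinearMap.rTensor_sub, LinearMap.rTensor_add, LinearMap.sub_apply,
    LinearMap.add_apply, LinearMap.rTensor_comp, LinearMap.rTensor_comp, LinearMap.rTensor_comp,
    LinearMap.rTensor_comp, LinearMap.comp_apply, LinearMap.comp_apply, LinearMap.comp_apply,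
    LinearMap.comp_apply, h1, h2, map_zero, map_zero, map_zero, map_zero, add_zero, sub_zero] at h3
  exact h3

end T2

section Split
variable {P P' : ModuleCat.{u+1} A} {n m : ℕ} (b : Module.Basis (Fin n) A P)
  (b' : Module.Basis (Fin m) A P') (α : P ⟶ P')
variable {L G : Adeq.MVF A} {iL : L ⟶ (Adeq.underline A).obj P}
  (hL : IsKer iL ((Adeq.underline A).map α))
variable {M : ModuleCat.{u+1} A} {jG : (Adeq.underline A).obj M ⟶ G} {p : G ⟶ L}
  (hses : IsSES jG p)

include hL in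
/-- additivity of the universal element in the first order variable. -/
theorem mp_tMap_add_xi0 (ξ₀ : L.obj (Adeq.pt (T A (Q b b' α))))
    (hξ₀ : toT P (T A (Q b b' α)) (iL.app _ ξ₀) = y0 b b' α)
    {N : Type u} [AddCommGroup N] [Module A N] [Module Aᵐᵒᵖ N] [IsCentralScalar A N]
    (r₁ r₂ : Q b b' α →ₗ[A] N) :
    mp L (tMap (r₁ + r₂)) ξ₀ = mp L (tMap r₁) ξ₀ + mp L (tMap r₂) ξ₀ := by
  apply hL.inj
  apply (toT P (T A N)).injective
  rw [map_add, map_add, app_mp, app_mp, app_mp, toT_mp, toT_mp, toT_mp, hξ₀]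
  unfold y0
  rw [rTensor_sum_tmul, rTensor_sum_tmul, rTensor_sum_tmul, ← Finset.sum_add_distrib]
  refine Finset.sum_congr rfl (fun k _ => ?_)
  rw [← TensorProduct.add_tmul]
  congr 1
  change (tMap (r₁ + r₂)).hom (TrivSqZeroExt.inr (e b b' α k)) =
    (tMap r₁).hom (TrivSqZeroExt.inr (e b b' α k)) + (tMap r₂).hom (TrivSqZeroExt.inr (e b b' α k))
  rw [tMap_apply, tMap_apply, tMap_apply]
  ext <;> simp

include hL hses in
theorem exists_eta0 (ξ₀ : L.obj (Adeq.pt (T A (Q b b' α))))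
    (hξ₀ : toT P (T A (Q b b' α)) (iL.app _ ξ₀) = y0 b b' α) :
    ∃ η₀ : G.obj (Adeq.pt (T A (Q b b' α))), p.app _ η₀ = ξ₀ ∧ mp G (tAug A (Q b b' α)) η₀ = 0 := by
  obtain ⟨η, hη⟩ := hses.surj _ ξ₀
  refine ⟨η - mp G (tAug A (Q b b' α) ≫ tUnit A (Q b b' α)) η, ?_, ?_⟩
  · rw [map_sub, app_mp, hη, mp_comp, aug_xi0 b b' α hL ξ₀ hξ₀, map_zero, sub_zero]
  · rw [map_sub, ← mp_comp, Category.assoc, tUnit_tAug, Category.comp_id, sub_self]

theorem fst_comp_sum (N : Type u) [AddCommGroup N] [Module A N] :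
    LinearMap.fst A N N ∘ₗ (LinearMap.inl A N N + LinearMap.inr A N N) = LinearMap.id := by
  ext x; simp
theorem snd_comp_sum (N : Type u) [AddCommGroup N] [Module A N] :
    LinearMap.snd A N N ∘ₗ (LinearMap.inl A N N + LinearMap.inr A N N) = LinearMap.id := by
  ext x; simp

/-- the defect of additivity. -/
noncomputable def δ0 (η₀ : G.obj (Adeq.pt (T A (Q b b' α)))) :
    G.obj (Adeq.pt (T A (Q b b' α × Q b b' α))) :=
  mp G (tMap (LinearMap.inl A _ _ + LinearMap.inr A _ _)) η₀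
      - (mp G (tMap (LinearMap.inl A (Q b b' α) (Q b b' α))) η₀
        + mp G (tMap (LinearMap.inr A (Q b b' α) (Q b b' α))) η₀)

theorem fst_δ0 (η₀ : G.obj (Adeq.pt (T A (Q b b' α)))) (h2 : mp G (tAug A (Q b b' α)) η₀ = 0) :
    mp G (tMap (LinearMap.fst A (Q b b' α) (Q b b' α))) (δ0 b b' α η₀) = 0 := by
  have hzero : mp G (tMap (0 : Q b b' α →ₗ[A] Q b b' α)) η₀ = 0 := by
    rw [tMap_zero, mp_comp, h2, map_zero]
  unfold δ0
  rw [map_sub, map_add, ← mp_comp, ← mp_comp, ← mp_comp, tMap_comp, tMap_comp, tMap_comp,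
    fst_comp_sum, LinearMap.fst_comp_inl, LinearMap.fst_comp_inr, hzero, add_zero, sub_self]

theorem snd_δ0 (η₀ : G.obj (Adeq.pt (T A (Q b b' α)))) (h2 : mp G (tAug A (Q b b' α)) η₀ = 0) :
    mp G (tMap (LinearMap.snd A (Q b b' α) (Q b b' α))) (δ0 b b' α η₀) = 0 := by
  have hzero : mp G (tMap (0 : Q b b' α →ₗ[A] Q b b' α)) η₀ = 0 := by
    rw [tMap_zero, mp_comp, h2, map_zero]
  unfold δ0
  rw [map_sub, map_add, ← mp_comp, ← mp_comp, ← mp_comp, tMap_comp, tMap_comp, tMap_comp,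
    snd_comp_sum, LinearMap.snd_comp_inl, LinearMap.snd_comp_inr, hzero, zero_add, sub_self]

include hL hses in
theorem δ0_eq_zero (ξ₀ : L.obj (Adeq.pt (T A (Q b b' α))))
    (hξ₀ : toT P (T A (Q b b' α)) (iL.app _ ξ₀) = y0 b b' α)
    (η₀ : G.obj (Adeq.pt (T A (Q b b' α)))) (h1 : p.app _ η₀ = ξ₀)
    (h2 : mp G (tAug A (Q b b' α)) η₀ = 0) : δ0 b b' α η₀ = 0 := by
  have hpδ : p.app _ (δ0 b b' α η₀) = 0 := by
    unfold δ0
    rw [map_sub, map_add, app_mp, app_mp, app_mp, h1,
      mp_tMap_add_xi0 b b' α hL ξ₀ hξ₀, sub_self]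
  obtain ⟨μ, hμ⟩ := hses.ex _ _ hpδ
  have hμ0 : μ = 0 := by
    apply (toT M (T A (Q b b' α × Q b b' α))).injective
    rw [map_zero]
    apply eq_zero_of_t2
    · rw [← toT_mp, ← map_zero (toT M (T A (Q b b' α)))]
      congr 1
      apply hses.inj
      rw [app_mp, hμ, fst_δ0 b b' α η₀ h2, map_zero]
    · rw [← toT_mp, ← map_zero (toT M (T A (Q b b' α)))]
      congr 1
      apply hses.inj
      rw [app_mp, hμ, snd_δ0 b b' α η₀ h2, map_zero]
  rw [← hμ, hμ0, map_zero]

theorem coprod_comp_sum {N : Type u} [AddCommGroup N] [Module A N] {B : Type u} [CommRing B]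
    [Algebra A B] (q q' : N →ₗ[A] B) :
    q.coprod q' ∘ₗ (LinearMap.inl A N N + LinearMap.inr A N N) = q + q' := by
  ext x; simp

include hL hses in
theorem add_eta0 (ξ₀ : L.obj (Adeq.pt (T A (Q b b' α))))
    (hξ₀ : toT P (T A (Q b b' α)) (iL.app _ ξ₀) = y0 b b' α)
    (η₀ : G.obj (Adeq.pt (T A (Q b b' α)))) (h1 : p.app _ η₀ = ξ₀)
    (h2 : mp G (tAug A (Q b b' α)) η₀ = 0) {B : Adeq.Alg A} (q q' : Q b b' α →ₗ[A] B) :
    mp G (tLift (q + q')) η₀ = mp G (tLift q) η₀ + mp G (tLift q') η₀ := by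
  have key := δ0_eq_zero b b' α hL hses ξ₀ hξ₀ η₀ h1 h2
  unfold δ0 at key
  rw [sub_eq_zero] at key
  have e0 : tMap (LinearMap.inl A (Q b b' α) (Q b b' α) + LinearMap.inr A _ _) ≫ tLift (q.coprod q')
      = tLift (q + q') := by
    rw [tMap_tLift, coprod_comp_sum]
  have e1 : tMap (LinearMap.inl A (Q b b' α) (Q b b' α)) ≫ tLift (q.coprod q') = tLift q := by
    rw [tMap_tLift, LinearMap.coprod_inl]
  have e2 : tMap (LinearMap.inr A (Q b b' α) (Q b b' α)) ≫ tLift (q.coprod q') = tLift q' := by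
    rw [tMap_tLift, LinearMap.coprod_inr]
  rw [← e0, ← e1, ← e2, mp_comp, mp_comp, mp_comp, key, map_add]

include hL hses b b' in
/-- the extension `0 → underline M → G → L → 0` has a section. -/
theorem exists_section_basis : ∃ σ : L ⟶ G, σ ≫ p = 𝟙 L := by
  obtain ⟨ξ₀, hξ₀⟩ := exists_xi0 b b' α hL
  obtain ⟨η₀, h1, h2⟩ := exists_eta0 b b' α hL hses ξ₀ hξ₀
  have hFOL : FO L := fo_of_isKer hL (fo_underline P) (fo_underline P')
  have hFOG : FO G := fo_of_isSES hses (fo_underline M) hFOL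
  have hex : ∀ (B : Adeq.Alg A) (ξ : L.obj (Adeq.pt B)),
      ∃ s, eps G B s = mp G (tLift (qOf b b' α hL B ξ)) η₀ := by
    intro B ξ
    apply (hFOG B).2
    rw [← mp_comp, tLift_dAug, mp_comp, h2, map_zero]
  choose σf hσf using hex
  let σl : ∀ B : Adeq.Alg A, L.obj (Adeq.pt B) →ₗ[B] G.obj (Adeq.pt B) := fun B =>
    { toFun := σf B
      map_add' := by
        intro x y
        apply (hFOG B).1
        rw [hσf, eps_add, hσf, hσf, qOf_add, add_eta0 b b' α hL hses ξ₀ hξ₀ η₀ h1 h2]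
      map_smul' := by
        intro c x
        apply (hFOG B).1
        rw [hσf, qOf_smul, ← tLift_dMul, mp_comp, ← hσf, mp_dMul_eps]
        rfl }
  have hnat : ∀ {B B' : Adeq.Alg A} (h : B ⟶ B') (x : L.obj (Adeq.pt B)),
      σl B' (mp L h x) = mp G h (σl B x) := by
    intro B B' h x
    apply (hFOG B').1
    change eps G B' (σf B' (mp L h x)) = eps G B' (mp G h (σf B x))
    rw [hσf, qOf_mp, ← tLift_dMap, mp_comp, ← hσf, mp_dMap_eps]
  refine ⟨mkHom σl hnat, ?_⟩
  apply PresheafOfModules.hom_ext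
  intro X
  obtain ⟨⟨B⟩⟩ := X
  apply ModuleCat.hom_ext
  apply LinearMap.ext
  intro x
  change p.app (Adeq.pt B) (σf B x) = x
  apply (hFOL B).1
  rw [← app_eps, hσf, app_mp, h1, univ_prop b b' α hL ξ₀ hξ₀]

end Split

/-- Stacks 46.3.11 (section). -/
theorem exists_section {P P' : ModuleCat.{u+1} A} [Module.Finite A P] [Module.Free A P]
    [Module.Finite A P'] [Module.Free A P'] (α : P ⟶ P') {L G : Adeq.MVF A}
    {iL : L ⟶ (Adeq.underline A).obj P} (hL : IsKer iL ((Adeq.underline A).map α))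
    {M : ModuleCat.{u+1} A} {jG : (Adeq.underline A).obj M ⟶ G} {p : G ⟶ L}
    (hses : IsSES jG p) : ∃ σ : L ⟶ G, σ ≫ p = 𝟙 L :=
  exists_section_basis
    ((Module.Free.chooseBasis A P).reindex (Fintype.equivFin _))
    ((Module.Free.chooseBasis A P').reindex (Fintype.equivFin _)) α hL hses

/-- binary biproducts of adequate functors are adequate. -/
theorem adequate_biprod {X Y : Adeq.MVF A} (hX : Adeq.adequate A X) (hY : Adeq.adequate A Y) :
    Adeq.adequate A (X ⊞ Y) := by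
  obtain ⟨M, N, ρ, iX, hiX⟩ := (adequate_iff X).1 hX
  obtain ⟨M', N', ρ', iY, hiY⟩ := (adequate_iff Y).1 hY
  let MM : ModuleCat.{u+1} A := ModuleCat.of A (M × M')
  let NN : ModuleCat.{u+1} A := ModuleCat.of A (N × N')
  let inl' : M ⟶ MM := ModuleCat.ofHom (LinearMap.inl A M M')
  let inr' : M' ⟶ MM := ModuleCat.ofHom (LinearMap.inr A M M')
  let fst' : MM ⟶ M := ModuleCat.ofHom (LinearMap.fst A M M')
  let snd' : MM ⟶ M' := ModuleCat.ofHom (LinearMap.snd A M M')
  let ρρ : MM ⟶ NN := ModuleCat.ofHom (ρ.hom.prodMap ρ'.hom)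
  let k : X ⊞ Y ⟶ (Adeq.underline A).obj MM :=
    biprod.fst ≫ iX ≫ (Adeq.underline A).map inl' + biprod.snd ≫ iY ≫ (Adeq.underline A).map inr'
  have e11 : inl' ≫ fst' = 𝟙 M := by apply ModuleCat.hom_ext; exact LinearMap.fst_comp_inl A M M'
  have e21 : inr' ≫ fst' = 0 := by apply ModuleCat.hom_ext; exact LinearMap.fst_comp_inr A M M'
  have e12 : inl' ≫ snd' = 0 := by apply ModuleCat.hom_ext; exact LinearMap.snd_comp_inl A M M'
  have e22 : inr' ≫ snd' = 𝟙 M' := by apply ModuleCat.hom_ext; exact LinearMap.snd_comp_inr A M M'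
  have hk1 : k ≫ (Adeq.underline A).map fst' = biprod.fst ≫ iX := by
    rw [Preadditive.add_comp, Category.assoc, Category.assoc, Category.assoc, Category.assoc,
      ← Functor.map_comp, ← Functor.map_comp, e11, e21, CategoryTheory.Functor.map_id,
      Functor.map_zero, Category.comp_id, comp_zero, comp_zero, add_zero]
  have hk2 : k ≫ (Adeq.underline A).map snd' = biprod.snd ≫ iY := by
    rw [Preadditive.add_comp, Category.assoc, Category.assoc, Category.assoc, Category.assoc,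
      ← Functor.map_comp, ← Functor.map_comp, e12, e22, CategoryTheory.Functor.map_id,
      Functor.map_zero, Category.comp_id, comp_zero, comp_zero, zero_add]
  have hρ1 : ρρ ≫ ModuleCat.ofHom (LinearMap.fst A N N') = fst' ≫ ρ := by
    apply ModuleCat.hom_ext; apply LinearMap.ext; rintro ⟨x, y⟩; rfl
  have hρ2 : ρρ ≫ ModuleCat.ofHom (LinearMap.snd A N N') = snd' ≫ ρ' := by
    apply ModuleCat.hom_ext; apply LinearMap.ext; rintro ⟨x, y⟩; rfl
  have hid : fst' ≫ inl' + snd' ≫ inr' = 𝟙 MM := by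
    apply ModuleCat.hom_ext; apply LinearMap.ext; rintro ⟨x, y⟩
    change (x, (0 : M')) + ((0 : M), y) = (x, y)
    simp
  rw [adequate_iff]
  refine ⟨MM, NN, ρρ, k, ?_, ?_, ?_⟩
  · apply PresheafOfModules.hom_ext
    intro X'
    obtain ⟨⟨B⟩⟩ := X'
    apply ModuleCat.hom_ext
    apply LinearMap.ext
    intro x
    change ((Adeq.underline A).map ρρ).app (Adeq.pt B) (k.app (Adeq.pt B) x) = 0
    apply (toT NN B).injective
    rw [map_zero]
    apply Groth.Agent.Lib.Helper86.AdeqClosure.prod_ext_lTensor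
    · change (ModuleCat.ofHom (LinearMap.fst A N N')).hom.lTensor B _ = 0
      rw [← toT_map_app (ModuleCat.ofHom (LinearMap.fst A N N')), ← comp_app_apply, ← comp_app_apply,
        ← Functor.map_comp, hρ1, Functor.map_comp, ← Category.assoc, hk1,
        Category.assoc, hiX.w, comp_zero]
      rfl
    · change (ModuleCat.ofHom (LinearMap.snd A N N')).hom.lTensor B _ = 0
      rw [← toT_map_app (ModuleCat.ofHom (LinearMap.snd A N N')), ← comp_app_apply, ← comp_app_apply,
        ← Functor.map_comp, hρ2, Functor.map_comp, ← Category.assoc, hk2,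
        Category.assoc, hiY.w, comp_zero]
      rfl
  · intro X'
    rw [injective_iff_map_eq_zero]
    intro x hx
    have h1 : (biprod.fst : X ⊞ Y ⟶ X).app X' x = 0 := by
      apply hiX.inj
      rw [← comp_app_apply, ← hk1, comp_app_apply, hx, map_zero, map_zero]
    have h2 : (biprod.snd : X ⊞ Y ⟶ Y).app X' x = 0 := by
      apply hiY.inj
      rw [← comp_app_apply, ← hk2, comp_app_apply, hx, map_zero, map_zero]
    have h3 := congr_app_apply (biprod.total (X := X) (Y := Y)) X' x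
    rw [PresheafOfModules.add_app] at h3
    change (biprod.fst ≫ biprod.inl : X ⊞ Y ⟶ X ⊞ Y).app X' x + (biprod.snd ≫ biprod.inr : X ⊞ Y ⟶ X ⊞ Y).app X' x = x at h3
    rw [comp_app_apply, comp_app_apply, h1, h2, map_zero, map_zero, add_zero] at h3
    exact h3.symm
  · intro X' y hy
    obtain ⟨⟨B⟩⟩ := X'
    have hy1 : ((Adeq.underline A).map ρ).app (Adeq.pt B)
        (((Adeq.underline A).map fst').app (Adeq.pt B) y) = 0 := by
      rw [← comp_app_apply, ← Functor.map_comp, ← hρ1, Functor.map_comp, comp_app_apply, hy, map_zero]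
    have hy2 : ((Adeq.underline A).map ρ').app (Adeq.pt B)
        (((Adeq.underline A).map snd').app (Adeq.pt B) y) = 0 := by
      rw [← comp_app_apply, ← Functor.map_comp, ← hρ2, Functor.map_comp, comp_app_apply, hy, map_zero]
    obtain ⟨x1, hx1⟩ := hiX.ex _ _ hy1
    obtain ⟨x2, hx2⟩ := hiY.ex _ _ hy2
    refine ⟨(biprod.inl : X ⟶ X ⊞ Y).app _ x1 + (biprod.inr : Y ⟶ X ⊞ Y).app _ x2, ?_⟩
    have hy3 := congr_app_apply (congrArg (Adeq.underline A).map hid) (Adeq.pt B) y
    rw [Functor.map_add, CategoryTheory.Functor.map_id, Functor.map_comp, Functor.map_comp] at hy3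
    change ((Adeq.underline A).map fst' ≫ (Adeq.underline A).map inl').app (Adeq.pt B) y
      + ((Adeq.underline A).map snd' ≫ (Adeq.underline A).map inr').app (Adeq.pt B) y = y at hy3
    rw [comp_app_apply, comp_app_apply, ← hx1, ← hx2] at hy3
    rw [← hy3, map_add]
    congr 1
    · rw [← comp_app_apply, ← comp_app_apply]
      congr 2
      simp only [k, Preadditive.comp_add, biprod.inl_fst_assoc, biprod.inl_snd_assoc, zero_comp, add_zero]
    · rw [← comp_app_apply, ← comp_app_apply]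
      congr 2
      simp only [k, Preadditive.comp_add, biprod.inr_fst_assoc, biprod.inr_snd_assoc, zero_comp, zero_add]

theorem adequate_underline (M : ModuleCat.{u+1} A) : Adeq.adequate A ((Adeq.underline A).obj M) := by
  rw [adequate_iff]
  refine ⟨M, M, 0, 𝟙 _, ?_, ?_, ?_⟩
  · rw [Functor.map_zero, comp_zero]
  · intro X x y h; exact h
  · intro X y _; exact ⟨y, rfl⟩

/-- Stacks 46.3.11 -/
theorem splitting_of_linAdequate (S : ShortComplex (Adeq.MVF A)) (hS : S.ShortExact)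
    (M : ModuleCat.{u + 1} A) (e : S.X₁ ≅ (Adeq.underline A).obj M)
    (hL : Adeq.linAdequate A S.X₃) : Nonempty S.Splitting ∧ Adeq.adequate A S.X₂ := by
  obtain ⟨P, P', α, iL, hfin, hfree, hfin', hfree', hker⟩ := (linAdequate_iff S.X₃).1 hL
  have h0 := isSES_of_shortExact S hS
  have hses : IsSES (e.inv ≫ S.f) S.g := by
    refine ⟨by rw [Category.assoc, S.zero, comp_zero], ?_, ?_, h0.surj⟩
    · intro X
      have : Mono (e.inv ≫ S.f) := by have := hS.mono_f; infer_instance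
      exact PresheafOfModules.injective_of_mono _ X
    · intro X y hy
      obtain ⟨x, hx⟩ := h0.ex X y hy
      refine ⟨e.hom.app X x, ?_⟩
      rw [comp_app_apply, ← comp_app_apply e.hom e.inv, e.hom_inv_id]
      exact hx
  obtain ⟨σ, hσ⟩ := exists_section α hker hses
  have := hS.mono_f
  have spl : S.Splitting := ShortComplex.Splitting.ofExactOfSection S hS.exact σ hσ inferInstance
  refine ⟨⟨spl⟩, ?_⟩
  have h1 : Adeq.adequate A S.X₁ := (Adeq.adequate A).prop_of_iso e.symm (adequate_underline M)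
  have h3 : Adeq.adequate A S.X₃ := adequate_of_linAdequate hL
  exact (Adeq.adequate A).prop_of_iso spl.isoBinaryBiproduct.symm (adequate_biprod h1 h3)

end Groth.Agent.Lib.Helper86.AdeqSplit
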