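import Mathlib
import Groth.Prelude.Def_Adeq
import Groth.Agent.Lib.Helper86.AdeqSplit
import Groth.Agent.Lib.Helper86.AdeqColim

open CategoryTheory Limits TensorProduct Opposite

/-!
# Extensions of adequate functors are adequate (Stacks 46.3.16 part)
-/

namespace Groth.Agent.Lib.Helper86.AdeqExtn
universe u
variable {A : Type u} [CommRing A]

open Groth.Agent.Lib.Helper86.AdeqBasic Groth.Agent.Lib.Helper86.AdeqFO
open Groth.Agent.Lib.Helper86.AdeqExt Groth.Agent.Lib.Helper86.AdeqGen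
open Groth.Agent.Lib.Helper86.AdeqClosure Groth.Agent.Lib.Helper86.AdeqColim
open Groth.Agent.Lib.Helper86.AdeqSplit

/-- `q : G ⟶ C` is (pointwise) a cokernel of `φ : F ⟶ G`. -/
structure IsCoker {F G C : Adeq.MVF A} (φ : F ⟶ G) (q : G ⟶ C) : Prop where
  w : φ ≫ q = 0
  surj : ∀ X, Function.Surjective (q.app X)
  ex : ∀ X (y : G.obj X), q.app X y = 0 → ∃ x, φ.app X x = y

namespace IsCoker
variable {F G C : Adeq.MVF A} {φ : F ⟶ G} {q : G ⟶ C}

theorem isIso_desc (h : IsCoker φ q) : IsIso (cokernel.desc φ q h.w) := by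
  have : Epi q := PresheafOfModules.epi_of_surjective (fun X => h.surj X)
  have : Epi (cokernel.desc φ q h.w) := epi_of_epi_fac (cokernel.π_desc φ q h.w)
  have : Mono (cokernel.desc φ q h.w) := by
    apply PresheafOfModules.mono_of_injective
    intro X
    rw [injective_iff_map_eq_zero]
    intro z hz
    obtain ⟨y, rfl⟩ := cokernel_π_surjective φ X z
    rw [← comp_app_apply, cokernel.π_desc] at hz
    obtain ⟨x, rfl⟩ := h.ex X y hz
    exact cokernel_π_apply φ X x
  exact isIso_of_mono_of_epi _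

noncomputable def iso (h : IsCoker φ q) : cokernel φ ≅ C :=
  haveI := h.isIso_desc
  asIso (cokernel.desc φ q h.w)

end IsCoker

section Biprod
variable {X Y : Adeq.MVF A}

theorem biprod_total (X' : (Adeq.Alg A)ᵒᵖᵒᵖ) (z : (X ⊞ Y).obj X') :
    (biprod.inl : X ⟶ X ⊞ Y).app X' ((biprod.fst : X ⊞ Y ⟶ X).app X' z)
      + (biprod.inr : Y ⟶ X ⊞ Y).app X' ((biprod.snd : X ⊞ Y ⟶ Y).app X' z) = z := by
  have h3 := congr_app_apply (biprod.total (X := X) (Y := Y)) X' z
  rw [PresheafOfModules.add_app] at h3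
  exact h3

theorem fst_inl (X' : (Adeq.Alg A)ᵒᵖᵒᵖ) (x : X.obj X') :
    (biprod.fst : X ⊞ Y ⟶ X).app X' ((biprod.inl : X ⟶ X ⊞ Y).app X' x) = x :=
  congr_app_apply (biprod.inl_fst (X := X) (Y := Y)) X' x

theorem snd_inl (X' : (Adeq.Alg A)ᵒᵖᵒᵖ) (x : X.obj X') :
    (biprod.snd : X ⊞ Y ⟶ Y).app X' ((biprod.inl : X ⟶ X ⊞ Y).app X' x) = 0 :=
  congr_app_apply (biprod.inl_snd (X := X) (Y := Y)) X' x

theorem fst_inr (X' : (Adeq.Alg A)ᵒᵖᵒᵖ) (y : Y.obj X') :
    (biprod.fst : X ⊞ Y ⟶ X).app X' ((biprod.inr : Y ⟶ X ⊞ Y).app X' y) = 0 :=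
  congr_app_apply (biprod.inr_fst (X := X) (Y := Y)) X' y

theorem snd_inr (X' : (Adeq.Alg A)ᵒᵖᵒᵖ) (y : Y.obj X') :
    (biprod.snd : X ⊞ Y ⟶ Y).app X' ((biprod.inr : Y ⟶ X ⊞ Y).app X' y) = y :=
  congr_app_apply (biprod.inr_snd (X := X) (Y := Y)) X' y

theorem biprod_ext_elt (X' : (Adeq.Alg A)ᵒᵖᵒᵖ) (z z' : (X ⊞ Y).obj X')
    (h1 : (biprod.fst : X ⊞ Y ⟶ X).app X' z = (biprod.fst : X ⊞ Y ⟶ X).app X' z')
    (h2 : (biprod.snd : X ⊞ Y ⟶ Y).app X' z = (biprod.snd : X ⊞ Y ⟶ Y).app X' z') : z = z' := by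
  rw [← biprod_total X' z, ← biprod_total X' z', h1, h2]

theorem desc_apply {Z : Adeq.MVF A} (f : X ⟶ Z) (g : Y ⟶ Z) (X' : (Adeq.Alg A)ᵒᵖᵒᵖ)
    (z : (X ⊞ Y).obj X') :
    (biprod.desc f g).app X' z = f.app X' ((biprod.fst : X ⊞ Y ⟶ X).app X' z)
      + g.app X' ((biprod.snd : X ⊞ Y ⟶ Y).app X' z) := by
  have h1 : ∀ a, (biprod.desc f g).app X' ((biprod.inl : X ⟶ X ⊞ Y).app X' a) = f.app X' a :=
    fun a => congr_app_apply (biprod.inl_desc f g) X' a
  have h2 : ∀ a, (biprod.desc f g).app X' ((biprod.inr : Y ⟶ X ⊞ Y).app X' a) = g.app X' a :=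
    fun a => congr_app_apply (biprod.inr_desc f g) X' a
  conv_lhs => rw [← biprod_total X' z]
  rw [map_add, h1, h2]

end Biprod

section Pushout
variable {F G H E : Adeq.MVF A} (j : F ⟶ G) (p : G ⟶ H) (i : F ⟶ E)

/-- `x ↦ (j x, - i x)` -/
noncomputable def θP : F ⟶ G ⊞ E := j ≫ biprod.inl - i ≫ biprod.inr

theorem fst_θP (X' : (Adeq.Alg A)ᵒᵖᵒᵖ) (x : F.obj X') :
    (biprod.fst : G ⊞ E ⟶ G).app X' ((θP j i).app X' x) = j.app X' x := by
  have : θP j i ≫ biprod.fst = j := by simp [θP]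
  exact congr_app_apply this X' x

theorem snd_θP (X' : (Adeq.Alg A)ᵒᵖᵒᵖ) (x : F.obj X') :
    (biprod.snd : G ⊞ E ⟶ E).app X' ((θP j i).app X' x) = - i.app X' x := by
  have : θP j i ≫ biprod.snd = - i := by simp [θP]
  exact congr_app_apply this X' x

/-- the pushout. -/
noncomputable abbrev POb : Adeq.MVF A := cokernel (θP j i)

noncomputable def mPO : E ⟶ POb j i := biprod.inr ≫ cokernel.π (θP j i)
noncomputable def aPO : G ⟶ POb j i := biprod.inl ≫ cokernel.π (θP j i)

theorem θP_desc_p (w : j ≫ p = 0) : θP j i ≫ biprod.desc p (0 : E ⟶ H) = 0 := by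
  simp [θP, w]

theorem θP_desc_c : θP j i ≫ biprod.desc (0 : G ⟶ cokernel i) (cokernel.π i) = 0 := by
  simp [θP]

noncomputable def pPO (w : j ≫ p = 0) : POb j i ⟶ H :=
  cokernel.desc (θP j i) (biprod.desc p 0) (θP_desc_p j p i w)

noncomputable def cPO : POb j i ⟶ cokernel i :=
  cokernel.desc (θP j i) (biprod.desc 0 (cokernel.π i)) (θP_desc_c j i)

variable {j p}

theorem isSES_PO (hses : IsSES j p) : IsSES (mPO j i) (pPO j p i hses.w) := by
  refine ⟨?_, ?_, ?_, ?_⟩
  · simp [mPO, pPO]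
  · intro X'
    rw [injective_iff_map_eq_zero]
    intro y hy
    obtain ⟨x, hx⟩ := cokernel_π_exists (θP j i) X' ((biprod.inr : E ⟶ G ⊞ E).app X' y) hy
    have h1 := congrArg ((biprod.fst : G ⊞ E ⟶ G).app X') hx
    rw [fst_θP, fst_inr] at h1
    have hx0 : x = 0 := hses.inj X' (by rw [h1, map_zero])
    have h2 := congrArg ((biprod.snd : G ⊞ E ⟶ E).app X') hx
    rw [snd_θP, snd_inr, hx0, map_zero, neg_zero] at h2
    exact h2.symm
  · intro X' z' hz'
    obtain ⟨z, rfl⟩ := cokernel_π_surjective (θP j i) X' z'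
    have h1 : (biprod.desc p (0 : E ⟶ H)).app X' z = 0 := by
      rw [← hz']
      exact (congr_app_apply (cokernel.π_desc (θP j i) (biprod.desc p 0) (θP_desc_p j p i hses.w)) X' z).symm
    rw [desc_apply, PresheafOfModules.zero_app] at h1
    change p.app X' _ + 0 = 0 at h1
    rw [add_zero] at h1
    obtain ⟨x, hx⟩ := hses.ex X' _ h1
    refine ⟨(biprod.snd : G ⊞ E ⟶ E).app X' z + i.app X' x, ?_⟩
    change (cokernel.π (θP j i)).app X' ((biprod.inr : E ⟶ G ⊞ E).app X' _) = _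
    have h2 : (biprod.inr : E ⟶ G ⊞ E).app X' ((biprod.snd : G ⊞ E ⟶ E).app X' z + i.app X' x)
        = z - (θP j i).app X' x := by
      apply biprod_ext_elt
      · rw [fst_inr, map_sub, fst_θP, hx, sub_self]
      · rw [snd_inr, map_sub, snd_θP, sub_neg_eq_add]
    rw [h2, map_sub, cokernel_π_apply, sub_zero]
  · intro X' h
    obtain ⟨g, rfl⟩ := hses.surj X' h
    refine ⟨(aPO j i).app X' g, ?_⟩
    have : aPO j i ≫ pPO j p i hses.w = p := by simp [aPO, pPO]
    exact congr_app_apply this X' g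

theorem isKer_PO (hi : ∀ X, Function.Injective (i.app X)) :
    IsKer (aPO j i) (cPO j i) := by
  refine ⟨?_, ?_, ?_⟩
  · simp [aPO, cPO]
  · intro X'
    rw [injective_iff_map_eq_zero]
    intro g hg
    obtain ⟨x, hx⟩ := cokernel_π_exists (θP j i) X' ((biprod.inl : G ⟶ G ⊞ E).app X' g) hg
    have h2 := congrArg ((biprod.snd : G ⊞ E ⟶ E).app X') hx
    rw [snd_θP, snd_inl, neg_eq_zero] at h2
    have hx0 : x = 0 := hi X' (by rw [h2, map_zero])
    have h1 := congrArg ((biprod.fst : G ⊞ E ⟶ G).app X') hx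
    rw [fst_θP, fst_inl, hx0, map_zero] at h1
    exact h1.symm
  · intro X' z' hz'
    obtain ⟨z, rfl⟩ := cokernel_π_surjective (θP j i) X' z'
    have h1 : (biprod.desc (0 : G ⟶ cokernel i) (cokernel.π i)).app X' z = 0 := by
      rw [← hz']
      exact (congr_app_apply (cokernel.π_desc (θP j i) _ (θP_desc_c j i)) X' z).symm
    rw [desc_apply, PresheafOfModules.zero_app] at h1
    change 0 + (cokernel.π i).app X' _ = 0 at h1
    rw [zero_add] at h1
    obtain ⟨x, hx⟩ := cokernel_π_exists i X' _ h1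
    refine ⟨(biprod.fst : G ⊞ E ⟶ G).app X' z + j.app X' x, ?_⟩
    change (cokernel.π (θP j i)).app X' ((biprod.inl : G ⟶ G ⊞ E).app X' _) = _
    have h2 : (biprod.inl : G ⟶ G ⊞ E).app X' ((biprod.fst : G ⊞ E ⟶ G).app X' z + j.app X' x)
        = z + (θP j i).app X' x := by
      apply biprod_ext_elt
      · rw [fst_inl, map_add, fst_θP]
      · rw [snd_inl, map_add, snd_θP, hx, add_neg_cancel]
    rw [h2, map_add, cokernel_π_apply, add_zero]

end Pushout

section Pullback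
variable {M : ModuleCat.{u+1} A} {G' H L : Adeq.MVF A} {m : (Adeq.underline A).obj M ⟶ G'}
  {p' : G' ⟶ H} (hses : IsSES m p') (πL : L ⟶ H)

/-- `(g, l) ↦ p' g - π l` -/
noncomputable def ψB : G' ⊞ L ⟶ H := biprod.desc p' (-πL)

/-- the pulled back extension. -/
noncomputable abbrev PBb : Adeq.MVF A := kernel (ψB (p' := p') πL)

include hses in
theorem m_inl_ψB : (m ≫ (biprod.inl : G' ⟶ G' ⊞ L)) ≫ ψB (p' := p') πL = 0 := by
  simp [ψB, hses.w]

noncomputable def mPB : (Adeq.underline A).obj M ⟶ PBb (p' := p') πL :=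
  kernel.lift _ (m ≫ biprod.inl) (m_inl_ψB hses πL)

noncomputable def sndPB : PBb (p' := p') πL ⟶ L := kernel.ι _ ≫ biprod.snd

theorem ψB_apply (X' : (Adeq.Alg A)ᵒᵖᵒᵖ) (z : (G' ⊞ L).obj X') :
    (ψB (p' := p') πL).app X' z = p'.app X' ((biprod.fst : G' ⊞ L ⟶ G').app X' z)
      - πL.app X' ((biprod.snd : G' ⊞ L ⟶ L).app X' z) := by
  unfold ψB
  rw [desc_apply, PresheafOfModules.neg_app]
  change _ + -(_) = _
  rw [← sub_eq_add_neg]

theorem isSES_PB : IsSES (mPB hses πL) (sndPB (p' := p') πL) := by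
  have hfac : mPB hses πL ≫ kernel.ι _ = m ≫ biprod.inl := kernel.lift_ι _ _ _
  refine ⟨?_, ?_, ?_, ?_⟩
  · unfold sndPB
    rw [← Category.assoc, hfac, Category.assoc, biprod.inl_snd, comp_zero]
  · intro X'
    rw [injective_iff_map_eq_zero]
    intro y hy
    have h1 := congr_app_apply hfac X' y
    rw [comp_app_apply, hy, map_zero, comp_app_apply] at h1
    have h2 := congrArg ((biprod.fst : G' ⊞ L ⟶ G').app X') h1
    rw [map_zero, fst_inl] at h2
    exact hses.inj X' (by rw [← h2, map_zero])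
  · intro X' z hz
    have hz' : (biprod.snd : G' ⊞ L ⟶ L).app X' ((kernel.ι (ψB (p' := p') πL)).app X' z) = 0 := hz
    have h1 := kernel_ι_apply (ψB (p' := p') πL) X' z
    rw [ψB_apply, hz', map_zero, sub_zero] at h1
    obtain ⟨y, hy⟩ := hses.ex X' _ h1
    refine ⟨y, ?_⟩
    apply kernel_ι_injective (ψB (p' := p') πL) X'
    rw [← comp_app_apply, hfac, comp_app_apply]
    apply biprod_ext_elt
    · rw [fst_inl, hy]
    · rw [snd_inl, hz']
  · intro X' l
    obtain ⟨g, hg⟩ := hses.surj X' (πL.app X' l)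
    have e1 : (biprod.fst : G' ⊞ L ⟶ G').app X'
        ((biprod.inl : G' ⟶ G' ⊞ L).app X' g + (biprod.inr : L ⟶ G' ⊞ L).app X' l) = g := by
      rw [map_add, fst_inl, fst_inr, add_zero]
    have e2 : (biprod.snd : G' ⊞ L ⟶ L).app X'
        ((biprod.inl : G' ⟶ G' ⊞ L).app X' g + (biprod.inr : L ⟶ G' ⊞ L).app X' l) = l := by
      rw [map_add, snd_inl, snd_inr, zero_add]
    obtain ⟨z, hz⟩ := kernel_ι_exists (ψB (p' := p') πL) X'
      ((biprod.inl : G' ⟶ G' ⊞ L).app X' g + (biprod.inr : L ⟶ G' ⊞ L).app X' l) (by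
        rw [ψB_apply, e1, e2, hg, sub_self])
    refine ⟨z, ?_⟩
    change (biprod.snd : G' ⊞ L ⟶ L).app X' ((kernel.ι (ψB (p' := p') πL)).app X' z) = l
    rw [hz, e2]

theorem ι_fst_p' : (kernel.ι (ψB (p' := p') πL) ≫ biprod.fst) ≫ p' = sndPB (p' := p') πL ≫ πL := by
  have h2 : ψB (p' := p') πL = biprod.fst ≫ p' - biprod.snd ≫ πL := by
    apply biprod.hom_ext' <;> simp [ψB]
  have h : kernel.ι (ψB (p' := p') πL) ≫ (biprod.fst ≫ p' - biprod.snd ≫ πL) = 0 := by
    rw [← h2]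
    exact kernel.condition _
  rw [Preadditive.comp_sub, sub_eq_zero] at h
  unfold sndPB
  rw [Category.assoc, Category.assoc]
  exact h

end Pullback

theorem isKer_of_isSES {F G H : Adeq.MVF A} {j : F ⟶ G} {p : G ⟶ H} (h : IsSES j p) : IsKer j p :=
  ⟨h.w, h.inj, h.ex⟩

/-- an extension of an adequate functor by `underline M` is adequate. -/
theorem adequate_of_isSES_underline {M : ModuleCat.{u+1} A} {G' H : Adeq.MVF A}
    {m : (Adeq.underline A).obj M ⟶ G'} {p' : G' ⟶ H} (hses : IsSES m p')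
    (hH : Adeq.adequate A H) : Adeq.adequate A G' := by
  obtain ⟨ι, L, hL, c, hc, π, hπ⟩ := exists_epi_cofan H hH
  -- sections over each `L i`
  have hsec : ∀ i, ∃ τ : L i ⟶ G', τ ≫ p' = c.inj i ≫ π := by
    intro i
    obtain ⟨P, P', α, iL, hfin, hfree, hfin', hfree', hker⟩ := (linAdequate_iff (L i)).1 (hL i)
    obtain ⟨σ, hσ⟩ := exists_section α hker (isSES_PB hses (c.inj i ≫ π))
    refine ⟨σ ≫ kernel.ι _ ≫ biprod.fst, ?_⟩
    rw [Category.assoc, ι_fst_p', ← Category.assoc, hσ, Category.id_comp]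
  choose τ hτ using hsec
  let τs : c.pt ⟶ G' := Cofan.IsColimit.desc hc τ
  have hτs : τs ≫ p' = π := by
    apply Cofan.IsColimit.hom_ext hc
    intro i
    rw [← Category.assoc, Cofan.IsColimit.fac hc, hτ i]
  -- the kernel of π
  have hcpt : Adeq.adequate A c.pt :=
    adequate_of_isColimit_cofan (fun i => adequate_of_linAdequate (hL i)) hc
  have hK : Adeq.adequate A (kernel π) := adequate_kernel π hcpt hH
  have hlift : (kernel.ι π ≫ τs) ≫ p' = 0 := by
    rw [Category.assoc, hτs, kernel.condition]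
  obtain ⟨lam, hlam⟩ := (isKer_of_isSES hses).exists_lift _ hlift
  let κ : kernel π ⟶ (Adeq.underline A).obj M ⊞ c.pt := - lam ≫ biprod.inl + kernel.ι π ≫ biprod.inr
  let ω : (Adeq.underline A).obj M ⊞ c.pt ⟶ G' := biprod.desc m τs
  have hcok : IsCoker κ ω := by
    refine ⟨?_, ?_, ?_⟩
    · simp only [κ, ω, Preadditive.add_comp, Preadditive.neg_comp, Category.assoc, biprod.inl_desc,
        biprod.inr_desc, hlam, neg_add_cancel]
    · intro X' g
      obtain ⟨l, hl⟩ := PresheafOfModules.surjective_of_epi π X' (p'.app X' g)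
      have h1 : p'.app X' (g - τs.app X' l) = 0 := by
        rw [map_sub, ← comp_app_apply, hτs, hl, sub_self]
      obtain ⟨y, hy⟩ := hses.ex X' _ h1
      have e1 : (biprod.fst : (Adeq.underline A).obj M ⊞ c.pt ⟶ _).app X'
          ((biprod.inl : (Adeq.underline A).obj M ⟶ _ ⊞ c.pt).app X' y
            + (biprod.inr : c.pt ⟶ (Adeq.underline A).obj M ⊞ _).app X' l) = y := by
        rw [map_add, fst_inl, fst_inr, add_zero]
      have e2 : (biprod.snd : (Adeq.underline A).obj M ⊞ c.pt ⟶ _).app X'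
          ((biprod.inl : (Adeq.underline A).obj M ⟶ _ ⊞ c.pt).app X' y
            + (biprod.inr : c.pt ⟶ (Adeq.underline A).obj M ⊞ _).app X' l) = l := by
        rw [map_add, snd_inl, snd_inr, zero_add]
      refine ⟨(biprod.inl : (Adeq.underline A).obj M ⟶ _ ⊞ c.pt).app X' y
        + (biprod.inr : c.pt ⟶ (Adeq.underline A).obj M ⊞ _).app X' l, ?_⟩
      rw [desc_apply, e1, e2, hy]
      abel
    · intro X' z hz
      rw [desc_apply] at hz
      set y := (biprod.fst : (Adeq.underline A).obj M ⊞ c.pt ⟶ _).app X' z with hy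
      set l := (biprod.snd : (Adeq.underline A).obj M ⊞ c.pt ⟶ _).app X' z with hl
      have h1 : π.app X' l = 0 := by
        have h0 := congrArg (p'.app X') hz
        rw [map_add, map_zero] at h0
        have ha : p'.app X' (m.app X' y) = 0 := congr_app_apply hses.w X' y
        have hb : p'.app X' (τs.app X' l) = π.app X' l := congr_app_apply hτs X' l
        rw [ha, hb, zero_add] at h0
        exact h0
      obtain ⟨k, hk⟩ := kernel_ι_exists π X' l h1
      refine ⟨k, ?_⟩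
      have h2 : m.app X' (lam.app X' k) = τs.app X' l := by
        rw [← comp_app_apply, hlam, comp_app_apply, hk]
      have h3 : y = - lam.app X' k := by
        apply hses.inj X'
        rw [map_neg, h2]
        exact eq_neg_of_add_eq_zero_left hz
      apply biprod_ext_elt
      · have : κ ≫ biprod.fst = - lam := by simp [κ]
        rw [← comp_app_apply, this, ← hy, h3]
        rfl
      · have : κ ≫ biprod.snd = kernel.ι π := by simp [κ]
        rw [← comp_app_apply, this, hk]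
  have hMc : Adeq.adequate A ((Adeq.underline A).obj M ⊞ c.pt) :=
    adequate_biprod (adequate_underline M) hcpt
  exact (Adeq.adequate A).prop_of_iso hcok.iso (adequate_cokernel κ hK hMc)


theorem adequate_of_isSES {F G H : Adeq.MVF A} {j : F ⟶ G} {p : G ⟶ H} (hses : IsSES j p)
    (h₁ : Adeq.adequate A F) (h₃ : Adeq.adequate A H) : Adeq.adequate A G := by
  obtain ⟨M, N, φ, i, hi⟩ := (adequate_iff F).1 h₁
  have hG' : Adeq.adequate A (POb j i) :=
    adequate_of_isSES_underline (isSES_PO i hses) h₃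
  have hcok : Adeq.adequate A (cokernel i) := adequate_cokernel_to_underline h₁ i
  have hk : Adeq.adequate A (kernel (cPO j i)) := adequate_kernel (cPO j i) hG' hcok
  exact (Adeq.adequate A).prop_of_iso (isKer_PO i hi.inj).iso.symm hk

theorem adequate_of_shortExact (S : ShortComplex (Adeq.MVF A))
    (hS : S.ShortExact) (h₁ : Adeq.adequate A S.X₁) (h₃ : Adeq.adequate A S.X₃) :
    Adeq.adequate A S.X₂ :=
  adequate_of_isSES (isSES_of_shortExact S hS) h₁ h₃

end Groth.Agent.Lib.Helper86.AdeqExtn
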