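import Mathlib
import Groth.Prelude.Def_Adeq
import Groth.Agent.Lib.Helper86.AdeqFO

open CategoryTheory Limits TensorProduct Opposite

/-!
# `Adeq.MVF A` has enough injectives (coinduced functors)
-/

namespace Groth.Agent.Lib.Helper86.AdeqInj
universe u
variable {A : Type u} [CommRing A]

open Groth.Agent.Lib.Helper86.AdeqBasic Groth.Agent.Lib.Helper86.AdeqFO

section Coind
variable (B : Adeq.Alg A) (N : ModuleCat.{u+1} B)

/-- values of the coinduced functor: functions `(B' ⟶ B) → N`. -/
def CoindObj (B' : Adeq.Alg A) : Type (u+1) := (B' ⟶ B) → N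

instance (B' : Adeq.Alg A) : AddCommGroup (CoindObj B N B') := inferInstanceAs (AddCommGroup ((B' ⟶ B) → N))

instance (B' : Adeq.Alg A) : Module B' (CoindObj B N B') where
  smul b' h := fun f => f.hom b' • h f
  one_smul h := by
    funext f
    change f.hom 1 • h f = h f
    rw [map_one, one_smul]
  mul_smul a b h := by
    funext f
    change f.hom (a * b) • h f = f.hom a • (f.hom b • h f)
    rw [map_mul, mul_smul]
  smul_zero a := by
    funext f
    change f.hom a • (0 : N) = 0
    rw [smul_zero]
  smul_add a h h' := by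
    funext f
    change f.hom a • (h f + h' f) = f.hom a • h f + f.hom a • h' f
    rw [smul_add]
  add_smul a b h := by
    funext f
    change f.hom (a + b) • h f = f.hom a • h f + f.hom b • h f
    rw [map_add, add_smul]
  zero_smul h := by
    funext f
    change f.hom 0 • h f = 0
    rw [map_zero, zero_smul]

theorem coind_smul_apply {B' : Adeq.Alg A} (b' : B') (h : CoindObj B N B') (f : B' ⟶ B) :
    (b' • h) f = f.hom b' • h f := rfl

theorem coind_add_apply {B' : Adeq.Alg A} (h h' : CoindObj B N B') (f : B' ⟶ B) :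
    (h + h') f = h f + h' f := rfl

/-- transition maps. -/
def coindMap {B' B'' : Adeq.Alg A} (g : B' ⟶ B'') : CoindObj B N B' →+ CoindObj B N B'' where
  toFun h := fun f => h (g ≫ f)
  map_zero' := rfl
  map_add' _ _ := rfl

/-- the underlying Ab-valued functor. -/
def coindAb : (Adeq.Alg A)ᵒᵖᵒᵖ ⥤ Ab.{u+1} where
  obj X := AddCommGrpCat.of (CoindObj B N X.unop.unop)
  map {X Y} g := AddCommGrpCat.ofHom (coindMap B N g.unop.unop)
  map_id X := by
    ext h
    funext f
    change h (𝟙 _ ≫ f) = h f
    rw [Category.id_comp]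
  map_comp {X Y Z} g g' := by
    ext h
    funext f
    change h ((g.unop.unop ≫ g'.unop.unop) ≫ f) = h (g.unop.unop ≫ g'.unop.unop ≫ f)
    rw [Category.assoc]

instance (X : (Adeq.Alg A)ᵒᵖᵒᵖ) : Module ((Adeq.ringOf A).obj X) ((coindAb B N).obj X) :=
  inferInstanceAs (Module X.unop.unop (CoindObj B N X.unop.unop))

/-- the coinduced module valued functor. -/
noncomputable def coind : Adeq.MVF A :=
  PresheafOfModules.ofPresheaf (coindAb B N) (by
    intro X Y g r h
    funext f
    change (g.unop.unop ≫ f).hom r • h (g.unop.unop ≫ f) = f.hom (g.unop.unop.hom r) • h (g.unop.unop ≫ f)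
    rfl)


variable {B N}

/-- identity, from the value of `coind B N` at `B'` to the function space. -/
noncomputable def toC (B' : Adeq.Alg A) : (coind B N).obj (Adeq.pt B') ≃ₗ[B'] CoindObj B N B' :=
  LinearEquiv.refl B' _

theorem toC_mp {B' B'' : Adeq.Alg A} (g : B' ⟶ B'') (h : (coind B N).obj (Adeq.pt B')) (f : B'' ⟶ B) :
    toC B'' (mp (coind B N) g h) f = toC B' h (g ≫ f) := rfl

/-- evaluation at the identity. -/
noncomputable def coindEv : (coind B N).obj (Adeq.pt B) ⟶ N :=
  ModuleCat.ofHom (X := (coind B N).obj (Adeq.pt B)) (Y := N)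
    { toFun := fun h => toC B h (𝟙 B)
      map_add' := fun _ _ => rfl
      map_smul' := fun b h => by
        rw [map_smul, coind_smul_apply]
        rfl }

theorem coindEv_apply (h : (coind B N).obj (Adeq.pt B)) :
    coindEv (B := B) (N := N) h = toC B h (𝟙 B) := rfl

/-- the linear map `F(B') → coind(B')`. -/
noncomputable def coindσ (F : Adeq.MVF A) (φ : F.obj (Adeq.pt B) ⟶ N) (B' : Adeq.Alg A) :
    F.obj (Adeq.pt B') →ₗ[B'] (coind B N).obj (Adeq.pt B') where
  toFun x := (toC B').symm (show CoindObj B N B' from fun f => φ (mp F f x))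
  map_add' x y := by
    apply (toC B').injective
    funext f
    change φ (mp F f (x + y)) = φ (mp F f x) + φ (mp F f y)
    rw [map_add, map_add]
  map_smul' b x := by
    apply (toC B').injective
    funext f
    change φ (mp F f (b • x)) = f.hom b • φ (mp F f x)
    rw [mp_smul]
    exact φ.hom.map_smul _ _

theorem toC_coindσ (F : Adeq.MVF A) (φ : F.obj (Adeq.pt B) ⟶ N) (B' : Adeq.Alg A)
    (x : F.obj (Adeq.pt B')) (f : B' ⟶ B) : toC B' (coindσ F φ B' x) f = φ (mp F f x) := rfl

/-- the morphism to the coinduced functor attached to a linear map `F(B) → N`. -/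
noncomputable def coindLift (F : Adeq.MVF A) (φ : F.obj (Adeq.pt B) ⟶ N) : F ⟶ coind B N :=
  mkHom (coindσ F φ) (by
    intro B' B'' g x
    apply (toC B'').injective
    funext f
    rw [toC_mp, toC_coindσ, toC_coindσ, mp_comp])

theorem toC_coindLift (F : Adeq.MVF A) (φ : F.obj (Adeq.pt B) ⟶ N) (B' : Adeq.Alg A)
    (x : F.obj (Adeq.pt B')) (f : B' ⟶ B) :
    toC B' ((coindLift F φ).app (Adeq.pt B') x) f = φ (mp F f x) := rfl

theorem coindLift_ev (F : Adeq.MVF A) (φ : F.obj (Adeq.pt B) ⟶ N) :
    (coindLift F φ).app (Adeq.pt B) ≫ coindEv = φ := by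
  ext x
  change (coindEv (B := B) (N := N)) ((coindLift F φ).app (Adeq.pt B) x) = φ x
  rw [coindEv_apply, toC_coindLift, mp_id]

theorem coindLift_unique (F : Adeq.MVF A) (g : F ⟶ coind B N) :
    g = coindLift F (g.app (Adeq.pt B) ≫ coindEv) := by
  ext X x
  obtain ⟨⟨B'⟩⟩ := X
  apply (toC B').injective
  funext f
  rw [toC_coindLift]
  change _ = (coindEv (B := B) (N := N)) (g.app (Adeq.pt B) (mp F f x))
  rw [app_mp, coindEv_apply, toC_mp, Category.comp_id]

theorem comp_coindLift {F G : Adeq.MVF A} (i : F ⟶ G) (ψ : G.obj (Adeq.pt B) ⟶ N) :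
    i ≫ coindLift G ψ = coindLift F (i.app (Adeq.pt B) ≫ ψ) := by
  rw [coindLift_unique F (i ≫ coindLift G ψ)]
  congr 1
  rw [PresheafOfModules.comp_app, Category.assoc, coindLift_ev]

instance coind_injective [Injective N] : Injective (coind B N) where
  factors {F G} g i _ := by
    have : Mono (i.app (Adeq.pt B)) := by
      rw [ModuleCat.mono_iff_injective]
      exact PresheafOfModules.injective_of_mono i _
    refine ⟨coindLift G (Injective.factorThru (g.app (Adeq.pt B) ≫ coindEv) (i.app (Adeq.pt B))), ?_⟩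
    rw [comp_coindLift, Injective.comp_factorThru, ← coindLift_unique]

end Coind

instance hasProducts_MVF (ι : Type (u+1)) : HasLimitsOfShape (Discrete ι) (Adeq.MVF A) :=
  PresheafOfModules.hasLimitsOfShape.{u+1} (R := Adeq.ringOf A) (J := Discrete ι)

theorem enoughInjectives_MVF : EnoughInjectives (Adeq.MVF A) where
  presentation F := by
    let c : Adeq.Alg A → Adeq.MVF A := fun B => coind B (Injective.under (F.obj (Adeq.pt B)))
    have hinj : ∀ B, Injective (c B) := fun B => coind_injective
    refine ⟨{ J := ∏ᶜ c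
              injective := inferInstance
              f := Pi.lift (fun B => coindLift F (Injective.ι (F.obj (Adeq.pt B))))
              mono := ?_ }⟩
    apply PresheafOfModules.mono_of_injective
    intro X
    obtain ⟨⟨B⟩⟩ := X
    rw [injective_iff_map_eq_zero]
    intro x hx
    have h1 := congrArg ((Pi.π c B).app (Adeq.pt B)) hx
    rw [map_zero, ← comp_app_apply, Pi.lift_π] at h1
    have h2 := congrArg (fun h => toC B h (𝟙 B)) h1
    change toC B ((coindLift F (Injective.ι (F.obj (Adeq.pt B)))).app (Adeq.pt B) x) (𝟙 B) = 0 at h2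
    rw [toC_coindLift, mp_id] at h2
    have hmono : Function.Injective (Injective.ι (F.obj (Adeq.pt B))) :=
      (ModuleCat.mono_iff_injective _).1 inferInstance
    exact hmono (by rw [h2, map_zero])

end Groth.Agent.Lib.Helper86.AdeqInj
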