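import Mathlib
import Groth.Prelude.Def_Adeq
import Groth.Agent.Lib.Helper86.AdeqExtn
import Groth.Agent.Lib.Helper86.AdeqInj

open CategoryTheory Limits TensorProduct Opposite ZeroObject

/-!
# The category of adequate functors is abelian, the inclusion has a right adjoint (SAFT),
and it has enough injectives (Stacks 46.3.16 / 46.3.17 part).
-/

namespace Groth.Agent.Lib.Helper86.AdeqAbelian
universe u
variable {A : Type u} [CommRing A]

open Groth.Agent.Lib.Helper86.AdeqBasic Groth.Agent.Lib.Helper86.AdeqFO
open Groth.Agent.Lib.Helper86.AdeqExt Groth.Agent.Lib.Helper86.AdeqGen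
open Groth.Agent.Lib.Helper86.AdeqClosure Groth.Agent.Lib.Helper86.AdeqColim
open Groth.Agent.Lib.Helper86.AdeqSplit Groth.Agent.Lib.Helper86.AdeqInj

instance : (Adeq.adequate A).ContainsZero where
  exists_zero := by
    refine ⟨(Adeq.underline A).obj (0 : ModuleCat.{u+1} A), ?_, adequate_underline _⟩
    exact (Adeq.underline A).map_isZero (isZero_zero _)

instance : (Adeq.adequate A).IsClosedUnderKernels where
  kernels_le := by
    rintro K ⟨f, k, hk, hX, hY⟩
    exact (Adeq.adequate A).prop_of_iso
      (IsLimit.conePointUniqueUpToIso (kernelIsKernel f) hk) (adequate_kernel f hX hY)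

instance : (Adeq.adequate A).IsClosedUnderCokernels where
  cokernels_le := by
    rintro K ⟨f, k, hk, hX, hY⟩
    exact (Adeq.adequate A).prop_of_iso
      (IsColimit.coconePointUniqueUpToIso (cokernelIsCokernel f) hk) (adequate_cokernel f hX hY)

instance : (Adeq.adequate A).IsClosedUnderBinaryProducts := by
  apply ObjectProperty.IsClosedUnderLimitsOfShape.mk'
  rintro X ⟨F, hF⟩
  have e : limit F ≅ F.obj ⟨WalkingPair.left⟩ ⊞ F.obj ⟨WalkingPair.right⟩ :=
    HasLimit.isoOfNatIso (diagramIsoPair F) ≪≫ (biprod.isoProd _ _).symm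
  exact (Adeq.adequate A).prop_of_iso e.symm (adequate_biprod (hF _) (hF _))

instance : (Adeq.adequate A).IsClosedUnderFiniteProducts :=
  ObjectProperty.IsClosedUnderFiniteProducts.mk'

instance (J : Type (u+1)) [SmallCategory J] : (Adeq.adequate A).IsClosedUnderColimitsOfShape J := by
  apply ObjectProperty.IsClosedUnderColimitsOfShape.mk'
  rintro X ⟨F, hF⟩
  exact adequate_colimit F hF

noncomputable instance : Abelian (Adeq.Adequate A) :=
  inferInstanceAs (Abelian (Adeq.adequate A).FullSubcategory)

instance : HasColimitsOfSize.{u+1, u+1} (Adeq.Adequate A) where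
  has_colimits_of_shape _ _ := inferInstance

instance : PreservesColimitsOfSize.{u+1, u+1} (Adeq.adequate A).ι where
  preservesColimitsOfShape := inferInstance


/-- standard finite free module of rank `n` in universe `u+1`. -/
abbrev Std (A : Type u) [CommRing A] (n : ℕ) : ModuleCat.{u+1} A :=
  ModuleCat.of A (ULift.{u+1} (Fin n → A))

/-- index type for representatives of linearly adequate functors. -/
abbrev RepIdx (A : Type u) [CommRing A] : Type (u+1) := Σ (n m : ℕ), (Std A n ⟶ Std A m)

/-- representatives of linearly adequate functors. -/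
noncomputable def rep (t : RepIdx A) : Adeq.Adequate A :=
  ⟨kernel ((Adeq.underline A).map t.2.2), ⟨_, _, t.2.2, ⟨Iso.refl _⟩⟩⟩

theorem exists_std_iso (M : ModuleCat.{u+1} A) [Module.Finite A M] [Module.Free A M] :
    ∃ n, Nonempty (M ≅ Std A n) := by
  classical
  let b := Module.Free.chooseBasis A M
  refine ⟨Fintype.card (Module.Free.ChooseBasisIndex A M), ⟨?_⟩⟩
  exact (((b.reindex (Fintype.equivFin _)).equivFun).trans ULift.moduleEquiv.symm).toModuleIso

theorem exists_rep_iso (L : Adeq.MVF A) (hL : Adeq.linAdequate A L) :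
    ∃ t : RepIdx A, Nonempty ((rep t).obj ≅ L) := by
  obtain ⟨M, N, φ, hfin, hfree, hfin', hfree', ⟨e⟩⟩ := hL
  obtain ⟨n, ⟨eM⟩⟩ := exists_std_iso M
  obtain ⟨m, ⟨eN⟩⟩ := exists_std_iso N
  refine ⟨⟨n, m, eM.inv ≫ φ ≫ eN.hom⟩, ⟨?_ ≪≫ e.symm⟩⟩
  refine kernel.mapIso _ _ ((Adeq.underline A).mapIso eM.symm) ((Adeq.underline A).mapIso eN.symm) ?_
  change (Adeq.underline A).map _ ≫ (Adeq.underline A).map _ = (Adeq.underline A).map _ ≫ _
  rw [← Functor.map_comp, ← Functor.map_comp]
  congr 1
  simp

/-- the small separating set. -/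
def repProp (A : Type u) [CommRing A] : ObjectProperty (Adeq.Adequate A) := ObjectProperty.ofObj (rep (A := A))

instance : ObjectProperty.Small.{u+1} (repProp A) := by
  unfold repProp
  infer_instance

theorem repProp_isSeparating : (repProp A).IsSeparating := by
  intro X Y f g h
  obtain ⟨ι, L, hL, c, hc, π, hπ⟩ := exists_epi_cofan X.obj X.property
  apply ObjectProperty.hom_ext
  rw [← cancel_epi π]
  apply Cofan.IsColimit.hom_ext hc
  intro i
  obtain ⟨t, ⟨e⟩⟩ := exists_rep_iso (L i) (hL i)
  have := h (rep t) ⟨t⟩ (ObjectProperty.homMk (e.hom ≫ c.inj i ≫ π))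
  have h2 := congrArg (fun k => k.hom) this
  simp only [ObjectProperty.FullSubcategory.comp_hom] at h2
  rw [← cancel_epi e.hom]
  simpa using h2


theorem isLeftAdjoint_ι : (Adeq.adequate A).ι.IsLeftAdjoint := by
  haveI : WellPowered.{u+1} (Adeq.Adequate A) :=
    wellPowered_of_isDetecting (repProp_isSeparating (A := A)).isDetecting
  haveI : WellPowered.{u+1} (Adeq.Adequate A)ᵒᵖ := Abelian.wellPowered_opposite
  exact isLeftAdjoint_of_preservesColimits_of_isSeparating (repProp_isSeparating (A := A)) _

instance : (Adeq.adequate A).ι.PreservesMonomorphisms :=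
  (Adeq.adequate A).preservesMonomorphisms_ι_of_isNormalEpiCategory

theorem enoughInjectives_adequate : EnoughInjectives (Adeq.Adequate A) := by
  haveI := isLeftAdjoint_ι (A := A)
  haveI := enoughInjectives_MVF (A := A)
  exact EnoughInjectives.of_adjunction (Adjunction.ofIsLeftAdjoint (Adeq.adequate A).ι)

end Groth.Agent.Lib.Helper86.AdeqAbelian
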