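import Mathlib
import Groth.Prelude.Def_Adeq
import Groth.Agent.Lib.Helper86.AdeqChange

open CategoryTheory Limits TensorProduct Opposite

/-!
# Descent of adequacy along `A → A'` (Stacks 46.3.15)
-/

namespace Groth.Agent.Lib.Helper86.AdeqDescent
universe u
variable {A : Type u} [CommRing A] {A' : Type u} [CommRing A'] [Algebra A A']

open Groth.Agent.Lib.Helper86.AdeqBasic Groth.Agent.Lib.Helper86.AdeqFO
open Groth.Agent.Lib.Helper86.AdeqClosure Groth.Agent.Lib.Helper86.AdeqChange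

/-- `B ↦ F(A' ⊗ B)`. -/
noncomputable abbrev PR (A' : Type u) [CommRing A'] [Algebra A A'] (F : Adeq.MVF A) : Adeq.MVF A :=
  (Adeq.push A A').obj ((Adeq.restr A A').obj F)

/-- `A' ⊗ B` as an `A`-algebra. -/
abbrev tB (A' : Type u) [CommRing A'] [Algebra A A'] (B : Adeq.Alg A) : Adeq.Alg A :=
  rB A A' (pB A A' B)

/-- identity. -/
noncomputable def toPR (F : Adeq.MVF A) (B : Adeq.Alg A) :
    (PR A' F).obj (Adeq.pt B) ≃+ F.obj (Adeq.pt (tB A' B)) :=
  (toP ((Adeq.restr A A').obj F) B).trans (toR F (pB A A' B))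

theorem unit_nat {B B'' : Adeq.Alg A} (g : B ⟶ B'') :
    g ≫ Adeq.Alg.unit A A' B'' = Adeq.Alg.unit A A' B ≫ (Adeq.Alg.restr A A').map ((Adeq.Alg.baseChange A A').map g) := by
  ext
  rfl

theorem toPR_smul (F : Adeq.MVF A) (B : Adeq.Alg A) (b : B) (x : (PR A' F).obj (Adeq.pt B)) :
    toPR F B (b • x) = ((Adeq.Alg.unit A A' B).hom b) • toPR F B x := rfl

theorem toPR_mp (F : Adeq.MVF A) {B B'' : Adeq.Alg A} (g : B ⟶ B'') (x : (PR A' F).obj (Adeq.pt B)) :
    toPR F B'' (mp (PR A' F) g x)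
      = mp F ((Adeq.Alg.restr A A').map ((Adeq.Alg.baseChange A A').map g)) (toPR F B x) := rfl

theorem toPR_app {F G : Adeq.MVF A} (φ : F ⟶ G) (B : Adeq.Alg A) (x : (PR A' F).obj (Adeq.pt B)) :
    toPR G B (((Adeq.push A A').map ((Adeq.restr A A').map φ)).app (Adeq.pt B) x)
      = φ.app (Adeq.pt (tB A' B)) (toPR F B x) := rfl

/-- pointwise unit. -/
noncomputable def uσ (F : Adeq.MVF A) (B : Adeq.Alg A) :
    F.obj (Adeq.pt B) →ₗ[B] (PR A' F).obj (Adeq.pt B) where
  toFun x := (toPR F B).symm (mp F (Adeq.Alg.unit A A' B) x)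
  map_add' x y := by rw [map_add, map_add]
  map_smul' b x := by
    apply (toPR F B).injective
    rw [AddEquiv.apply_symm_apply, mp_smul, RingHom.id_apply, toPR_smul, AddEquiv.apply_symm_apply]

/-- the unit `F ⟶ push (restr F)`. -/
noncomputable def unitHom (A' : Type u) [CommRing A'] [Algebra A A'] (F : Adeq.MVF A) : F ⟶ PR A' F :=
  mkHom (uσ F) (by
    intro B B'' g x
    apply (toPR F B'').injective
    rw [toPR_mp]
    change mp F (Adeq.Alg.unit A A' B'') (mp F g x) = mp F _ (mp F (Adeq.Alg.unit A A' B) x)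
    rw [← mp_comp, ← mp_comp, unit_nat])

theorem toPR_unitHom (F : Adeq.MVF A) (B : Adeq.Alg A) (x : F.obj (Adeq.pt B)) :
    toPR F B ((unitHom A' F).app (Adeq.pt B) x) = mp F (Adeq.Alg.unit A A' B) x := rfl

/-- the two coface maps. -/
noncomputable def d0 (A' : Type u) [CommRing A'] [Algebra A A'] (F : Adeq.MVF A) :
    PR A' F ⟶ PR A' (PR A' F) :=
  (Adeq.push A A').map ((Adeq.restr A A').map (unitHom A' F))

noncomputable def d1 (A' : Type u) [CommRing A'] [Algebra A A'] (F : Adeq.MVF A) :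
    PR A' F ⟶ PR A' (PR A' F) :=
  unitHom A' (PR A' F)

theorem d0_apply (F : Adeq.MVF A) (B : Adeq.Alg A) (y : (PR A' F).obj (Adeq.pt B)) :
    toPR F (tB A' B) (toPR (PR A' F) B ((d0 A' F).app (Adeq.pt B) y))
      = mp F (Adeq.Alg.unit A A' (tB A' B)) (toPR F B y) := rfl

theorem d1_apply (F : Adeq.MVF A) (B : Adeq.Alg A) (y : (PR A' F).obj (Adeq.pt B)) :
    toPR F (tB A' B) (toPR (PR A' F) B ((d1 A' F).app (Adeq.pt B) y))
      = mp F ((Adeq.Alg.restr A A').map ((Adeq.Alg.baseChange A A').map (Adeq.Alg.unit A A' B))) (toPR F B y) := rfl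

theorem adequate_of_descent (F : Adeq.MVF A) (h₁ : Adeq.adequate A' ((Adeq.restr A A').obj F))
    (h₂ : ∀ B : Adeq.Alg A, Function.Injective (F.map (Adeq.ptHom (Adeq.Alg.unit A A' B))) ∧
      ∀ y : F.obj (Adeq.pt ((Adeq.Alg.restr A A').obj ((Adeq.Alg.baseChange A A').obj B))),
        F.map (Adeq.ptHom (Adeq.Alg.unit A A' ((Adeq.Alg.restr A A').obj ((Adeq.Alg.baseChange A A').obj B)))) y =
          F.map (Adeq.ptHom ((Adeq.Alg.restr A A').map ((Adeq.Alg.baseChange A A').map (Adeq.Alg.unit A A' B)))) y →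
        y ∈ Set.range (F.map (Adeq.ptHom (Adeq.Alg.unit A A' B)))) :
    Adeq.adequate A F := by
  have hG : Adeq.adequate A (PR A' F) := adequate_push _ h₁
  have hG₂ : Adeq.adequate A (PR A' (PR A' F)) := adequate_push _ (adequate_restr _ hG)
  have hker : IsKer (unitHom A' F) (d0 A' F - d1 A' F) := by
    refine ⟨?_, ?_, ?_⟩
    · ext X x
      obtain ⟨⟨B⟩⟩ := X
      rw [comp_app_apply, PresheafOfModules.sub_app]
      change (d0 A' F).app (Adeq.pt B) _ - (d1 A' F).app (Adeq.pt B) _ = 0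
      rw [sub_eq_zero]
      apply (toPR (PR A' F) B).injective
      apply (toPR F (tB A' B)).injective
      rw [d0_apply, d1_apply, toPR_unitHom, ← mp_comp, ← mp_comp, unit_nat]
    · intro X
      obtain ⟨⟨B⟩⟩ := X
      intro x y hxy
      apply (h₂ B).1
      exact congrArg (toPR F B) hxy
    · intro X y hy
      obtain ⟨⟨B⟩⟩ := X
      rw [PresheafOfModules.sub_app] at hy
      change (d0 A' F).app (Adeq.pt B) y - (d1 A' F).app (Adeq.pt B) y = 0 at hy
      rw [sub_eq_zero] at hy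
      have h3 := congrArg (fun z => toPR F (tB A' B) (toPR (PR A' F) B z)) hy
      dsimp only at h3
      obtain ⟨x, hx⟩ := (h₂ B).2 (toPR F B y) h3
      refine ⟨x, ?_⟩
      apply (toPR F B).injective
      rw [toPR_unitHom]
      exact hx
  exact (Adeq.adequate A).prop_of_iso hker.iso.symm (adequate_kernel _ hG hG₂)

end Groth.Agent.Lib.Helper86.AdeqDescent
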