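import Mathlib
import Groth.Prelude.Def_Adeq
import Groth.Agent.Lib.Helper86.AdeqDescent
import Groth.Agent.Lib.Helper86.AdeqAbelian

open CategoryTheory Limits TensorProduct Opposite

/-!
# Descent of adequacy along a finite family `A → A' k` (family version of Stacks 46.3.15)
-/

namespace Groth.Agent.Lib.Helper86.AdeqDescentFam
universe u
variable {A : Type u} [CommRing A]

open Groth.Agent.Lib.Helper86.AdeqBasic Groth.Agent.Lib.Helper86.AdeqFO
open Groth.Agent.Lib.Helper86.AdeqClosure Groth.Agent.Lib.Helper86.AdeqChange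
open Groth.Agent.Lib.Helper86.AdeqDescent

section Two
variable (A' A'' : Type u) [CommRing A'] [Algebra A A'] [CommRing A''] [Algebra A A'']

/-- `F(A'' ⊗ B) → F(A' ⊗ (A'' ⊗ B))`, `x ↦ 1 ⊗ x`. -/
noncomputable def e0 (F : Adeq.MVF A) : PR A'' F ⟶ PR A'' (PR A' F) :=
  (Adeq.push A A'').map ((Adeq.restr A A'').map (unitHom A' F))

/-- `F(A' ⊗ B) → F(A' ⊗ (A'' ⊗ B))`, `a ⊗ b ↦ a ⊗ (1 ⊗ b)`. -/
noncomputable def e1 (F : Adeq.MVF A) : PR A' F ⟶ PR A'' (PR A' F) :=
  unitHom A'' (PR A' F)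

theorem e0_apply (F : Adeq.MVF A) (B : Adeq.Alg A) (y : (PR A'' F).obj (Adeq.pt B)) :
    toPR F (tB A'' B) (toPR (PR A' F) B ((e0 A' A'' F).app (Adeq.pt B) y))
      = mp F (Adeq.Alg.unit A A' (tB A'' B)) (toPR F B y) := rfl

theorem e1_apply (F : Adeq.MVF A) (B : Adeq.Alg A) (y : (PR A' F).obj (Adeq.pt B)) :
    toPR F (tB A'' B) (toPR (PR A' F) B ((e1 A' A'' F).app (Adeq.pt B) y))
      = mp F ((Adeq.Alg.restr A A').map ((Adeq.Alg.baseChange A A').map (Adeq.Alg.unit A A'' B)))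
          (toPR F B y) := rfl

end Two

section PiElts

/-- sections of a finite product are determined by their components. -/
theorem pi_ext {ι : Type u} [Finite ι] (G : ι → Adeq.MVF A) (X : (Adeq.Alg A)ᵒᵖᵒᵖ)
    (x y : (∏ᶜ G : Adeq.MVF A).obj X) (h : ∀ k, (Pi.π G k).app X x = (Pi.π G k).app X y) : x = y := by
  have hc : IsLimit ((ev X).mapCone (limit.cone (Discrete.functor G))) :=
    isLimitOfPreserves (ev X) (limit.isLimit _)
  refine Concrete.isLimit_ext _ hc x y ?_
  rintro ⟨k⟩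
  exact h k

end PiElts

section Family
variable {ι : Type u} [Finite ι] (A' : ι → Type u) [∀ k, CommRing (A' k)] [∀ k, Algebra A (A' k)]

/-- the first term of the descent complex. -/
noncomputable abbrev G1 (F : Adeq.MVF A) : Adeq.MVF A := ∏ᶜ (fun k => PR (A' k) F)

/-- the second term of the descent complex. -/
noncomputable abbrev G2 (F : Adeq.MVF A) : Adeq.MVF A :=
  ∏ᶜ (fun p : ι × ι => PR (A' p.2) (PR (A' p.1) F))

noncomputable def uF (F : Adeq.MVF A) : F ⟶ G1 A' F := Pi.lift (fun k => unitHom (A' k) F)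

noncomputable def D0 (F : Adeq.MVF A) : G1 A' F ⟶ G2 A' F :=
  Pi.lift (fun p => Pi.π _ p.2 ≫ e0 (A' p.1) (A' p.2) F)

noncomputable def D1 (F : Adeq.MVF A) : G1 A' F ⟶ G2 A' F :=
  Pi.lift (fun p => Pi.π _ p.1 ≫ e1 (A' p.1) (A' p.2) F)

theorem adequate_of_descent_family (F : Adeq.MVF A)
    (h₁ : ∀ k, Adeq.adequate (A' k) ((Adeq.restr A (A' k)).obj F))
    (h₂ : ∀ B : Adeq.Alg A,
      (∀ x y : F.obj (Adeq.pt B),
        (∀ k, mp F (Adeq.Alg.unit A (A' k) B) x = mp F (Adeq.Alg.unit A (A' k) B) y) → x = y) ∧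
      ∀ y : ∀ k, F.obj (Adeq.pt (tB (A' k) B)),
        (∀ k l, mp F (Adeq.Alg.unit A (A' k) (tB (A' l) B)) (y l) =
          mp F ((Adeq.Alg.restr A (A' k)).map ((Adeq.Alg.baseChange A (A' k)).map
            (Adeq.Alg.unit A (A' l) B))) (y k)) →
        ∃ x : F.obj (Adeq.pt B), ∀ k, mp F (Adeq.Alg.unit A (A' k) B) x = y k) :
    Adeq.adequate A F := by
  have hG : Adeq.adequate A (G1 A' F) :=
    (Adeq.adequate A).prop_product (fun k => adequate_push _ (h₁ k))
  have hG₂ : Adeq.adequate A (G2 A' F) :=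
    (Adeq.adequate A).prop_product
      (fun p => adequate_push _ (adequate_restr _ (adequate_push _ (h₁ p.1))))
  have hπu : ∀ k, uF A' F ≫ Pi.π _ k = unitHom (A' k) F := fun k => Pi.lift_π _ k
  have hπ0 : ∀ p : ι × ι, D0 A' F ≫ Pi.π _ p = Pi.π _ p.2 ≫ e0 (A' p.1) (A' p.2) F :=
    fun p => Pi.lift_π _ p
  have hπ1 : ∀ p : ι × ι, D1 A' F ≫ Pi.π _ p = Pi.π _ p.1 ≫ e1 (A' p.1) (A' p.2) F :=
    fun p => Pi.lift_π _ p
  have hker : IsKer (uF A' F) (D0 A' F - D1 A' F) := by
    refine ⟨?_, ?_, ?_⟩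
    · rw [Preadditive.comp_sub, sub_eq_zero]
      apply Pi.hom_ext
      rintro ⟨k, l⟩
      rw [Category.assoc, Category.assoc, hπ0, hπ1, ← Category.assoc, ← Category.assoc, hπu, hπu]
      ext X x
      obtain ⟨⟨B⟩⟩ := X
      rw [comp_app_apply, comp_app_apply]
      apply (toPR (PR (A' k) F) B).injective
      apply (toPR F (tB (A' l) B)).injective
      rw [e0_apply, e1_apply, toPR_unitHom, toPR_unitHom, ← mp_comp, ← mp_comp, unit_nat]
    · intro X
      obtain ⟨⟨B⟩⟩ := X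
      intro x y hxy
      apply (h₂ B).1
      intro k
      have := congrArg (fun z => toPR F B ((Pi.π (fun k => PR (A' k) F) k).app (Adeq.pt B) z)) hxy
      dsimp only at this
      rw [← comp_app_apply, ← comp_app_apply, hπu, toPR_unitHom, toPR_unitHom] at this
      exact this
    · intro X y hy
      obtain ⟨⟨B⟩⟩ := X
      rw [PresheafOfModules.sub_app] at hy
      change (D0 A' F).app (Adeq.pt B) y - (D1 A' F).app (Adeq.pt B) y = 0 at hy
      rw [sub_eq_zero] at hy
      let yy : ∀ k, F.obj (Adeq.pt (tB (A' k) B)) :=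
        fun k => toPR F B ((Pi.π (fun k => PR (A' k) F) k).app (Adeq.pt B) y)
      have hcompat : ∀ k l, mp F (Adeq.Alg.unit A (A' k) (tB (A' l) B)) (yy l) =
          mp F ((Adeq.Alg.restr A (A' k)).map ((Adeq.Alg.baseChange A (A' k)).map
            (Adeq.Alg.unit A (A' l) B))) (yy k) := by
        intro k l
        have h3 := congrArg (fun z => toPR F (tB (A' l) B) (toPR (PR (A' k) F) B
          ((Pi.π (fun p : ι × ι => PR (A' p.2) (PR (A' p.1) F)) (k, l)).app (Adeq.pt B) z))) hy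
        dsimp only at h3
        rw [← comp_app_apply, ← comp_app_apply, hπ0, hπ1, comp_app_apply, comp_app_apply,
          e0_apply, e1_apply] at h3
        exact h3
      obtain ⟨x, hx⟩ := (h₂ B).2 yy hcompat
      refine ⟨x, ?_⟩
      apply pi_ext
      intro k
      apply (toPR F B).injective
      rw [← comp_app_apply, hπu, toPR_unitHom]
      exact hx k
  exact (Adeq.adequate A).prop_of_iso hker.iso.symm (adequate_kernel _ hG hG₂)

end Family

end Groth.Agent.Lib.Helper86.AdeqDescentFam
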