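import Mathlib
import Groth.Prelude.Def_Adeq2
import Groth.Agent.Lib.Helper86.Adeq2Transport
import Groth.Agent.Lib.Helper86.AdeqDescentFam

open CategoryTheory Limits TensorProduct Opposite AlgebraicGeometry

/-!
# Adequate modules give adequate functors on every affine over `S` (Stacks 46.5): sheaf condition in
explicit form, descent condition for `F_{M,R}`, finite subcoverings, main theorem.
-/

namespace Groth.Agent.Lib.Helper86.Adeq2Main
universe u
open Groth.Agent.Lib.Helper86.AdeqBasic Groth.Agent.Lib.Helper86.AdeqFO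
open Groth.Agent.Lib.Helper86.AdeqChange Groth.Agent.Lib.Helper86.Adeq2Basic
open Groth.Agent.Lib.Helper86.AdeqDescent Groth.Agent.Lib.Helper86.AdeqDescentFam
open Groth.Agent.Lib.Helper86.Adeq2Transport

variable (K : Precoverage Scheme.{u}) [BigSite.OSh K] {S : Scheme.{u}}

section SheafCond

/-- the sheaf condition of a module for a family whose underlying family of schemes is a covering. -/
theorem isSheafFor_of_cover (M : BigSite.Mod K S) {X : Over S} {ι : Type u} (Y : ι → Over S)
    (v : ∀ k, Y k ⟶ X)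
    (hcov : Presieve.ofArrows (fun k => (Y k).left) (fun k => (v k).left) ∈ K.coverings X.left) :
    (Presieve.ofArrows Y v).IsSheafFor (M.val.presheaf ⋙ forget AddCommGrpCat) := by
  have hsh := ((Presheaf.isSheaf_iff_isSheaf_forget _ _ (forget AddCommGrpCat)).1 M.isSheaf)
  have hsh' := (isSheaf_iff_isSheaf_of_type _ _).1 hsh
  rw [Presieve.isSheafFor_iff_generate]
  apply hsh'
  rw [QuotSh.J, GrothendieckTopology.mem_over_iff]
  change Sieve.overEquiv X (Sieve.ofArrows Y v) ∈ _
  rw [Sieve.overEquiv_ofArrows]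
  exact Precoverage.generate_mem_toGrothendieck hcov

/-- explicit form of the sheaf condition, with given fibre products. -/
theorem sheaf_cond_explicit (M : BigSite.Mod K S) {X : Over S} {ι : Type u} (Y : ι → Over S)
    (v : ∀ k, Y k ⟶ X)
    (hcov : Presieve.ofArrows (fun k => (Y k).left) (fun k => (v k).left) ∈ K.coverings X.left)
    (W : ι → ι → Over S) (p1 : ∀ k l, W k l ⟶ Y k) (p0 : ∀ k l, W k l ⟶ Y l)
    (hpb : ∀ k l, IsPullback (p1 k l).left (p0 k l).left (v k).left (v l).left) :
    (∀ x y : M.val.obj (op X), (∀ k, M.val.map (v k).op x = M.val.map (v k).op y) → x = y) ∧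
    ∀ y : ∀ k, M.val.obj (op (Y k)),
      (∀ k l, M.val.map (p1 k l).op (y k) = M.val.map (p0 k l).op (y l)) →
      ∃ x : M.val.obj (op X), ∀ k, M.val.map (v k).op x = y k := by
  have h := (Presieve.isSheafFor_arrows_iff _ _).1 (isSheafFor_of_cover K M Y v hcov)
  constructor
  · intro x y hxy
    have hc : Presieve.Arrows.Compatible (M.val.presheaf ⋙ forget AddCommGrpCat) v
        (fun k => M.val.map (v k).op y) :=
      (Presieve.Arrows.toCompatible (M.val.presheaf ⋙ forget AddCommGrpCat) v y).2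
    obtain ⟨t, -, ht⟩ := h _ hc
    rw [ht x hxy, ht y (fun k => rfl)]
  · intro y hy
    have hc : Presieve.Arrows.Compatible (M.val.presheaf ⋙ forget AddCommGrpCat) v y := by
      intro i j Z gi gj hg
      let hl : Z.left ⟶ (W i j).left :=
        (hpb i j).lift gi.left gj.left (congrArg CommaMorphism.left hg)
      have hl1 : hl ≫ (p1 i j).left = gi.left := (hpb i j).lift_fst _ _ _
      have hl0 : hl ≫ (p0 i j).left = gj.left := (hpb i j).lift_snd _ _ _
      let hh : Z ⟶ W i j := Over.homMk hl (by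
        rw [← Over.w (p1 i j), ← Category.assoc, hl1, Over.w])
      have e1 : gi = hh ≫ p1 i j := by
        ext
        exact hl1.symm
      have e0 : gj = hh ≫ p0 i j := by
        ext
        exact hl0.symm
      rw [e1, e0, op_comp, op_comp, Functor.map_comp, Functor.map_comp]
      change (M.val.presheaf ⋙ forget AddCommGrpCat).map hh.op
          ((M.val.presheaf ⋙ forget AddCommGrpCat).map (p1 i j).op (y i)) =
        (M.val.presheaf ⋙ forget AddCommGrpCat).map hh.op
          ((M.val.presheaf ⋙ forget AddCommGrpCat).map (p0 i j).op (y j))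
      congr 1
      exact hy i j
    obtain ⟨t, ht, -⟩ := h y hc
    exact ⟨t, ht⟩

end SheafCond

section Apply
variable {R : CommRingCat.{u}} (a : Spec R ⟶ S) (M : BigSite.Mod K S)
variable {ι : Type u} (A' : ι → Type u) [∀ k, CommRing (A' k)] [∀ k, Algebra R (A' k)]

/-- the ring map underlying a map of algebras. -/
def algHomRing {B B' : Adeq.Alg R} (f : B ⟶ B') : CommRingCat.of B ⟶ CommRingCat.of B' :=
  CommRingCat.ofHom f.hom.toRingHom

theorem specOver_map_left {B B' : Adeq.Alg R} (f : B ⟶ B') :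
    ((Adeq.specOver a).map f.op).left = Spec.map (algHomRing f) := rfl

theorem mp_toMVF {B B' : Adeq.Alg R} (f : B ⟶ B') (x : ((Adeq.toMVF K a).obj M).obj (Adeq.pt B)) :
    mp ((Adeq.toMVF K a).obj M) f x = M.val.map ((Adeq.specOver a).map f.op).op x := rfl

variable [K.IsStableUnderBaseChange]

theorem cover_baseChange
    (hcov : Presieve.ofArrows (fun k => Spec (CommRingCat.of (A' k)))
      (fun k => Spec.map (CommRingCat.ofHom (algebraMap R (A' k)))) ∈ K.coverings (Spec R))
    (B : Adeq.Alg R) :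
    Presieve.ofArrows (fun k => ((Adeq.specOver a).obj (op (tB (A' k) B))).left)
      (fun k => ((Adeq.specOver a).map (Adeq.Alg.unit R (A' k) B).op).left) ∈
      K.coverings ((Adeq.specOver a).obj (op B)).left := by
  refine Precoverage.mem_coverings_of_isPullback
    (fun k => Spec.map (CommRingCat.ofHom (algebraMap R (A' k)))) hcov
    (Spec.map (CommRingCat.ofHom (algebraMap R B))) _
    (fun k => Spec.map (CommRingCat.ofHom
      (Algebra.TensorProduct.includeLeftRingHom : A' k →+* A' k ⊗[R] B)))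
    (fun k => ?_)
  exact (isPullback_SpecMap_of_isPushout _ _ _ _
    (CommRingCat.isPushout_tensorProduct R (A' k) B)).flip

section Rings
variable (A₁ : Type u) [CommRing A₁] [Algebra R A₁]

/-- the structure map of an algebra. -/
def algMapOf (B : Adeq.Alg R) : R ⟶ CommRingCat.of B := CommRingCat.ofHom (algebraMap R B)

/-- `a ↦ a ⊗ 1`. -/
def inclL (B : Adeq.Alg R) : CommRingCat.of A₁ ⟶ CommRingCat.of (tB A₁ B) :=
  CommRingCat.ofHom (Algebra.TensorProduct.includeLeftRingHom : A₁ →+* A₁ ⊗[R] B)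

theorem algHomRing_comp {B B' B'' : Adeq.Alg R} (f : B ⟶ B') (g : B' ⟶ B'') :
    algHomRing (f ≫ g) = algHomRing f ≫ algHomRing g := rfl

theorem algMapOf_comp {B B' : Adeq.Alg R} (f : B ⟶ B') : algMapOf B ≫ algHomRing f = algMapOf B' := by
  ext r
  exact f.hom.commutes r

theorem inclL_comp {B B' : Adeq.Alg R} (f : B ⟶ B') :
    inclL A₁ B ≫ algHomRing ((Adeq.Alg.restr R A₁).map ((Adeq.Alg.baseChange R A₁).map f)) =
      inclL A₁ B' := by
  ext x
  change Algebra.TensorProduct.map (AlgHom.id A₁ A₁) f.hom (x ⊗ₜ[R] (1 : B)) = x ⊗ₜ[R] (1 : B')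
  rw [Algebra.TensorProduct.map_tmul, map_one]
  rfl

theorem isPushout_unit (B : Adeq.Alg R) :
    IsPushout (CommRingCat.ofHom (algebraMap R A₁)) (algMapOf B) (inclL A₁ B)
      (algHomRing (Adeq.Alg.unit R A₁ B)) :=
  CommRingCat.isPushout_tensorProduct R A₁ B

/-- the ring-level pushout square for double overlaps. -/
theorem isPushout_overlap (A₂ : Type u) [CommRing A₂] [Algebra R A₂] (B : Adeq.Alg R) :
    IsPushout
      (algHomRing (Adeq.Alg.unit R A₁ B))
      (algHomRing (Adeq.Alg.unit R A₂ B))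
      (algHomRing ((Adeq.Alg.restr R A₁).map ((Adeq.Alg.baseChange R A₁).map
        (Adeq.Alg.unit R A₂ B))))
      (algHomRing (Adeq.Alg.unit R A₁ (tB A₂ B))) := by
  have s := isPushout_unit A₁ (tB A₂ B)
  have t := isPushout_unit A₁ B
  rw [← algMapOf_comp (Adeq.Alg.unit R A₂ B), ← inclL_comp A₁ (Adeq.Alg.unit R A₂ B)] at s
  refine IsPushout.of_top s ?_ t
  rw [← algHomRing_comp, ← algHomRing_comp, unit_nat]

end Rings

/-- the sheaf condition of `M`, in the form needed for descent of adequacy. -/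
theorem descent_cond
    (hcov : Presieve.ofArrows (fun k => Spec (CommRingCat.of (A' k)))
      (fun k => Spec.map (CommRingCat.ofHom (algebraMap R (A' k)))) ∈ K.coverings (Spec R))
    (B : Adeq.Alg R) :
    (∀ x y : ((Adeq.toMVF K a).obj M).obj (Adeq.pt B),
        (∀ k, mp ((Adeq.toMVF K a).obj M) (Adeq.Alg.unit R (A' k) B) x =
          mp ((Adeq.toMVF K a).obj M) (Adeq.Alg.unit R (A' k) B) y) → x = y) ∧
      ∀ y : ∀ k, ((Adeq.toMVF K a).obj M).obj (Adeq.pt (tB (A' k) B)),
        (∀ k l, mp ((Adeq.toMVF K a).obj M) (Adeq.Alg.unit R (A' k) (tB (A' l) B)) (y l) =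
          mp ((Adeq.toMVF K a).obj M) ((Adeq.Alg.restr R (A' k)).map
            ((Adeq.Alg.baseChange R (A' k)).map (Adeq.Alg.unit R (A' l) B))) (y k)) →
        ∃ x : ((Adeq.toMVF K a).obj M).obj (Adeq.pt B),
          ∀ k, mp ((Adeq.toMVF K a).obj M) (Adeq.Alg.unit R (A' k) B) x = y k := by
  have h := sheaf_cond_explicit K M
    (X := (Adeq.specOver a).obj (op B))
    (fun k => (Adeq.specOver a).obj (op (tB (A' k) B)))
    (fun k => (Adeq.specOver a).map (Adeq.Alg.unit R (A' k) B).op)
    (cover_baseChange K a A' hcov B)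
    (fun k l => (Adeq.specOver a).obj (op (tB (A' k) (tB (A' l) B))))
    (fun k l => (Adeq.specOver a).map ((Adeq.Alg.restr R (A' k)).map
            ((Adeq.Alg.baseChange R (A' k)).map (Adeq.Alg.unit R (A' l) B))).op)
    (fun k l => (Adeq.specOver a).map (Adeq.Alg.unit R (A' k) (tB (A' l) B)).op)
    (fun k l => isPullback_SpecMap_of_isPushout _ _ _ _ (isPushout_overlap (A' k) (A' l) B))
  refine ⟨fun x y hxy => h.1 x y hxy, fun y hy => ?_⟩
  exact h.2 y (fun k l => (hy k l).symm)

end Apply

section Main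

/-- finite subcoverings of coverings of affine schemes, for precoverages of open maps. -/
theorem exists_finite_subcover (P : MorphismProperty Scheme.{u})
    (hP : ∀ ⦃X Y : Scheme.{u}⦄ (f : X ⟶ Y), P f → IsOpenMap f)
    {X : Scheme.{u}} [CompactSpace X] {κ : Type u} (Y : κ → Scheme.{u}) (f : ∀ k, Y k ⟶ X)
    (h : Presieve.ofArrows Y f ∈ (Scheme.precoverage P).coverings X) :
    ∃ t : Finset κ, Presieve.ofArrows (fun k : t => Y k) (fun k => f k) ∈
      (Scheme.precoverage P).coverings X := by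
  rw [Scheme.ofArrows_mem_precoverage_iff] at h
  obtain ⟨t, ht⟩ := isCompact_univ.elim_finite_subcover (fun k => Set.range (f k))
    (fun k => (hP (f k) (h.2 k)).isOpen_range) (fun x _ => by
      obtain ⟨i, hi⟩ := h.1 x
      exact Set.mem_iUnion.2 ⟨i, hi⟩)
  refine ⟨t, ?_⟩
  rw [Scheme.ofArrows_mem_precoverage_iff]
  refine ⟨fun x => ?_, fun k => h.2 k⟩
  have := ht (Set.mem_univ x)
  simp only [Set.mem_iUnion] at this
  obtain ⟨i, hi, hx⟩ := this
  exact ⟨⟨i, hi⟩, hx⟩

variable [K.IsStableUnderBaseChange] [K.IsStableUnderComposition]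

/-- Stacks 46.5.? : an adequate module gives adequate functors on all affines over `S`. -/
theorem adequate_toMVF_of_adequateMod (hK : Scheme.zariskiPrecoverage.{u} ≤ K)
    (hfin : ∀ (R : CommRingCat.{u}) {κ : Type u} (Y : κ → Scheme.{u}) (f : ∀ k, Y k ⟶ Spec R),
      Presieve.ofArrows Y f ∈ K.coverings (Spec R) →
      ∃ t : Finset κ, Presieve.ofArrows (fun k : t => Y k) (fun k => f k) ∈ K.coverings (Spec R))
    (M : BigSite.Mod K S) (hM : Adeq.adequateMod K S M) (R : CommRingCat.{u}) (a : Spec R ⟶ S) :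
    Adeq.adequate R ((Adeq.toMVF K a).obj M) := by
  obtain ⟨ι₀, R₀, a₀, hcov₀, hadq₀⟩ := hM
  obtain ⟨κ, R', a', idx, g, hcov', hfac⟩ := exists_affine_refinement K hK a R₀ a₀ hcov₀
  obtain ⟨t, ht⟩ := hfin R _ a' hcov'
  let ψ : ∀ k : t, R ⟶ R' k := fun k => Spec.preimage (a' k)
  have hψ : ∀ k : t, Spec.map (ψ k) = a' k := fun k => Spec.map_preimage _
  letI : ∀ k : t, Algebra R (R' k) := fun k => (ψ k).hom.toAlgebra
  refine adequate_of_descent_family (fun k : t => (R' k : Type u)) _ (fun k => ?_) (fun B => ?_)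
  · have hb : Spec.map (ψ k) ≫ a = Spec.map (CommRingCat.ofHom (algebraMap R (R' k))) ≫ a := rfl
    haveI := isIso_reidx K a (Spec.map (ψ k) ≫ a) hb M
    refine (Adeq.adequate (R' k)).prop_of_iso (asIso (reidx K a (Spec.map (ψ k) ≫ a) hb M)) ?_
    refine adequate_of_factor' K (g k) (a₀ (idx k)) _ ?_ M (hadq₀ _)
    rw [hψ, hfac]
  · refine descent_cond K a M (fun k : t => (R' k : Type u)) ?_ B
    have e : (fun k : t => Spec.map (CommRingCat.ofHom (algebraMap R (R' k)))) =
        (fun k : t => a' k) := funext hψ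
    change Presieve.ofArrows (fun k : t => Spec (R' k))
      (fun k : t => Spec.map (CommRingCat.ofHom (algebraMap R (R' k)))) ∈ _
    rw [e]
    exact ht

end Main

theorem adequate_toMVF_fppf {S : Scheme.{u}} (M : BigSite.Mod Scheme.fppfPrecoverage S)
    (hM : Adeq.adequateMod Scheme.fppfPrecoverage S M) (R : CommRingCat.{u}) (a : Spec R ⟶ S) :
    Adeq.adequate R ((Adeq.toMVF Scheme.fppfPrecoverage a).obj M) := by
  refine adequate_toMVF_of_adequateMod Scheme.fppfPrecoverage
    Scheme.zariskiPrecoverage_le_fppfPrecoverage ?_ M hM R a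
  intro R κ Y f h
  refine exists_finite_subcover (@Flat ⊓ @LocallyOfFinitePresentation) ?_ Y f h
  intro X Y f hf
  haveI : Flat f := hf.1
  haveI : LocallyOfFinitePresentation f := hf.2
  exact f.isOpenMap

theorem adequate_toMVF_zariski {S : Scheme.{u}} (M : BigSite.Mod Scheme.zariskiPrecoverage S)
    (hM : Adeq.adequateMod Scheme.zariskiPrecoverage S M) (R : CommRingCat.{u}) (a : Spec R ⟶ S) :
    Adeq.adequate R ((Adeq.toMVF Scheme.zariskiPrecoverage a).obj M) := by
  refine adequate_toMVF_of_adequateMod Scheme.zariskiPrecoverage le_rfl ?_ M hM R a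
  intro R κ Y f h
  refine exists_finite_subcover @IsOpenImmersion ?_ Y f h
  intro X Y f hf
  haveI : IsOpenImmersion f := hf
  exact f.isOpenMap

end Groth.Agent.Lib.Helper86.Adeq2Main
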