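import Mathlib
import Groth.Prelude.Def_Adeq
import Groth.Agent.Lib.Helper86.AdeqFO

open CategoryTheory Limits TensorProduct Opposite ChangeOfRings

/-!
# Flat base change for adequate functors (Stacks 46.3.3 (2)) and linearity from additivity +
unit-equivariance (Stacks 46.3.10)
-/

namespace Groth.Agent.Lib.Helper86.AdeqFlat
universe u
variable {A : Type u} [CommRing A]

open Groth.Agent.Lib.Helper86.AdeqBasic Groth.Agent.Lib.Helper86.AdeqFO

/-- abstract four-lemma style chase. -/
theorem bijective_of_chase {T₁ T₂ T₃ K P Q : Type*} [AddCommGroup T₁] [AddCommGroup T₂]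
    [AddCommGroup T₃] [AddCommGroup K] [AddCommGroup P] [AddCommGroup Q]
    (a : T₁ →+ T₂) (b : T₂ →+ T₃) (a' : K →+ P) (b' : P →+ Q)
    (v₁ : T₁ →+ K) (v₂ : T₂ →+ P) (v₃ : T₃ →+ Q)
    (ha : Function.Injective a) (hab : ∀ w, b w = 0 → ∃ z, a z = w)
    (ha' : Function.Injective a') (hab' : ∀ y, b' (a' y) = 0)
    (hv₂ : Function.Bijective v₂) (hv₃ : Function.Injective v₃)
    (h1 : ∀ z, a' (v₁ z) = v₂ (a z)) (h2 : ∀ w, b' (v₂ w) = v₃ (b w)) :
    Function.Bijective v₁ := by
  constructor
  · rw [injective_iff_map_eq_zero]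
    intro z hz
    apply ha
    apply hv₂.1
    rw [← h1, hz, map_zero, map_zero, map_zero]
  · intro y
    obtain ⟨w, hw⟩ := hv₂.2 (a' y)
    have : b w = 0 := by
      apply hv₃
      rw [← h2, hw, hab', map_zero]
    obtain ⟨z, rfl⟩ := hab w this
    refine ⟨z, ha' ?_⟩
    rw [h1, hw]

section BC
variable {B B' : Adeq.Alg A} (f : B ⟶ B')

theorem bc_tmul (F : Adeq.MVF A) (s : B') (x : F.obj (Adeq.pt B)) :
    F.bc f (s ⊗ₜ[B, f.hom.toRingHom] x) = s • mp F f x := by
  rfl

theorem bc_nat {F G : Adeq.MVF A} (η : F ⟶ G) :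
    (ModuleCat.extendScalars f.hom.toRingHom).map (η.app (Adeq.pt B)) ≫ G.bc f
      = F.bc f ≫ η.app (Adeq.pt B') := by
  unfold Adeq.MVF.bc
  rw [← Adjunction.homEquiv_naturality_left_symm, ← Adjunction.homEquiv_naturality_right_symm]
  congr 1
  exact (η.naturality (Adeq.ptHom f)).symm

theorem ext_inj_of_flat (hf : f.hom.toRingHom.Flat) {K P : ModuleCat.{u+1} B} (i : K ⟶ P)
    (hi : Function.Injective i) :
    Function.Injective ((ModuleCat.extendScalars f.hom.toRingHom).map i) := by
  letI : Algebra B B' := f.hom.toRingHom.toAlgebra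
  haveI : Module.Flat B B' := hf
  exact Module.Flat.lTensor_preserves_injective_linearMap (M := B') i.hom hi

theorem ext_exact_of_flat (hf : f.hom.toRingHom.Flat) {K P Q : ModuleCat.{u+1} B} (i : K ⟶ P)
    (φ : P ⟶ Q) (hex : Function.Exact i φ) :
    Function.Exact ((ModuleCat.extendScalars f.hom.toRingHom).map i)
      ((ModuleCat.extendScalars f.hom.toRingHom).map φ) := by
  letI : Algebra B B' := f.hom.toRingHom.toAlgebra
  haveI : Module.Flat B B' := hf
  exact Module.Flat.lTensor_exact B' (f := i.hom) (g := φ.hom) hex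

theorem bc_underline_bijective (M : ModuleCat.{u+1} A) :
    Function.Bijective (((Adeq.underline A).obj M).bc f) := by
  letI : Algebra B B' := f.hom.toRingHom.toAlgebra
  haveI : IsScalarTower A B B' := IsScalarTower.of_algebraMap_eq (fun a => (f.hom.commutes a).symm)
  let e := TensorProduct.AlgebraTensorModule.cancelBaseChange A B B' B' M
  have key : ∀ (s : B') (y : B ⊗[A] M), s • (f.hom.toLinearMap.rTensor M y) = e (s ⊗ₜ[B] y) := by
    intro s y
    induction y using TensorProduct.induction_on with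
    | zero => rw [map_zero, smul_zero, TensorProduct.tmul_zero, map_zero]
    | tmul b m =>
      rw [LinearMap.rTensor_tmul, TensorProduct.smul_tmul',
        TensorProduct.AlgebraTensorModule.cancelBaseChange_tmul]
      congr 1
      change s * f.hom b = f.hom b * s
      exact mul_comm _ _
    | add y₁ y₂ h₁ h₂ => rw [map_add, smul_add, TensorProduct.tmul_add, map_add, h₁, h₂]
  let g : B' ⊗[B] (B ⊗[A] M) →+ B' ⊗[A] M :=
    { toFun := fun z => toT M B' (((Adeq.underline A).obj M).bc f z)
      map_zero' := by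
        have := (((Adeq.underline A).obj M).bc f).hom.map_zero
        exact (congrArg (toT M B') this).trans (map_zero _)
      map_add' := fun z₁ z₂ => by
        have := (((Adeq.underline A).obj M).bc f).hom.map_add z₁ z₂
        exact (congrArg (toT M B') this).trans (map_add _ _ _) }
  have h : ∀ z, g z = e z := by
    intro z
    induction z using TensorProduct.induction_on with
    | zero => rw [map_zero, map_zero]
    | tmul s y =>
      change toT M B' ((s : B') • mp ((Adeq.underline A).obj M) f y) = _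
      rw [map_smul]
      exact key s y
    | add z₁ z₂ h₁ h₂ => rw [map_add, map_add, h₁, h₂]
  have h2 : (((Adeq.underline A).obj M).bc f : _ → _) = (toT M B').symm ∘ e := by
    funext z
    have := h z
    change toT M B' (((Adeq.underline A).obj M).bc f z) = e z at this
    change _ = (toT M B').symm (e z)
    rw [← this, LinearEquiv.symm_apply_apply]
  rw [h2]
  exact (LinearEquiv.bijective _).comp (LinearEquiv.bijective e)

theorem isIso_bc_of_adequate_flat (F : Adeq.MVF A) (hF : Adeq.adequate A F)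
    (hf : f.hom.toRingHom.Flat) : IsIso (F.bc f) := by
  obtain ⟨M, N, φ, i, hi⟩ := (adequate_iff F).1 hF
  rw [ConcreteCategory.isIso_iff_bijective]
  have hex : Function.Exact (i.app (Adeq.pt B)) (((Adeq.underline A).map φ).app (Adeq.pt B)) := by
    intro y
    constructor
    · intro h
      exact hi.ex _ y h
    · rintro ⟨x, rfl⟩
      exact hi.apply _ x
  have hex' := ext_exact_of_flat f hf _ _ hex
  have h1 := bc_nat f i
  have h2 := bc_nat f ((Adeq.underline A).map φ)
  refine bijective_of_chase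
    (a := ((ModuleCat.extendScalars f.hom.toRingHom).map (i.app (Adeq.pt B))).hom.toAddMonoidHom)
    (b := ((ModuleCat.extendScalars f.hom.toRingHom).map
      (((Adeq.underline A).map φ).app (Adeq.pt B))).hom.toAddMonoidHom)
    (a' := (i.app (Adeq.pt B')).hom.toAddMonoidHom)
    (b' := (((Adeq.underline A).map φ).app (Adeq.pt B')).hom.toAddMonoidHom)
    (v₁ := (F.bc f).hom.toAddMonoidHom)
    (v₂ := (((Adeq.underline A).obj M).bc f).hom.toAddMonoidHom)
    (v₃ := (((Adeq.underline A).obj N).bc f).hom.toAddMonoidHom)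
    (ext_inj_of_flat f hf _ (hi.inj (Adeq.pt B))) ?_ (hi.inj (Adeq.pt B')) (fun y => hi.apply _ y)
    (bc_underline_bijective f M) (bc_underline_bijective f N).1 ?_ ?_
  · intro w hw
    exact (hex' w).1 hw
  · intro z
    exact (ConcreteCategory.congr_hom h1 z).symm
  · intro w
    exact (ConcreteCategory.congr_hom h2 w).symm

theorem one_tmul_injective (hff : f.hom.toRingHom.FaithfullyFlat) (K : ModuleCat.{u+1} B) :
    Function.Injective (fun x : K =>
      (((1 : B') ⊗ₜ[B, f.hom.toRingHom] x) : (ModuleCat.extendScalars f.hom.toRingHom).obj K)) := by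
  letI : Algebra B B' := f.hom.toRingHom.toAlgebra
  haveI : Module.FaithfullyFlat B B' := hff
  exact Module.FaithfullyFlat.tensorProduct_mk_injective (A := B) (B := B') K

theorem mp_injective_of_faithfullyFlat (G : Adeq.MVF A) (hff : f.hom.toRingHom.FaithfullyFlat)
    (hG : IsIso (G.bc f)) : Function.Injective (mp G f) := by
  have hb : Function.Bijective (G.bc f) := ConcreteCategory.bijective_of_isIso (G.bc f)
  have h : ∀ x, mp G f x = G.bc f ((1 : B') ⊗ₜ[B, f.hom.toRingHom] x) := by
    intro x
    rw [bc_tmul, one_smul]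
  intro x y hxy
  rw [h, h] at hxy
  exact one_tmul_injective f hff _ (hb.1 hxy)

end BC

section Units
open Polynomial

variable (B : Adeq.Alg A) (b : B)

/-- the polynomial `X² - bX + 1`. -/
noncomputable def qp : (B : Type u)[X] := X ^ 2 - C b * X + 1

theorem qp_monic : (qp B b).Monic := by
  unfold qp
  nontriviality B
  monicity!

theorem qp_natDegree [Nontrivial B] : (qp B b).natDegree = 2 := by
  unfold qp
  compute_degree!

/-- `B[t]/(t² - bt + 1)`. -/
noncomputable abbrev B2 : Adeq.Alg A := Adeq.algOf A (AdjoinRoot (qp B b))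

noncomputable def toB2 : B ⟶ B2 B b :=
  CommAlgCat.ofHom (IsScalarTower.toAlgHom A B (AdjoinRoot (qp B b)))

theorem toB2_hom : (toB2 B b).hom.toRingHom = algebraMap B (AdjoinRoot (qp B b)) := rfl

theorem root_mul : (AdjoinRoot.root (qp B b)) * (algebraMap B _ b - AdjoinRoot.root (qp B b)) = 1 := by
  have h := AdjoinRoot.eval₂_root (qp B b)
  unfold qp at h
  simp only [eval₂_add, eval₂_sub, eval₂_mul, eval₂_pow, eval₂_X, eval₂_C, eval₂_one] at h
  have h' : AdjoinRoot.root (qp B b) ^ 2 - (AdjoinRoot.of (qp B b)) b * AdjoinRoot.root (qp B b) + 1 = 0 := h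
  rw [AdjoinRoot.algebraMap_eq]
  linear_combination -h'

theorem nontrivial_B2 [Nontrivial B] : Nontrivial (AdjoinRoot (qp B b)) := by
  apply Ideal.Quotient.nontrivial_iff.mpr
  rw [Ne, Ideal.span_singleton_eq_top]
  intro hu
  have h1 := (qp_monic B b).eq_one_of_isUnit hu
  have h2 := qp_natDegree B b
  rw [h1, natDegree_one] at h2
  exact absurd h2 (by norm_num)

theorem smul_comm_of_additive_units_flat (F G : Adeq.MVF A)
    (φ : ∀ B : Adeq.Alg A, F.obj (Adeq.pt B) → G.obj (Adeq.pt B))
    (hnat : ∀ ⦃B B' : Adeq.Alg A⦄ (f : B ⟶ B') (x : F.obj (Adeq.pt B)),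
      φ B' (F.map (Adeq.ptHom f) x) = G.map (Adeq.ptHom f) (φ B x))
    (hadd : ∀ (B : Adeq.Alg A) (x y : F.obj (Adeq.pt B)), φ B (x + y) = φ B x + φ B y)
    (hunit : ∀ (B : Adeq.Alg A) (v : (B : Type u)ˣ) (x : F.obj (Adeq.pt B)), φ B ((v : B) • x) = (v : B) • φ B x)
    (hG : ∀ ⦃B B' : Adeq.Alg A⦄ (f : B ⟶ B'), f.hom.toRingHom.Flat → IsIso (G.bc f))
    (x : F.obj (Adeq.pt B)) : φ B (b • x) = b • φ B x := by
  rcases subsingleton_or_nontrivial B with hB | hB
  · haveI : Subsingleton (G.obj (Adeq.pt B)) := Module.subsingleton B _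
    exact Subsingleton.elim _ _
  · have hfree : Module.Free B (AdjoinRoot (qp B b)) := (qp_monic B b).free_adjoinRoot
    have hnt : Nontrivial (AdjoinRoot (qp B b)) := nontrivial_B2 B b
    have hff : (toB2 B b).hom.toRingHom.FaithfullyFlat := by
      rw [toB2_hom, RingHom.faithfullyFlat_algebraMap_iff]
      infer_instance
    have hinj := mp_injective_of_faithfullyFlat (toB2 B b) G hff (hG _ hff.flat)
    apply hinj
    let t : B2 B b := AdjoinRoot.root (qp B b)
    let u : (B2 B b : Type u)ˣ := Units.mkOfMulEqOne t ((toB2 B b).hom b - t) (root_mul B b)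
    let v : (B2 B b : Type u)ˣ := Units.mkOfMulEqOne ((toB2 B b).hom b - t) t (by
      rw [mul_comm]; exact root_mul B b)
    have huv : (u : B2 B b) + (v : B2 B b) = (toB2 B b).hom b := by
      change t + ((toB2 B b).hom b - t) = _
      ring
    calc mp G (toB2 B b) (φ B (b • x)) = φ (B2 B b) (mp F (toB2 B b) (b • x)) := (hnat (toB2 B b) (b • x)).symm
      _ = φ (B2 B b) (((toB2 B b).hom b) • mp F (toB2 B b) x) := by rw [mp_smul]
      _ = φ (B2 B b) ((u : B2 B b) • mp F (toB2 B b) x + (v : B2 B b) • mp F (toB2 B b) x) := by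
        rw [← add_smul, huv]
      _ = (u : B2 B b) • φ (B2 B b) (mp F (toB2 B b) x) + (v : B2 B b) • φ (B2 B b) (mp F (toB2 B b) x) := by
        rw [hadd, hunit, hunit]
      _ = (toB2 B b).hom b • φ (B2 B b) (mp F (toB2 B b) x) := by rw [← add_smul, huv]
      _ = (toB2 B b).hom b • mp G (toB2 B b) (φ B x) := by
        congr 1
        exact hnat (toB2 B b) x
      _ = mp G (toB2 B b) (b • φ B x) := (mp_smul G _ b _).symm

end Units

end Groth.Agent.Lib.Helper86.AdeqFlat
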