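import Mathlib
import Groth.Prelude.Def_Adeq
import Groth.Agent.Lib.Helper86.FFDescentMod
import Groth.Agent.Lib.Helper86.AdeqFlat

open CategoryTheory Limits TensorProduct Opposite

/-!
# Faithfully flat descent for adequate functors (first two terms of the Cech complex; Stacks 46.3.5)
-/

namespace Groth.Agent.Lib.Helper86.AdeqFFDescent
universe u
variable {A : Type u} [CommRing A]

open Groth.Agent.Lib.Helper86.AdeqBasic Groth.Agent.Lib.Helper86.AdeqFO
open Groth.Agent.Lib.Helper86.FFDescentMod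

variable (B : Type u) [CommRing B] [Algebra A B]

/-- `A → B`. -/
abbrev η : Adeq.algOf A A ⟶ Adeq.algOf A B := CommAlgCat.ofHom (Algebra.ofId A B)
/-- `b ↦ b ⊗ 1`. -/
abbrev ι₁ : Adeq.algOf A B ⟶ Adeq.algOf A (B ⊗[A] B) :=
  CommAlgCat.ofHom (Algebra.TensorProduct.includeLeft : B →ₐ[A] B ⊗[A] B)
/-- `b ↦ 1 ⊗ b`. -/
abbrev ι₂ : Adeq.algOf A B ⟶ Adeq.algOf A (B ⊗[A] B) :=
  CommAlgCat.ofHom (Algebra.TensorProduct.includeRight : B →ₐ[A] B ⊗[A] B)

section Und
variable (M : ModuleCat.{u+1} A)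

theorem und_eta (m : M) :
    toT M (Adeq.algOf A B) (mp ((Adeq.underline A).obj M) (η B)
      ((toT M (Adeq.algOf A A)).symm ((1 : A) ⊗ₜ[A] m))) = dF A B M m := by
  rw [toT_mp, LinearEquiv.apply_symm_apply, LinearMap.rTensor_tmul]
  change (Algebra.ofId A B) 1 ⊗ₜ[A] m = (1 : B) ⊗ₜ[A] m
  rw [map_one]

theorem und_exists_one_tmul (x : ((Adeq.underline A).obj M).obj (Adeq.pt (Adeq.algOf A A))) :
    ∃ m : M, x = (toT M (Adeq.algOf A A)).symm ((1 : A) ⊗ₜ[A] m) := by
  refine ⟨TensorProduct.lid A M (toT M (Adeq.algOf A A) x), ?_⟩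
  apply (toT M (Adeq.algOf A A)).injective
  rw [LinearEquiv.apply_symm_apply]
  generalize toT M (Adeq.algOf A A) x = y
  induction y using TensorProduct.induction_on with
  | zero => simp
  | add x y hx hy => rw [map_add, tmul_add, ← hx, ← hy]
  | tmul a m =>
    rw [TensorProduct.lid_tmul, TensorProduct.tmul_smul, TensorProduct.smul_tmul', smul_eq_mul,
      mul_one]

theorem und_inj [Module.FaithfullyFlat A B] :
    Function.Injective (mp ((Adeq.underline A).obj M) (η B)) := by
  intro x x' h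
  obtain ⟨m, rfl⟩ := und_exists_one_tmul M x
  obtain ⟨m', rfl⟩ := und_exists_one_tmul M x'
  have h2 := congrArg (toT M (Adeq.algOf A B)) h
  rw [und_eta, und_eta] at h2
  have : m = m' := Module.FaithfullyFlat.tensorProduct_mk_injective (A := A) (B := B) M h2
  rw [this]

theorem und_exact [Module.FaithfullyFlat A B]
    (y : ((Adeq.underline A).obj M).obj (Adeq.pt (Adeq.algOf A B)))
    (hy : mp ((Adeq.underline A).obj M) (ι₁ B) y = mp ((Adeq.underline A).obj M) (ι₂ B) y) :
    ∃ x, mp ((Adeq.underline A).obj M) (η B) x = y := by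
  have h1 := congrArg (toT M (Adeq.algOf A (B ⊗[A] B))) hy
  rw [toT_mp, toT_mp] at h1
  have h2 : dG A B M (toT M (Adeq.algOf A B) y) = 0 := by
    unfold dG Algebra.TensorProduct.includeLeftSubRight
    rw [LinearMap.rTensor_sub, LinearMap.sub_apply, sub_eq_zero]
    exact h1
  obtain ⟨m, hm⟩ := (exact_dF_dG A B M _).1 h2
  refine ⟨(toT M (Adeq.algOf A A)).symm ((1 : A) ⊗ₜ[A] m), ?_⟩
  apply (toT M (Adeq.algOf A B)).injective
  rw [und_eta, hm]

end Und

/-- faithfully flat descent for adequate functors, first two terms. -/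
theorem adequate_ff_descent [Module.FaithfullyFlat A B] (F : Adeq.MVF A) (hF : Adeq.adequate A F) :
    Function.Injective (mp F (η B)) ∧
      ∀ y : F.obj (Adeq.pt (Adeq.algOf A B)), mp F (ι₁ B) y = mp F (ι₂ B) y →
        ∃ x, mp F (η B) x = y := by
  obtain ⟨M, N, φ, i, hi⟩ := (adequate_iff F).1 hF
  constructor
  · intro x x' h
    apply hi.inj
    apply und_inj B M
    rw [← app_mp, ← app_mp, h]
  · intro y hy
    have h1 : mp ((Adeq.underline A).obj M) (ι₁ B) (i.app _ y) =
        mp ((Adeq.underline A).obj M) (ι₂ B) (i.app _ y) := by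
      rw [← app_mp, ← app_mp, hy]
    obtain ⟨z, hz⟩ := und_exact B M _ h1
    have h2 : ((Adeq.underline A).map φ).app _ z = 0 := by
      apply und_inj B N
      rw [← app_mp, hz, map_zero]
      exact hi.apply _ y
    obtain ⟨x, hx⟩ := hi.ex _ z h2
    refine ⟨x, hi.inj _ ?_⟩
    rw [app_mp, hx, hz]

end Groth.Agent.Lib.Helper86.AdeqFFDescent
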