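import Mathlib

open CategoryTheory Limits Opposite

/-!
# Elementary description of the Čech complex of a one-member family; contractibility after base change,
dimension shifting and transfer along product preserving functors
-/

namespace Groth.Agent.Lib.Helper86.CechPow
universe w v u v' u'

section Defs
variable {𝒞 : Type u} [Category.{v} 𝒞] [HasFiniteProducts 𝒞] (X₀ : 𝒞)

/-- the `(n+1)`-fold power. -/
noncomputable abbrev W (n : ℕ) : 𝒞 := ∏ᶜ fun _ : Fin (n + 1) => X₀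

/-- the face maps of the Čech nerve. -/
noncomputable def θ (n : ℕ) (j : Fin (n + 2)) : W X₀ (n + 1) ⟶ W X₀ n :=
  Pi.lift (fun a => Pi.π (fun _ : Fin (n + 2) => X₀) (j.succAbove a))

@[reassoc (attr := simp)]
theorem θ_π (n : ℕ) (j : Fin (n + 2)) (a : Fin (n + 1)) :
    θ X₀ n j ≫ Pi.π (fun _ : Fin (n + 1) => X₀) a = Pi.π (fun _ : Fin (n + 2) => X₀) (j.succAbove a) := by
  simp [θ]

variable {X₀}
variable (P : 𝒞ᵒᵖ ⥤ AddCommGrpCat.{w})

/-- the Čech differential. -/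
noncomputable def dP (n : ℕ) : P.obj (op (W X₀ n)) ⟶ P.obj (op (W X₀ (n + 1))) :=
  ∑ j : Fin (n + 2), ((-1 : ℤ) ^ (j : ℕ)) • P.map (θ X₀ n j).op

/-- exactness of the Čech complex in degree `n + 1`. -/
def ExactP (n : ℕ) : Prop :=
  ∀ x : P.obj (op (W X₀ (n + 1))), dP P (n + 1) x = 0 → ∃ y : P.obj (op (W X₀ n)), dP P n y = x

end Defs

section Mathlib
variable {𝒞 : Type u} [Category.{v} 𝒞] [HasFiniteProducts 𝒞] (X₀ : 𝒞)
variable (P : 𝒞ᵒᵖ ⥤ AddCommGrpCat.{w})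

/-- the Čech complex of Mathlib for the one-member family `X₀`. -/
noncomputable abbrev KK : CochainComplex AddCommGrpCat.{w} ℕ :=
  (cechComplexFunctor (A := AddCommGrpCat.{w}) (fun _ : PUnit.{w + 1} => X₀)).obj P

/-- the projection to the unique factor. -/
noncomputable def ee (n : ℕ) : (KK X₀ P).X n ⟶ P.obj (op (W X₀ n)) :=
  Pi.π _ (fun _ => PUnit.unit)


instance (n : ℕ) : Unique (Fin (n + 1) → PUnit.{w + 1}) where
  default := fun _ => PUnit.unit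
  uniq _ := rfl

/-- the cosimplicial object. -/
noncomputable abbrev XX : CosimplicialObject AddCommGrpCat.{w} :=
  (FormalCoproduct.cosimplicialObjectFunctor
    (FormalCoproduct.mk _ (fun _ : PUnit.{w + 1} => X₀)).cech).obj P

open Simplicial in
/-- the projection to the unique factor. -/
noncomputable def ee' (n : ℕ) : (XX X₀ P).obj ⦋n⦌ ⟶ P.obj (op (W X₀ n)) :=
  Pi.π _ (fun _ => PUnit.unit)

theorem KK_d (n : ℕ) : (KK X₀ P).d n (n + 1) =
    AlgebraicTopology.AlternatingCofaceMapComplex.objD (XX X₀ P) n :=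
  CochainComplex.of_d (fun n => (XX X₀ P).obj (SimplexCategory.mk n))
    (AlgebraicTopology.AlternatingCofaceMapComplex.objD (XX X₀ P)) n

theorem ee'_δ (n : ℕ) (j : Fin (n + 2)) :
    (XX X₀ P).δ j ≫ ee' X₀ P (n + 1) = ee' X₀ P n ≫ P.map (θ X₀ n j).op :=
  limit.lift_π _ _

theorem ee'_d (n : ℕ) : AlgebraicTopology.AlternatingCofaceMapComplex.objD (XX X₀ P) n ≫
    ee' X₀ P (n + 1) = ee' X₀ P n ≫ dP P n := by
  unfold AlgebraicTopology.AlternatingCofaceMapComplex.objD dP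
  rw [Preadditive.sum_comp, Preadditive.comp_sum]
  refine Finset.sum_congr rfl (fun j _ => ?_)
  rw [Preadditive.zsmul_comp, Preadditive.comp_zsmul, ee'_δ]

theorem ee_d (n : ℕ) : (KK X₀ P).d n (n + 1) ≫ ee X₀ P (n + 1) = ee X₀ P n ≫ dP P n := by
  rw [KK_d]
  exact ee'_d X₀ P n

instance isIso_ee (n : ℕ) : IsIso (ee X₀ P n) :=
  inferInstanceAs (IsIso (productUniqueIso _).hom)

theorem ee_bijective (n : ℕ) : Function.Bijective (ee X₀ P n) :=
  ConcreteCategory.bijective_of_isIso _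

/-- exactness of Mathlib's Čech complex from the elementary condition. -/
theorem exactAt_of_exactP (n : ℕ) (h : ExactP (X₀ := X₀) P n) : (KK X₀ P).ExactAt (n + 1) := by
  rw [HomologicalComplex.exactAt_iff' _ n (n + 1) (n + 2) (CochainComplex.prev_nat_succ n)
    (CochainComplex.next ℕ (n + 1)), ShortComplex.ab_exact_iff]
  intro x₂ hx₂
  have h1 : dP P (n + 1) (ee X₀ P (n + 1) x₂) = 0 := by
    have h0 : ee X₀ P (n + 2) ((KK X₀ P).d (n + 1) (n + 2) x₂) = dP P (n + 1) (ee X₀ P (n + 1) x₂) :=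
      ConcreteCategory.congr_hom (ee_d X₀ P (n + 1)) x₂
    rw [← h0, show (KK X₀ P).d (n + 1) (n + 2) x₂ = 0 from hx₂, map_zero]
  obtain ⟨y, hy⟩ := h _ h1
  obtain ⟨y', rfl⟩ := (ee_bijective X₀ P n).2 y
  refine ⟨y', (ee_bijective X₀ P (n + 1)).1 ?_⟩
  have h2 : ee X₀ P (n + 1) ((KK X₀ P).d n (n + 1) y') = dP P n (ee X₀ P n y') :=
    ConcreteCategory.congr_hom (ee_d X₀ P n) y'
  exact h2.trans hy

end Mathlib


section General
variable {𝒞 : Type u} [Category.{v} 𝒞] [HasFiniteProducts 𝒞] {X₀ : 𝒞}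
variable (P : 𝒞ᵒᵖ ⥤ AddCommGrpCat.{w})

theorem dP_comp_dP (n : ℕ) : dP (X₀ := X₀) P n ≫ dP P (n + 1) = 0 := by
  rw [← cancel_epi (ee X₀ P n), ← Category.assoc, ← ee_d, Category.assoc, ← ee_d, ← Category.assoc,
    HomologicalComplex.d_comp_d, zero_comp, comp_zero]

theorem dP_dP_apply (n : ℕ) (x : P.obj (op (W X₀ n))) : dP P (n + 1) (dP P n x) = 0 :=
  ConcreteCategory.congr_hom (dP_comp_dP P n) x

/-- evaluation of morphisms of abelian groups at an element. -/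
def evalHom {M N : AddCommGrpCat.{w}} (x : M) : (M ⟶ N) →+ N where
  toFun f := f x
  map_zero' := rfl
  map_add' _ _ := rfl

theorem dP_apply (n : ℕ) (x : P.obj (op (W X₀ n))) :
    dP P n x = ∑ j : Fin (n + 2), ((-1 : ℤ) ^ (j : ℕ)) • P.map (θ X₀ n j).op x := by
  change evalHom x (dP P n) = _
  unfold dP
  rw [map_sum]
  refine Finset.sum_congr rfl (fun j _ => ?_)
  rw [map_zsmul]
  rfl

variable {P}
theorem dP_naturality {P' : 𝒞ᵒᵖ ⥤ AddCommGrpCat.{w}} (α : P ⟶ P') (n : ℕ) :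
    dP (X₀ := X₀) P n ≫ α.app (op (W X₀ (n + 1))) = α.app (op (W X₀ n)) ≫ dP P' n := by
  unfold dP
  rw [Preadditive.sum_comp, Preadditive.comp_sum]
  refine Finset.sum_congr rfl (fun j _ => ?_)
  rw [Preadditive.zsmul_comp, Preadditive.comp_zsmul, α.naturality]

theorem dP_naturality_apply {P' : 𝒞ᵒᵖ ⥤ AddCommGrpCat.{w}} (α : P ⟶ P') (n : ℕ)
    (x : P.obj (op (W X₀ n))) :
    α.app (op (W X₀ (n + 1))) (dP P n x) = dP P' n (α.app (op (W X₀ n)) x) :=
  ConcreteCategory.congr_hom (dP_naturality α n) x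

theorem exactP_of_bijective {P' : 𝒞ᵒᵖ ⥤ AddCommGrpCat.{w}} (α : P ⟶ P')
    (hα : ∀ n, Function.Bijective (α.app (op (W X₀ n)))) (n : ℕ) (h : ExactP (X₀ := X₀) P n) :
    ExactP (X₀ := X₀) P' n := by
  intro x hx
  obtain ⟨x', rfl⟩ := (hα (n + 1)).2 x
  have h1 : dP P (n + 1) x' = 0 := by
    apply (hα (n + 2)).1
    rw [dP_naturality_apply, hx, map_zero]
  obtain ⟨y, hy⟩ := h x' h1
  exact ⟨α.app _ y, by rw [← dP_naturality_apply, hy]⟩

theorem exactP_of_bijective' {P' : 𝒞ᵒᵖ ⥤ AddCommGrpCat.{w}} (α : P ⟶ P')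
    (hα : ∀ n, Function.Bijective (α.app (op (W X₀ n)))) (n : ℕ) (h : ExactP (X₀ := X₀) P' n) :
    ExactP (X₀ := X₀) P n := by
  intro x hx
  have h1 : dP P' (n + 1) (α.app _ x) = 0 := by
    rw [← dP_naturality_apply, hx, map_zero]
  obtain ⟨y, hy⟩ := h _ h1
  obtain ⟨y', rfl⟩ := (hα n).2 y
  refine ⟨y', (hα (n + 1)).1 ?_⟩
  rw [dP_naturality_apply, hy]

end General


section Contract
variable {𝒞 : Type u} [Category.{v} 𝒞] [HasFiniteProducts 𝒞] {X₀ : 𝒞}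
variable (T : 𝒞 ⥤ 𝒞) (p : T ⟶ 𝟭 𝒞) (q : ∀ Y, T.obj Y ⟶ X₀)
  (hq : ∀ {Y Y' : 𝒞} (f : Y ⟶ Y'), T.map f ≫ q Y' = q Y)
  (hT : ∀ Y, IsLimit (BinaryFan.mk (p.app Y) (q Y)))

/-- the components of the map `(w, x) ↦ (w, x)`. -/
noncomputable def sComp (n : ℕ) : ∀ a : Fin (n + 2), T.obj (W X₀ n) ⟶ X₀ :=
  Fin.lastCases (q (W X₀ n)) (fun a => p.app (W X₀ n) ≫ Pi.π (fun _ : Fin (n + 1) => X₀) a)

/-- the extra degeneracy `(w; x) ↦ (w, x; x)`. -/
noncomputable def sMap (n : ℕ) : T.obj (W X₀ n) ⟶ T.obj (W X₀ (n + 1)) :=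
  (BinaryFan.IsLimit.lift' (hT (W X₀ (n + 1))) (Pi.lift (sComp T p q n)) (q (W X₀ n))).1

theorem sMap_p (n : ℕ) : sMap T p q hT n ≫ p.app (W X₀ (n + 1)) = Pi.lift (sComp T p q n) :=
  (BinaryFan.IsLimit.lift' (hT (W X₀ (n + 1))) (Pi.lift (sComp T p q n)) (q (W X₀ n))).2.1

theorem sMap_q (n : ℕ) : sMap T p q hT n ≫ q (W X₀ (n + 1)) = q (W X₀ n) :=
  (BinaryFan.IsLimit.lift' (hT (W X₀ (n + 1))) (Pi.lift (sComp T p q n)) (q (W X₀ n))).2.2

include hT in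
theorem T_hom_ext {Z Y : 𝒞} (f g : Z ⟶ T.obj Y) (h1 : f ≫ p.app Y = g ≫ p.app Y)
    (h2 : f ≫ q Y = g ≫ q Y) : f = g :=
  BinaryFan.IsLimit.hom_ext (hT Y) h1 h2

include hq in
theorem sMap_last (n : ℕ) :
    sMap T p q hT n ≫ T.map (θ X₀ n (Fin.last (n + 1))) = 𝟙 _ := by
  apply T_hom_ext T p q hT
  · rw [Category.assoc, Category.id_comp]
    have := p.naturality (θ X₀ n (Fin.last (n + 1)))
    rw [Functor.id_map] at this
    rw [this, ← Category.assoc, sMap_p]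
    apply Limits.Pi.hom_ext
    intro a
    rw [Category.assoc, θ_π, Pi.lift_π, Fin.succAbove_last]
    simp [sComp]
  · rw [Category.assoc, hq, sMap_q, Category.id_comp]

include hq in
theorem sMap_castSucc (n : ℕ) (j : Fin (n + 2)) :
    sMap T p q hT (n + 1) ≫ T.map (θ X₀ (n + 1) j.castSucc) =
      T.map (θ X₀ n j) ≫ sMap T p q hT n := by
  apply T_hom_ext T p q hT
  · have h1 := p.naturality (θ X₀ (n + 1) j.castSucc)
    rw [Functor.id_map] at h1
    have h2 := p.naturality (θ X₀ n j)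
    rw [Functor.id_map] at h2
    rw [Category.assoc, h1, ← Category.assoc, sMap_p, Category.assoc, sMap_p]
    apply Limits.Pi.hom_ext
    intro a
    rw [Category.assoc, θ_π, Pi.lift_π, Category.assoc, Pi.lift_π]
    induction a using Fin.lastCases with
    | last =>
      have e : j.castSucc.succAbove (Fin.last (n + 1)) = Fin.last (n + 2) := by
        rw [Fin.succAbove_of_le_castSucc _ _ (by
          rw [Fin.le_def]
          simp only [Fin.val_castSucc, Fin.val_last]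
          omega), Fin.succ_last]
      rw [e]
      simp only [sComp, Fin.lastCases_last]
      rw [hq]
    | cast a =>
      rw [Fin.castSucc_succAbove_castSucc]
      simp only [sComp, Fin.lastCases_castSucc]
      rw [← Category.assoc, h2, Category.assoc, θ_π]
  · rw [Category.assoc, hq, sMap_q, Category.assoc, sMap_q, hq]


variable (P : 𝒞ᵒᵖ ⥤ AddCommGrpCat.{w})

theorem map_comp_apply' {X Y Z : 𝒞} (f : X ⟶ Y) (g : Y ⟶ Z) (y : P.obj (op Z)) :
    P.map f.op (P.map g.op y) = P.map (f ≫ g).op y := by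
  rw [op_comp, P.map_comp]
  rfl

include hq hT in
/-- the Čech complex of `P(T -)` is exact in positive degrees. -/
theorem exactP_contract (n : ℕ) : ExactP (X₀ := X₀) (T.op ⋙ P) n := by
  intro y hy
  have h0 := congrArg (P.map (sMap T p q hT (n + 1)).op) hy
  rw [map_zero, dP_apply, map_sum, Fin.sum_univ_castSucc] at h0
  have h1 : ∀ j : Fin (n + 2), P.map (sMap T p q hT (n + 1)).op
      (((-1 : ℤ) ^ (j.castSucc : ℕ)) • (T.op ⋙ P).map (θ X₀ (n + 1) j.castSucc).op y) =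
      ((-1 : ℤ) ^ (j : ℕ)) • (T.op ⋙ P).map (θ X₀ n j).op (P.map (sMap T p q hT n).op y) := by
    intro j
    rw [map_zsmul]
    change _ • P.map (sMap T p q hT (n + 1)).op (P.map (T.map (θ X₀ (n + 1) j.castSucc)).op y) =
      _ • P.map (T.map (θ X₀ n j)).op (P.map (sMap T p q hT n).op y)
    rw [map_comp_apply', map_comp_apply', sMap_castSucc T p q hq hT]
    rfl
  have h2 : P.map (sMap T p q hT (n + 1)).op
      (((-1 : ℤ) ^ ((Fin.last (n + 2) : Fin (n + 3)) : ℕ)) •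
        (T.op ⋙ P).map (θ X₀ (n + 1) (Fin.last (n + 2))).op y) = ((-1 : ℤ) ^ (n + 2)) • y := by
    rw [map_zsmul]
    change _ • P.map (sMap T p q hT (n + 1)).op (P.map (T.map (θ X₀ (n + 1) (Fin.last (n + 2)))).op y) = _
    rw [map_comp_apply', sMap_last T p q hq hT, Fin.val_last]
    change _ • P.map (𝟙 _) y = _
    rw [P.map_id]
    rfl
  rw [Finset.sum_congr rfl (fun j _ => h1 j), h2, ← dP_apply] at h0
  refine ⟨(-((-1 : ℤ) ^ (n + 2))) • P.map (sMap T p q hT n).op y, ?_⟩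
  rw [map_zsmul, eq_neg_of_add_eq_zero_left h0, neg_smul, smul_neg, neg_neg, smul_smul, ← pow_add]
  have : Even (n + 2 + (n + 2)) := ⟨n + 2, rfl⟩
  rw [this.neg_one_pow, one_smul]

end Contract


section Chase
variable {𝒞 : Type u} [Category.{v} 𝒞] [HasFiniteProducts 𝒞] {X₀ : 𝒞}
variable {P G Q : 𝒞ᵒᵖ ⥤ AddCommGrpCat.{w}} (ι : P ⟶ G) (π : G ⟶ Q)
  (hinj : ∀ n, Function.Injective (ι.app (op (W X₀ n))))
  (hex : ∀ n (y : G.obj (op (W X₀ n))), π.app _ y = 0 → ∃ x, ι.app _ x = y)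
  (hzero : ∀ n (x : P.obj (op (W X₀ n))), π.app _ (ι.app _ x) = 0)
  (hsurj : ∀ n, Function.Surjective (π.app (op (W X₀ n))))

include hinj hex hzero hsurj in
/-- dimension shifting. -/
theorem exactP_chase (n : ℕ) (hG : ExactP (X₀ := X₀) G (n + 1)) (hQ : ExactP (X₀ := X₀) Q n) :
    ExactP (X₀ := X₀) P (n + 1) := by
  intro z hz
  have h1 : dP G (n + 2) (ι.app _ z) = 0 := by
    rw [← dP_naturality_apply, hz, map_zero]
  obtain ⟨y, hy⟩ := hG _ h1
  have h2 : dP Q (n + 1) (π.app _ y) = 0 := by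
    rw [← dP_naturality_apply, hy, hzero]
  obtain ⟨wb, hwb⟩ := hQ _ h2
  obtain ⟨w', rfl⟩ := hsurj n wb
  have h3 : π.app _ (y - dP G n w') = 0 := by
    rw [map_sub, dP_naturality_apply, hwb, sub_self]
  obtain ⟨x, hx⟩ := hex _ _ h3
  refine ⟨x, hinj _ ?_⟩
  rw [dP_naturality_apply, hx, map_sub, dP_dP_apply, sub_zero, hy]

include hinj hex hzero in
/-- dimension shifting, augmented degree zero case. -/
theorem exactP_chase_zero (Z : 𝒞) (hZ : IsTerminal Z)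
    (hsurjZ : Function.Surjective (π.app (op Z))) (hG : ExactP (X₀ := X₀) G 0)
    (hQ : ∀ x : Q.obj (op (W X₀ 0)), dP Q 0 x = 0 →
      ∃ y : Q.obj (op Z), Q.map (hZ.from (W X₀ 0)).op y = x) :
    ExactP (X₀ := X₀) P 0 := by
  intro z hz
  have h1 : dP G 1 (ι.app _ z) = 0 := by
    rw [← dP_naturality_apply, hz, map_zero]
  obtain ⟨y, hy⟩ := hG _ h1
  have h2 : dP Q 0 (π.app _ y) = 0 := by
    rw [← dP_naturality_apply, hy, hzero]
  obtain ⟨qb, hqb⟩ := hQ _ h2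
  obtain ⟨g, rfl⟩ := hsurjZ qb
  have hnat : π.app _ (G.map (hZ.from (W X₀ 0)).op g) = Q.map (hZ.from (W X₀ 0)).op (π.app _ g) :=
    ConcreteCategory.congr_hom (π.naturality (hZ.from (W X₀ 0)).op) g
  have h3 : π.app _ (y - G.map (hZ.from (W X₀ 0)).op g) = 0 := by
    rw [map_sub, hnat, hqb, sub_self]
  obtain ⟨x, hx⟩ := hex _ _ h3
  have h4 : dP G 0 (G.map (hZ.from (W X₀ 0)).op g) = 0 := by
    rw [dP_apply, Fin.sum_univ_two, map_comp_apply', map_comp_apply',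
      hZ.hom_ext (θ X₀ 0 0 ≫ hZ.from (W X₀ 0)) (θ X₀ 0 1 ≫ hZ.from (W X₀ 0))]
    simp
  refine ⟨x, hinj _ ?_⟩
  rw [dP_naturality_apply, hx, map_sub, h4, sub_zero, hy]

end Chase


section Transfer
variable {𝒞 : Type u} [Category.{v} 𝒞] [HasFiniteProducts 𝒞]
variable {𝒟 : Type u'} [Category.{v'} 𝒟] [HasFiniteProducts 𝒟] (Φ : 𝒟 ⥤ 𝒞)
  [PreservesLimitsOfSize.{0, 0} Φ] (X₀ : 𝒟)

/-- the comparison isomorphism of powers. -/
noncomputable def εW (n : ℕ) : Φ.obj (W X₀ n) ≅ W (Φ.obj X₀) n :=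
  PreservesProduct.iso Φ (fun _ : Fin (n + 1) => X₀)

theorem εW_π (n : ℕ) (a : Fin (n + 1)) :
    (εW Φ X₀ n).hom ≫ Pi.π (fun _ : Fin (n + 1) => Φ.obj X₀) a =
      Φ.map (Pi.π (fun _ : Fin (n + 1) => X₀) a) := by
  unfold εW
  rw [PreservesProduct.iso_hom, piComparison_comp_π]

theorem εW_θ (n : ℕ) (j : Fin (n + 2)) :
    Φ.map (θ X₀ n j) ≫ (εW Φ X₀ n).hom = (εW Φ X₀ (n + 1)).hom ≫ θ (Φ.obj X₀) n j := by
  apply Limits.Pi.hom_ext
  intro a
  rw [Category.assoc, Category.assoc, εW_π, θ_π, εW_π, ← Φ.map_comp, θ_π]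

variable (P : 𝒞ᵒᵖ ⥤ AddCommGrpCat.{w})

theorem εW_dP (n : ℕ) (x : P.obj (op (W (Φ.obj X₀) n))) :
    P.map (εW Φ X₀ (n + 1)).hom.op (dP P n x) =
      dP (X₀ := X₀) (Φ.op ⋙ P) n (P.map (εW Φ X₀ n).hom.op x) := by
  rw [dP_apply, dP_apply, map_sum]
  refine Finset.sum_congr rfl (fun j _ => ?_)
  rw [map_zsmul]
  congr 1
  change _ = P.map (Φ.map (θ X₀ n j)).op _
  rw [map_comp_apply', map_comp_apply', εW_θ]

theorem εW_bijective (n : ℕ) : Function.Bijective (P.map (εW Φ X₀ n).hom.op) :=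
  ConcreteCategory.bijective_of_isIso _

/-- transfer of Čech exactness along a product preserving functor. -/
theorem exactP_transfer (n : ℕ) (h : ExactP (X₀ := X₀) (Φ.op ⋙ P) n) :
    ExactP (X₀ := Φ.obj X₀) P n := by
  intro x hx
  have h1 : dP (X₀ := X₀) (Φ.op ⋙ P) (n + 1) (P.map (εW Φ X₀ (n + 1)).hom.op x) = 0 := by
    rw [← εW_dP, hx, map_zero]
  obtain ⟨y, hy⟩ := h _ h1
  obtain ⟨y', rfl⟩ := (εW_bijective Φ X₀ P n).2 y
  refine ⟨y', (εW_bijective Φ X₀ P (n + 1)).1 ?_⟩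
  rw [εW_dP, hy]

end Transfer

end Groth.Agent.Lib.Helper86.CechPow
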