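import Mathlib
import Groth.Prelude.Def_Adeq
import Groth.Agent.Lib.Helper86.CechPow
import Groth.Agent.Lib.Helper86.AdeqDescent
import Groth.Agent.Lib.Helper86.AdeqFFDescent
import Groth.Agent.Lib.Helper86.AdeqFlat

open CategoryTheory Limits TensorProduct Opposite

/-!
# The Čech complex of an adequate functor for a faithfully flat algebra is exact in positive degrees
(Stacks 46.5.? / 46.3), by dimension shifting along `F → F(B ⊗ -)`
-/

namespace Groth.Agent.Lib.Helper86.AdeqCech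
universe u
variable {A : Type u} [CommRing A] (B : Type u) [CommRing B] [Algebra A B]

open Groth.Agent.Lib.Helper86.AdeqBasic Groth.Agent.Lib.Helper86.AdeqFO
open Groth.Agent.Lib.Helper86.AdeqClosure Groth.Agent.Lib.Helper86.AdeqChange
open Groth.Agent.Lib.Helper86.AdeqDescent Groth.Agent.Lib.Helper86.CechPow

/-- the base object. -/
abbrev X0 : (Adeq.Alg A)ᵒᵖ := op (Adeq.algOf A B)

/-- `Y ↦ B ⊗ Y`. -/
noncomputable abbrev TT : (Adeq.Alg A)ᵒᵖ ⥤ (Adeq.Alg A)ᵒᵖ :=
  (Adeq.Alg.baseChange A B ⋙ Adeq.Alg.restr A B).op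

/-- `b ↦ b ⊗ 1` as a map of `A`-algebras into `B ⊗ Y`. -/
noncomputable def inclAlg (Y : Adeq.Alg A) : Adeq.algOf A B ⟶ tB B Y :=
  letI : Algebra A (B ⊗[A] Y) := ((algebraMap B (B ⊗[A] Y)).comp (algebraMap A B)).toAlgebra
  CommAlgCat.ofHom
    { (Algebra.TensorProduct.includeLeftRingHom : B →+* B ⊗[A] Y) with
      commutes' := fun a => rfl }

theorem inclAlg_apply (Y : Adeq.Alg A) (b : B) : (inclAlg B Y).hom b = b ⊗ₜ[A] (1 : Y) := rfl

theorem unit_apply (Y : Adeq.Alg A) (y : Y) : (Adeq.Alg.unit A B Y).hom y = (1 : B) ⊗ₜ[A] y := rfl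

theorem inclAlg_nat {Y Y' : Adeq.Alg A} (g : Y ⟶ Y') :
    inclAlg B Y ≫ (Adeq.Alg.restr A B).map ((Adeq.Alg.baseChange A B).map g) = inclAlg B Y' := by
  refine CommAlgCat.hom_ext (DFunLike.ext _ _ (fun b => ?_))
  change Algebra.TensorProduct.map (AlgHom.id B B) g.hom (b ⊗ₜ[A] (1 : Y)) = b ⊗ₜ[A] (1 : Y')
  rw [Algebra.TensorProduct.map_tmul, map_one]
  rfl

/-- the projection `B ⊗ Y → Y` in the opposite category. -/
noncomputable def pp : TT (A := A) B ⟶ 𝟭 _ where
  app Y := (Adeq.Alg.unit A B Y.unop).op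
  naturality Y Y' f := by
    apply Quiver.Hom.unop_inj
    exact unit_nat (A' := B) f.unop

/-- the projection to `X₀`. -/
noncomputable def qq (Y : (Adeq.Alg A)ᵒᵖ) : (TT (A := A) B).obj Y ⟶ X0 (A := A) B :=
  (inclAlg B Y.unop).op

theorem qq_nat {Y Y' : (Adeq.Alg A)ᵒᵖ} (f : Y ⟶ Y') :
    (TT (A := A) B).map f ≫ qq B Y' = qq B Y := by
  apply Quiver.Hom.unop_inj
  exact inclAlg_nat B f.unop

/-- the universal map out of `B ⊗ Y`. -/
noncomputable def liftAlg {Y Z : Adeq.Alg A} (f : Y ⟶ Z) (g : Adeq.algOf A B ⟶ Z) : tB B Y ⟶ Z :=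
  let φ : B ⊗[A] Y →+* Z := (Algebra.TensorProduct.productMap g.hom f.hom).toRingHom
  have hφ : ∀ a : A, φ ((algebraMap A B a) ⊗ₜ[A] (1 : Y)) = algebraMap A Z a := fun a => by
    change Algebra.TensorProduct.productMap g.hom f.hom ((algebraMap A B a) ⊗ₜ[A] (1 : Y)) = _
    rw [Algebra.TensorProduct.productMap_apply_tmul, map_one, mul_one]
    exact g.hom.commutes a
  letI : Algebra A (B ⊗[A] Y) := ((algebraMap B (B ⊗[A] Y)).comp (algebraMap A B)).toAlgebra
  CommAlgCat.ofHom
    { φ with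
      commutes' := hφ }

theorem liftAlg_tmul {Y Z : Adeq.Alg A} (f : Y ⟶ Z) (g : Adeq.algOf A B ⟶ Z) (b : B) (y : Y) :
    (liftAlg B f g).hom (b ⊗ₜ[A] y) = g.hom b * f.hom y :=
  Algebra.TensorProduct.productMap_apply_tmul g.hom f.hom b y

theorem unit_liftAlg {Y Z : Adeq.Alg A} (f : Y ⟶ Z) (g : Adeq.algOf A B ⟶ Z) :
    Adeq.Alg.unit A B Y ≫ liftAlg B f g = f := by
  refine CommAlgCat.hom_ext (DFunLike.ext _ _ (fun y => ?_))
  change (liftAlg B f g).hom ((1 : B) ⊗ₜ[A] y) = f.hom y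
  rw [liftAlg_tmul, map_one, one_mul]

theorem inclAlg_liftAlg {Y Z : Adeq.Alg A} (f : Y ⟶ Z) (g : Adeq.algOf A B ⟶ Z) :
    inclAlg B Y ≫ liftAlg B f g = g := by
  refine CommAlgCat.hom_ext (DFunLike.ext _ _ (fun b => ?_))
  change (liftAlg B f g).hom (b ⊗ₜ[A] (1 : Y)) = g.hom b
  rw [liftAlg_tmul, map_one, mul_one]

theorem liftAlg_uniq {Y Z : Adeq.Alg A} (f : Y ⟶ Z) (g : Adeq.algOf A B ⟶ Z) (m : tB B Y ⟶ Z)
    (h1 : Adeq.Alg.unit A B Y ≫ m = f) (h2 : inclAlg B Y ≫ m = g) : m = liftAlg B f g := by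
  refine CommAlgCat.hom_ext (DFunLike.ext _ _ (fun z => ?_))
  change m.hom z = (liftAlg B f g).hom z
  induction z using TensorProduct.induction_on with
  | zero => rw [map_zero, map_zero]
  | add x y hx hy => rw [map_add, map_add, hx, hy]
  | tmul b y =>
    rw [liftAlg_tmul, ← h1, ← h2]
    change _ = m.hom (b ⊗ₜ[A] (1 : Y)) * m.hom ((1 : B) ⊗ₜ[A] y)
    rw [← map_mul, Algebra.TensorProduct.tmul_mul_tmul, mul_one, one_mul]

/-- `B ⊗ Y` is the product of `Y` and `X₀` in the opposite category. -/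
noncomputable def isLimitT (Y : (Adeq.Alg A)ᵒᵖ) :
    IsLimit (BinaryFan.mk ((pp (A := A) B).app Y) (qq B Y)) :=
  BinaryFan.IsLimit.mk _ (fun f g => (liftAlg B f.unop g.unop).op)
    (fun f g => Quiver.Hom.unop_inj (unit_liftAlg B f.unop g.unop))
    (fun f g => Quiver.Hom.unop_inj (inclAlg_liftAlg B f.unop g.unop))
    (fun f g m h1 h2 => Quiver.Hom.unop_inj (liftAlg_uniq B f.unop g.unop m.unop
      (congrArg Quiver.Hom.unop h1) (congrArg Quiver.Hom.unop h2)))


theorem exactP_PR (F : Adeq.MVF A) (n : ℕ) :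
    ExactP (X₀ := X0 (A := A) B) (PR B F).presheaf n :=
  exactP_contract (TT (A := A) B) (pp B) (qq B) (fun f => qq_nat B f) (isLimitT B) F.presheaf n

theorem ff_of_iso_tensor [Module.FaithfullyFlat A B] (Y Y' : Adeq.Alg A) (f : Y ⟶ Y')
    (e : Y' ≃+* B ⊗[A] Y) (he : ∀ y, e (f.hom y) = (1 : B) ⊗ₜ[A] y) :
    f.hom.toRingHom.FaithfullyFlat := by
  letI : Algebra Y (B ⊗[A] Y) := Algebra.TensorProduct.rightAlgebra
  have h : (algebraMap A B).FaithfullyFlat := (RingHom.faithfullyFlat_algebraMap_iff).2 inferInstance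
  have h1 : (algebraMap Y (B ⊗[A] Y)).FaithfullyFlat :=
    RingHom.FaithfullyFlat.isStableUnderBaseChange A B Y (B ⊗[A] Y) h
  have h2 : f.hom.toRingHom = e.symm.toRingHom.comp (algebraMap Y (B ⊗[A] Y)) := by
    ext y
    apply e.injective
    change e (f.hom y) = e (e.symm ((1 : B) ⊗ₜ[A] y))
    rw [he, RingEquiv.apply_symm_apply]
  rw [h2]
  exact RingHom.FaithfullyFlat.stableUnderComposition _ _ h1
    (RingHom.FaithfullyFlat.of_bijective e.symm.bijective)

theorem unit_mp_injective [Module.FaithfullyFlat A B] (F : Adeq.MVF A) (hF : Adeq.adequate A F)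
    (Y : Adeq.Alg A) : Function.Injective (mp F (Adeq.Alg.unit A B Y)) := by
  have hff := ff_of_iso_tensor B Y _ (Adeq.Alg.unit A B Y) (RingEquiv.refl _) (fun y => rfl)
  exact Groth.Agent.Lib.Helper86.AdeqFlat.mp_injective_of_faithfullyFlat _ F hff
    (Groth.Agent.Lib.Helper86.AdeqFlat.isIso_bc_of_adequate_flat _ F hF hff.flat)


section Induction
variable [Module.FaithfullyFlat A B]

/-- the cokernel of the unit. -/
noncomputable abbrev QQ (F : Adeq.MVF A) : Adeq.MVF A := cokernel (unitHom B F)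

theorem adequate_PR (F : Adeq.MVF A) (hF : Adeq.adequate A F) : Adeq.adequate A (PR B F) :=
  adequate_push _ (adequate_restr _ hF)

theorem adequate_QQ (F : Adeq.MVF A) (hF : Adeq.adequate A F) : Adeq.adequate A (QQ B F) :=
  adequate_cokernel _ hF (adequate_PR B F hF)

theorem unitHom_injective (F : Adeq.MVF A) (hF : Adeq.adequate A F) (X : (Adeq.Alg A)ᵒᵖᵒᵖ) :
    Function.Injective ((unitHom B F).app X) := by
  obtain ⟨⟨Y⟩⟩ := X
  intro x x' h
  apply unit_mp_injective B F hF Y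
  have h1 := congrArg (toPR F Y) h
  rw [toPR_unitHom, toPR_unitHom] at h1
  exact h1

theorem isSES_unit (F : Adeq.MVF A) (hF : Adeq.adequate A F) :
    IsSES (unitHom B F) (cokernel.π (unitHom B F)) := by
  haveI : Mono (unitHom B F) :=
    PresheafOfModules.mono_of_injective (fun X => unitHom_injective B F hF X)
  exact isSES_of_shortExact (ShortComplex.mk _ _ (cokernel.condition (unitHom B F)))
    { exact := ShortComplex.exact_cokernel _ }

/-- the terminal object of the opposite category of algebras. -/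
noncomputable def isTerminalZ : IsTerminal (op (Adeq.algOf A A) : (Adeq.Alg A)ᵒᵖ) :=
  terminalOpOfInitial CommAlgCat.isInitialSelf

open Groth.Agent.Lib.Helper86.AdeqFFDescent in
/-- the augmented exactness in degree zero for adequate functors. -/
theorem exactAug_adequate (F : Adeq.MVF A) (hF : Adeq.adequate A F)
    (x : F.presheaf.obj (op (W (X0 (A := A) B) 0))) (hx : dP F.presheaf 0 x = 0) :
    ∃ y : F.presheaf.obj (op (op (Adeq.algOf A A))),
      F.presheaf.map ((isTerminalZ (A := A)).from (W (X0 (A := A) B) 0)).op y = x := by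
  -- the inverse of the projection `W 0 → X₀`
  let uu : X0 (A := A) B ⟶ W (X0 (A := A) B) 0 := Pi.lift (fun _ => 𝟙 _)
  have huu : Pi.π (fun _ : Fin 1 => X0 (A := A) B) 0 ≫ uu = 𝟙 _ := by
    apply Limits.Pi.hom_ext
    intro a
    have : a = 0 := Fin.ext (by omega)
    subst this
    simp [uu]
  -- the comparison with `B ⊗ B`
  let κ : (op (Adeq.algOf A (B ⊗[A] B)) : (Adeq.Alg A)ᵒᵖ) ⟶ W (X0 (A := A) B) 1 :=
    Pi.lift (fun a => Fin.cases (ι₁ (A := A) B).op (fun _ => (ι₂ (A := A) B).op) a)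
  have hκ0 : κ ≫ θ (X0 (A := A) B) 0 0 = (ι₂ (A := A) B).op ≫ uu := by
    apply Limits.Pi.hom_ext
    intro a
    have : a = 0 := Fin.ext (by omega)
    subst this
    rw [Category.assoc, θ_π, Category.assoc, Pi.lift_π, Pi.lift_π, Category.comp_id]
    rfl
  have hκ1 : κ ≫ θ (X0 (A := A) B) 0 1 = (ι₁ (A := A) B).op ≫ uu := by
    apply Limits.Pi.hom_ext
    intro a
    have : a = 0 := Fin.ext (by omega)
    subst this
    rw [Category.assoc, θ_π, Category.assoc, Pi.lift_π, Pi.lift_π, Category.comp_id]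
    rfl
  let x' : F.obj (Adeq.pt (Adeq.algOf A B)) := F.presheaf.map uu.op x
  have h1 := congrArg (F.presheaf.map κ.op) hx
  rw [dP_apply, Fin.sum_univ_two, map_zero, map_add, map_zsmul, map_zsmul, map_comp_apply',
    map_comp_apply', hκ0, hκ1, ← map_comp_apply', ← map_comp_apply'] at h1
  rw [Fin.val_zero, Fin.val_one, pow_zero, pow_one, one_smul, neg_smul, one_smul,
    add_neg_eq_zero] at h1
  have h2 : mp F (ι₁ B) x' = mp F (ι₂ B) x' := h1.symm
  obtain ⟨x₀, hx₀⟩ : ∃ x₀ : F.presheaf.obj (op (op (Adeq.algOf A A))),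
      F.presheaf.map (η (A := A) B).op.op x₀ = x' := (adequate_ff_descent B F hF).2 x' h2
  refine ⟨x₀, ?_⟩
  have h4 : x = F.presheaf.map (Pi.π (fun _ : Fin 1 => X0 (A := A) B) 0).op x' := by
    change x = F.presheaf.map _ (F.presheaf.map uu.op x)
    rw [map_comp_apply', huu]
    change x = F.presheaf.map (𝟙 _) x
    rw [F.presheaf.map_id]
    rfl
  rw [h4, ← hx₀, map_comp_apply']
  congr 4
  exact (isTerminalZ (A := A)).hom_ext _ _

/-- the Čech complex of an adequate functor for a faithfully flat algebra is exact in positive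
degrees. -/
theorem exactP_adequate (n : ℕ) : ∀ (F : Adeq.MVF A), Adeq.adequate A F →
    ExactP (X₀ := X0 (A := A) B) F.presheaf n := by
  induction n with
  | zero =>
    intro F hF
    have hses := isSES_unit B F hF
    refine exactP_chase_zero (X₀ := X0 (A := A) B)
      ((PresheafOfModules.toPresheaf _).map (unitHom B F))
      ((PresheafOfModules.toPresheaf _).map (cokernel.π (unitHom B F)))
      (fun n => hses.inj _) (fun n y hy => hses.ex _ y hy)
      (fun n x => congr_app_apply hses.w _ x) _ (isTerminalZ (A := A)) (hses.surj _)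
      (exactP_PR B F 0) (exactAug_adequate B (QQ B F) (adequate_QQ B F hF))
  | succ n ih =>
    intro F hF
    have hses := isSES_unit B F hF
    exact exactP_chase (X₀ := X0 (A := A) B)
      ((PresheafOfModules.toPresheaf _).map (unitHom B F))
      ((PresheafOfModules.toPresheaf _).map (cokernel.π (unitHom B F)))
      (fun n => hses.inj _) (fun n y hy => hses.ex _ y hy)
      (fun n x => congr_app_apply hses.w _ x) (fun n => hses.surj _) n
      (exactP_PR B F (n + 1)) (ih (QQ B F) (adequate_QQ B F hF))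

end Induction

end Groth.Agent.Lib.Helper86.AdeqCech
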