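import Mathlib
import Groth.Prelude.Def_Adeq2
import Groth.Agent.Lib.Helper86.AdeqCech
import Groth.Agent.Lib.Helper86.Adeq2Main

open CategoryTheory Limits TensorProduct Opposite AlgebraicGeometry

/-!
# Exactness of the Čech complex of an adequate module for a faithfully flat map of affines (Stacks 46.5)
-/

namespace Groth.Agent.Lib.Helper86.Adeq2Cech
universe u
open Groth.Agent.Lib.Helper86.AdeqBasic Groth.Agent.Lib.Helper86.AdeqFO
open Groth.Agent.Lib.Helper86.CechPow Groth.Agent.Lib.Helper86.AdeqCech
open Groth.Agent.Lib.Helper86.Adeq2Main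

variable {S : Scheme.{u}}

/-- the restriction of a module to affine schemes over `Spec R` is its module valued functor. -/
noncomputable def αIso (M : BigSite.Mod Scheme.fppfPrecoverage S) (R : CommRingCat.{u})
    (a : Spec R ⟶ S) :
    ((Adeq.toMVF Scheme.fppfPrecoverage a).obj M).presheaf ⟶
      (algSpec R).op ⋙ (Over.map a).op ⋙
        ((BigSite.toAbMod Scheme.fppfPrecoverage S).obj M).obj where
  app X := 𝟙 _
  naturality X Y f := by
    refine (Category.comp_id _).trans ((?_ : _ = _).trans (Category.id_comp _).symm)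
    rfl


/-- Stacks 46.5.? : the Čech complex of an adequate module for a faithfully flat covering of affines is
exact in positive degrees. -/
theorem cech_exact (M : BigSite.Mod Scheme.fppfPrecoverage S)
    (hM : Adeq.adequateMod Scheme.fppfPrecoverage S M) (R : CommRingCat.{u}) (a : Spec R ⟶ S)
    (B : Type u) [CommRing B] [Algebra R B] [Module.FaithfullyFlat R B] (n : ℕ) (hn : 0 < n) :
    ((cechComplexFunctor (A := AddCommGrpCat.{u + 1})
        (fun _ : PUnit.{u + 2} =>
          (Over.mk (Spec.map (CommRingCat.ofHom (algebraMap R B))) : Over (Spec R)))).obj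
      ((Over.map a).op ⋙ ((BigSite.toAbMod Scheme.fppfPrecoverage S).obj M).obj)).ExactAt n := by
  obtain ⟨m, rfl⟩ := Nat.exists_eq_succ_of_ne_zero hn.ne'
  have hF : Adeq.adequate R ((Adeq.toMVF Scheme.fppfPrecoverage a).obj M) :=
    adequate_toMVF_fppf M hM R a
  have h1 := exactP_adequate (A := R) B m _ hF
  have h2 := exactP_of_bijective (X₀ := X0 (A := R) B) (αIso M R a)
    (fun n => Function.bijective_id) m h1
  have h3 := exactP_transfer (algSpec R) (X0 (A := R) B)
    ((Over.map a).op ⋙ ((BigSite.toAbMod Scheme.fppfPrecoverage S).obj M).obj) m h2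
  exact exactAt_of_exactP _ _ m h3

end Groth.Agent.Lib.Helper86.Adeq2Cech
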