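import Mathlib

open CategoryTheory Limits Opposite

/-!
# Epimorphisms and exactness of sheaves of modules in elementary (local lifting) terms
-/

namespace Groth.Agent.Lib.Helper86.ModLocal
universe v v' u u'

variable {C : Type u'} [Category.{v'} C] {J : GrothendieckTopology C} {R : Sheaf J RingCat.{u}}
  [HasSheafify J AddCommGrpCat.{v}] [J.WEqualsLocallyBijective AddCommGrpCat.{v}]

/-- pointwise exactness of presheaf cokernels. -/
theorem presheaf_cokernel_exists {R₀ : Cᵒᵖ ⥤ RingCat.{u}} {F G : PresheafOfModules.{v} R₀} (φ : F ⟶ G)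
    (X : Cᵒᵖ) (y : G.obj X) (hy : (cokernel.π φ).app X y = 0) : ∃ x, φ.app X x = y := by
  have hex : (ShortComplex.mk φ (cokernel.π φ) (cokernel.condition φ)).Exact :=
    ShortComplex.exact_of_g_is_cokernel _ (cokernelIsCokernel φ)
  haveI : PreservesFiniteLimits (PresheafOfModules.evaluation.{v} R₀ X) :=
    PresheafOfModules.evaluation_preservesFiniteLimits _ _
  haveI : PreservesFiniteColimits (PresheafOfModules.evaluation.{v} R₀ X) :=
    PresheafOfModules.Finite.evaluation_preservesFiniteColimits _ _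
  have h2 := hex.map (PresheafOfModules.evaluation.{v} R₀ X)
  rw [ShortComplex.moduleCat_exact_iff] at h2
  exact h2 y hy

/-- an epimorphism of sheaves of modules is locally surjective, in elementary terms. -/
theorem locally_lift_of_epi {M N : SheafOfModules.{v} R} (p : M ⟶ N) [Epi p] (U : Cᵒᵖ)
    (s : N.val.obj U) :
    ∃ T : Sieve U.unop, T ∈ J U.unop ∧ ∀ ⦃V : C⦄ (f : V ⟶ U.unop), T f →
      ∃ t : M.val.obj (op V), p.val.app (op V) t = N.val.map f.op s := by
  let f : M.val ⟶ N.val := p.val
  let Q := cokernel f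
  let q : N.val ⟶ Q := cokernel.π f
  let α : R.obj ⟶ R.obj := 𝟙 _
  let F : SheafOfModules.{v} R := (PresheafOfModules.sheafification α).obj Q
  let η : Q ⟶ F.val := (PresheafOfModules.sheafificationAdjunction α).unit.app Q
  let g' : N ⟶ F := ⟨q ≫ η⟩
  have h1 : p ≫ g' = 0 := by
    ext1
    show f ≫ q ≫ η = 0
    rw [← Category.assoc, cokernel.condition, zero_comp]
  have h2 : g' = 0 := (cancel_epi p).1 (h1.trans comp_zero.symm)
  have h3 : q ≫ η = 0 := congrArg SheafOfModules.Hom.val h2
  have h4 : η = 0 := (cancel_epi q).1 (h3.trans comp_zero.symm)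
  have h5 : (CategoryTheory.toSheafify J Q.presheaf).app U (q.app U s) =
      (CategoryTheory.toSheafify J Q.presheaf).app U 0 := by
    have : (PresheafOfModules.toPresheaf _).map η = CategoryTheory.toSheafify J Q.presheaf := rfl
    rw [← this, h4]
    rfl
  have h6 := Presheaf.equalizerSieve_mem J (CategoryTheory.toSheafify J Q.presheaf) (q.app U s) 0 h5
  refine ⟨_, h6, fun V g hg => ?_⟩
  apply presheaf_cokernel_exists f (op V) (N.val.map g.op s)
  have h7 : Q.presheaf.map g.op (q.app U s) = Q.presheaf.map g.op 0 := hg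
  have h8 : q.app (op V) (N.val.map g.op s) = Q.map g.op (q.app U s) :=
    (PresheafOfModules.naturality_apply q g.op s)
  rw [h8]
  refine h7.trans ?_
  exact map_zero _

section Exact

/-- sections killed by `φ` come from the kernel. -/
theorem kernel_sections_exists {M N : SheafOfModules.{v} R} (φ : M ⟶ N) (U : Cᵒᵖ)
    (y : M.val.obj U) (hy : φ.val.app U y = 0) :
    ∃ x : (kernel φ).val.obj U, (kernel.ι φ).val.app U x = y := by
  let D : ShortComplex (SheafOfModules.{v} R) := ShortComplex.mk (kernel.ι φ) φ (kernel.condition φ)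
  have hD : D.Exact := ShortComplex.exact_of_f_is_kernel _ (kernelIsKernel φ)
  haveI : (SheafOfModules.evaluation R U).PreservesZeroMorphisms :=
    inferInstanceAs ((SheafOfModules.forget _ ⋙
      PresheafOfModules.evaluation _ U).PreservesZeroMorphisms)
  have h2 := hD.map_of_mono_of_preservesKernel (SheafOfModules.evaluation R U)
    (inferInstanceAs (Mono (kernel.ι φ))) inferInstance
  rw [ShortComplex.moduleCat_exact_iff] at h2
  exact h2 y hy

/-- exactness of a complex of sheaves of modules, in elementary terms. -/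
theorem locally_lift_of_exact (D : ShortComplex (SheafOfModules.{v} R)) (hD : D.Exact) (U : Cᵒᵖ)
    (s : D.X₂.val.obj U) (hs : D.g.val.app U s = 0) :
    ∃ T : Sieve U.unop, T ∈ J U.unop ∧ ∀ ⦃V : C⦄ (f : V ⟶ U.unop), T f →
      ∃ t : D.X₁.val.obj (op V), D.f.val.app (op V) t = D.X₂.val.map f.op s := by
  haveI : Epi (kernel.lift D.g D.f D.zero) := D.exact_iff_epi_kernel_lift.1 hD
  obtain ⟨s', hs'⟩ := kernel_sections_exists D.g U s hs
  obtain ⟨T, hT, h⟩ := locally_lift_of_epi (kernel.lift D.g D.f D.zero) U s'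
  refine ⟨T, hT, fun V f hf => ?_⟩
  obtain ⟨t, ht⟩ := h f hf
  refine ⟨t, ?_⟩
  have h1 : D.f.val.app (op V) t =
      (kernel.ι D.g).val.app (op V) ((kernel.lift D.g D.f D.zero).val.app (op V) t) := by
    have : D.f = kernel.lift D.g D.f D.zero ≫ kernel.ι D.g := (kernel.lift_ι _ _ _).symm
    conv_lhs => rw [this]
    rfl
  rw [h1, ht, ← hs']
  exact (PresheafOfModules.naturality_apply (kernel.ι D.g).val f.op s')

end Exact

end Groth.Agent.Lib.Helper86.ModLocal
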