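import Mathlib
import Groth.Prelude.Def_Adeq2
import Groth.Agent.Lib.Helper86.ModLocal

open CategoryTheory Limits Opposite AlgebraicGeometry

/-!
# Parasitic modules on big sites: sections vanishing on a covering vanish; extension-closedness (Stacks 46.8)
-/

namespace Groth.Agent.Lib.Helper86.Adeq2Parasitic
universe u
open Groth.Agent.Lib.Helper86.ModLocal

variable (K : Precoverage Scheme.{u}) [BigSite.OSh K] {S : Scheme.{u}}

/-- sections of a sheaf of modules on the big site vanish if they vanish on a covering family. -/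
theorem eq_zero_of_cover [K.IsStableUnderComposition] [K.IsStableUnderBaseChange] [K.HasIsos]
    (M : BigSite.Mod K S) (U : Over S) (s : BigSite.sectMod K M U) (R : Presieve U.left)
    (hR : R ∈ K.coverings U.left)
    (h : ∀ ⦃V : Scheme.{u}⦄ (g : V ⟶ U.left), R g →
      M.val.map (Over.homMk g : Over.mk (g ≫ U.hom) ⟶ U).op s = 0) : s = 0 := by
  let T : Sieve U := Presheaf.equalizerSieve (F := M.val.presheaf) (X := op U) s 0
  have hT : T ∈ QuotSh.J K S U := by
    rw [QuotSh.J, GrothendieckTopology.mem_over_iff]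
    refine K.toGrothendieck.superset_covering ?_ (Precoverage.generate_mem_toGrothendieck hR)
    rw [Sieve.generate_le_iff]
    intro V g hg
    rw [Sieve.overEquiv_iff]
    change M.val.presheaf.map _ s = M.val.presheaf.map _ 0
    rw [map_zero]
    exact h g hg
  have hsep := ((Presheaf.isSheaf_iff_isSheaf_forget _ _ (forget AddCommGrpCat)).1 M.isSheaf)
  have hsep' := ((isSheaf_iff_isSheaf_of_type _ _).1 hsep).isSeparated
  exact (hsep' T hT).ext (fun V f hf => hf)

/-- a module squeezed between two parasitic modules is parasitic. -/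
theorem parasitic_of_exact [K.IsStableUnderComposition] [K.IsStableUnderBaseChange] [K.HasIsos]
    (hflat : ∀ ⦃Y : Scheme.{u}⦄ (R : Presieve Y), R ∈ K.coverings Y →
      ∀ ⦃X : Scheme.{u}⦄ (g : X ⟶ Y), R g → Flat g)
    (C : ShortComplex (BigSite.Mod K S)) (hC : C.Exact)
    (p₁ : Adeq.parasitic K S C.X₁) (p₃ : Adeq.parasitic K S C.X₃) : Adeq.parasitic K S C.X₂ := by
  intro U hU
  refine ⟨fun s s' => ?_⟩
  suffices H : ∀ s : BigSite.sectMod K C.X₂ U, s = 0 by rw [H s, H s']
  intro s
  haveI := p₃ U hU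
  have hs : C.g.val.app (op U) s = 0 := Subsingleton.elim _ _
  obtain ⟨T, hT, h⟩ := locally_lift_of_exact C hC (op U) s hs
  rw [QuotSh.J, GrothendieckTopology.mem_over_iff,
    Precoverage.mem_toGrothendieck_iff_of_isStableUnderComposition] at hT
  obtain ⟨R, hR, hRT⟩ := hT
  refine eq_zero_of_cover K C.X₂ U s R hR (fun V g hg => ?_)
  have h1 : T (Over.homMk g : Over.mk (g ≫ U.hom) ⟶ U) := (Sieve.overEquiv_iff _ _).1 (hRT _ _ hg)
  obtain ⟨t, ht⟩ := h _ h1
  haveI : Flat g := hflat R hR g hg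
  haveI : Flat U.hom := hU
  haveI := p₁ (Over.mk (g ≫ U.hom)) (by change Flat (g ≫ U.hom); infer_instance)
  have ht0 : t = 0 := Subsingleton.elim _ _
  rw [← ht, ht0, map_zero]
  rfl

theorem hasIsos_fppf : Scheme.fppfPrecoverage.{u}.HasIsos :=
  ⟨fun f _ => f.singleton_mem_fppfPrecoverage⟩

theorem flat_of_mem_fppf ⦃Y : Scheme.{u}⦄ (R : Presieve Y) (hR : R ∈ Scheme.fppfPrecoverage.coverings Y)
    ⦃X : Scheme.{u}⦄ (g : X ⟶ Y) (hg : R g) : Flat g :=
  (hR.2 hg).1

theorem parasitic_of_exact_fppf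
    (C : ShortComplex (BigSite.Mod Scheme.fppfPrecoverage S)) (hC : C.Exact)
    (p₁ : Adeq.parasitic Scheme.fppfPrecoverage S C.X₁) (p₃ : Adeq.parasitic Scheme.fppfPrecoverage S C.X₃) :
    Adeq.parasitic Scheme.fppfPrecoverage S C.X₂ :=
  haveI := hasIsos_fppf.{u}
  parasitic_of_exact Scheme.fppfPrecoverage flat_of_mem_fppf C hC p₁ p₃

end Groth.Agent.Lib.Helper86.Adeq2Parasitic
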