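import Mathlib
import Groth.Agent.Lib.Helper86.FFDescentMod

open TensorProduct

/-!
# Faithfully flat descent for modules along a finite family of algebras (equalizer form)
-/

namespace Groth.Agent.Lib.Helper86.FFDescentFam
universe u v w
open Groth.Agent.Lib.Helper86.FFDescentMod

variable (R : Type u) [CommRing R] {ι : Type*} [Fintype ι] [DecidableEq ι]
  (C : ι → Type v) [∀ k, CommRing (C k)] [∀ k, Algebra R (C k)]
  (N : Type w) [AddCommGroup N] [Module R N]

/-- components of an element of `(∏ C k) ⊗ N`. -/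
noncomputable def Φ : (∀ k, C k) ⊗[R] N →ₗ[R] ∀ k, C k ⊗[R] N :=
  LinearMap.pi (fun k => LinearMap.rTensor N (LinearMap.proj k))

/-- assembling components. -/
noncomputable def Ψ : (∀ k, C k ⊗[R] N) →ₗ[R] (∀ k, C k) ⊗[R] N :=
  ∑ k, (LinearMap.rTensor N (LinearMap.single R C k)) ∘ₗ (LinearMap.proj k)

theorem Φ_tmul (s : ∀ k, C k) (n : N) (k : ι) : Φ R C N (s ⊗ₜ n) k = s k ⊗ₜ n := rfl

theorem Ψ_Φ (x : (∀ k, C k) ⊗[R] N) : Ψ R C N (Φ R C N x) = x := by
  induction x using TensorProduct.induction_on with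
  | zero => simp
  | add x y hx hy => rw [map_add, map_add, hx, hy]
  | tmul s n =>
    simp only [Ψ, LinearMap.sum_apply, LinearMap.comp_apply, LinearMap.proj_apply, Φ_tmul,
      LinearMap.rTensor_tmul, LinearMap.coe_single]
    rw [← TensorProduct.sum_tmul, Finset.univ_sum_single]

theorem Φ_Ψ (y : ∀ k, C k ⊗[R] N) : Φ R C N (Ψ R C N y) = y := by
  funext j
  simp only [Ψ, LinearMap.sum_apply, LinearMap.comp_apply, LinearMap.proj_apply, map_sum]
  rw [Finset.sum_apply, Finset.sum_eq_single j]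
  · change LinearMap.rTensor N (LinearMap.proj j) (LinearMap.rTensor N (LinearMap.single R C j) (y j)) = y j
    rw [← LinearMap.comp_apply, ← LinearMap.rTensor_comp, LinearMap.proj_comp_single_same,
      LinearMap.rTensor_id, LinearMap.id_apply]
  · intro k _ hk
    change LinearMap.rTensor N (LinearMap.proj j) (LinearMap.rTensor N (LinearMap.single R C k) (y k)) = 0
    rw [← LinearMap.comp_apply, ← LinearMap.rTensor_comp, LinearMap.proj_comp_single_ne R C j k (Ne.symm hk),
      LinearMap.rTensor_zero, LinearMap.zero_apply]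
  · intro h
    exact absurd (Finset.mem_univ j) h

/-- components of an element of `((∏ C k) ⊗ (∏ C l)) ⊗ N`. -/
noncomputable def Φ₂ : ((∀ k, C k) ⊗[R] (∀ k, C k)) ⊗[R] N →ₗ[R] ∀ p : ι × ι, (C p.1 ⊗[R] C p.2) ⊗[R] N :=
  LinearMap.pi (fun p => LinearMap.rTensor N
    (TensorProduct.map (LinearMap.proj p.1) (LinearMap.proj p.2)))

/-- assembling components. -/
noncomputable def Ψ₂ : (∀ p : ι × ι, (C p.1 ⊗[R] C p.2) ⊗[R] N) →ₗ[R]
    ((∀ k, C k) ⊗[R] (∀ k, C k)) ⊗[R] N :=
  ∑ p : ι × ι, (LinearMap.rTensor N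
    (TensorProduct.map (LinearMap.single R C p.1) (LinearMap.single R C p.2))) ∘ₗ (LinearMap.proj p)

theorem Ψ₂_Φ₂ (x : ((∀ k, C k) ⊗[R] (∀ k, C k)) ⊗[R] N) : Ψ₂ R C N (Φ₂ R C N x) = x := by
  induction x using TensorProduct.induction_on with
  | zero => simp
  | add x y hx hy => rw [map_add, map_add, hx, hy]
  | tmul z n =>
    induction z using TensorProduct.induction_on with
    | zero => simp
    | add x y hx hy => rw [add_tmul, map_add, map_add, hx, hy]
    | tmul s s' =>
      simp only [Ψ₂, Φ₂, LinearMap.sum_apply, LinearMap.comp_apply, LinearMap.proj_apply,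
        LinearMap.pi_apply, LinearMap.rTensor_tmul, TensorProduct.map_tmul, LinearMap.coe_single]
      rw [← TensorProduct.sum_tmul, Fintype.sum_prod_type]
      congr 1
      simp only [← TensorProduct.tmul_sum, ← TensorProduct.sum_tmul]
      rw [Finset.univ_sum_single, Finset.univ_sum_single]

section FF
variable [Module.FaithfullyFlat R (∀ k, C k)]

theorem fam_inj (n : N) (h : ∀ k, (1 : C k) ⊗ₜ[R] n = 0) : n = 0 := by
  have h1 : (1 : ∀ k, C k) ⊗ₜ[R] n = 0 := by
    rw [← Ψ_Φ R C N ((1 : ∀ k, C k) ⊗ₜ[R] n)]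
    have : Φ R C N ((1 : ∀ k, C k) ⊗ₜ[R] n) = 0 := by
      funext k
      rw [Φ_tmul]
      exact h k
    rw [this, map_zero]
  have hinj := Module.FaithfullyFlat.tensorProduct_mk_injective (A := R) (B := ∀ k, C k) N
  apply hinj
  rw [TensorProduct.mk_apply, h1, map_zero]

theorem comp_incl_left (k l : ι) :
    (TensorProduct.map (LinearMap.proj k : (∀ k, C k) →ₗ[R] C k) (LinearMap.proj l : (∀ k, C k) →ₗ[R] C l)) ∘ₗ
      (Algebra.TensorProduct.includeLeft : (∀ k, C k) →ₐ[R] (∀ k, C k) ⊗[R] (∀ k, C k)).toLinearMap =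
    (Algebra.TensorProduct.includeLeft : C k →ₐ[R] C k ⊗[R] C l).toLinearMap ∘ₗ (LinearMap.proj k) := by
  ext s
  simp

theorem comp_incl_right (k l : ι) :
    (TensorProduct.map (LinearMap.proj k : (∀ k, C k) →ₗ[R] C k) (LinearMap.proj l : (∀ k, C k) →ₗ[R] C l)) ∘ₗ
      (Algebra.TensorProduct.includeRight : (∀ k, C k) →ₐ[R] (∀ k, C k) ⊗[R] (∀ k, C k)).toLinearMap =
    (Algebra.TensorProduct.includeRight : C l →ₐ[R] C k ⊗[R] C l).toLinearMap ∘ₗ (LinearMap.proj l) := by
  ext s
  simp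

theorem fam_glue (y : ∀ k, C k ⊗[R] N)
    (hy : ∀ k l, LinearMap.rTensor N
        (Algebra.TensorProduct.includeLeft : C k →ₐ[R] C k ⊗[R] C l).toLinearMap (y k) =
      LinearMap.rTensor N
        (Algebra.TensorProduct.includeRight : C l →ₐ[R] C k ⊗[R] C l).toLinearMap (y l)) :
    ∃ n : N, ∀ k, (1 : C k) ⊗ₜ[R] n = y k := by
  have h0 : dG R (∀ k, C k) N (Ψ R C N y) = 0 := by
    have hinj : Function.Injective (Φ₂ R C N) := Function.LeftInverse.injective (Ψ₂_Φ₂ R C N)
    apply hinj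
    rw [map_zero]
    funext p
    obtain ⟨k, l⟩ := p
    change LinearMap.rTensor N (TensorProduct.map (LinearMap.proj k) (LinearMap.proj l))
      (LinearMap.rTensor N (Algebra.TensorProduct.includeLeftSubRight R (∀ k, C k)) (Ψ R C N y)) = 0
    rw [← LinearMap.comp_apply, ← LinearMap.rTensor_comp]
    unfold Algebra.TensorProduct.includeLeftSubRight
    rw [LinearMap.comp_sub, comp_incl_left, comp_incl_right, LinearMap.rTensor_sub,
      LinearMap.sub_apply, LinearMap.rTensor_comp, LinearMap.rTensor_comp, LinearMap.comp_apply,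
      LinearMap.comp_apply, sub_eq_zero]
    have e1 : LinearMap.rTensor N (LinearMap.proj k : (∀ k, C k) →ₗ[R] C k) (Ψ R C N y) = y k :=
      congrFun (Φ_Ψ R C N y) k
    have e2 : LinearMap.rTensor N (LinearMap.proj l : (∀ k, C k) →ₗ[R] C l) (Ψ R C N y) = y l :=
      congrFun (Φ_Ψ R C N y) l
    rw [e1, e2]
    exact hy k l
  obtain ⟨n, hn⟩ := (exact_dF_dG R (∀ k, C k) N _).1 h0
  refine ⟨n, fun k => ?_⟩
  have := congrFun (congrArg (Φ R C N) hn) k
  rw [Φ_Ψ] at this
  exact this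

end FF

end Groth.Agent.Lib.Helper86.FFDescentFam
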