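import Mathlib
import Groth.Prelude.Def_Adeq
import Groth.Agent.Lib.Helper86.FFDescentFam
import Groth.Agent.Lib.Helper86.AdeqFlat

open CategoryTheory Limits TensorProduct Opposite

/-!
# Faithfully flat descent for adequate functors along a finite family (first two terms)
-/

namespace Groth.Agent.Lib.Helper86.AdeqFFDescentFam
universe u
variable {A : Type u} [CommRing A]

open Groth.Agent.Lib.Helper86.AdeqBasic Groth.Agent.Lib.Helper86.AdeqFO
open Groth.Agent.Lib.Helper86.FFDescentFam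

variable {ι : Type*} [Fintype ι] [DecidableEq ι] (C : ι → Type u) [∀ k, CommRing (C k)]
  [∀ k, Algebra A (C k)]

/-- `A → C k`. -/
abbrev ηk (k : ι) : Adeq.algOf A A ⟶ Adeq.algOf A (C k) := CommAlgCat.ofHom (Algebra.ofId A (C k))
/-- `c ↦ c ⊗ 1`. -/
abbrev ι₁ (k l : ι) : Adeq.algOf A (C k) ⟶ Adeq.algOf A (C k ⊗[A] C l) :=
  CommAlgCat.ofHom (Algebra.TensorProduct.includeLeft : C k →ₐ[A] C k ⊗[A] C l)
/-- `c ↦ 1 ⊗ c`. -/
abbrev ι₂ (k l : ι) : Adeq.algOf A (C l) ⟶ Adeq.algOf A (C k ⊗[A] C l) :=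
  CommAlgCat.ofHom (Algebra.TensorProduct.includeRight : C l →ₐ[A] C k ⊗[A] C l)

section Und
variable (M : ModuleCat.{u+1} A)

theorem und_eta (k : ι) (m : M) :
    toT M (Adeq.algOf A (C k)) (mp ((Adeq.underline A).obj M) (ηk C k)
      ((toT M (Adeq.algOf A A)).symm ((1 : A) ⊗ₜ[A] m))) = (1 : C k) ⊗ₜ[A] m := by
  rw [toT_mp, LinearEquiv.apply_symm_apply, LinearMap.rTensor_tmul]
  change (Algebra.ofId A (C k)) 1 ⊗ₜ[A] m = (1 : C k) ⊗ₜ[A] m
  rw [map_one]

theorem und_exists_one_tmul (x : ((Adeq.underline A).obj M).obj (Adeq.pt (Adeq.algOf A A))) :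
    ∃ m : M, x = (toT M (Adeq.algOf A A)).symm ((1 : A) ⊗ₜ[A] m) := by
  refine ⟨TensorProduct.lid A M (toT M (Adeq.algOf A A) x), ?_⟩
  apply (toT M (Adeq.algOf A A)).injective
  rw [LinearEquiv.apply_symm_apply]
  generalize toT M (Adeq.algOf A A) x = y
  induction y using TensorProduct.induction_on with
  | zero => simp
  | add x y hx hy => rw [map_add, tmul_add, ← hx, ← hy]
  | tmul a m =>
    rw [TensorProduct.lid_tmul, TensorProduct.tmul_smul, TensorProduct.smul_tmul', smul_eq_mul,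
      mul_one]

variable [Module.FaithfullyFlat A (∀ k, C k)]

theorem und_fam_inj (x x' : ((Adeq.underline A).obj M).obj (Adeq.pt (Adeq.algOf A A)))
    (h : ∀ k, mp ((Adeq.underline A).obj M) (ηk C k) x = mp ((Adeq.underline A).obj M) (ηk C k) x') :
    x = x' := by
  obtain ⟨m, rfl⟩ := und_exists_one_tmul M x
  obtain ⟨m', rfl⟩ := und_exists_one_tmul M x'
  have : m - m' = 0 := by
    apply fam_inj A C M
    intro k
    have h2 := congrArg (toT M (Adeq.algOf A (C k))) (h k)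
    rw [und_eta, und_eta] at h2
    rw [TensorProduct.tmul_sub, h2, sub_self]
  rw [sub_eq_zero.1 this]

theorem und_fam_glue (y : ∀ k, ((Adeq.underline A).obj M).obj (Adeq.pt (Adeq.algOf A (C k))))
    (hy : ∀ k l, mp ((Adeq.underline A).obj M) (ι₁ C k l) (y k) =
      mp ((Adeq.underline A).obj M) (ι₂ C k l) (y l)) :
    ∃ x, ∀ k, mp ((Adeq.underline A).obj M) (ηk C k) x = y k := by
  obtain ⟨m, hm⟩ := fam_glue A C M (fun k => toT M (Adeq.algOf A (C k)) (y k)) (by
    intro k l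
    have h1 := congrArg (toT M (Adeq.algOf A (C k ⊗[A] C l))) (hy k l)
    rw [toT_mp, toT_mp] at h1
    exact h1)
  refine ⟨(toT M (Adeq.algOf A A)).symm ((1 : A) ⊗ₜ[A] m), fun k => ?_⟩
  apply (toT M (Adeq.algOf A (C k))).injective
  rw [und_eta, hm]

end Und

/-- faithfully flat descent for adequate functors along a finite family, first two terms. -/
theorem adequate_ff_descent_fam [Module.FaithfullyFlat A (∀ k, C k)] (F : Adeq.MVF A)
    (hF : Adeq.adequate A F) :
    (∀ x x' : F.obj (Adeq.pt (Adeq.algOf A A)),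
        (∀ k, mp F (ηk C k) x = mp F (ηk C k) x') → x = x') ∧
      ∀ y : ∀ k, F.obj (Adeq.pt (Adeq.algOf A (C k))),
        (∀ k l, mp F (ι₁ C k l) (y k) = mp F (ι₂ C k l) (y l)) →
        ∃ x, ∀ k, mp F (ηk C k) x = y k := by
  obtain ⟨M, N, φ, i, hi⟩ := (adequate_iff F).1 hF
  constructor
  · intro x x' h
    apply hi.inj
    apply und_fam_inj C M
    intro k
    rw [← app_mp, ← app_mp, h k]
  · intro y hy
    have h1 : ∀ k l, mp ((Adeq.underline A).obj M) (ι₁ C k l) (i.app _ (y k)) =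
        mp ((Adeq.underline A).obj M) (ι₂ C k l) (i.app _ (y l)) := by
      intro k l
      rw [← app_mp, ← app_mp, hy k l]
    obtain ⟨z, hz⟩ := und_fam_glue C M _ h1
    have h2 : ((Adeq.underline A).map φ).app _ z = 0 := by
      apply und_fam_inj C N
      intro k
      rw [← app_mp, hz k, map_zero]
      exact hi.apply _ (y k)
    obtain ⟨x, hx⟩ := hi.ex _ z h2
    refine ⟨x, fun k => hi.inj _ ?_⟩
    rw [app_mp, hx, hz k]

end Groth.Agent.Lib.Helper86.AdeqFFDescentFam
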