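import Mathlib
import Groth.Prelude.Def_Adeq2
import Groth.Agent.Lib.Helper86.Adeq2Main
import Groth.Agent.Lib.Helper86.Adeq2Parasitic
import Groth.Agent.Lib.Helper86.AdeqFFDescentFam

open CategoryTheory Limits TensorProduct Opposite AlgebraicGeometry

/-!
# The sheafification of a presheaf of modules with adequate affine functors is adequate (Stacks 46.5):
finite affine refinements of covering sieves, the unit of sheafification is bijective on affine objects.
-/

namespace Groth.Agent.Lib.Helper86.Adeq2Sheafify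
universe u
open Groth.Agent.Lib.Helper86.AdeqBasic Groth.Agent.Lib.Helper86.AdeqFO
open Groth.Agent.Lib.Helper86.AdeqChange Groth.Agent.Lib.Helper86.Adeq2Basic
open Groth.Agent.Lib.Helper86.Adeq2Transport Groth.Agent.Lib.Helper86.Adeq2Main
open Groth.Agent.Lib.Helper86.Adeq2Parasitic Groth.Agent.Lib.Helper86.AdeqFFDescentFam

variable {S : Scheme.{u}}

/-- membership in a sieve of the big site only depends on the underlying morphism of schemes. -/
theorem sieve_mem_iff {X : Over S} (T : Sieve X) {Z : Over S} (φ : Z ⟶ X) :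
    T φ ↔ Sieve.overEquiv X T φ.left := by
  conv_lhs => rw [← (Sieve.overEquiv X).symm_apply_apply T]
  exact Sieve.overEquiv_symm_iff _ _

/-- finite subcoverings, any index universe. -/
theorem exists_finite_subcover' (P : MorphismProperty Scheme.{u})
    (hP : ∀ ⦃X Y : Scheme.{u}⦄ (f : X ⟶ Y), P f → IsOpenMap f)
    {X : Scheme.{u}} [CompactSpace X] {κ : Type*} (Y : κ → Scheme.{u}) (f : ∀ k, Y k ⟶ X)
    (h : Presieve.ofArrows Y f ∈ (Scheme.precoverage P).coverings X) :
    ∃ t : Finset κ, Presieve.ofArrows (fun k : t => Y k) (fun k => f k) ∈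
      (Scheme.precoverage P).coverings X := by
  rw [Scheme.ofArrows_mem_precoverage_iff] at h
  obtain ⟨t, ht⟩ := isCompact_univ.elim_finite_subcover (fun k => Set.range (f k))
    (fun k => (hP (f k) (h.2 k)).isOpen_range) (fun x _ => by
      obtain ⟨i, hi⟩ := h.1 x
      exact Set.mem_iUnion.2 ⟨i, hi⟩)
  refine ⟨t, ?_⟩
  rw [Scheme.ofArrows_mem_precoverage_iff]
  refine ⟨fun x => ?_, fun k => h.2 k⟩
  have := ht (Set.mem_univ x)
  simp only [Set.mem_iUnion] at this
  obtain ⟨i, hi, hx⟩ := this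
  exact ⟨⟨i, hi⟩, hx⟩

/-- a finite jointly surjective family of flat ring maps gives a faithfully flat product. -/
theorem faithfullyFlat_pi {D : Type u} [CommRing D] {ι : Type*} [Finite ι] (C : ι → Type u)
    [∀ k, CommRing (C k)] [∀ k, Algebra D (C k)] (hflat : ∀ k, Module.Flat D (C k))
    (hsurj : ∀ p : PrimeSpectrum D, ∃ k, p ∈ Set.range (PrimeSpectrum.comap (algebraMap D (C k)))) :
    Module.FaithfullyFlat D (∀ k, C k) := by
  classical
  haveI := Fintype.ofFinite ι
  haveI : Module.Flat D (∀ k, C k) :=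
    Module.Flat.of_linearEquiv (DFinsupp.linearEquivFunOnFintype (R := D) (M := C)).symm
  apply Module.FaithfullyFlat.of_comap_surjective
  intro p
  obtain ⟨k, q, hq⟩ := hsurj p
  refine ⟨PrimeSpectrum.comap (Pi.evalRingHom C k) q, ?_⟩
  rw [← hq]
  rfl

/-- every covering sieve of an affine object of the big fppf site contains a finite faithfully
flat family of affines. -/
theorem exists_finite_affine_refinement {D : CommRingCat.{u}} (c : Spec D ⟶ S)
    (T : Sieve ((Adeq.specOver c).obj (op (Adeq.algOf D D))))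
    (hT : T ∈ QuotSh.J Scheme.fppfPrecoverage S ((Adeq.specOver c).obj (op (Adeq.algOf D D)))) :
    ∃ (ι : Type (u+1)) (_ : Fintype ι) (_ : DecidableEq ι) (C : ι → CommRingCat.{u})
      (ψ : ∀ k, D ⟶ C k),
      letI : ∀ k, Algebra D (C k) := fun k => (ψ k).hom.toAlgebra
      Module.FaithfullyFlat D (∀ k, C k) ∧
        (∀ k, T ((Adeq.specOver c).map (ηk (fun k => (C k : Type u)) k).op)) ∧
        Sieve.ofArrows (fun k => (Adeq.specOver c).obj (op (Adeq.algOf D (C k))))
          (fun k => (Adeq.specOver c).map (ηk (fun k => (C k : Type u)) k).op) ∈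
          QuotSh.J Scheme.fppfPrecoverage S ((Adeq.specOver c).obj (op (Adeq.algOf D D))) := by
  classical
  haveI := hasIsos_fppf.{u}
  rw [QuotSh.J, GrothendieckTopology.mem_over_iff,
    Precoverage.mem_toGrothendieck_iff_of_isStableUnderComposition] at hT
  obtain ⟨R', hR', hle⟩ := hT
  obtain ⟨ι₀, Y, f, rfl⟩ := R'.exists_eq_ofArrows
  let κ := Σ i : ι₀, (Y i).affineOpenCover.I₀
  let g : ∀ p : κ, Spec ((Y p.1).affineOpenCover.X p.2) ⟶ Spec D :=
    fun p => (Y p.1).affineOpenCover.f p.2 ≫ f p.1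
  have hg : Presieve.ofArrows (fun p : κ => Spec ((Y p.1).affineOpenCover.X p.2)) g ∈
      Scheme.fppfPrecoverage.coverings (Spec D) :=
    Precoverage.comp_mem_coverings f hR' (fun i j => (Y i).affineOpenCover.f j)
      (fun i => Scheme.zariskiPrecoverage_le_fppfPrecoverage _
        (Y i).affineOpenCover.openCover.mem₀)
  obtain ⟨t, ht⟩ := exists_finite_subcover' (@Flat ⊓ @LocallyOfFinitePresentation)
    (fun X Y f hf => by
      haveI : Flat f := hf.1
      haveI : LocallyOfFinitePresentation f := hf.2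
      exact f.isOpenMap) _ g hg
  have ht' := ((Scheme.ofArrows_mem_precoverage_iff _).1 ht)
  let ψ : ∀ k : t, D ⟶ (Y k.1.1).affineOpenCover.X k.1.2 := fun k => Spec.preimage (g k.1)
  have hψ : ∀ k : t, Spec.map (ψ k) = g k.1 := fun k => Spec.map_preimage _
  refine ⟨t, inferInstance, inferInstance, fun k => (Y k.1.1).affineOpenCover.X k.1.2, ψ, ?_, ?_, ?_⟩
  · letI : ∀ k : t, Algebra D ((Y k.1.1).affineOpenCover.X k.1.2) := fun k => (ψ k).hom.toAlgebra
    refine faithfullyFlat_pi _ (fun k => ?_) (fun p => ?_)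
    · have h1 : Flat (Spec.map (ψ k)) := by
        rw [hψ]
        exact (ht'.2 k).1
      exact Flat.SpecMap_iff.1 h1
    · obtain ⟨k, q, hq⟩ := ht'.1 p
      refine ⟨k, q, ?_⟩
      rw [← hq, ← hψ]
      rfl
  · letI : ∀ k : t, Algebra D ((Y k.1.1).affineOpenCover.X k.1.2) := fun k => (ψ k).hom.toAlgebra
    intro k
    rw [sieve_mem_iff]
    have h1 : ((Adeq.specOver c).map (ηk (fun k : t => ((Y k.1.1).affineOpenCover.X k.1.2 : Type u)) k).op).left
        = g k.1 := by
      rw [← hψ]
      rfl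
    rw [h1]
    exact Sieve.downward_closed _ (hle _ _ (Presieve.ofArrows.mk k.1.1)) _
  · letI : ∀ k : t, Algebra D ((Y k.1.1).affineOpenCover.X k.1.2) := fun k => (ψ k).hom.toAlgebra
    rw [QuotSh.J, GrothendieckTopology.mem_over_iff, Sieve.overEquiv_ofArrows]
    have h1 : (fun k : t => ((Adeq.specOver c).map
        (ηk (fun k : t => ((Y k.1.1).affineOpenCover.X k.1.2 : Type u)) k).op).left) =
        (fun k : t => g k.1) := by
      funext k
      rw [← hψ]
      rfl
    change Sieve.ofArrows (fun k : t => Spec ((Y k.1.1).affineOpenCover.X k.1.2))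
      (fun k : t => ((Adeq.specOver c).map
        (ηk (fun k : t => ((Y k.1.1).affineOpenCover.X k.1.2 : Type u)) k).op).left) ∈ _
    rw [h1]
    exact Precoverage.generate_mem_toGrothendieck ht

section Sheafification

abbrev KK := Scheme.fppfPrecoverage.{u}

variable (P : PresheafOfModules.{u+1} (BigSite.ORing KK S).obj)

/-- the sheafification of `P`. -/
noncomputable abbrev Psh : BigSite.Mod KK S :=
  (PresheafOfModules.sheafification (𝟙 (BigSite.ORing KK S).obj)).obj P

/-- the unit. -/
noncomputable def ηP : P ⟶ (Psh P).val :=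
  (PresheafOfModules.sheafificationAdjunction (𝟙 (BigSite.ORing KK S).obj)).unit.app P

theorem ηP_toPresheaf : (PresheafOfModules.toPresheaf _).map (ηP P) =
    CategoryTheory.toSheafify (QuotSh.J KK S) P.presheaf := rfl

theorem ηP_nat {X Y : Over S} (φ : Y ⟶ X) (x : P.obj (op X)) :
    (ηP P).app (op Y) (P.map φ.op x) = (Psh P).val.map φ.op ((ηP P).app (op X) x) :=
  (PresheafOfModules.naturality_apply (ηP P) φ.op x)

theorem mp_toMVFPre {R : CommRingCat.{u}} (a : Spec R ⟶ S) {B B' : Adeq.Alg R} (f : B ⟶ B')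
    (x : ((Adeq.toMVFPre KK a).obj P).obj (Adeq.pt B)) :
    mp ((Adeq.toMVFPre KK a).obj P) f x = P.map ((Adeq.specOver a).map f.op).op x := rfl

variable (h : ∀ (R : CommRingCat.{u}) (a : Spec R ⟶ S),
  Adeq.adequate R ((Adeq.toMVFPre KK a).obj P))

include h in
/-- the unit is injective on sections over affine objects (special form). -/
theorem η_inj₀ {D : CommRingCat.{u}} (c : Spec D ⟶ S)
    (x x' : P.obj (op ((Adeq.specOver c).obj (op (Adeq.algOf D D)))))
    (hx : (ηP P).app _ x = (ηP P).app _ x') : x = x' := by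
  have hT := Presheaf.equalizerSieve_mem (QuotSh.J KK S)
    (CategoryTheory.toSheafify (QuotSh.J KK S) P.presheaf) x x' hx
  obtain ⟨ι, _, _, C, ψ, hff, hmem, -⟩ := exists_finite_affine_refinement c _ hT
  letI : ∀ k, Algebra D (C k) := fun k => (ψ k).hom.toAlgebra
  haveI : Module.FaithfullyFlat D (∀ k, C k) := hff
  exact (adequate_ff_descent_fam (fun k => (C k : Type u)) _ (h D c)).1 x x' (fun k => hmem k)

omit h in
theorem self_str_eq {D : CommRingCat.{u}} (c : Spec D ⟶ S) (B : Adeq.Alg D) :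
    Spec.map (CommRingCat.ofHom (algebraMap (CommRingCat.of B) (CommRingCat.of B))) ≫
      (Spec.map (CommRingCat.ofHom (algebraMap D B)) ≫ c) =
    Spec.map (CommRingCat.ofHom (algebraMap D B)) ≫ c := by
  have : CommRingCat.ofHom (algebraMap (CommRingCat.of B) (CommRingCat.of B)) = 𝟙 _ := rfl
  rw [this, Spec.map_id, Category.id_comp]

include h in
/-- the unit is injective on sections over affine objects. -/
theorem η_inj {D : CommRingCat.{u}} (c : Spec D ⟶ S) (B : Adeq.Alg D)
    (x x' : P.obj (op ((Adeq.specOver c).obj (op B))))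
    (hx : (ηP P).app _ x = (ηP P).app _ x') : x = x' := by
  obtain ⟨z, rfl⟩ := (trp_bijective P _ _ (self_str_eq c B)).2 x
  obtain ⟨z', rfl⟩ := (trp_bijective P _ _ (self_str_eq c B)).2 x'
  have h1 : (ηP P).app _ z = (ηP P).app _ z' := by
    apply (trp_bijective (Psh P).val _ _ (self_str_eq c B)).1
    exact ((ηP_nat P (idHom _ _ (self_str_eq c B)) z).symm.trans hx).trans
      (ηP_nat P (idHom _ _ (self_str_eq c B)) z')
  rw [η_inj₀ P h (D := CommRingCat.of B) (Spec.map (CommRingCat.ofHom (algebraMap D B)) ≫ c) z z' h1]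

omit h in
theorem eta_iota_eq {D : Type u} [CommRing D] {ι : Type*} (C : ι → Type u) [∀ k, CommRing (C k)]
    [∀ k, Algebra D (C k)] (k l : ι) :
    ηk (A := D) C k ≫ ι₁ (A := D) C k l = ηk (A := D) C l ≫ ι₂ (A := D) C k l := by
  ext

omit h in
theorem pm_comp (M : PresheafOfModules.{u+1} (BigSite.ORing KK S).obj) {X Y Z : Over S}
    (φ : Y ⟶ X) (χ : Z ⟶ Y) (x : M.obj (op X)) :
    M.map χ.op (M.map φ.op x) = M.map (χ ≫ φ).op x := by
  change M.presheaf.map χ.op (M.presheaf.map φ.op x) = M.presheaf.map (χ ≫ φ).op x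
  rw [op_comp, Functor.map_comp]
  rfl

include h in
/-- the unit is surjective on sections over affine objects (special form). -/
theorem η_surj₀ {D : CommRingCat.{u}} (c : Spec D ⟶ S)
    (σ : (Psh P).val.obj (op ((Adeq.specOver c).obj (op (Adeq.algOf D D))))) :
    ∃ x, (ηP P).app _ x = σ := by
  have hT := Presheaf.imageSieve_mem (QuotSh.J KK S)
    (CategoryTheory.toSheafify (QuotSh.J KK S) P.presheaf) σ
  obtain ⟨ι, _, _, C, ψ, hff, hmem, hcov⟩ := exists_finite_affine_refinement c _ hT
  letI : ∀ k, Algebra D (C k) := fun k => (ψ k).hom.toAlgebra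
  haveI : Module.FaithfullyFlat D (∀ k, C k) := hff
  choose y₀ hy using hmem
  let y : ∀ k, P.obj (op ((Adeq.specOver c).obj (op (Adeq.algOf D (C k))))) := y₀
  have hy' : ∀ k, (ηP P).app _ (y k) = (Psh P).val.map
      ((Adeq.specOver c).map (ηk (fun k => (C k : Type u)) k).op).op σ := hy
  have hcompat : ∀ k l,
      P.map ((Adeq.specOver c).map (ι₁ (fun k => (C k : Type u)) k l).op).op (y k) =
      P.map ((Adeq.specOver c).map (ι₂ (fun k => (C k : Type u)) k l).op).op (y l) := by
    intro k l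
    refine η_inj P h c (Adeq.algOf D (C k ⊗[D] C l)) _ _ ?_
    rw [ηP_nat, ηP_nat, hy', hy', pm_comp, pm_comp, ← Functor.map_comp,
      ← Functor.map_comp, ← op_comp, ← op_comp, eta_iota_eq]
  obtain ⟨x₀, hx₀⟩ := (adequate_ff_descent_fam (fun k => (C k : Type u)) _ (h D c)).2 y hcompat
  let x : P.obj (op ((Adeq.specOver c).obj (op (Adeq.algOf D D)))) := x₀
  have hx : ∀ k, P.map ((Adeq.specOver c).map (ηk (fun k => (C k : Type u)) k).op).op x = y k := hx₀
  refine ⟨x, ?_⟩
  have hsh := ((Presheaf.isSheaf_iff_isSheaf_forget _ _ (forget AddCommGrpCat)).1 (Psh P).isSheaf)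
  have hsep := ((isSheaf_iff_isSheaf_of_type _ _).1 hsh).isSeparated
  refine (hsep _ hcov).ext (fun V f hf => ?_)
  obtain ⟨W, e, g, ⟨k⟩, rfl⟩ := hf
  change (Psh P).val.map (e ≫ _).op _ = (Psh P).val.map (e ≫ _).op σ
  rw [← pm_comp, ← pm_comp]
  congr 1
  rw [← hy', ← ηP_nat, hx]

include h in
/-- the unit is surjective on sections over affine objects. -/
theorem η_surj {D : CommRingCat.{u}} (c : Spec D ⟶ S) (B : Adeq.Alg D)
    (σ : (Psh P).val.obj (op ((Adeq.specOver c).obj (op B)))) : ∃ x, (ηP P).app _ x = σ := by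
  obtain ⟨τ, rfl⟩ := (trp_bijective (Psh P).val _ _ (self_str_eq c B)).2 σ
  obtain ⟨z, rfl⟩ := η_surj₀ P h (D := CommRingCat.of B)
    (Spec.map (CommRingCat.ofHom (algebraMap D B)) ≫ c) τ
  exact ⟨trp P _ _ (self_str_eq c B) z, ηP_nat P (idHom _ _ (self_str_eq c B)) z⟩

/-- the comparison of module valued functors. -/
noncomputable def cmp {R : CommRingCat.{u}} (a : Spec R ⟶ S) :
    (Adeq.toMVFPre KK a).obj P ⟶ (Adeq.toMVF KK a).obj (Psh P) :=
  (Adeq.toMVFPre KK a).map (ηP P)

include h in
theorem isIso_cmp {R : CommRingCat.{u}} (a : Spec R ⟶ S) : IsIso (cmp P a) := by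
  apply isIso_of_bijective
  intro X
  obtain ⟨⟨B⟩⟩ := X
  exact ⟨fun x x' hx => η_inj P h a B x x' hx, fun σ => η_surj P h a B σ⟩

include h in
/-- Stacks 46.5.? : the sheafification of a presheaf of modules with adequate affine functors is adequate,
and has the same affine functors. -/
theorem adequate_toMVF_sheafification {R : CommRingCat.{u}} (a : Spec R ⟶ S) :
    Adeq.adequate R ((Adeq.toMVF KK a).obj (Psh P)) := by
  haveI := isIso_cmp P h a
  exact (Adeq.adequate R).prop_of_iso (asIso (cmp P a)) (h R a)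

include h in
theorem adequateMod_sheafification : Adeq.adequateMod KK S (Psh P) :=
  ⟨S.affineOpenCover.I₀, S.affineOpenCover.X, S.affineOpenCover.f,
    Scheme.zariskiPrecoverage_le_fppfPrecoverage _ S.affineOpenCover.openCover.mem₀,
    fun i => adequate_toMVF_sheafification P h _⟩

end Sheafification

end Groth.Agent.Lib.Helper86.Adeq2Sheafify
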