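import Mathlib
import Groth.Prelude.Def_Adeq2
import Groth.Agent.Lib.Helper86.Adeq2Sheafify
import Groth.Agent.Lib.Helper86.AdeqExtn

open CategoryTheory Limits TensorProduct Opposite AlgebraicGeometry

/-!
# Cokernels (in all modules) of maps of adequate modules on the big fppf site are adequate
-/

namespace Groth.Agent.Lib.Helper86.Adeq2Coker
universe u
open Groth.Agent.Lib.Helper86.AdeqBasic Groth.Agent.Lib.Helper86.AdeqFO
open Groth.Agent.Lib.Helper86.AdeqClosure Groth.Agent.Lib.Helper86.AdeqExtn
open Groth.Agent.Lib.Helper86.Adeq2Main Groth.Agent.Lib.Helper86.Adeq2Sheafify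
open Groth.Agent.Lib.Helper86.ModLocal

variable {S : Scheme.{u}}

/-- the forgetful functor to presheaves of modules (right adjoint of sheafification). -/
noncomputable abbrev GG : BigSite.Mod KK S ⥤ PresheafOfModules.{u+1} (BigSite.ORing KK S).obj :=
  SheafOfModules.forget _ ⋙ PresheafOfModules.restrictScalars (𝟙 (BigSite.ORing KK S).obj)

/-- the sheafification functor. -/
noncomputable abbrev Shf : PresheafOfModules.{u+1} (BigSite.ORing KK S).obj ⥤ BigSite.Mod KK S :=
  PresheafOfModules.sheafification (𝟙 (BigSite.ORing KK S).obj)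

/-- the adjunction. -/
noncomputable abbrev adjS : Shf (S := S) ⊣ GG (S := S) :=
  PresheafOfModules.sheafificationAdjunction (𝟙 (BigSite.ORing KK S).obj)

/-- `toMVFPre` sends presheaf cokernels to pointwise cokernels. -/
theorem isCoker_toMVFPre {R : CommRingCat.{u}} (a : Spec R ⟶ S)
    {P Q : PresheafOfModules.{u+1} (BigSite.ORing KK S).obj} (f : P ⟶ Q) :
    IsCoker ((Adeq.toMVFPre KK a).map f) ((Adeq.toMVFPre KK a).map (cokernel.π f)) where
  w := by rw [← Functor.map_comp, cokernel.condition, Functor.map_zero]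
  surj X := PresheafOfModules.surjective_of_epi (cokernel.π f) _
  ex X y hy := presheaf_cokernel_exists f _ y hy

theorem adequateMod_cokernel {M N : BigSite.Mod KK S} (φ : M ⟶ N)
    (hM : Adeq.adequateMod KK S M) (hN : Adeq.adequateMod KK S N) :
    Adeq.adequateMod KK S (cokernel φ) := by
  let f : (GG (S := S)).obj M ⟶ (GG (S := S)).obj N := (GG (S := S)).map φ
  have hQ : ∀ (R : CommRingCat.{u}) (a : Spec R ⟶ S),
      Adeq.adequate R ((Adeq.toMVFPre KK a).obj (cokernel f)) := by
    intro R a
    have h1 : Adeq.adequate R ((Adeq.toMVFPre KK a).obj ((GG (S := S)).obj M)) :=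
      adequate_toMVF_fppf M hM R a
    have h2 : Adeq.adequate R ((Adeq.toMVFPre KK a).obj ((GG (S := S)).obj N)) :=
      adequate_toMVF_fppf N hN R a
    exact (Adeq.adequate R).prop_of_iso (isCoker_toMVFPre a f).iso (adequate_cokernel _ h1 h2)
  have h3 := adequateMod_sheafification (cokernel f) hQ
  have e1 : (Shf (S := S)).obj (cokernel f) ≅ cokernel ((Shf (S := S)).map f) :=
    PreservesCokernel.iso (Shf (S := S)) f
  have hnat : (Shf (S := S)).map f ≫ (adjS (S := S)).counit.app N =
      (adjS (S := S)).counit.app M ≫ φ := (adjS (S := S)).counit.naturality φ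
  have e2 : cokernel ((Shf (S := S)).map f) ≅ cokernel φ :=
    cokernel.mapIso _ _ (asIso ((adjS (S := S)).counit.app M)) (asIso ((adjS (S := S)).counit.app N))
      hnat
  exact (Adeq.adequateMod KK S).prop_of_iso (e1 ≪≫ e2) h3

end Groth.Agent.Lib.Helper86.Adeq2Coker
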