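import Mathlib
import Groth.Prelude.Def_Adeq2
import Groth.Agent.Lib.Helper86.Adeq2Coker
import Groth.Agent.Lib.Helper86.AdeqColim

open CategoryTheory Limits TensorProduct Opposite AlgebraicGeometry

/-!
# Colimits (in all modules) of adequate modules on the big fppf site are adequate
-/

namespace Groth.Agent.Lib.Helper86.Adeq2Colim
universe u
open Groth.Agent.Lib.Helper86.AdeqBasic Groth.Agent.Lib.Helper86.AdeqFO
open Groth.Agent.Lib.Helper86.AdeqClosure Groth.Agent.Lib.Helper86.AdeqExtn
open Groth.Agent.Lib.Helper86.Adeq2Main Groth.Agent.Lib.Helper86.Adeq2Sheafify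
open Groth.Agent.Lib.Helper86.ModLocal Groth.Agent.Lib.Helper86.Adeq2Coker
open Groth.Agent.Lib.Helper86.AdeqColim

variable {S : Scheme.{u}}

/-- `toMVFPre` preserves colimits. -/
noncomputable def isColimit_toMVFPre {R : CommRingCat.{u}} (a : Spec R ⟶ S)
    {J : Type (u+1)} [SmallCategory J]
    (F : J ⥤ PresheafOfModules.{u+1} (BigSite.ORing KK S).obj) (c : Cocone F) (hc : IsColimit c) :
    IsColimit ((Adeq.toMVFPre KK a).mapCocone c) := by
  apply PresheafOfModules.evaluationJointlyReflectsColimits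
  intro X
  apply isColimitOfReflects (forget₂ (ModuleCat.{u+1} ((Adeq.ringOf R).obj X)) AddCommGrpCat.{u+1})
  have h1 := isColimitOfPreserves
    (PresheafOfModules.evaluation (BigSite.ORing KK S).obj
      (op ((Adeq.specOver a).obj (op X.unop.unop))) ⋙ forget₂ _ AddCommGrpCat.{u+1}) hc
  exact h1

theorem adequateMod_colimit {J : Type (u+1)} [SmallCategory J] (D : J ⥤ BigSite.Mod KK S)
    (hD : ∀ j, Adeq.adequateMod KK S (D.obj j)) : Adeq.adequateMod KK S (colimit D) := by
  let D' : J ⥤ PresheafOfModules.{u+1} (BigSite.ORing KK S).obj := D ⋙ GG (S := S)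
  have hQ : ∀ (R : CommRingCat.{u}) (a : Spec R ⟶ S),
      Adeq.adequate R ((Adeq.toMVFPre KK a).obj (colimit D')) := by
    intro R a
    have hc := isColimit_toMVFPre a D' (colimit.cocone D') (colimit.isColimit D')
    have e : (Adeq.toMVFPre KK a).obj (colimit D') ≅ colimit (D' ⋙ Adeq.toMVFPre KK a) :=
      hc.coconePointUniqueUpToIso (colimit.isColimit _)
    refine (Adeq.adequate R).prop_of_iso e.symm (adequate_colimit (D' ⋙ Adeq.toMVFPre KK a) ?_)
    intro j
    exact adequate_toMVF_fppf (D.obj j) (hD j) R a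
  have h3 := adequateMod_sheafification (colimit D') hQ
  have e1 : (Shf (S := S)).obj (colimit D') ≅ colimit (D' ⋙ Shf (S := S)) :=
    preservesColimitIso (Shf (S := S)) D'
  have e2 : D' ⋙ Shf (S := S) ≅ D :=
    Functor.associator _ _ _ ≪≫ Functor.isoWhiskerLeft D (asIso (adjS (S := S)).counit) ≪≫
      Functor.rightUnitor D
  exact (Adeq.adequateMod KK S).prop_of_iso (e1 ≪≫ HasColimit.isoOfNatIso e2) h3

end Groth.Agent.Lib.Helper86.Adeq2Colim
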