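import Mathlib
import Groth.Agent.Lib.Helper86.FFDescentFam
import Groth.Agent.Lib.Helper86.FFDescentMod2

open TensorProduct

/-!
# Vanishing of the first Cech cohomology of a module for a finite faithfully flat family
-/

namespace Groth.Agent.Lib.Helper86.FFDescentFam2
universe u v w
open Groth.Agent.Lib.Helper86.FFDescentMod Groth.Agent.Lib.Helper86.FFDescentMod2
open Groth.Agent.Lib.Helper86.FFDescentFam

variable (R : Type u) [CommRing R] {ι : Type*} [Fintype ι] [DecidableEq ι]
  (C : ι → Type v) [∀ k, CommRing (C k)] [∀ k, Algebra R (C k)]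
  (N : Type w) [AddCommGroup N] [Module R N]

theorem Φ₂_Ψ₂ (y : ∀ p : ι × ι, (C p.1 ⊗[R] C p.2) ⊗[R] N) : Φ₂ R C N (Ψ₂ R C N y) = y := by
  funext q
  simp only [Ψ₂, LinearMap.sum_apply, LinearMap.comp_apply, LinearMap.proj_apply, map_sum]
  rw [Finset.sum_apply, Finset.sum_eq_single q]
  · change LinearMap.rTensor N (TensorProduct.map (LinearMap.proj q.1) (LinearMap.proj q.2))
      (LinearMap.rTensor N (TensorProduct.map (LinearMap.single R C q.1) (LinearMap.single R C q.2)) (y q)) = y q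
    rw [← LinearMap.comp_apply, ← LinearMap.rTensor_comp, ← TensorProduct.map_comp,
      LinearMap.proj_comp_single_same, LinearMap.proj_comp_single_same, TensorProduct.map_id,
      LinearMap.rTensor_id, LinearMap.id_apply]
  · intro p _ hp
    change LinearMap.rTensor N (TensorProduct.map (LinearMap.proj q.1) (LinearMap.proj q.2))
      (LinearMap.rTensor N (TensorProduct.map (LinearMap.single R C p.1) (LinearMap.single R C p.2)) (y p)) = 0
    rw [← LinearMap.comp_apply, ← LinearMap.rTensor_comp, ← TensorProduct.map_comp]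
    have : p.1 ≠ q.1 ∨ p.2 ≠ q.2 := by
      by_contra h
      rw [not_or, not_not, not_not] at h
      exact hp (Prod.ext h.1 h.2)
    rcases this with h | h
    · rw [LinearMap.proj_comp_single_ne R C q.1 p.1 (Ne.symm h), TensorProduct.map_zero_left,
        LinearMap.rTensor_zero, LinearMap.zero_apply]
    · rw [LinearMap.proj_comp_single_ne R C q.2 p.2 (Ne.symm h), TensorProduct.map_zero_right,
        LinearMap.rTensor_zero, LinearMap.zero_apply]
  · intro h
    exact absurd (Finset.mem_univ q) h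

/-- components of an element of `(((∏ C) ⊗ (∏ C)) ⊗ (∏ C)) ⊗ N`. -/
noncomputable def Φ₃ : (((∀ k, C k) ⊗[R] (∀ k, C k)) ⊗[R] (∀ k, C k)) ⊗[R] N →ₗ[R]
    ∀ q : ι × ι × ι, ((C q.1 ⊗[R] C q.2.1) ⊗[R] C q.2.2) ⊗[R] N :=
  LinearMap.pi (fun q => LinearMap.rTensor N
    (TensorProduct.map (TensorProduct.map (LinearMap.proj q.1) (LinearMap.proj q.2.1)) (LinearMap.proj q.2.2)))

/-- assembling components. -/
noncomputable def Ψ₃ : (∀ q : ι × ι × ι, ((C q.1 ⊗[R] C q.2.1) ⊗[R] C q.2.2) ⊗[R] N) →ₗ[R]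
    (((∀ k, C k) ⊗[R] (∀ k, C k)) ⊗[R] (∀ k, C k)) ⊗[R] N :=
  ∑ q : ι × ι × ι, (LinearMap.rTensor N
    (TensorProduct.map (TensorProduct.map (LinearMap.single R C q.1) (LinearMap.single R C q.2.1))
      (LinearMap.single R C q.2.2))) ∘ₗ (LinearMap.proj q)

theorem Ψ₃_Φ₃ (x : (((∀ k, C k) ⊗[R] (∀ k, C k)) ⊗[R] (∀ k, C k)) ⊗[R] N) :
    Ψ₃ R C N (Φ₃ R C N x) = x := by
  induction x using TensorProduct.induction_on with
  | zero => simp
  | add x y hx hy => rw [map_add, map_add, hx, hy]
  | tmul z n =>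
    induction z using TensorProduct.induction_on with
    | zero => simp
    | add x y hx hy => rw [add_tmul, map_add, map_add, hx, hy]
    | tmul z' s'' =>
      induction z' using TensorProduct.induction_on with
      | zero => simp
      | add x y hx hy => rw [add_tmul, add_tmul, map_add, map_add, hx, hy]
      | tmul s s' =>
        simp only [Ψ₃, Φ₃, LinearMap.sum_apply, LinearMap.comp_apply, LinearMap.proj_apply,
          LinearMap.pi_apply, LinearMap.rTensor_tmul, TensorProduct.map_tmul, LinearMap.coe_single]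
        rw [← TensorProduct.sum_tmul, Fintype.sum_prod_type]
        congr 1
        simp only [Fintype.sum_prod_type, ← TensorProduct.tmul_sum, ← TensorProduct.sum_tmul]
        rw [Finset.univ_sum_single, Finset.univ_sum_single, Finset.univ_sum_single]

section Maps
variable (k l m : ι)

/-- `x ⊗ y ↦ (x ⊗ y) ⊗ 1`. -/
noncomputable def J12 : C k ⊗[R] C l →ₗ[R] (C k ⊗[R] C l) ⊗[R] C m :=
  (Algebra.TensorProduct.includeLeft : C k ⊗[R] C l →ₐ[R] (C k ⊗[R] C l) ⊗[R] C m).toLinearMap

/-- `x ⊗ z ↦ (x ⊗ 1) ⊗ z`. -/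
noncomputable def J13 : C k ⊗[R] C m →ₗ[R] (C k ⊗[R] C l) ⊗[R] C m :=
  (Algebra.TensorProduct.map (Algebra.TensorProduct.includeLeft : C k →ₐ[R] C k ⊗[R] C l)
    (AlgHom.id R (C m))).toLinearMap

/-- `y ⊗ z ↦ (1 ⊗ y) ⊗ z`. -/
noncomputable def J23 : C l ⊗[R] C m →ₗ[R] (C k ⊗[R] C l) ⊗[R] C m :=
  (Algebra.TensorProduct.map (Algebra.TensorProduct.includeRight : C l →ₐ[R] C k ⊗[R] C l)
    (AlgHom.id R (C m))).toLinearMap

theorem comp_j12 :
    (TensorProduct.map (TensorProduct.map (LinearMap.proj k : (∀ k, C k) →ₗ[R] C k)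
      (LinearMap.proj l : (∀ k, C k) →ₗ[R] C l)) (LinearMap.proj m : (∀ k, C k) →ₗ[R] C m)) ∘ₗ
      j12 R (∀ k, C k) = J12 R C k l m ∘ₗ (TensorProduct.map (LinearMap.proj k) (LinearMap.proj l)) := by
  apply TensorProduct.ext'
  intro s s'
  rfl

theorem comp_j13 :
    (TensorProduct.map (TensorProduct.map (LinearMap.proj k : (∀ k, C k) →ₗ[R] C k)
      (LinearMap.proj l : (∀ k, C k) →ₗ[R] C l)) (LinearMap.proj m : (∀ k, C k) →ₗ[R] C m)) ∘ₗ
      j13 R (∀ k, C k) = J13 R C k l m ∘ₗ (TensorProduct.map (LinearMap.proj k) (LinearMap.proj m)) := by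
  apply TensorProduct.ext'
  intro s s'
  rfl

theorem comp_j23 :
    (TensorProduct.map (TensorProduct.map (LinearMap.proj k : (∀ k, C k) →ₗ[R] C k)
      (LinearMap.proj l : (∀ k, C k) →ₗ[R] C l)) (LinearMap.proj m : (∀ k, C k) →ₗ[R] C m)) ∘ₗ
      j23 R (∀ k, C k) = J23 R C k l m ∘ₗ (TensorProduct.map (LinearMap.proj l) (LinearMap.proj m)) := by
  apply TensorProduct.ext'
  intro s s'
  rfl

end Maps

section FF
variable [Module.FaithfullyFlat R (∀ k, C k)]

/-- vanishing of the first Cech cohomology of `N` for a finite faithfully flat family. -/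
theorem fam_H1 (c : ∀ p : ι × ι, (C p.1 ⊗[R] C p.2) ⊗[R] N)
    (hc : ∀ k l m, LinearMap.rTensor N (J12 R C k l m) (c (k, l)) -
      LinearMap.rTensor N (J13 R C k l m) (c (k, m)) + LinearMap.rTensor N (J23 R C k l m) (c (l, m)) = 0) :
    ∃ x : ∀ k, C k ⊗[R] N, ∀ k l, c (k, l) =
      LinearMap.rTensor N (Algebra.TensorProduct.includeLeft : C k →ₐ[R] C k ⊗[R] C l).toLinearMap (x k) -
      LinearMap.rTensor N (Algebra.TensorProduct.includeRight : C l →ₐ[R] C k ⊗[R] C l).toLinearMap (x l) := by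
  have h0 : d2 R (∀ k, C k) N (Ψ₂ R C N c) = 0 := by
    have hinj : Function.Injective (Φ₃ R C N) := Function.LeftInverse.injective (Ψ₃_Φ₃ R C N)
    apply hinj
    rw [map_zero]
    funext q
    obtain ⟨k, l, m⟩ := q
    change LinearMap.rTensor N (TensorProduct.map (TensorProduct.map (LinearMap.proj k) (LinearMap.proj l))
        (LinearMap.proj m))
      (LinearMap.rTensor N (j12 R (∀ k, C k) - j13 R (∀ k, C k) + j23 R (∀ k, C k)) (Ψ₂ R C N c)) = 0
    have key : ∀ z : ((∀ k, C k) ⊗[R] (∀ k, C k)) ⊗[R] N,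
        LinearMap.rTensor N (TensorProduct.map (TensorProduct.map (LinearMap.proj k : (∀ k, C k) →ₗ[R] C k)
          (LinearMap.proj l : (∀ k, C k) →ₗ[R] C l)) (LinearMap.proj m : (∀ k, C k) →ₗ[R] C m))
          (LinearMap.rTensor N (j12 R (∀ k, C k) - j13 R (∀ k, C k) + j23 R (∀ k, C k)) z) =
        LinearMap.rTensor N (J12 R C k l m)
          (LinearMap.rTensor N (TensorProduct.map (LinearMap.proj k) (LinearMap.proj l)) z) -
        LinearMap.rTensor N (J13 R C k l m)
          (LinearMap.rTensor N (TensorProduct.map (LinearMap.proj k) (LinearMap.proj m)) z) +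
        LinearMap.rTensor N (J23 R C k l m)
          (LinearMap.rTensor N (TensorProduct.map (LinearMap.proj l) (LinearMap.proj m)) z) := by
      intro z
      induction z using TensorProduct.induction_on with
      | zero => simp
      | add x y hx hy =>
        simp only [map_add, hx, hy]
        abel
      | tmul w n =>
        have a1 := LinearMap.congr_fun (comp_j12 R C k l m) w
        have a2 := LinearMap.congr_fun (comp_j13 R C k l m) w
        have a3 := LinearMap.congr_fun (comp_j23 R C k l m) w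
        rw [LinearMap.comp_apply, LinearMap.comp_apply] at a1 a2 a3
        rw [LinearMap.rTensor_tmul, LinearMap.rTensor_tmul, LinearMap.rTensor_tmul, LinearMap.rTensor_tmul,
          LinearMap.rTensor_tmul, LinearMap.rTensor_tmul, LinearMap.rTensor_tmul, LinearMap.rTensor_tmul,
          LinearMap.add_apply, LinearMap.sub_apply, map_add, map_sub, a1, a2, a3,
          TensorProduct.add_tmul, TensorProduct.sub_tmul]
    rw [key]
    have e : ∀ p : ι × ι, LinearMap.rTensor N (TensorProduct.map (LinearMap.proj p.1 : (∀ k, C k) →ₗ[R] C p.1)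
        (LinearMap.proj p.2 : (∀ k, C k) →ₗ[R] C p.2)) (Ψ₂ R C N c) = c p :=
      fun p => congrFun (Φ₂_Ψ₂ R C N c) p
    rw [e (k, l), e (k, m), e (l, m)]
    exact hc k l m
  obtain ⟨x', hx'⟩ := (exact_dG_d2 R (∀ k, C k) N _).1 h0
  refine ⟨Φ R C N x', fun k l => ?_⟩
  have h1 := congrFun (congrArg (Φ₂ R C N) hx') (k, l)
  rw [Φ₂_Ψ₂] at h1
  rw [← h1]
  change LinearMap.rTensor N (TensorProduct.map (LinearMap.proj k) (LinearMap.proj l))
      (LinearMap.rTensor N (Algebra.TensorProduct.includeLeftSubRight R (∀ k, C k)) x') = _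
  rw [← LinearMap.comp_apply, ← LinearMap.rTensor_comp]
  unfold Algebra.TensorProduct.includeLeftSubRight
  rw [LinearMap.comp_sub, comp_incl_left, comp_incl_right, LinearMap.rTensor_sub,
    LinearMap.sub_apply, LinearMap.rTensor_comp, LinearMap.rTensor_comp, LinearMap.comp_apply,
    LinearMap.comp_apply]
  rfl

end FF

end Groth.Agent.Lib.Helper86.FFDescentFam2
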