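import Mathlib
import Groth.Prelude.Def_Adeq
import Groth.Agent.Lib.Helper86.FFDescentFam2
import Groth.Agent.Lib.Helper86.AdeqFFDescentFam
import Groth.Agent.Lib.Helper86.AdeqClosure

open CategoryTheory Limits TensorProduct Opposite

/-!
# Vanishing of the first Čech cohomology of an adequate functor along a finite faithfully flat family
-/

namespace Groth.Agent.Lib.Helper86.AdeqH1
universe u
variable {A : Type u} [CommRing A]

open Groth.Agent.Lib.Helper86.AdeqBasic Groth.Agent.Lib.Helper86.AdeqFO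
open Groth.Agent.Lib.Helper86.FFDescentFam Groth.Agent.Lib.Helper86.FFDescentFam2
open Groth.Agent.Lib.Helper86.AdeqFFDescentFam Groth.Agent.Lib.Helper86.AdeqClosure

variable {ι : Type*} [Fintype ι] [DecidableEq ι] (C : ι → Type u) [∀ k, CommRing (C k)]
  [∀ k, Algebra A (C k)]

/-- `x ↦ x ⊗ 1`. -/
abbrev κ₁₂ (k l m : ι) : Adeq.algOf A (C k ⊗[A] C l) ⟶ Adeq.algOf A ((C k ⊗[A] C l) ⊗[A] C m) :=
  CommAlgCat.ofHom (Algebra.TensorProduct.includeLeft : C k ⊗[A] C l →ₐ[A] (C k ⊗[A] C l) ⊗[A] C m)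
/-- `x ⊗ z ↦ (x ⊗ 1) ⊗ z`. -/
abbrev κ₁₃ (k l m : ι) : Adeq.algOf A (C k ⊗[A] C m) ⟶ Adeq.algOf A ((C k ⊗[A] C l) ⊗[A] C m) :=
  CommAlgCat.ofHom (Algebra.TensorProduct.map
    (Algebra.TensorProduct.includeLeft : C k →ₐ[A] C k ⊗[A] C l) (AlgHom.id A (C m)))
/-- `y ⊗ z ↦ (1 ⊗ y) ⊗ z`. -/
abbrev κ₂₃ (k l m : ι) : Adeq.algOf A (C l ⊗[A] C m) ⟶ Adeq.algOf A ((C k ⊗[A] C l) ⊗[A] C m) :=
  CommAlgCat.ofHom (Algebra.TensorProduct.map
    (Algebra.TensorProduct.includeRight : C l →ₐ[A] C k ⊗[A] C l) (AlgHom.id A (C m)))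

theorem eta_iota (k l : ι) :
    ηk (A := A) C k ≫ ι₁ (A := A) C k l = ηk (A := A) C l ≫ ι₂ (A := A) C k l := by
  ext

theorem ι₁_κ₁₂ (k l m : ι) : ι₁ (A := A) C k l ≫ κ₁₂ C k l m = ι₁ (A := A) C k m ≫ κ₁₃ C k l m := by
  ext x
  simp

theorem ι₂_κ₁₂ (k l m : ι) : ι₂ (A := A) C k l ≫ κ₁₂ C k l m = ι₁ (A := A) C l m ≫ κ₂₃ C k l m := by
  ext x
  simp

theorem ι₂_κ₁₃ (k l m : ι) : ι₂ (A := A) C k m ≫ κ₁₃ C k l m = ι₂ (A := A) C l m ≫ κ₂₃ C k l m := by
  ext x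
  simp

section Und
variable (M : ModuleCat.{u+1} A) [Module.FaithfullyFlat A (∀ k, C k)]

theorem und_fam_H1
    (c : ∀ k l, ((Adeq.underline A).obj M).obj (Adeq.pt (Adeq.algOf A (C k ⊗[A] C l))))
    (hc : ∀ k l m, mp ((Adeq.underline A).obj M) (κ₁₂ C k l m) (c k l)
      - mp ((Adeq.underline A).obj M) (κ₁₃ C k l m) (c k m)
      + mp ((Adeq.underline A).obj M) (κ₂₃ C k l m) (c l m) = 0) :
    ∃ x : ∀ k, ((Adeq.underline A).obj M).obj (Adeq.pt (Adeq.algOf A (C k))),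
      ∀ k l, c k l = mp ((Adeq.underline A).obj M) (ι₁ C k l) (x k)
        - mp ((Adeq.underline A).obj M) (ι₂ C k l) (x l) := by
  obtain ⟨x, hx⟩ := fam_H1 A C M (fun p => toT M (Adeq.algOf A (C p.1 ⊗[A] C p.2)) (c p.1 p.2)) (by
    intro k l m
    have h1 := congrArg (toT M (Adeq.algOf A ((C k ⊗[A] C l) ⊗[A] C m))) (hc k l m)
    rw [map_add, map_sub, toT_mp, toT_mp, toT_mp, map_zero] at h1
    exact h1)
  refine ⟨fun k => (toT M (Adeq.algOf A (C k))).symm (x k), fun k l => ?_⟩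
  apply (toT M (Adeq.algOf A (C k ⊗[A] C l))).injective
  rw [map_sub, toT_mp, toT_mp, LinearEquiv.apply_symm_apply, LinearEquiv.apply_symm_apply]
  exact hx k l

end Und

/-- `H¹` of the Čech complex of an adequate functor along a finite faithfully flat family vanishes. -/
theorem adequate_H1_fam [Module.FaithfullyFlat A (∀ k, C k)] (F : Adeq.MVF A)
    (hF : Adeq.adequate A F)
    (c : ∀ k l, F.obj (Adeq.pt (Adeq.algOf A (C k ⊗[A] C l))))
    (hc : ∀ k l m, mp F (κ₁₂ C k l m) (c k l) - mp F (κ₁₃ C k l m) (c k m)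
      + mp F (κ₂₃ C k l m) (c l m) = 0) :
    ∃ x : ∀ k, F.obj (Adeq.pt (Adeq.algOf A (C k))),
      ∀ k l, c k l = mp F (ι₁ C k l) (x k) - mp F (ι₂ C k l) (x l) := by
  obtain ⟨M, N, φ, i, hi⟩ := (adequate_iff F).1 hF
  -- transport the cocycle to `underline M`
  have hc' : ∀ k l m, mp ((Adeq.underline A).obj M) (κ₁₂ C k l m) (i.app _ (c k l))
      - mp ((Adeq.underline A).obj M) (κ₁₃ C k l m) (i.app _ (c k m))
      + mp ((Adeq.underline A).obj M) (κ₂₃ C k l m) (i.app _ (c l m)) = 0 := by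
    intro k l m
    rw [← app_mp, ← app_mp, ← app_mp, ← map_sub, ← map_add, hc k l m, map_zero]
  obtain ⟨x', hx'⟩ := und_fam_H1 C M _ hc'
  -- the images of the `x' k` in `underline N` glue
  have hy : ∀ k l, mp ((Adeq.underline A).obj N) (ι₁ C k l)
      (((Adeq.underline A).map φ).app _ (x' k)) =
      mp ((Adeq.underline A).obj N) (ι₂ C k l) (((Adeq.underline A).map φ).app _ (x' l)) := by
    intro k l
    rw [← app_mp, ← app_mp, ← sub_eq_zero, ← map_sub, ← hx' k l]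
    exact hi.apply _ (c k l)
  obtain ⟨n₀, hn₀⟩ := und_fam_glue C N _ hy
  -- `n₀` comes from `underline M`
  have hπ : ((Adeq.underline A).map (cokernel.π φ)).app _ n₀ = 0 := by
    apply und_fam_inj C (cokernel φ)
    intro k
    rw [← app_mp, hn₀ k, map_zero, ← comp_app_apply, ← Functor.map_comp, cokernel.condition,
      Functor.map_zero]
    rfl
  obtain ⟨m₀, hm₀⟩ := underline_rightExact φ _ n₀ hπ
  -- corrected cochain
  have hker : ∀ k, ((Adeq.underline A).map φ).app _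
      (x' k - mp ((Adeq.underline A).obj M) (ηk C k) m₀) = 0 := by
    intro k
    rw [map_sub, app_mp, hm₀, hn₀ k, sub_self]
  choose x hx using fun k => hi.ex _ _ (hker k)
  refine ⟨x, fun k l => hi.inj _ ?_⟩
  rw [map_sub, app_mp, app_mp, hx k, hx l, hx' k l, map_sub, map_sub]
  have e : mp ((Adeq.underline A).obj M) (ι₁ C k l) (mp ((Adeq.underline A).obj M) (ηk C k) m₀) =
      mp ((Adeq.underline A).obj M) (ι₂ C k l) (mp ((Adeq.underline A).obj M) (ηk C l) m₀) := by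
    rw [← mp_comp, ← mp_comp, eta_iota C k l]
  rw [e]
  abel

end Groth.Agent.Lib.Helper86.AdeqH1
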