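import Mathlib
import Groth.Prelude.Def_Adeq2
import Groth.Agent.Lib.Helper86.AdeqH1
import Groth.Agent.Lib.Helper86.Adeq2Sheafify
import Groth.Agent.Lib.Helper86.ModLocal
import Groth.Agent.Lib.Helper86.AdeqExtn

open CategoryTheory Limits TensorProduct Opposite AlgebraicGeometry

/-!
# Extensions of adequate modules on the big fppf site are adequate (Stacks 46.5)
-/

namespace Groth.Agent.Lib.Helper86.Adeq2Ext
universe u
open Groth.Agent.Lib.Helper86.AdeqBasic Groth.Agent.Lib.Helper86.AdeqFO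
open Groth.Agent.Lib.Helper86.AdeqChange Groth.Agent.Lib.Helper86.Adeq2Basic
open Groth.Agent.Lib.Helper86.Adeq2Transport Groth.Agent.Lib.Helper86.Adeq2Main
open Groth.Agent.Lib.Helper86.Adeq2Parasitic Groth.Agent.Lib.Helper86.AdeqFFDescentFam
open Groth.Agent.Lib.Helper86.AdeqH1 Groth.Agent.Lib.Helper86.Adeq2Sheafify

section MVFLevel
variable {A : Type u} [CommRing A]
variable {ι : Type*} [Fintype ι] [DecidableEq ι] (C : ι → Type u) [∀ k, CommRing (C k)]
  [∀ k, Algebra A (C k)] [Module.FaithfullyFlat A (∀ k, C k)]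

/-- local lifts along a finite faithfully flat family give a global lift, when the kernel is adequate. -/
theorem exists_lift_of_local {F G H : Adeq.MVF A} {j : F ⟶ G} {p : G ⟶ H} (hk : IsKer j p)
    (hF : Adeq.adequate A F)
    (hG : ∀ y : ∀ k, G.obj (Adeq.pt (Adeq.algOf A (C k))),
      (∀ k l, mp G (ι₁ C k l) (y k) = mp G (ι₂ C k l) (y l)) → ∃ x, ∀ k, mp G (ηk C k) x = y k)
    (hH : ∀ x x' : H.obj (Adeq.pt (Adeq.algOf A A)),
      (∀ k, mp H (ηk C k) x = mp H (ηk C k) x') → x = x')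
    (s : H.obj (Adeq.pt (Adeq.algOf A A)))
    (t : ∀ k, G.obj (Adeq.pt (Adeq.algOf A (C k))))
    (ht : ∀ k, p.app _ (t k) = mp H (ηk C k) s) :
    ∃ t₀, p.app _ t₀ = s := by
  -- the differences on overlaps come from `F`
  have h1 : ∀ k l, p.app _ (mp G (ι₁ C k l) (t k) - mp G (ι₂ C k l) (t l)) = 0 := by
    intro k l
    rw [map_sub, app_mp, app_mp, ht k, ht l, ← mp_comp, ← mp_comp, eta_iota, sub_self]
  choose c hc using fun k l => hk.ex _ _ (h1 k l)
  -- cocycle condition
  have h2 : ∀ k l m, mp F (κ₁₂ C k l m) (c k l) - mp F (κ₁₃ C k l m) (c k m)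
      + mp F (κ₂₃ C k l m) (c l m) = 0 := by
    intro k l m
    apply hk.inj
    rw [map_add, map_sub, app_mp, app_mp, app_mp, hc, hc, hc, map_zero, map_sub, map_sub, map_sub,
      ← mp_comp, ← mp_comp, ← mp_comp, ← mp_comp, ← mp_comp, ← mp_comp,
      ι₁_κ₁₂, ι₂_κ₁₂, ι₂_κ₁₃]
    abel
  obtain ⟨x, hx⟩ := adequate_H1_fam C F hF c h2
  -- corrected local lifts glue
  obtain ⟨t₀, ht₀⟩ := hG (fun k => t k - j.app _ (x k)) (by
    intro k l
    rw [map_sub, map_sub, ← app_mp, ← app_mp, sub_eq_sub_iff_sub_eq_sub, ← hc k l, hx k l, map_sub])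
  refine ⟨t₀, hH _ _ (fun k => ?_)⟩
  rw [← app_mp, ht₀ k, map_sub, hk.apply, sub_zero, ht k]

end MVFLevel

variable {S : Scheme.{u}}

section Glue
variable (K : Precoverage Scheme.{u}) [BigSite.OSh K]

/-- gluing sections of a sheaf of modules along a covering sieve generated by a family with given
fibre products. -/
theorem sheaf_glue_sieve (M : BigSite.Mod K S) {X : Over S} {ι : Type*} (Y : ι → Over S)
    (v : ∀ k, Y k ⟶ X)
    (hcov : Sieve.ofArrows Y v ∈ QuotSh.J K S X)
    (W : ι → ι → Over S) (p1 : ∀ k l, W k l ⟶ Y k) (p0 : ∀ k l, W k l ⟶ Y l)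
    (hpb : ∀ k l, IsPullback (p1 k l).left (p0 k l).left (v k).left (v l).left)
    (y : ∀ k, M.val.obj (op (Y k)))
    (hy : ∀ k l, M.val.map (p1 k l).op (y k) = M.val.map (p0 k l).op (y l)) :
    ∃ x : M.val.obj (op X), ∀ k, M.val.map (v k).op x = y k := by
  have hsh := ((Presheaf.isSheaf_iff_isSheaf_forget _ _ (forget AddCommGrpCat)).1 M.isSheaf)
  have hsh' := (isSheaf_iff_isSheaf_of_type _ _).1 hsh
  have h0 : (Presieve.ofArrows Y v).IsSheafFor (M.val.presheaf ⋙ forget AddCommGrpCat) := by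
    rw [Presieve.isSheafFor_iff_generate]
    exact hsh' _ hcov
  have h := (Presieve.isSheafFor_arrows_iff _ _).1 h0
  have hc : Presieve.Arrows.Compatible (M.val.presheaf ⋙ forget AddCommGrpCat) v y := by
    intro i j Z gi gj hg
    let hl : Z.left ⟶ (W i j).left :=
      (hpb i j).lift gi.left gj.left (congrArg CommaMorphism.left hg)
    have hl1 : hl ≫ (p1 i j).left = gi.left := (hpb i j).lift_fst _ _ _
    have hl0 : hl ≫ (p0 i j).left = gj.left := (hpb i j).lift_snd _ _ _
    let hh : Z ⟶ W i j := Over.homMk hl (by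
      rw [← Over.w (p1 i j), ← Category.assoc, hl1, Over.w])
    have e1 : gi = hh ≫ p1 i j := by
      ext
      exact hl1.symm
    have e0 : gj = hh ≫ p0 i j := by
      ext
      exact hl0.symm
    rw [e1, e0, op_comp, op_comp, Functor.map_comp, Functor.map_comp]
    change (M.val.presheaf ⋙ forget AddCommGrpCat).map hh.op
        ((M.val.presheaf ⋙ forget AddCommGrpCat).map (p1 i j).op (y i)) =
      (M.val.presheaf ⋙ forget AddCommGrpCat).map hh.op
        ((M.val.presheaf ⋙ forget AddCommGrpCat).map (p0 i j).op (y j))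
    congr 1
    exact hy i j
  obtain ⟨t, ht, -⟩ := h y hc
  exact ⟨t, ht⟩

end Glue

/-- the overlaps of the affine family. -/
theorem isPullback_overlap {D : CommRingCat.{u}} (c : Spec D ⟶ S) {ι : Type*} (C : ι → Type u)
    [∀ k, CommRing (C k)] [∀ k, Algebra D (C k)] (k l : ι) :
    IsPullback ((Adeq.specOver c).map (ι₁ (A := D) C k l).op).left
      ((Adeq.specOver c).map (ι₂ (A := D) C k l).op).left
      ((Adeq.specOver c).map (ηk (A := D) C k).op).left
      ((Adeq.specOver c).map (ηk (A := D) C l).op).left :=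
  isPullback_SpecMap_of_isPushout _ _ _ _ (CommRingCat.isPushout_tensorProduct D (C k) (C l))


section Surj
variable (E : ShortComplex (BigSite.Mod KK S)) (hE : E.ShortExact)

include hE in
theorem isKer_toMVF_of_shortExact {R : CommRingCat.{u}} (a : Spec R ⟶ S) :
    IsKer ((Adeq.toMVF KK a).map E.f) ((Adeq.toMVF KK a).map E.g) where
  w := by rw [← Functor.map_comp, E.zero, Functor.map_zero]
  inj X := by
    let U : (Over S)ᵒᵖ := op ((Adeq.specOver a).obj (op X.unop.unop))
    haveI := hE.mono_f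
    haveI : Mono ((SheafOfModules.evaluation (BigSite.ORing KK S) U).map E.f) :=
      inferInstance
    exact (ModuleCat.mono_iff_injective
      ((SheafOfModules.evaluation (BigSite.ORing KK S) U).map E.f)).1 this
  ex X y hy := by
    let U : (Over S)ᵒᵖ := op ((Adeq.specOver a).obj (op X.unop.unop))
    haveI : (SheafOfModules.evaluation (BigSite.ORing KK S) U).PreservesZeroMorphisms :=
      inferInstanceAs ((SheafOfModules.forget _ ⋙
        PresheafOfModules.evaluation _ U).PreservesZeroMorphisms)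
    have h2 := hE.exact.map_of_mono_of_preservesKernel
      (SheafOfModules.evaluation (BigSite.ORing KK S) U) hE.mono_f inferInstance
    rw [ShortComplex.moduleCat_exact_iff] at h2
    exact h2 y hy

variable (h₁ : ∀ (R : CommRingCat.{u}) (a : Spec R ⟶ S),
    Adeq.adequate R ((Adeq.toMVF KK a).obj E.X₁))
  (h₃ : ∀ (R : CommRingCat.{u}) (a : Spec R ⟶ S),
    Adeq.adequate R ((Adeq.toMVF KK a).obj E.X₃))

include hE h₁ h₃ in
/-- `E.g` is surjective on sections over affine objects (special form). -/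
theorem g_surj₀ {D : CommRingCat.{u}} (c : Spec D ⟶ S)
    (s : E.X₃.val.obj (op ((Adeq.specOver c).obj (op (Adeq.algOf D D))))) :
    ∃ t, E.g.val.app _ t = s := by
  haveI := hE.epi_g
  obtain ⟨T, hT, hlift⟩ := Groth.Agent.Lib.Helper86.ModLocal.locally_lift_of_epi E.g
    (op ((Adeq.specOver c).obj (op (Adeq.algOf D D)))) s
  obtain ⟨ι, _, _, C, ψ, hff, hmem, hcov⟩ := exists_finite_affine_refinement c T hT
  letI : ∀ k, Algebra D (C k) := fun k => (ψ k).hom.toAlgebra
  haveI : Module.FaithfullyFlat D (∀ k, C k) := hff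
  choose t₁ ht₁ using fun k => hlift _ (hmem k)
  exact exists_lift_of_local (fun k => (C k : Type u)) (isKer_toMVF_of_shortExact E hE c) (h₁ D c)
    (fun y hy => sheaf_glue_sieve KK E.X₂ _ _ hcov _ _ _
      (fun k l => isPullback_overlap c (fun k => (C k : Type u)) k l) y hy)
    (adequate_ff_descent_fam (fun k => (C k : Type u)) _ (h₃ D c)).1 s t₁ ht₁

include hE h₁ h₃ in
/-- `E.g` is surjective on sections over affine objects. -/
theorem g_surj {D : CommRingCat.{u}} (c : Spec D ⟶ S) (B : Adeq.Alg D)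
    (s : E.X₃.val.obj (op ((Adeq.specOver c).obj (op B)))) : ∃ t, E.g.val.app _ t = s := by
  obtain ⟨τ, rfl⟩ := (trp_bijective E.X₃.val _ _ (self_str_eq c B)).2 s
  obtain ⟨z, rfl⟩ := g_surj₀ E hE h₁ h₃ (D := CommRingCat.of B)
    (Spec.map (CommRingCat.ofHom (algebraMap D B)) ≫ c) τ
  exact ⟨trp E.X₂.val _ _ (self_str_eq c B) z,
    PresheafOfModules.naturality_apply E.g.val (idHom _ _ (self_str_eq c B)).op z⟩

include hE h₁ h₃ in
theorem isSES_toMVF {R : CommRingCat.{u}} (a : Spec R ⟶ S) :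
    IsSES ((Adeq.toMVF KK a).map E.f) ((Adeq.toMVF KK a).map E.g) := by
  have hk := isKer_toMVF_of_shortExact E hE a
  refine ⟨hk.w, hk.inj, hk.ex, ?_⟩
  intro X
  obtain ⟨⟨B⟩⟩ := X
  exact fun s => g_surj E hE h₁ h₃ a B s

end Surj

/-- Stacks 46.5.? : an extension of adequate modules on the big fppf site is adequate. -/
theorem adequateMod_of_shortExact (E : ShortComplex (BigSite.Mod KK S)) (hE : E.ShortExact)
    (h₁ : Adeq.adequateMod KK S E.X₁) (h₃ : Adeq.adequateMod KK S E.X₃) :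
    Adeq.adequateMod KK S E.X₂ := by
  have h₁' := fun (R : CommRingCat.{u}) (a : Spec R ⟶ S) => adequate_toMVF_fppf E.X₁ h₁ R a
  have h₃' := fun (R : CommRingCat.{u}) (a : Spec R ⟶ S) => adequate_toMVF_fppf E.X₃ h₃ R a
  refine ⟨S.affineOpenCover.I₀, S.affineOpenCover.X, S.affineOpenCover.f,
    Scheme.zariskiPrecoverage_le_fppfPrecoverage _ S.affineOpenCover.openCover.mem₀, fun i => ?_⟩
  exact Groth.Agent.Lib.Helper86.AdeqExtn.adequate_of_isSES
    (isSES_toMVF E hE h₁' h₃' (S.affineOpenCover.f i)) (h₁' _ _) (h₃' _ _)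

end Groth.Agent.Lib.Helper86.Adeq2Ext
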