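import Mathlib

open CategoryTheory Limits Opposite

/-!
# The presheaf `T ↦ Σ (t : T ⟶ X), P t` attached to a presheaf on `Over X`, and transfer of sheaf conditions
-/

namespace Groth.Agent.Lib.Helper86.SigmaSheaf
universe w v u

variable {C : Type u} [Category.{v} C] (X : C) (P : (Over X)ᵒᵖ ⥤ Type w)

/-- the identity of `Z`, as a morphism between two structure maps that are equal. -/
def idHom {Z : C} (x y : Z ⟶ X) (h : x = y) : Over.mk y ⟶ Over.mk x :=
  Over.homMk (𝟙 Z) (by simp [h])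

theorem idHom_rfl {Z : C} (x : Z ⟶ X) : idHom X x x rfl = 𝟙 (Over.mk x) := by
  ext
  rfl

variable {X}

theorem over_hom_ext {A B : Over X} (φ ψ : A ⟶ B) (h : φ.left = ψ.left) : φ = ψ :=
  Over.OverMorphism.ext h

theorem map_map_eq {A B D : Over X} (β : B ⟶ A) (α : D ⟶ B) (γ : D ⟶ A) (h : α.left ≫ β.left = γ.left)
    (z : P.obj (op A)) : P.map α.op (P.map β.op z) = P.map γ.op z := by
  rw [← Functor.map_comp_apply, ← op_comp]
  rw [over_hom_ext (α ≫ β) γ h]

theorem map_eq_self {A : Over X} (γ : A ⟶ A) (h : γ.left = 𝟙 _) (z : P.obj (op A)) : P.map γ.op z = z := by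
  have : γ = 𝟙 A := over_hom_ext _ _ h
  rw [this, op_id, Functor.map_id_apply]

/-- equality in the sigma type. -/
theorem sig_ext {Z : C} {t t' : Z ⟶ X} (h : t = t') (x : P.obj (op (Over.mk t)))
    (x' : P.obj (op (Over.mk t'))) (hx : P.map (idHom X t t' h).op x = x') :
    (⟨t, x⟩ : Σ t : Z ⟶ X, P.obj (op (Over.mk t))) = ⟨t', x'⟩ := by
  subst h
  rw [map_eq_self P _ rfl] at hx
  rw [hx]

theorem sig_eq {Z : C} {p q : Σ t : Z ⟶ X, P.obj (op (Over.mk t))} (h : p = q) :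
    ∃ h : p.1 = q.1, P.map (idHom X p.1 q.1 h).op p.2 = q.2 := by
  subst h
  exact ⟨rfl, map_eq_self P _ rfl _⟩

variable (X)

/-- the presheaf `T ↦ Σ (t : T ⟶ X), P (t)` on `C` attached to a presheaf on `Over X`. -/
def sigmaPsh : Cᵒᵖ ⥤ Type (max v w) where
  obj T := Σ t : T.unop ⟶ X, P.obj (op (Over.mk t))
  map {T T'} g := ↾(fun p => ⟨g.unop ≫ p.1,
    P.map (Over.homMk g.unop rfl : Over.mk (g.unop ≫ p.1) ⟶ Over.mk p.1).op p.2⟩)
  map_id T := by
    refine ConcreteCategory.hom_ext _ _ (fun p => ?_)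
    obtain ⟨t, x⟩ := p
    refine sig_ext P (Category.id_comp t) _ _ ?_
    rw [map_map_eq P _ _ (𝟙 _) (by simp [idHom])]
    exact map_eq_self P _ rfl _
  map_comp {T T' T''} g g' := by
    refine ConcreteCategory.hom_ext _ _ (fun p => ?_)
    obtain ⟨t, x⟩ := p
    refine sig_ext P (Category.assoc _ _ _) _ _ ?_
    rw [map_map_eq P _ _ (Over.homMk (g'.unop ≫ g.unop) (by simp)) (by simp [idHom])]
    symm
    exact map_map_eq P (Over.homMk g.unop rfl : Over.mk (g.unop ≫ t) ⟶ Over.mk t)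
      (Over.homMk g'.unop rfl : Over.mk (g'.unop ≫ g.unop ≫ t) ⟶ Over.mk (g.unop ≫ t)) _ rfl x

theorem sigmaPsh_map_fst {T T' : Cᵒᵖ} (g : T ⟶ T') (p : (sigmaPsh X P).obj T) :
    ((sigmaPsh X P).map g p).1 = g.unop ≫ p.1 := rfl

theorem sigmaPsh_map_snd {T T' : Cᵒᵖ} (g : T ⟶ T') (p : (sigmaPsh X P).obj T) :
    ((sigmaPsh X P).map g p).2 =
      P.map (Over.homMk g.unop rfl : Over.mk (g.unop ≫ p.1) ⟶ Over.mk p.1).op p.2 := rfl


variable {X P}

theorem sigmaPsh_map_eq_iff {T Z : C} (g : Z ⟶ T) (p : (sigmaPsh X P).obj (op T)) (q : (sigmaPsh X P).obj (op Z)) :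
    (sigmaPsh X P).map g.op p = q ↔ ∃ h : g ≫ p.1 = q.1,
      P.map (idHom X _ _ h).op (P.map (Over.homMk g rfl : Over.mk (g ≫ p.1) ⟶ Over.mk p.1).op p.2) = q.2 := by
  constructor
  · intro h
    exact sig_eq P h
  · rintro ⟨h, h'⟩
    obtain ⟨q1, q2⟩ := q
    exact sig_ext P h _ _ h'

/-- the presieve on `t : T ⟶ X` of the morphisms whose underlying morphism lies in `R`. -/
def liftPresieve {T : C} (R : Presieve T) (t : T ⟶ X) : Presieve (Over.mk t) := fun _ g' => R g'.left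

theorem map_congr' {A B : Over X} (γ γ' : B ⟶ A) (h : γ.left = γ'.left) (z : P.obj (op A)) :
    P.map γ.op z = P.map γ'.op z := by
  rw [over_hom_ext γ γ' h]

/-- normalise iterated restriction maps of `P` and compare the underlying morphisms. -/
syntax "pmap" ("[" Lean.Parser.Tactic.simpLemma,* "]")? : tactic
macro_rules
  | `(tactic| pmap) =>
    `(tactic| (simp only [← Functor.map_comp_apply, ← op_comp]
               first
               | rfl
               | (apply map_congr'; simp [idHom])))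
  | `(tactic| pmap [$ts,*]) =>
    `(tactic| (simp only [← Functor.map_comp_apply, ← op_comp]
               first
               | rfl
               | (apply map_congr'; simp [idHom, $ts,*])))

/-- the sheaf condition for the sigma presheaf, from the one of `P` and of the representable presheaf. -/
theorem isSheafFor_sigmaPsh {T : C} (R : Presieve T)
    (hY : R.IsSheafFor (yoneda.obj X))
    (hP : ∀ t : T ⟶ X, (liftPresieve R t).IsSheafFor P) :
    R.IsSheafFor (sigmaPsh X P) := by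
  intro x hx
  let x1 : Presieve.FamilyOfElements (yoneda.obj X) R := fun Z g hg => (x g hg).1
  have hx1 : x1.Compatible := by
    intro Y₁ Y₂ Z g₁ g₂ f₁ f₂ h₁ h₂ hc
    have := hx g₁ g₂ h₁ h₂ hc
    exact congrArg Sigma.fst this
  obtain ⟨t, ht, htu⟩ := hY x1 hx1
  have ht' : ∀ {Z : C} (g : Z ⟶ T) (hg : R g), g ≫ t = (x g hg).1 := fun g hg => ht g hg
  have hw : ∀ {Z : Over X} (g' : Z ⟶ Over.mk t) (hg' : R g'.left),
      𝟙 Z.left ≫ (x g'.left hg').1 = Z.hom := by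
    intro Z g' hg'
    rw [Category.id_comp, ← ht' g'.left hg']
    exact Over.w g'
  let y : Presieve.FamilyOfElements P (liftPresieve R t) :=
    fun Z g' hg' => P.map (Over.homMk (𝟙 Z.left) (hw g' hg') : Z ⟶ Over.mk (x g'.left hg').1).op
      (x g'.left hg').2
  have hy : y.Compatible := by
    intro Y₁ Y₂ Z g₁ g₂ f₁ f₂ h₁ h₂ hc
    have h3 := hx g₁.left g₂.left h₁ h₂ (congrArg CommaMorphism.left hc)
    obtain ⟨e, h4⟩ := sig_eq P h3
    replace e : g₁.left ≫ (x f₁.left h₁).1 = g₂.left ≫ (x f₂.left h₂).1 := e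
    replace h4 : P.map (idHom X _ _ e).op (P.map (Over.homMk g₁.left rfl :
        Over.mk (g₁.left ≫ (x f₁.left h₁).1) ⟶ Over.mk (x f₁.left h₁).1).op (x f₁.left h₁).2) =
        P.map (Over.homMk g₂.left rfl :
        Over.mk (g₂.left ≫ (x f₂.left h₂).1) ⟶ Over.mk (x f₂.left h₂).1).op (x f₂.left h₂).2 := h4
    have e' : 𝟙 Z.left ≫ (g₂.left ≫ (x f₂.left h₂).1) = Z.hom := by
      rw [Category.id_comp, ← ht' f₂.left h₂, ← Category.assoc]
      exact Over.w (g₂ ≫ f₂)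
    obtain ⟨ε, hε⟩ : ∃ ε : Z ⟶ Over.mk (g₂.left ≫ (x f₂.left h₂).1), ε.left = 𝟙 _ :=
      ⟨Over.homMk (𝟙 Z.left) e', rfl⟩
    have h5 := congrArg (P.map ε.op) h4
    have L : P.map g₁.op (y f₁ h₁) = P.map ε.op (P.map (idHom X _ _ e).op
        (P.map (Over.homMk g₁.left rfl :
        Over.mk (g₁.left ≫ (x f₁.left h₁).1) ⟶ Over.mk (x f₁.left h₁).1).op (x f₁.left h₁).2)) := by
      dsimp only [y]
      pmap [hε]
    have R' : P.map g₂.op (y f₂ h₂) = P.map ε.op (P.map (Over.homMk g₂.left rfl :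
        Over.mk (g₂.left ≫ (x f₂.left h₂).1) ⟶ Over.mk (x f₂.left h₂).1).op (x f₂.left h₂).2) := by
      dsimp only [y]
      pmap [hε]
    rw [L, R']
    exact h5
  obtain ⟨y₀, hy₀, hyu⟩ := hP t y hy
  refine ⟨⟨t, y₀⟩, ?_, ?_⟩
  · intro Z g hg
    refine (sigmaPsh_map_eq_iff g _ _).2 ⟨ht' g hg, ?_⟩
    have h6 := hy₀ (Over.homMk g rfl : Over.mk (g ≫ t) ⟶ Over.mk t) hg
    rw [h6]
    dsimp only [y]
    refine Eq.trans ?_ (map_eq_self P (𝟙 _) rfl _)
    pmap
  · rintro ⟨t', y'⟩ hty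
    have e : t' = t := by
      apply htu
      intro Z g hg
      exact congrArg Sigma.fst (hty g hg)
    subst e
    have : y' = y₀ := by
      apply hyu
      intro Z g' hg'
      have h7 := hty g'.left hg'
      obtain ⟨e1, h8⟩ := (sigmaPsh_map_eq_iff _ _ _).1 h7
      dsimp only [y]
      rw [← h8]
      pmap
    rw [this]


/-- the sheaf condition for `P`, from the one of the sigma presheaf. -/
theorem isSheafFor_of_sigmaPsh {Y : Over X} (R' : Sieve Y)
    (h1 : (Sieve.overEquiv Y R').arrows.IsSheafFor (sigmaPsh X P))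
    (h2 : (Sieve.overEquiv Y R').arrows.IsSeparatedFor (yoneda.obj X)) :
    R'.arrows.IsSheafFor P := by
  have hmem : ∀ {Z : C} (g : Z ⟶ Y.left), Sieve.overEquiv Y R' g →
      R' (Over.homMk g : Over.mk (g ≫ Y.hom) ⟶ Y) := fun g hg => (Sieve.overEquiv_iff _ _).1 hg
  have hmem' : ∀ {Z : Over X} (f : Z ⟶ Y), R' f → Sieve.overEquiv Y R' f.left := by
    intro Z f hf
    rw [Sieve.overEquiv_iff]
    have : (Over.homMk f.left : Over.mk (f.left ≫ Y.hom) ⟶ Y) =
        (Over.homMk (𝟙 _) (by simp) : Over.mk (f.left ≫ Y.hom) ⟶ Z) ≫ f := by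
      apply over_hom_ext
      simp
    rw [this]
    exact R'.downward_closed hf _
  refine Presieve.IsSeparatedFor.isSheafFor ?_ ?_
  · intro y y₁ y₂ hy₁ hy₂
    have h3 : (⟨Y.hom, y₁⟩ : (sigmaPsh X P).obj (op Y.left)) = ⟨Y.hom, y₂⟩ := by
      apply h1.isSeparatedFor.ext
      intro Z g hg
      refine (sigmaPsh_map_eq_iff g _ _).2 ⟨rfl, ?_⟩
      refine (map_eq_self P _ rfl _).trans ?_
      change P.map (Over.homMk g : Over.mk (g ≫ Y.hom) ⟶ Y).op y₁ =
        P.map (Over.homMk g : Over.mk (g ≫ Y.hom) ⟶ Y).op y₂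
      rw [hy₁ _ (hmem g hg), hy₂ _ (hmem g hg)]
    obtain ⟨e0, h4⟩ := sig_eq P h3
    exact ((map_eq_self P _ rfl _).symm.trans h4 : y₁ = y₂)
  · intro y hy
    let x : Presieve.FamilyOfElements (sigmaPsh X P) (Sieve.overEquiv Y R').arrows :=
      fun Z g hg => ⟨g ≫ Y.hom, y (Over.homMk g : Over.mk (g ≫ Y.hom) ⟶ Y) (hmem g hg)⟩
    have hx : x.Compatible := by
      intro Y₁ Y₂ Z g₁ g₂ f₁ f₂ h₁ h₂ hc
      have e : g₁ ≫ f₁ ≫ Y.hom = g₂ ≫ f₂ ≫ Y.hom := by
        rw [← Category.assoc, hc, Category.assoc]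
      refine (sigmaPsh_map_eq_iff g₁ _ _).2 ⟨e, ?_⟩
      have h5 := hy (idHom X _ _ e ≫ (Over.homMk g₁ rfl : Over.mk (g₁ ≫ f₁ ≫ Y.hom) ⟶ Over.mk (f₁ ≫ Y.hom)))
        (Over.homMk g₂ rfl : Over.mk (g₂ ≫ f₂ ≫ Y.hom) ⟶ Over.mk (f₂ ≫ Y.hom))
        (hmem f₁ h₁) (hmem f₂ h₂) (by
          apply over_hom_ext
          simpa [idHom] using hc)
      refine Eq.trans ?_ h5
      dsimp only [x]
      pmap
    obtain ⟨⟨t', y₀⟩, hy₀, -⟩ := h1 x hx
    have e : t' = Y.hom := by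
      apply h2.ext
      intro Z g hg
      exact congrArg Sigma.fst (hy₀ g hg)
    subst e
    refine ⟨y₀, ?_⟩
    intro Z f hf
    obtain ⟨e1, h6⟩ := (sigmaPsh_map_eq_iff _ _ _).1 (hy₀ f.left (hmem' f hf))
    have h7 := hy (𝟙 Z) (Over.homMk (𝟙 _) (by simp) : Z ⟶ Over.mk (f.left ≫ Y.hom)) hf
      (hmem f.left (hmem' f hf)) (by
        apply over_hom_ext
        simp)
    rw [op_id, Functor.map_id_apply] at h7
    rw [h7]
    dsimp only [x] at h6
    rw [← h6]
    pmap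

end Groth.Agent.Lib.Helper86.SigmaSheaf
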