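import Mathlib
import Groth.Prelude.Def_Adeq2
import Groth.Agent.Lib.Helper86.SigmaSheaf
import Groth.Agent.Lib.Helper86.Adeq2Main
import Groth.Agent.Lib.Helper86.AdeqFFDescent

open CategoryTheory Limits TensorProduct Opposite AlgebraicGeometry

/-!
# Adequate modules are sheaves for the fpqc topology (Stacks 46.5), via Mathlib's criterion for the
quasi-compact topologies applied to the sigma presheaf
-/

namespace Groth.Agent.Lib.Helper86.Adeq2Fpqc
universe u
open Groth.Agent.Lib.Helper86.SigmaSheaf
open Groth.Agent.Lib.Helper86.AdeqBasic Groth.Agent.Lib.Helper86.AdeqFO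

section General
variable {C : Type*} [Category C] {X : C}

theorem liftPresieve_singleton {T Z : C} (g : Z ⟶ T) (t : T ⟶ X) :
    liftPresieve (Presieve.singleton g) t =
      Presieve.singleton (Over.homMk g rfl : Over.mk (g ≫ t) ⟶ Over.mk t) := by
  funext W g'
  apply propext
  constructor
  · intro h
    obtain ⟨W, fW, rfl⟩ := W.mk_surjective
    obtain ⟨g'' : W ⟶ T, rfl : g'' ≫ t = fW, rfl⟩ := Over.homMk_surjective g'
    change Presieve.singleton g g'' at h
    cases h
    exact Presieve.singleton.mk
  · rintro ⟨⟩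
    exact Presieve.singleton.mk

theorem over_mono {J J' : GrothendieckTopology C} (h : J ≤ J') (X : C) : J.over X ≤ J'.over X := by
  intro Y R hR
  rw [GrothendieckTopology.mem_over_iff] at hR ⊢
  exact h _ hR

end General

set_option backward.isDefEq.respectTransparency.types false in
/-- a presheaf of types on schemes over `S` which is a Zariski sheaf and satisfies the sheaf condition for
faithfully flat maps of affine schemes over `S` is an fpqc sheaf. -/
theorem isSheaf_fpqc_over (S : Scheme.{u}) (P : (Over S)ᵒᵖ ⥤ Type (u+1))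
    (hzar : Presieve.IsSheaf (Scheme.zariskiTopology.over S) P)
    (hff : ∀ {R R' : CommRingCat.{u}} (f : R ⟶ R') (t : Spec R ⟶ S), Flat (Spec.map f) →
      Surjective (Spec.map f) → Presieve.IsSheafFor P
        (Presieve.singleton (Over.homMk (Spec.map f) rfl : Over.mk (Spec.map f ≫ t) ⟶ Over.mk t))) :
    Presieve.IsSheaf (Scheme.fpqcTopology.over S) P := by
  have hP' : Presieve.IsSheaf (Scheme.propQCTopology @Flat) (sigmaPsh S P) := by
    refine (isSheaf_type_propQCTopology_iff (P := @Flat) (sigmaPsh S P)).2 ⟨?_, ?_⟩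
    · intro T R hR
      apply isSheafFor_sigmaPsh
      · exact GrothendieckTopology.Subcanonical.isSheaf_of_isRepresentable (J := Scheme.zariskiTopology) _ _ hR
      · intro t
        exact hzar _ (GrothendieckTopology.overEquiv_symm_mem_over _ (Over.mk t) R hR)
    · intro R R' f hf hs
      apply isSheafFor_sigmaPsh
      · have := hf
        have := hs
        exact (GrothendieckTopology.Subcanonical.isSheaf_of_isRepresentable (J := Scheme.fpqcTopology) _).isSheafFor _
          (Precoverage.generate_mem_toGrothendieck (Spec.map f).singleton_mem_fpqcPrecoverage)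
      · intro t
        rw [liftPresieve_singleton]
        exact hff f t hf hs
  intro Y R' hR'
  rw [GrothendieckTopology.mem_over_iff] at hR'
  apply isSheafFor_of_sigmaPsh
  · exact hP' _ hR'
  · exact (GrothendieckTopology.Subcanonical.isSheaf_of_isRepresentable (J := Scheme.fpqcTopology) _ _ hR').isSeparatedFor


section Module
open Groth.Agent.Lib.Helper86.AdeqFFDescent
variable (K : Precoverage Scheme.{u}) [BigSite.OSh K] {S : Scheme.{u}} (M : BigSite.Mod K S)

/-- the presheaf of types underlying a module. -/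
noncomputable abbrev tyPsh : (Over S)ᵒᵖ ⥤ Type (u+1) := M.val.presheaf ⋙ forget AddCommGrpCat

theorem isSheafFor_singleton_of_adequate {R R' : CommRingCat.{u}} (f : R ⟶ R') (t : Spec R ⟶ S)
    (hf : Flat (Spec.map f)) (hs : Surjective (Spec.map f))
    (hadq : Adeq.adequate R ((Adeq.toMVF K t).obj M)) :
    Presieve.IsSheafFor (tyPsh K M)
      (Presieve.singleton (Over.homMk (Spec.map f) rfl : Over.mk (Spec.map f ≫ t) ⟶ Over.mk t)) := by
  letI : Algebra R R' := f.hom.toAlgebra
  haveI : Module.FaithfullyFlat R R' := (flat_and_surjective_SpecMap_iff f).1 ⟨hf, hs⟩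
  obtain ⟨hinj, hex⟩ := adequate_ff_descent (A := R) R' _ hadq
  have h0 : Spec.map (CommRingCat.ofHom (algebraMap R (Adeq.algOf R R))) ≫ t = t :=
    (congrArg (· ≫ t) (Spec.map_id R)).trans (Category.id_comp t)
  let g₀ : Over.mk (Spec.map f ≫ t) ⟶ Over.mk t := Over.homMk (Spec.map f) rfl
  let e₀ : (Adeq.specOver t).obj (op (Adeq.algOf R R')) ⟶ Over.mk t := g₀
  have hl : ((Adeq.specOver t).map (η (A := R) R').op).left = Spec.map f := rfl
  rw [Presieve.isSheafFor_singleton]
  intro x hx
  have h1 := hx ((Adeq.specOver t).map (ι₁ (A := R) R').op) ((Adeq.specOver t).map (ι₂ (A := R) R').op) (by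
    apply over_hom_ext
    change Spec.map _ ≫ Spec.map f = Spec.map _ ≫ Spec.map f
    rw [← Spec.map_comp, ← Spec.map_comp]
    congr 1
    ext r
    exact ((ι₁ (A := R) R').hom.commutes r).trans ((ι₂ (A := R) R').hom.commutes r).symm)
  obtain ⟨y₀, hy₀⟩ := hex x h1
  refine ⟨(tyPsh K M).map (idHom S _ _ h0).op y₀, ?_, ?_⟩
  · refine Eq.trans ?_ hy₀
    exact map_map_eq (tyPsh K M) (idHom S _ _ h0) e₀ ((Adeq.specOver t).map (η (A := R) R').op)
      (by rw [hl]; exact Category.comp_id _) y₀
  · intro y' hy'
    have h2 : (tyPsh K M).map (idHom S _ _ h0.symm).op y' = y₀ := by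
      apply hinj
      refine Eq.trans ?_ hy₀.symm
      rw [← hy']
      exact map_map_eq (tyPsh K M) (idHom S _ _ h0.symm) ((Adeq.specOver t).map (η (A := R) R').op) e₀
        (by rw [hl]; exact Category.comp_id _) y'
    rw [← h2]
    refine ((map_eq_self (tyPsh K M) (𝟙 _) rfl y').symm.trans ?_)
    exact (map_map_eq (tyPsh K M) (idHom S _ _ h0.symm) (idHom S _ _ h0) (𝟙 _) (Category.comp_id _) y').symm

/-- an adequate module is a sheaf for the fpqc topology. -/
theorem isSheaf_fpqc_of_adequate (hK : Scheme.zariskiPrecoverage.{u} ≤ K)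
    (hadq : ∀ (R : CommRingCat.{u}) (t : Spec R ⟶ S), Adeq.adequate R ((Adeq.toMVF K t).obj M)) :
    Presheaf.IsSheaf (QuotSh.J Scheme.fpqcPrecoverage S) ((BigSite.toAbMod K S).obj M).obj := by
  rw [Presheaf.isSheaf_iff_isSheaf_forget _ _ (forget AddCommGrpCat), isSheaf_iff_isSheaf_of_type]
  apply isSheaf_fpqc_over S (tyPsh K M)
  · have hsh := ((Presheaf.isSheaf_iff_isSheaf_forget _ _ (forget AddCommGrpCat)).1 M.isSheaf)
    have hsh' := (isSheaf_iff_isSheaf_of_type _ _).1 hsh
    exact Presieve.isSheaf_of_le _ (over_mono (Precoverage.toGrothendieck_mono hK) S) hsh'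
  · intro R R' f t hf hs
    exact isSheafFor_singleton_of_adequate K M f t hf hs (hadq R t)

end Module

end Groth.Agent.Lib.Helper86.Adeq2Fpqc
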