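import Mathlib
import Groth.Prelude.Def_Adeq2
import Groth.Agent.Lib.Helper86.Adeq2Sheafify
import Groth.Agent.Lib.Helper86.AdeqFlat

open CategoryTheory Limits TensorProduct Opposite AlgebraicGeometry

/-!
# Characterisations of parasitic adequate modules (Stacks 46.8)
-/

namespace Groth.Agent.Lib.Helper86.Adeq2ParasiticTFAE
universe u
open Groth.Agent.Lib.Helper86.AdeqBasic Groth.Agent.Lib.Helper86.AdeqFO
open Groth.Agent.Lib.Helper86.AdeqChange Groth.Agent.Lib.Helper86.Adeq2Basic
open Groth.Agent.Lib.Helper86.Adeq2Transport Groth.Agent.Lib.Helper86.Adeq2Main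
open Groth.Agent.Lib.Helper86.Adeq2Parasitic Groth.Agent.Lib.Helper86.AdeqFFDescentFam
open Groth.Agent.Lib.Helper86.Adeq2Sheafify Groth.Agent.Lib.Helper86.AdeqFlat

theorem subsingleton_extendScalars {B B' : Type u} [CommRing B] [CommRing B'] (f : B →+* B')
    (N : ModuleCat.{u+1} B) [Subsingleton N] :
    Subsingleton ((ModuleCat.extendScalars.{u, u, u+1} f).obj N) := by
  letI : Algebra B B' := f.toAlgebra
  refine ⟨fun x y => ?_⟩
  suffices H : ∀ z : (ModuleCat.extendScalars.{u, u, u+1} f).obj N, z = 0 by rw [H x, H y]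
  intro z
  induction z using TensorProduct.induction_on with
  | zero => rfl
  | tmul s n =>
    rw [Subsingleton.elim n 0, TensorProduct.tmul_zero]
    rfl
  | add a b ha hb =>
    rw [ha, hb]
    exact add_zero _

section MVFLevel
variable {A : Type u} [CommRing A]

/-- the values of an adequate functor at flat algebras over `B₀` vanish if the value at `B₀` does. -/
theorem subsingleton_of_flat (F : Adeq.MVF A) (hF : Adeq.adequate A F) {B₀ B : Adeq.Alg A}
    (f : B₀ ⟶ B) (hf : f.hom.toRingHom.Flat) (h : Subsingleton (F.obj (Adeq.pt B₀))) :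
    Subsingleton (F.obj (Adeq.pt B)) := by
  haveI := isIso_bc_of_adequate_flat f F hF hf
  have hb := (ConcreteCategory.isIso_iff_bijective (F.bc f)).1 inferInstance
  haveI := subsingleton_extendScalars f.hom.toRingHom (F.obj (Adeq.pt B₀))
  exact hb.2.subsingleton

end MVFLevel

variable {S : Scheme.{u}} (M : BigSite.Mod KK S)

theorem subsingleton_of_iso {X Y : Over S} (e : X ≅ Y) (h : Subsingleton (M.val.obj (op X))) :
    Subsingleton (M.val.obj (op Y)) := by
  refine ⟨fun x y => ?_⟩
  have h1 := congrArg (M.val.map e.inv.op) (Subsingleton.elim (α := M.val.obj (op X)) (M.val.map e.hom.op x) (M.val.map e.hom.op y))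
  rw [pm_comp, pm_comp, e.inv_hom_id] at h1
  change M.val.map (𝟙 (op Y)) x = M.val.map (𝟙 (op Y)) y at h1
  rw [M.val.map_id] at h1
  exact h1

theorem subsingleton_of_eq {Z : Scheme.{u}} (x y : Z ⟶ S) (h : x = y)
    (hx : Subsingleton (M.val.obj (op (Over.mk x)))) : Subsingleton (M.val.obj (op (Over.mk y))) := by
  subst h
  exact hx


/-- an adequate module whose sections over the members of an affine open covering vanish is parasitic. -/
theorem parasitic_of_affine_cover (hM : Adeq.adequateMod KK S M) {ι : Type u} (U : ι → S.Opens)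
    (hU : ∀ i, IsAffineOpen (U i)) (hsup : (⨆ i, U i) = ⊤)
    (h0 : ∀ i, Subsingleton (BigSite.sectMod KK M ((BigSite.zarIncl S).obj (U i)))) :
    Adeq.parasitic KK S M := by
  intro V hV
  haveI : Flat V.hom := hV
  haveI := hasIsos_fppf.{u}
  -- affine charts
  let R : ι → CommRingCat.{u} := fun i => Γ(S, U i)
  let a : ∀ i, Spec (R i) ⟶ S := fun i => (hU i).fromSpec
  have ha0 : ∀ i, Subsingleton (M.val.obj (op (Over.mk (a i)))) := by
    intro i
    refine subsingleton_of_iso M (X := (BigSite.zarIncl S).obj (U i))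
      (Over.isoMk (hU i).isoSpec ?_) (h0 i)
    change (hU i).isoSpec.hom ≫ (hU i).fromSpec = (U i).ι
    rw [← IsAffineOpen.isoSpec_inv_ι, Iso.hom_inv_id_assoc]
  have hcov0 : Presieve.ofArrows (fun i => Spec (R i)) a ∈ Scheme.zariskiPrecoverage.coverings S := by
    rw [Scheme.ofArrows_mem_precoverage_iff]
    refine ⟨fun x => ?_, fun i => inferInstance⟩
    have hx : x ∈ ((⨆ i, U i : S.Opens) : Set S) := by
      rw [hsup]
      trivial
    rw [TopologicalSpace.Opens.coe_iSup, Set.mem_iUnion] at hx
    obtain ⟨i, hi⟩ := hx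
    refine ⟨i, ?_⟩
    rw [(hU i).range_fromSpec]
    exact hi
  have hcov1 : Presieve.ofArrows (fun i => pullback V.hom (a i)) (fun i => pullback.fst V.hom (a i)) ∈
      Scheme.zariskiPrecoverage.coverings V.left :=
    Precoverage.mem_coverings_of_isPullback a hcov0 V.hom _ (fun i => pullback.snd V.hom (a i))
      (fun i => IsPullback.of_hasPullback V.hom (a i))
  have hcov2 := Scheme.zariskiPrecoverage_le_fppfPrecoverage _
    (Precoverage.comp_mem_coverings (fun i => pullback.fst V.hom (a i)) hcov1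
      (fun i j => (pullback V.hom (a i)).affineOpenCover.f j)
      (fun i => (pullback V.hom (a i)).affineOpenCover.openCover.mem₀))
  refine ⟨fun s s' => ?_⟩
  suffices H : ∀ s : BigSite.sectMod KK M V, s = 0 by rw [H s, H s']
  intro s
  refine eq_zero_of_cover KK M V s _ hcov2 (fun W g hg => ?_)
  obtain ⟨p⟩ := hg
  obtain ⟨i, j⟩ := p
  suffices hsub : Subsingleton (M.val.obj (op (Over.mk
      (((pullback V.hom (a i)).affineOpenCover.f j ≫ pullback.fst V.hom (a i)) ≫ V.hom)))) from
    Subsingleton.elim (h := hsub) _ _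
  let q : Spec ((pullback V.hom (a i)).affineOpenCover.X j) ⟶ Spec (R i) :=
    (pullback V.hom (a i)).affineOpenCover.f j ≫ pullback.snd V.hom (a i)
  have hq : Flat q := inferInstance
  let ψ : R i ⟶ (pullback V.hom (a i)).affineOpenCover.X j := Spec.preimage q
  have hψ : Spec.map ψ = q := Spec.map_preimage _
  have hψf : ψ.hom.Flat := by
    rw [← Flat.SpecMap_iff, hψ]
    exact hq
  letI : Algebra (R i) ((pullback V.hom (a i)).affineOpenCover.X j) := ψ.hom.toAlgebra
  let f : Adeq.algOf (R i) (R i) ⟶ Adeq.algOf (R i) ((pullback V.hom (a i)).affineOpenCover.X j) :=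
    CommAlgCat.ofHom (Algebra.ofId (R i) ((pullback V.hom (a i)).affineOpenCover.X j))
  have hf : f.hom.toRingHom.Flat := hψf
  have hF := adequate_toMVF_fppf M hM (R i) (a i)
  have h1 : Subsingleton (((Adeq.toMVF KK (a i)).obj M).obj (Adeq.pt (Adeq.algOf (R i) (R i)))) := by
    refine subsingleton_of_eq M (a i) _ ?_ (ha0 i)
    have : CommRingCat.ofHom (algebraMap (R i) (R i)) = 𝟙 _ := rfl
    rw [this, Spec.map_id, Category.id_comp]
  have h2 := subsingleton_of_flat _ hF f hf h1
  refine subsingleton_of_eq M _ _ ?_ h2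
  change Spec.map ψ ≫ a i = _
  rw [hψ, Category.assoc, Category.assoc, pullback.condition]

end Groth.Agent.Lib.Helper86.Adeq2ParasiticTFAE
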