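import Mathlib
import Groth.Prelude.Def_Adeq
import Groth.Agent.Lib.Helper86.AdeqDescentFam

open CategoryTheory Limits TensorProduct Opposite

/-!
# Equalizers of finite products of adequate functors are adequate
-/

namespace Groth.Agent.Lib.Helper86.AdeqEqualizer
universe u
variable {A : Type u} [CommRing A]

open Groth.Agent.Lib.Helper86.AdeqBasic Groth.Agent.Lib.Helper86.AdeqFO
open Groth.Agent.Lib.Helper86.AdeqClosure Groth.Agent.Lib.Helper86.AdeqChange
open Groth.Agent.Lib.Helper86.AdeqDescent Groth.Agent.Lib.Helper86.AdeqDescentFam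

/-- a functor which is the equalizer of two maps between finite products of adequate functors is adequate. -/
theorem adequate_of_equalizer_family {ι κ : Type u} [Finite ι] [Finite κ] (F : Adeq.MVF A)
    (G : ι → Adeq.MVF A) (H : κ → Adeq.MVF A) (hG : ∀ k, Adeq.adequate A (G k))
    (hH : ∀ p, Adeq.adequate A (H p)) (src tgt : κ → ι)
    (u : ∀ k, F ⟶ G k) (d0 : ∀ p, G (src p) ⟶ H p) (d1 : ∀ p, G (tgt p) ⟶ H p)
    (hw : ∀ p, u (src p) ≫ d0 p = u (tgt p) ≫ d1 p)
    (hinj : ∀ (X) (x y : F.obj X), (∀ k, (u k).app X x = (u k).app X y) → x = y)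
    (hex : ∀ (X) (y : ∀ k, (G k).obj X), (∀ p, (d0 p).app X (y (src p)) = (d1 p).app X (y (tgt p))) →
      ∃ x : F.obj X, ∀ k, (u k).app X x = y k) :
    Adeq.adequate A F := by
  have hG' : Adeq.adequate A (∏ᶜ G) := (Adeq.adequate A).prop_product hG
  have hH' : Adeq.adequate A (∏ᶜ H) := (Adeq.adequate A).prop_product hH
  let uu : F ⟶ ∏ᶜ G := Pi.lift u
  let D0 : ∏ᶜ G ⟶ ∏ᶜ H := Pi.lift (fun p => Pi.π G (src p) ≫ d0 p)
  let D1 : ∏ᶜ G ⟶ ∏ᶜ H := Pi.lift (fun p => Pi.π G (tgt p) ≫ d1 p)
  have hπu : ∀ k, uu ≫ Pi.π G k = u k := fun k => Pi.lift_π _ k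
  have hπ0 : ∀ p, D0 ≫ Pi.π H p = Pi.π G (src p) ≫ d0 p := fun p => Pi.lift_π _ p
  have hπ1 : ∀ p, D1 ≫ Pi.π H p = Pi.π G (tgt p) ≫ d1 p := fun p => Pi.lift_π _ p
  have hker : IsKer uu (D0 - D1) := by
    refine ⟨?_, ?_, ?_⟩
    · rw [Preadditive.comp_sub, sub_eq_zero]
      apply Pi.hom_ext
      intro p
      rw [Category.assoc, Category.assoc, hπ0, hπ1, ← Category.assoc, ← Category.assoc, hπu, hπu]
      exact hw p
    · intro X x y hxy
      apply hinj
      intro k
      have := congrArg (fun z => (Pi.π G k).app X z) hxy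
      dsimp only at this
      rw [← comp_app_apply, ← comp_app_apply, hπu] at this
      exact this
    · intro X y hy
      rw [PresheafOfModules.sub_app] at hy
      change D0.app X y - D1.app X y = 0 at hy
      rw [sub_eq_zero] at hy
      obtain ⟨x, hx⟩ := hex X (fun k => (Pi.π G k).app X y) (by
        intro p
        have h3 := congrArg (fun z => (Pi.π H p).app X z) hy
        dsimp only at h3
        rw [← comp_app_apply, ← comp_app_apply, hπ0, hπ1, comp_app_apply, comp_app_apply] at h3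
        exact h3)
      refine ⟨x, ?_⟩
      apply pi_ext
      intro k
      rw [← comp_app_apply, hπu]
      exact hx k
  exact (Adeq.adequate A).prop_of_iso hker.iso.symm (adequate_kernel _ hG' hH')

end Groth.Agent.Lib.Helper86.AdeqEqualizer
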