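import Mathlib
import Groth.Prelude.Def_Adeq2
import Groth.Agent.Lib.Helper86.Adeq2Main
import Groth.Agent.Lib.Helper86.AdeqEqualizer

open CategoryTheory Limits TensorProduct Opposite AlgebraicGeometry

/-!
# Pushforward of adequate modules along quasi-compact quasi-separated morphisms (Stacks 46.5):
`F_{f_* M, R}` is the equalizer of maps between finite products of pushes of the functors `F_{M, C}` attached to
the members of a finite affine covering of `Spec R ×_S T` and of its double overlaps.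
-/

namespace Groth.Agent.Lib.Helper86.Adeq2Push
universe u
open Groth.Agent.Lib.Helper86.AdeqBasic Groth.Agent.Lib.Helper86.AdeqFO
open Groth.Agent.Lib.Helper86.AdeqChange Groth.Agent.Lib.Helper86.Adeq2Basic
open Groth.Agent.Lib.Helper86.AdeqDescent
open Groth.Agent.Lib.Helper86.Adeq2Transport Groth.Agent.Lib.Helper86.Adeq2Main

variable (K : Precoverage Scheme.{u}) [BigSite.OSh K] {S T : Scheme.{u}} (f : T ⟶ S)
variable (M : BigSite.Mod K T) {R : CommRingCat.{u}} (a : Spec R ⟶ S)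

/-- the object `Spec B ×_S T → T`. -/
noncomputable abbrev XB (B : Adeq.Alg R) : Over T := (Over.pullback f).obj ((Adeq.specOver a).obj (op B))

/-- the functor `F_{f_* M, R}`. -/
noncomputable abbrev FF : Adeq.MVF R := (Adeq.toMVF K a).obj ((BigSite.pushMod K f).obj M)

theorem FF_smul (B : Adeq.Alg R) (b : B) (x : (FF K f M a).obj (Adeq.pt B)) :
    b • x = (show (BigSite.ORing K T).obj.obj (op (XB f a B)) from
      (BigSite.gammaPre.map (pullback.fst ((Adeq.specOver a).obj (op B)).hom f).op (Adeq.toSect K a B b))) •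
      (show M.val.obj (op (XB f a B)) from x) := rfl

theorem FF_mp {B B' : Adeq.Alg R} (h : B ⟶ B') (x : (FF K f M a).obj (Adeq.pt B)) :
    mp (FF K f M a) h x = M.val.map ((Over.pullback f).map ((Adeq.specOver a).map h.op)).op x := rfl

section Gen
variable {C : Type*} [Category C] [HasPullbacks C]

theorem pb_map_fst {X Y : C} (f : X ⟶ Y) {U V : Over Y} (g : U ⟶ V) :
    ((Over.pullback f).map g).left ≫ pullback.fst V.hom f = pullback.fst U.hom f ≫ g.left :=
  pullback.lift_fst _ _ _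

theorem pb_map_snd {X Y : C} (f : X ⟶ Y) {U V : Over Y} (g : U ⟶ V) :
    ((Over.pullback f).map g).left ≫ pullback.snd V.hom f = pullback.snd U.hom f :=
  pullback.lift_snd _ _ _

end Gen

section Semilinear
variable {C : CommRingCat.{u}} (b : Spec C ⟶ T)

/-- compatibility of `toSect` with maps of spectra. -/
theorem toSect_map {D : CommRingCat.{u}} (e : Spec D ⟶ T) (B' : Adeq.Alg C) (B'' : Adeq.Alg D)
    (φ : CommRingCat.of B' ⟶ CommRingCat.of B'')
    (w : (Adeq.specOver e).obj (op B'') ⟶ (Adeq.specOver b).obj (op B')) (hw : w.left = Spec.map φ) (r : B') :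
    (BigSite.ORing K T).obj.map w.op (Adeq.toSect K b B' r) = Adeq.toSect K e B'' (φ.hom r) := by
  apply ULift.ext
  change ((Scheme.ΓSpecIso (CommRingCat.of B')).inv ≫ w.left.appTop) r =
    (φ ≫ (Scheme.ΓSpecIso (CommRingCat.of B'')).inv) r
  rw [hw, Scheme.ΓSpecIso_inv_naturality]
  rfl

/-- restriction maps between affine objects are semilinear. -/
theorem map_smul_affine {D : CommRingCat.{u}} (e : Spec D ⟶ T) (B' : Adeq.Alg C) (B'' : Adeq.Alg D)
    (φ : CommRingCat.of B' ⟶ CommRingCat.of B'')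
    (w : (Adeq.specOver e).obj (op B'') ⟶ (Adeq.specOver b).obj (op B')) (hw : w.left = Spec.map φ) (r : B')
    (x : ((Adeq.toMVF K b).obj M).obj (Adeq.pt B')) :
    (show ((Adeq.toMVF K e).obj M).obj (Adeq.pt B'') from M.val.map w.op (r • x)) =
      (φ.hom r) • (show ((Adeq.toMVF K e).obj M).obj (Adeq.pt B'') from M.val.map w.op x) := by
  have h1 := M.val.map_smul w.op (Adeq.toSect K b B' r) x
  refine h1.trans ?_
  rw [toSect_map K b e B' B'' φ w hw r]
  rfl

end Semilinear

section Chart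
variable (C : Type u) [CommRing C] [Algebra R C] (b : Spec (CommRingCat.of C) ⟶ T)

/-- `Spec (C ⊗ B) → T`. -/
noncomputable abbrev YB (B : Adeq.Alg R) : Over T := (Adeq.specOver b).obj (op (pB R C B))

theorem YB_hom (B : Adeq.Alg R) : (YB C b B).hom = Spec.map (inclL C B) ≫ b := rfl

/-- the pullback square `Spec (C ⊗ B) = Spec C ×_{Spec R} Spec B`. -/
theorem hpb (B : Adeq.Alg R) :
    IsPullback (Spec.map (inclL C B)) (Spec.map (algHomRing (Adeq.Alg.unit R C B)))
      (Spec.map (CommRingCat.ofHom (algebraMap R C))) (Spec.map (algMapOf B)) :=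
  isPullback_SpecMap_of_isPushout _ _ _ _ (isPushout_unit C B)

variable (hb : b ≫ f = Spec.map (CommRingCat.ofHom (algebraMap R C)) ≫ a)

include hb in
theorem uLeft_cond (B : Adeq.Alg R) :
    Spec.map (algHomRing (Adeq.Alg.unit R C B)) ≫ ((Adeq.specOver a).obj (op B)).hom =
      (YB C b B).hom ≫ f := by
  change Spec.map (algHomRing (Adeq.Alg.unit R C B)) ≫ Spec.map (algMapOf B) ≫ a =
    (Spec.map (inclL C B) ≫ b) ≫ f
  rw [Category.assoc, hb, ← Category.assoc, ← Category.assoc, (hpb C B).w]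

/-- `Spec (C ⊗ B) → Spec B ×_S T`. -/
noncomputable def uLeft (B : Adeq.Alg R) : (YB C b B).left ⟶ (XB f a B).left :=
  pullback.lift (Spec.map (algHomRing (Adeq.Alg.unit R C B))) (YB C b B).hom (uLeft_cond f a C b hb B)

theorem uLeft_fst (B : Adeq.Alg R) :
    uLeft f a C b hb B ≫ pullback.fst ((Adeq.specOver a).obj (op B)).hom f =
      Spec.map (algHomRing (Adeq.Alg.unit R C B)) := pullback.lift_fst _ _ _

theorem uLeft_snd (B : Adeq.Alg R) :
    uLeft f a C b hb B ≫ pullback.snd ((Adeq.specOver a).obj (op B)).hom f = (YB C b B).hom :=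
  pullback.lift_snd _ _ _

/-- the same as a morphism over `T`. -/
noncomputable def uB (B : Adeq.Alg R) : YB C b B ⟶ XB f a B :=
  Over.homMk (uLeft f a C b hb B) (uLeft_snd f a C b hb B)

theorem uB_left (B : Adeq.Alg R) : (uB f a C b hb B).left = uLeft f a C b hb B := rfl

/-- naturality of `uB`. -/
theorem uB_nat {B B' : Adeq.Alg R} (h : B ⟶ B') :
    uB f a C b hb B' ≫ (Over.pullback f).map ((Adeq.specOver a).map h.op) =
      (Adeq.specOver b).map ((Adeq.Alg.baseChange R C).map h).op ≫ uB f a C b hb B := by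
  apply Over.OverMorphism.ext
  rw [Over.comp_left, Over.comp_left, uB_left, uB_left]
  apply pullback.hom_ext
  · rw [Category.assoc, pb_map_fst, ← Category.assoc, uLeft_fst, Category.assoc, uLeft_fst]
    change Spec.map (algHomRing (Adeq.Alg.unit R C B')) ≫ Spec.map (algHomRing h) =
      Spec.map (algHomRing ((Adeq.Alg.restr R C).map ((Adeq.Alg.baseChange R C).map h))) ≫
        Spec.map (algHomRing (Adeq.Alg.unit R C B))
    rw [← Spec.map_comp, ← Spec.map_comp, ← algHomRing_comp, ← algHomRing_comp, unit_nat]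
  · rw [Category.assoc, pb_map_snd, uLeft_snd, Category.assoc, uLeft_snd]
    exact (Over.w ((Adeq.specOver b).map ((Adeq.Alg.baseChange R C).map h).op)).symm

theorem toSect_uB (B : Adeq.Alg R) (r : B) :
    (BigSite.ORing K T).obj.map (uB f a C b hb B).op
      (show (BigSite.ORing K T).obj.obj (op (XB f a B)) from
        (BigSite.gammaPre.map (pullback.fst ((Adeq.specOver a).obj (op B)).hom f).op (Adeq.toSect K a B r))) =
      Adeq.toSect K b (pB R C B) ((Adeq.Alg.unit R C B).hom r) := by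
  apply ULift.ext
  have e1 : ∀ z, (uLeft f a C b hb B).appTop.hom
      ((pullback.fst ((Adeq.specOver a).obj (op B)).hom f).appTop.hom z) =
      (Spec.map (algHomRing (Adeq.Alg.unit R C B))).appTop.hom z := by
    intro z
    rw [← uLeft_fst f a C b hb B]
    rfl
  have e2 := Scheme.ΓSpecIso_inv_naturality (algHomRing (Adeq.Alg.unit R C B))
  exact (e1 _).trans (ConcreteCategory.congr_hom e2 r).symm

theorem uB_smul (B : Adeq.Alg R) (r : B) (x : (FF K f M a).obj (Adeq.pt B)) :
    (show ((Adeq.toMVF K b).obj M).obj (Adeq.pt (pB R C B)) from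
      M.val.map (uB f a C b hb B).op (show M.val.obj (op (XB f a B)) from r • x)) =
    ((Adeq.Alg.unit R C B).hom r) • (show ((Adeq.toMVF K b).obj M).obj (Adeq.pt (pB R C B)) from
      M.val.map (uB f a C b hb B).op (show M.val.obj (op (XB f a B)) from x)) := by
  have h1 := M.val.map_smul (uB f a C b hb B).op
    (show (BigSite.ORing K T).obj.obj (op (XB f a B)) from
      (BigSite.gammaPre.map (pullback.fst ((Adeq.specOver a).obj (op B)).hom f).op (Adeq.toSect K a B r)))
    (show M.val.obj (op (XB f a B)) from x)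
  refine h1.trans ?_
  rw [toSect_uB]
  rfl

/-- the components of the map `F_{f_* M, R} → push F_{M, C}`. -/
noncomputable def uσ (B : Adeq.Alg R) :
    (FF K f M a).obj (Adeq.pt B) →ₗ[B]
      ((Adeq.push R C).obj ((Adeq.toMVF K b).obj M)).obj (Adeq.pt B) where
  toFun x := (toP ((Adeq.toMVF K b).obj M) B).symm (M.val.map (uB f a C b hb B).op x)
  map_add' x y :=
    map_add (M.val.map (uB f a C b hb B).op).hom (show M.val.obj (op (XB f a B)) from x) y
  map_smul' r x := uB_smul K f M a C b hb B r x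

/-- the map `F_{f_* M, R} → push F_{M, C}`. -/
noncomputable def uHom : FF K f M a ⟶ (Adeq.push R C).obj ((Adeq.toMVF K b).obj M) :=
  mkHom (uσ K f M a C b hb) (by
    intro B B' h x
    apply (toP ((Adeq.toMVF K b).obj M) B').injective
    rw [toP_mp]
    change M.val.map (uB f a C b hb B').op (M.val.map ((Over.pullback f).map ((Adeq.specOver a).map h.op)).op x) =
      M.val.map ((Adeq.specOver b).map ((Adeq.Alg.baseChange R C).map h).op).op (M.val.map (uB f a C b hb B).op x)
    have e1 := M.val.map_comp_apply ((Over.pullback f).map ((Adeq.specOver a).map h.op)).op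
      (uB f a C b hb B').op x
    have e2 := M.val.map_comp_apply (uB f a C b hb B).op
      ((Adeq.specOver b).map ((Adeq.Alg.baseChange R C).map h).op).op x
    refine e1.symm.trans (Eq.trans ?_ e2)
    rw [← op_comp, ← op_comp, uB_nat])

theorem uHom_app (B : Adeq.Alg R) (x : (FF K f M a).obj (Adeq.pt B)) :
    toP ((Adeq.toMVF K b).obj M) B ((uHom K f M a C b hb).app (Adeq.pt B) x) =
      M.val.map (uB f a C b hb B).op x := rfl

end Chart

section Overlap
variable (C : Type u) [CommRing C] [Algebra R C] (b : Spec (CommRingCat.of C) ⟶ T)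
variable (D : Type u) [CommRing D] [Algebra R D] (e : Spec (CommRingCat.of D) ⟶ T)
variable (σ : C →ₐ[R] D) (he : Spec.map (CommRingCat.ofHom σ.toRingHom) ≫ b = e)

/-- `σ ⊗ id : C ⊗ B → D ⊗ B`. -/
def tmap (B : Adeq.Alg R) : CommRingCat.of (tB C B) ⟶ CommRingCat.of (tB D B) :=
  CommRingCat.ofHom (Algebra.TensorProduct.map σ (AlgHom.id R B)).toRingHom

theorem inclL_tmap (B : Adeq.Alg R) :
    inclL C B ≫ tmap C D σ B = CommRingCat.ofHom σ.toRingHom ≫ inclL D B := by
  ext x
  change Algebra.TensorProduct.map σ (AlgHom.id R B) (x ⊗ₜ[R] (1 : B)) = σ x ⊗ₜ[R] (1 : B)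
  rw [Algebra.TensorProduct.map_tmul]
  rfl

theorem unit_tmap (B : Adeq.Alg R) :
    algHomRing (Adeq.Alg.unit R C B) ≫ tmap C D σ B = algHomRing (Adeq.Alg.unit R D B) := by
  ext x
  change Algebra.TensorProduct.map σ (AlgHom.id R B) ((1 : C) ⊗ₜ[R] x) = (1 : D) ⊗ₜ[R] x
  rw [Algebra.TensorProduct.map_tmul, map_one]
  rfl

theorem tmap_nat {B B' : Adeq.Alg R} (h : B ⟶ B') :
    tmap C D σ B ≫ algHomRing ((Adeq.Alg.restr R D).map ((Adeq.Alg.baseChange R D).map h)) =
      algHomRing ((Adeq.Alg.restr R C).map ((Adeq.Alg.baseChange R C).map h)) ≫ tmap C D σ B' := by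
  refine CommRingCat.hom_ext (RingHom.ext fun x => ?_)
  change Algebra.TensorProduct.map (AlgHom.id D D) h.hom (Algebra.TensorProduct.map σ (AlgHom.id R B) x) =
    Algebra.TensorProduct.map σ (AlgHom.id R B') (Algebra.TensorProduct.map (AlgHom.id C C) h.hom x)
  induction x using TensorProduct.induction_on with
  | zero => simp
  | add x y hx hy => rw [map_add, map_add, map_add, map_add, hx, hy]
  | tmul c y =>
    rw [Algebra.TensorProduct.map_tmul, Algebra.TensorProduct.map_tmul, Algebra.TensorProduct.map_tmul,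
      Algebra.TensorProduct.map_tmul]
    rfl

include he in
theorem sB_cond (B : Adeq.Alg R) :
    Spec.map (tmap C D σ B) ≫ (YB C b B).hom = (YB D e B).hom := by
  rw [YB_hom, YB_hom, ← Category.assoc, ← Spec.map_comp, inclL_tmap, Spec.map_comp, Category.assoc, he]

/-- `Spec (D ⊗ B) → Spec (C ⊗ B)` over `T`. -/
noncomputable def sB (B : Adeq.Alg R) : YB D e B ⟶ YB C b B :=
  Over.homMk (Spec.map (tmap C D σ B)) (sB_cond C b D e σ he B)

theorem sB_left (B : Adeq.Alg R) : (sB C b D e σ he B).left = Spec.map (tmap C D σ B) := rfl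

theorem sB_nat {B B' : Adeq.Alg R} (h : B ⟶ B') :
    sB C b D e σ he B' ≫ (Adeq.specOver b).map ((Adeq.Alg.baseChange R C).map h).op =
      (Adeq.specOver e).map ((Adeq.Alg.baseChange R D).map h).op ≫ sB C b D e σ he B := by
  apply Over.OverMorphism.ext
  rw [Over.comp_left, Over.comp_left, sB_left, sB_left]
  change Spec.map (tmap C D σ B') ≫
      Spec.map (algHomRing ((Adeq.Alg.restr R C).map ((Adeq.Alg.baseChange R C).map h))) =
    Spec.map (algHomRing ((Adeq.Alg.restr R D).map ((Adeq.Alg.baseChange R D).map h))) ≫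
      Spec.map (tmap C D σ B)
  rw [← Spec.map_comp, ← Spec.map_comp, tmap_nat]

/-- components of the overlap map. -/
noncomputable def sσ (B : Adeq.Alg R) :
    ((Adeq.push R C).obj ((Adeq.toMVF K b).obj M)).obj (Adeq.pt B) →ₗ[B]
      ((Adeq.push R D).obj ((Adeq.toMVF K e).obj M)).obj (Adeq.pt B) where
  toFun x := (toP ((Adeq.toMVF K e).obj M) B).symm
    (M.val.map (sB C b D e σ he B).op (toP ((Adeq.toMVF K b).obj M) B x))
  map_add' x y :=
    map_add (M.val.map (sB C b D e σ he B).op).hom (toP ((Adeq.toMVF K b).obj M) B x)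
      (toP ((Adeq.toMVF K b).obj M) B y)
  map_smul' r x := by
    have h1 := map_smul_affine K M b e (pB R C B) (pB R D B) (tmap C D σ B) (sB C b D e σ he B)
      (sB_left C b D e σ he B) ((Adeq.Alg.unit R C B).hom r) (toP ((Adeq.toMVF K b).obj M) B x)
    have h2 : (tmap C D σ B).hom ((Adeq.Alg.unit R C B).hom r) = (Adeq.Alg.unit R D B).hom r :=
      ConcreteCategory.congr_hom (unit_tmap C D σ B) r
    rw [h2] at h1
    exact h1

/-- the overlap map `push F_{M,C} → push F_{M,D}`. -/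
noncomputable def sHom : (Adeq.push R C).obj ((Adeq.toMVF K b).obj M) ⟶
    (Adeq.push R D).obj ((Adeq.toMVF K e).obj M) :=
  mkHom (sσ K M C b D e σ he) (by
    intro B B' h x
    apply (toP ((Adeq.toMVF K e).obj M) B').injective
    rw [toP_mp]
    have e1 := M.val.map_comp_apply ((Adeq.specOver b).map ((Adeq.Alg.baseChange R C).map h).op).op
      (sB C b D e σ he B').op (toP ((Adeq.toMVF K b).obj M) B x)
    have e2 := M.val.map_comp_apply (sB C b D e σ he B).op
      ((Adeq.specOver e).map ((Adeq.Alg.baseChange R D).map h).op).op (toP ((Adeq.toMVF K b).obj M) B x)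
    refine e1.symm.trans (Eq.trans ?_ e2)
    rw [← op_comp, ← op_comp, sB_nat])

theorem sHom_app (B : Adeq.Alg R) (x : ((Adeq.push R C).obj ((Adeq.toMVF K b).obj M)).obj (Adeq.pt B)) :
    toP ((Adeq.toMVF K e).obj M) B ((sHom K M C b D e σ he).app (Adeq.pt B) x) =
      M.val.map (sB C b D e σ he B).op (toP ((Adeq.toMVF K b).obj M) B x) := rfl

variable (hb : b ≫ f = Spec.map (CommRingCat.ofHom (algebraMap R C)) ≫ a)
  (hbe : e ≫ f = Spec.map (CommRingCat.ofHom (algebraMap R D)) ≫ a)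

theorem sB_uB (B : Adeq.Alg R) : sB C b D e σ he B ≫ uB f a C b hb B = uB f a D e hbe B := by
  apply Over.OverMorphism.ext
  rw [Over.comp_left, uB_left, uB_left, sB_left]
  apply pullback.hom_ext
  · erw [Category.assoc]
    rw [uLeft_fst, uLeft_fst]
    erw [← Spec.map_comp]
    rw [unit_tmap]
  · erw [Category.assoc]
    rw [uLeft_snd, uLeft_snd]
    exact sB_cond C b D e σ he B

theorem uHom_sHom : uHom K f M a C b hb ≫ sHom K M C b D e σ he = uHom K f M a D e hbe := by
  ext X x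
  obtain ⟨⟨B⟩⟩ := X
  rw [comp_app_apply]
  apply (toP ((Adeq.toMVF K e).obj M) B).injective
  rw [sHom_app, uHom_app, uHom_app]
  have e1 := M.val.map_comp_apply (uB f a C b hb B).op (sB C b D e σ he B).op x
  refine e1.symm.trans ?_
  rw [← op_comp, sB_uB f a C b D e σ he hb hbe]

end Overlap

section Cover

/-- `Spec B ×_S T → Spec R ×_S T`. -/
noncomputable def θB (B : Adeq.Alg R) : (XB f a B).left ⟶ pullback a f :=
  pullback.lift (pullback.fst ((Adeq.specOver a).obj (op B)).hom f ≫ Spec.map (algMapOf B))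
    (pullback.snd ((Adeq.specOver a).obj (op B)).hom f) (by
      erw [Category.assoc]
      exact pullback.condition)

theorem θB_fst (B : Adeq.Alg R) : θB f a B ≫ pullback.fst a f =
    pullback.fst ((Adeq.specOver a).obj (op B)).hom f ≫ Spec.map (algMapOf B) := pullback.lift_fst _ _ _

theorem θB_snd (B : Adeq.Alg R) : θB f a B ≫ pullback.snd a f =
    pullback.snd ((Adeq.specOver a).obj (op B)).hom f := pullback.lift_snd _ _ _

theorem isPullback_θB (B : Adeq.Alg R) :
    IsPullback (pullback.fst ((Adeq.specOver a).obj (op B)).hom f) (θB f a B)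
      (Spec.map (algMapOf B)) (pullback.fst a f) := by
  refine (IsPullback.of_right ?_ (θB_fst f a B) (IsPullback.of_hasPullback a f).flip).flip
  rw [θB_snd]
  exact (IsPullback.of_hasPullback ((Adeq.specOver a).obj (op B)).hom f).flip

variable (C : Type u) [CommRing C] [Algebra R C] (b : Spec (CommRingCat.of C) ⟶ T)
  (hb : b ≫ f = Spec.map (CommRingCat.ofHom (algebraMap R C)) ≫ a)

/-- the chart map into `Spec R ×_S T`. -/
noncomputable def cmap : Spec (CommRingCat.of C) ⟶ pullback a f :=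
  pullback.lift (Spec.map (CommRingCat.ofHom (algebraMap R C))) b hb.symm

theorem cmap_fst : cmap f a C b hb ≫ pullback.fst a f = Spec.map (CommRingCat.ofHom (algebraMap R C)) :=
  pullback.lift_fst _ _ _

theorem cmap_snd : cmap f a C b hb ≫ pullback.snd a f = b := pullback.lift_snd _ _ _

theorem uLeft_θB (B : Adeq.Alg R) :
    uLeft f a C b hb B ≫ θB f a B = Spec.map (inclL C B) ≫ cmap f a C b hb := by
  apply pullback.hom_ext
  · rw [Category.assoc, θB_fst]
    erw [← Category.assoc]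
    rw [uLeft_fst]
    erw [Category.assoc]
    rw [cmap_fst]
    exact (hpb C B).w.symm
  · rw [Category.assoc, θB_snd, uLeft_snd]
    erw [Category.assoc]
    rw [cmap_snd]
    rfl

theorem isPullback_chart (B : Adeq.Alg R) :
    IsPullback (uLeft f a C b hb B) (Spec.map (inclL C B)) (θB f a B) (cmap f a C b hb) := by
  refine IsPullback.of_right ?_ (uLeft_θB f a C b hb B) (isPullback_θB f a B)
  rw [uLeft_fst, cmap_fst]
  exact (hpb C B).flip

end Cover

section CoverFam
variable [K.IsStableUnderBaseChange]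

theorem cover_XB {ι : Type u} (C : ι → Type u) [∀ k, CommRing (C k)] [∀ k, Algebra R (C k)]
    (b : ∀ k, Spec (CommRingCat.of (C k)) ⟶ T)
    (hb : ∀ k, b k ≫ f = Spec.map (CommRingCat.ofHom (algebraMap R (C k))) ≫ a)
    (hcov : Presieve.ofArrows (fun k => Spec (CommRingCat.of (C k)))
      (fun k => cmap f a (C k) (b k) (hb k)) ∈ K.coverings (pullback a f))
    (B : Adeq.Alg R) :
    Presieve.ofArrows (fun k => (YB (C k) (b k) B).left)
      (fun k => (uB f a (C k) (b k) (hb k) B).left) ∈ K.coverings (XB f a B).left :=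
  Precoverage.mem_coverings_of_isPullback _ hcov (θB f a B) _ (fun k => Spec.map (inclL (C k) B))
    (fun k => isPullback_chart f a (C k) (b k) (hb k) B)

/-- separatedness of a module for a covering family. -/
theorem sep_of_cover {X : Over T} {ι : Type u} (Y : ι → Over T)
    (v : ∀ k, Y k ⟶ X)
    (hcov : Presieve.ofArrows (fun k => (Y k).left) (fun k => (v k).left) ∈ K.coverings X.left)
    (x y : M.val.obj (op X)) (hxy : ∀ k, M.val.map (v k).op x = M.val.map (v k).op y) : x = y := by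
  have h := (Presieve.isSheafFor_arrows_iff _ _).1 (isSheafFor_of_cover K M Y v hcov)
  have hc : Presieve.Arrows.Compatible (M.val.presheaf ⋙ forget AddCommGrpCat) v
      (fun k => M.val.map (v k).op y) :=
    (Presieve.Arrows.toCompatible (M.val.presheaf ⋙ forget AddCommGrpCat) v y).2
  obtain ⟨t, -, ht⟩ := h _ hc
  rw [ht x hxy, ht y (fun k => rfl)]

/-- gluing for a covering family. -/
theorem glue_of_cover {X : Over T} {ι : Type u} (Y : ι → Over T)
    (v : ∀ k, Y k ⟶ X)
    (hcov : Presieve.ofArrows (fun k => (Y k).left) (fun k => (v k).left) ∈ K.coverings X.left)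
    (y : ∀ k, M.val.obj (op (Y k)))
    (hy : ∀ k l (Z : Over T) (gk : Z ⟶ Y k) (gl : Z ⟶ Y l), gk ≫ v k = gl ≫ v l →
      M.val.map gk.op (y k) = M.val.map gl.op (y l)) :
    ∃ x : M.val.obj (op X), ∀ k, M.val.map (v k).op x = y k := by
  have h := (Presieve.isSheafFor_arrows_iff _ _).1 (isSheafFor_of_cover K M Y v hcov)
  have hc : Presieve.Arrows.Compatible (M.val.presheaf ⋙ forget AddCommGrpCat) v y := by
    intro i j Z gi gj hg
    exact hy i j Z gi gj hg
  obtain ⟨t, ht, -⟩ := h y hc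
  exact ⟨t, ht⟩

end CoverFam

section Overlap2
variable (C₁ : Type u) [CommRing C₁] [Algebra R C₁] (b₁ : Spec (CommRingCat.of C₁) ⟶ T)
  (hb₁ : b₁ ≫ f = Spec.map (CommRingCat.ofHom (algebraMap R C₁)) ≫ a)
variable (C₂ : Type u) [CommRing C₂] [Algebra R C₂] (b₂ : Spec (CommRingCat.of C₂) ⟶ T)
  (hb₂ : b₂ ≫ f = Spec.map (CommRingCat.ofHom (algebraMap R C₂)) ≫ a)

theorem algMap_comp {C D : Type u} [CommRing C] [Algebra R C] [CommRing D] [Algebra R D] (σ : C →ₐ[R] D) :
    CommRingCat.ofHom (algebraMap R C) ≫ CommRingCat.ofHom σ.toRingHom =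
      CommRingCat.ofHom (algebraMap R D) := by
  ext r
  exact σ.commutes r

section One
variable (D : Type u) [CommRing D] [Algebra R D] (e : Spec (CommRingCat.of D) ⟶ T)
  (σ : C₁ →ₐ[R] D) (τ : C₂ →ₐ[R] D)
  (hσ : Spec.map (CommRingCat.ofHom σ.toRingHom) ≫ b₁ = e)
  (hτ : Spec.map (CommRingCat.ofHom τ.toRingHom) ≫ b₂ = e)

include hσ hτ in
theorem dmap_cond : Spec.map (CommRingCat.ofHom σ.toRingHom) ≫ cmap f a C₁ b₁ hb₁ =
    Spec.map (CommRingCat.ofHom τ.toRingHom) ≫ cmap f a C₂ b₂ hb₂ := by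
  apply pullback.hom_ext
  · rw [Category.assoc, Category.assoc, cmap_fst, cmap_fst, ← Spec.map_comp, ← Spec.map_comp,
      algMap_comp, algMap_comp]
  · rw [Category.assoc, Category.assoc, cmap_snd, cmap_snd, hσ, hτ]

/-- the map from an affine of the overlap to the overlap. -/
noncomputable def dmap : Spec (CommRingCat.of D) ⟶ pullback (cmap f a C₁ b₁ hb₁) (cmap f a C₂ b₂ hb₂) :=
  pullback.lift _ _ (dmap_cond f a C₁ b₁ hb₁ C₂ b₂ hb₂ D e σ τ hσ hτ)

theorem dmap_fst : dmap f a C₁ b₁ hb₁ C₂ b₂ hb₂ D e σ τ hσ hτ ≫ pullback.fst _ _ =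
    Spec.map (CommRingCat.ofHom σ.toRingHom) := pullback.lift_fst _ _ _

theorem dmap_snd : dmap f a C₁ b₁ hb₁ C₂ b₂ hb₂ D e σ τ hσ hτ ≫ pullback.snd _ _ =
    Spec.map (CommRingCat.ofHom τ.toRingHom) := pullback.lift_snd _ _ _

end One

section Fam
variable [K.IsStableUnderBaseChange]
variable {I' : Type u} (D : I' → Type u) [∀ m, CommRing (D m)] [∀ m, Algebra R (D m)]
  (e : ∀ m, Spec (CommRingCat.of (D m)) ⟶ T)
  (σ : ∀ m, C₁ →ₐ[R] D m) (τ : ∀ m, C₂ →ₐ[R] D m)
  (hσ : ∀ m, Spec.map (CommRingCat.ofHom (σ m).toRingHom) ≫ b₁ = e m)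
  (hτ : ∀ m, Spec.map (CommRingCat.ofHom (τ m).toRingHom) ≫ b₂ = e m)

theorem overlap_compat
    (hcov : Presieve.ofArrows (fun m => Spec (CommRingCat.of (D m)))
      (fun m => dmap f a C₁ b₁ hb₁ C₂ b₂ hb₂ (D m) (e m) (σ m) (τ m) (hσ m) (hτ m)) ∈
        K.coverings (pullback (cmap f a C₁ b₁ hb₁) (cmap f a C₂ b₂ hb₂)))
    (B : Adeq.Alg R) {Z : Over T} (g₁ : Z ⟶ YB C₁ b₁ B) (g₂ : Z ⟶ YB C₂ b₂ B)
    (hg : g₁ ≫ uB f a C₁ b₁ hb₁ B = g₂ ≫ uB f a C₂ b₂ hb₂ B)
    (y₁ : M.val.obj (op (YB C₁ b₁ B))) (y₂ : M.val.obj (op (YB C₂ b₂ B)))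
    (hy : ∀ m, M.val.map (sB C₁ b₁ (D m) (e m) (σ m) (hσ m) B).op y₁ =
      M.val.map (sB C₂ b₂ (D m) (e m) (τ m) (hτ m) B).op y₂) :
    M.val.map g₁.op y₁ = M.val.map g₂.op y₂ := by
  obtain ⟨γ₁, hγ₁⟩ : ∃ γ₁ : Z.left ⟶ Spec (CommRingCat.of (tB C₁ B)), γ₁ = g₁.left := ⟨_, rfl⟩
  obtain ⟨γ₂, hγ₂⟩ : ∃ γ₂ : Z.left ⟶ Spec (CommRingCat.of (tB C₂ B)), γ₂ = g₂.left := ⟨_, rfl⟩
  have hg' : γ₁ ≫ uLeft f a C₁ b₁ hb₁ B = γ₂ ≫ uLeft f a C₂ b₂ hb₂ B := by
    rw [hγ₁, hγ₂]
    exact congrArg CommaMorphism.left hg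
  have hfst : γ₁ ≫ Spec.map (algHomRing (Adeq.Alg.unit R C₁ B)) =
      γ₂ ≫ Spec.map (algHomRing (Adeq.Alg.unit R C₂ B)) := by
    have h1 := congrArg (· ≫ pullback.fst ((Adeq.specOver a).obj (op B)).hom f) hg'
    dsimp only at h1
    erw [Category.assoc, Category.assoc] at h1
    erw [uLeft_fst, uLeft_fst] at h1
    exact h1
  have hw₁ : γ₁ ≫ Spec.map (inclL C₁ B) ≫ b₁ = Z.hom := by
    rw [hγ₁]
    exact Over.w g₁
  have hw₂ : γ₂ ≫ Spec.map (inclL C₂ B) ≫ b₂ = Z.hom := by
    rw [hγ₂]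
    exact Over.w g₂
  have hζ : (γ₁ ≫ Spec.map (inclL C₁ B)) ≫ cmap f a C₁ b₁ hb₁ =
      (γ₂ ≫ Spec.map (inclL C₂ B)) ≫ cmap f a C₂ b₂ hb₂ := by
    apply pullback.hom_ext
    · simp only [Category.assoc]
      rw [cmap_fst, cmap_fst, (hpb C₁ B).w, (hpb C₂ B).w, ← Category.assoc, ← Category.assoc, hfst]
    · simp only [Category.assoc]
      rw [cmap_snd, cmap_snd, hw₁, hw₂]
  obtain ⟨ζ, hζ1, hζ2⟩ : ∃ ζ : Z.left ⟶ pullback (cmap f a C₁ b₁ hb₁) (cmap f a C₂ b₂ hb₂),
      ζ ≫ pullback.fst _ _ = γ₁ ≫ Spec.map (inclL C₁ B) ∧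
      ζ ≫ pullback.snd _ _ = γ₂ ≫ Spec.map (inclL C₂ B) :=
    ⟨pullback.lift _ _ hζ, pullback.lift_fst _ _ _, pullback.lift_snd _ _ _⟩
  let dm := fun m => dmap f a C₁ b₁ hb₁ C₂ b₂ hb₂ (D m) (e m) (σ m) (τ m) (hσ m) (hτ m)
  have hd1 : ∀ m, dm m ≫ pullback.fst _ _ = Spec.map (CommRingCat.ofHom (σ m).toRingHom) :=
    fun m => dmap_fst f a C₁ b₁ hb₁ C₂ b₂ hb₂ (D m) (e m) (σ m) (τ m) (hσ m) (hτ m)
  have hd2 : ∀ m, dm m ≫ pullback.snd _ _ = Spec.map (CommRingCat.ofHom (τ m).toRingHom) :=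
    fun m => dmap_snd f a C₁ b₁ hb₁ C₂ b₂ hb₂ (D m) (e m) (σ m) (τ m) (hσ m) (hτ m)
  let Zm : I' → Over T := fun m => Over.mk (pullback.fst ζ (dm m) ≫ Z.hom)
  let wm : ∀ m, Zm m ⟶ Z := fun m => Over.homMk (pullback.fst ζ (dm m)) rfl
  have hcovZ : Presieve.ofArrows (fun m => (Zm m).left) (fun m => (wm m).left) ∈ K.coverings Z.left :=
    Precoverage.mem_coverings_of_isPullback _ hcov ζ _ (fun m => pullback.snd ζ (dm m))
      (fun m => IsPullback.of_hasPullback _ _)
  apply sep_of_cover K M Zm wm hcovZ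
  intro m
  have hc : pullback.fst ζ (dm m) ≫ ζ = pullback.snd ζ (dm m) ≫ dm m := pullback.condition
  have hP1 : pullback.snd ζ (dm m) ≫ Spec.map (CommRingCat.ofHom (σ m).toRingHom) =
      pullback.fst ζ (dm m) ≫ γ₁ ≫ Spec.map (inclL C₁ B) := by
    rw [← hd1, ← Category.assoc, ← hc, Category.assoc, hζ1]
  have hP1' : pullback.snd ζ (dm m) ≫ Spec.map (CommRingCat.ofHom (τ m).toRingHom) =
      pullback.fst ζ (dm m) ≫ γ₂ ≫ Spec.map (inclL C₂ B) := by
    rw [← hd2, ← Category.assoc, ← hc, Category.assoc, hζ2]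
  have hP2 : pullback.snd ζ (dm m) ≫ Spec.map (CommRingCat.ofHom (algebraMap R (D m))) =
      (pullback.fst ζ (dm m) ≫ γ₁ ≫ Spec.map (algHomRing (Adeq.Alg.unit R C₁ B))) ≫
        Spec.map (algMapOf B) := by
    rw [← algMap_comp (σ m), Spec.map_comp, ← Category.assoc, hP1, Category.assoc, Category.assoc,
      Category.assoc, Category.assoc, (hpb C₁ B).w]
  obtain ⟨hl, hl1, hl2⟩ : ∃ hl : (Zm m).left ⟶ Spec (CommRingCat.of (tB (D m) B)),
      hl ≫ Spec.map (inclL (D m) B) = pullback.snd ζ (dm m) ∧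
      hl ≫ Spec.map (algHomRing (Adeq.Alg.unit R (D m) B)) =
        pullback.fst ζ (dm m) ≫ γ₁ ≫ Spec.map (algHomRing (Adeq.Alg.unit R C₁ B)) :=
    ⟨(hpb (D m) B).lift _ _ hP2, (hpb (D m) B).lift_fst _ _ _, (hpb (D m) B).lift_snd _ _ _⟩
  have hhm : hl ≫ (YB (D m) (e m) B).hom = (Zm m).hom := by
    rw [YB_hom, ← Category.assoc, hl1, ← hσ m, ← Category.assoc, hP1, Category.assoc, Category.assoc, hw₁]
    rfl
  let hm : Zm m ⟶ YB (D m) (e m) B := Over.homMk hl hhm
  have e1 : hm ≫ sB C₁ b₁ (D m) (e m) (σ m) (hσ m) B = wm m ≫ g₁ := by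
    apply Over.OverMorphism.ext
    have h9 : (wm m ≫ g₁).left = pullback.fst ζ (dm m) ≫ γ₁ := by
      rw [hγ₁]
      rfl
    refine Eq.trans ?_ h9.symm
    change hl ≫ Spec.map (tmap C₁ (D m) (σ m) B) = pullback.fst ζ (dm m) ≫ γ₁
    apply (hpb C₁ B).hom_ext
    · rw [Category.assoc, ← Spec.map_comp, inclL_tmap, Spec.map_comp, ← Category.assoc, hl1, hP1,
        Category.assoc]
    · rw [Category.assoc, ← Spec.map_comp, unit_tmap, hl2, Category.assoc]
  have e2 : hm ≫ sB C₂ b₂ (D m) (e m) (τ m) (hτ m) B = wm m ≫ g₂ := by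
    apply Over.OverMorphism.ext
    have h9 : (wm m ≫ g₂).left = pullback.fst ζ (dm m) ≫ γ₂ := by
      rw [hγ₂]
      rfl
    refine Eq.trans ?_ h9.symm
    change hl ≫ Spec.map (tmap C₂ (D m) (τ m) B) = pullback.fst ζ (dm m) ≫ γ₂
    apply (hpb C₂ B).hom_ext
    · rw [Category.assoc, ← Spec.map_comp, inclL_tmap, Spec.map_comp, ← Category.assoc, hl1, hP1',
        Category.assoc]
    · rw [Category.assoc, ← Spec.map_comp, unit_tmap, hl2, Category.assoc, hfst]
  have c1 := M.val.map_comp_apply g₁.op (wm m).op y₁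
  have c2 := M.val.map_comp_apply g₂.op (wm m).op y₂
  have c3 := M.val.map_comp_apply (sB C₁ b₁ (D m) (e m) (σ m) (hσ m) B).op hm.op y₁
  have c4 := M.val.map_comp_apply (sB C₂ b₂ (D m) (e m) (τ m) (hτ m) B).op hm.op y₂
  rw [← op_comp] at c1 c2 c3 c4
  rw [← c1, ← c2, ← e1, ← e2, c3, c4, hy m]

end Fam

end Overlap2

section Main
open Groth.Agent.Lib.Helper86.AdeqEqualizer
variable [K.IsStableUnderBaseChange]

theorem hbe_of {C D : Type u} [CommRing C] [Algebra R C] [CommRing D] [Algebra R D]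
    (b : Spec (CommRingCat.of C) ⟶ T) (e : Spec (CommRingCat.of D) ⟶ T) (σ : C →ₐ[R] D)
    (hb : b ≫ f = Spec.map (CommRingCat.ofHom (algebraMap R C)) ≫ a)
    (he : Spec.map (CommRingCat.ofHom σ.toRingHom) ≫ b = e) :
    e ≫ f = Spec.map (CommRingCat.ofHom (algebraMap R D)) ≫ a := by
  rw [← he, Category.assoc, hb, ← Category.assoc, ← Spec.map_comp, algMap_comp]

theorem adequate_FF {ι : Type u} [Finite ι] (C : ι → Type u) [∀ k, CommRing (C k)] [∀ k, Algebra R (C k)]
    (b : ∀ k, Spec (CommRingCat.of (C k)) ⟶ T)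
    (hb : ∀ k, b k ≫ f = Spec.map (CommRingCat.ofHom (algebraMap R (C k))) ≫ a)
    (hcov : Presieve.ofArrows (fun k => Spec (CommRingCat.of (C k)))
      (fun k => cmap f a (C k) (b k) (hb k)) ∈ K.coverings (pullback a f))
    (I' : ι → ι → Type u) [∀ k l, Finite (I' k l)]
    (D : ∀ k l, I' k l → Type u) [∀ k l m, CommRing (D k l m)] [∀ k l m, Algebra R (D k l m)]
    (e : ∀ k l m, Spec (CommRingCat.of (D k l m)) ⟶ T)
    (σ : ∀ k l m, C k →ₐ[R] D k l m) (τ : ∀ k l m, C l →ₐ[R] D k l m)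
    (hσ : ∀ k l m, Spec.map (CommRingCat.ofHom (σ k l m).toRingHom) ≫ b k = e k l m)
    (hτ : ∀ k l m, Spec.map (CommRingCat.ofHom (τ k l m).toRingHom) ≫ b l = e k l m)
    (hcov' : ∀ k l, Presieve.ofArrows (fun m => Spec (CommRingCat.of (D k l m)))
      (fun m => dmap f a (C k) (b k) (hb k) (C l) (b l) (hb l) (D k l m) (e k l m) (σ k l m) (τ k l m)
        (hσ k l m) (hτ k l m)) ∈
        K.coverings (pullback (cmap f a (C k) (b k) (hb k)) (cmap f a (C l) (b l) (hb l))))
    (hadq : ∀ (C' : CommRingCat.{u}) (b' : Spec C' ⟶ T), Adeq.adequate C' ((Adeq.toMVF K b').obj M)) :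
    Adeq.adequate R (FF K f M a) := by
  refine adequate_of_equalizer_family (ι := ι) (κ := Σ (k : ι) (l : ι), I' k l) (FF K f M a)
    (fun k => (Adeq.push R (C k)).obj ((Adeq.toMVF K (b k)).obj M))
    (fun p => (Adeq.push R (D p.1 p.2.1 p.2.2)).obj ((Adeq.toMVF K (e p.1 p.2.1 p.2.2)).obj M))
    (fun k => adequate_push _ (hadq _ (b k)))
    (fun p => adequate_push _ (hadq _ (e p.1 p.2.1 p.2.2)))
    (fun p => p.1) (fun p => p.2.1)
    (fun k => uHom K f M a (C k) (b k) (hb k))
    (fun p => sHom K M (C p.1) (b p.1) (D p.1 p.2.1 p.2.2) (e p.1 p.2.1 p.2.2) (σ p.1 p.2.1 p.2.2)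
      (hσ p.1 p.2.1 p.2.2))
    (fun p => sHom K M (C p.2.1) (b p.2.1) (D p.1 p.2.1 p.2.2) (e p.1 p.2.1 p.2.2) (τ p.1 p.2.1 p.2.2)
      (hτ p.1 p.2.1 p.2.2)) ?_ ?_ ?_
  · rintro ⟨k, l, m⟩
    exact (uHom_sHom K f M a (C k) (b k) (D k l m) (e k l m) (σ k l m) (hσ k l m) (hb k)
      (hbe_of f a (b k) (e k l m) (σ k l m) (hb k) (hσ k l m))).trans
      (uHom_sHom K f M a (C l) (b l) (D k l m) (e k l m) (τ k l m) (hτ k l m) (hb l)
      (hbe_of f a (b k) (e k l m) (σ k l m) (hb k) (hσ k l m))).symm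
  · intro X x y hxy
    obtain ⟨⟨B⟩⟩ := X
    refine sep_of_cover K M (fun k => YB (C k) (b k) B) (fun k => uB f a (C k) (b k) (hb k) B)
      (cover_XB K f a C b hb hcov B) x y (fun k => ?_)
    have := congrArg (toP ((Adeq.toMVF K (b k)).obj M) B) (hxy k)
    rw [uHom_app, uHom_app] at this
    exact this
  · intro X y hy
    obtain ⟨⟨B⟩⟩ := X
    obtain ⟨x, hx⟩ := glue_of_cover K M (fun k => YB (C k) (b k) B)
      (fun k => uB f a (C k) (b k) (hb k) B) (cover_XB K f a C b hb hcov B)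
      (fun k => toP ((Adeq.toMVF K (b k)).obj M) B (y k)) (by
        intro k l Z gk gl hg
        refine overlap_compat K f M a (C k) (b k) (hb k) (C l) (b l) (hb l) (D k l) (e k l) (σ k l) (τ k l)
          (hσ k l) (hτ k l) (hcov' k l) B gk gl hg _ _ (fun m => ?_)
        have := congrArg (toP ((Adeq.toMVF K (e k l m)).obj M) B) (hy ⟨k, l, m⟩)
        rw [sHom_app, sHom_app] at this
        exact this)
    refine ⟨x, fun k => ?_⟩
    apply (toP ((Adeq.toMVF K (b k)).obj M) B).injective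
    exact hx k

/-- version with the charts given as morphisms to `Spec R ×_S T`. -/
theorem adequate_FF' {ι : Type u} [Finite ι] (C : ι → CommRingCat.{u})
    (c : ∀ k, Spec (C k) ⟶ pullback a f)
    (hc : Presieve.ofArrows (fun k => Spec (C k)) c ∈ K.coverings (pullback a f))
    (I' : ι → ι → Type u) [∀ k l, Finite (I' k l)]
    (D : ∀ k l, I' k l → CommRingCat.{u})
    (d : ∀ k l m, Spec (D k l m) ⟶ pullback (c k) (c l))
    (hd : ∀ k l, Presieve.ofArrows (fun m => Spec (D k l m)) (d k l) ∈ K.coverings (pullback (c k) (c l)))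
    (hadq : ∀ (C' : CommRingCat.{u}) (b' : Spec C' ⟶ T), Adeq.adequate C' ((Adeq.toMVF K b').obj M)) :
    Adeq.adequate R (FF K f M a) := by
  let ψ : ∀ k, R ⟶ C k := fun k => Spec.preimage (c k ≫ pullback.fst a f)
  have hψ : ∀ k, Spec.map (ψ k) = c k ≫ pullback.fst a f := fun k => Spec.map_preimage _
  letI : ∀ k, Algebra R (C k) := fun k => (ψ k).hom.toAlgebra
  let b : ∀ k, Spec (CommRingCat.of (C k)) ⟶ T := fun k => c k ≫ pullback.snd a f
  have hb : ∀ k, b k ≫ f = Spec.map (CommRingCat.ofHom (algebraMap R (C k))) ≫ a := by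
    intro k
    change (c k ≫ pullback.snd a f) ≫ f = Spec.map (ψ k) ≫ a
    rw [hψ, Category.assoc, Category.assoc, pullback.condition]
  have hcm : ∀ k, cmap f a (C k) (b k) (hb k) = c k := by
    intro k
    apply pullback.hom_ext
    · rw [cmap_fst]
      exact hψ k
    · rw [cmap_snd]
  let σ' : ∀ k l m, C k ⟶ D k l m := fun k l m => Spec.preimage (d k l m ≫ pullback.fst (c k) (c l))
  have hσ' : ∀ k l m, Spec.map (σ' k l m) = d k l m ≫ pullback.fst (c k) (c l) :=
    fun k l m => Spec.map_preimage _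
  let τ' : ∀ k l m, C l ⟶ D k l m := fun k l m => Spec.preimage (d k l m ≫ pullback.snd (c k) (c l))
  have hτ' : ∀ k l m, Spec.map (τ' k l m) = d k l m ≫ pullback.snd (c k) (c l) :=
    fun k l m => Spec.map_preimage _
  have hστ : ∀ k l m, ψ k ≫ σ' k l m = ψ l ≫ τ' k l m := by
    intro k l m
    apply Spec.map_injective
    rw [Spec.map_comp, Spec.map_comp, hσ', hτ', hψ, hψ, Category.assoc, Category.assoc,
      ← Category.assoc (pullback.fst (c k) (c l)), pullback.condition, Category.assoc]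
  letI : ∀ k l m, Algebra R (D k l m) := fun k l m => (ψ k ≫ σ' k l m).hom.toAlgebra
  let σ : ∀ k l m, C k →ₐ[R] D k l m := fun k l m =>
    { (σ' k l m).hom with commutes' := fun r => rfl }
  let τ : ∀ k l m, C l →ₐ[R] D k l m := fun k l m =>
    { (τ' k l m).hom with
      commutes' := fun r => (ConcreteCategory.congr_hom (hστ k l m) r).symm }
  have hσe : ∀ k l m, CommRingCat.ofHom (σ k l m).toRingHom = σ' k l m := fun k l m => rfl
  have hτe : ∀ k l m, CommRingCat.ofHom (τ k l m).toRingHom = τ' k l m := fun k l m => rfl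
  let e : ∀ k l m, Spec (CommRingCat.of (D k l m)) ⟶ T :=
    fun k l m => Spec.map (CommRingCat.ofHom (σ k l m).toRingHom) ≫ b k
  have hτ : ∀ k l m, Spec.map (CommRingCat.ofHom (τ k l m).toRingHom) ≫ b l = e k l m := by
    intro k l m
    change Spec.map (CommRingCat.ofHom (τ k l m).toRingHom) ≫ c l ≫ pullback.snd a f =
      Spec.map (CommRingCat.ofHom (σ k l m).toRingHom) ≫ c k ≫ pullback.snd a f
    rw [hσe, hτe, hσ', hτ', Category.assoc, Category.assoc,
      ← Category.assoc (pullback.fst (c k) (c l)), pullback.condition, Category.assoc]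
  have hcov : Presieve.ofArrows (fun k => Spec (CommRingCat.of (C k)))
      (fun k => cmap f a (C k) (b k) (hb k)) ∈ K.coverings (pullback a f) := by
    have : (fun k => cmap f a (C k) (b k) (hb k)) = c := funext hcm
    rw [this]
    exact hc
  refine adequate_FF K f M a (fun k => (C k : Type u)) b hb hcov I' (fun k l m => (D k l m : Type u))
    e σ τ (fun k l m => rfl) hτ ?_ hadq
  intro k l
  have key : ∀ (c₁ : Spec (CommRingCat.of (C k)) ⟶ pullback a f)
      (c₂ : Spec (CommRingCat.of (C l)) ⟶ pullback a f)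
      (h₁ : c₁ = cmap f a (C k) (b k) (hb k)) (h₂ : c₂ = cmap f a (C l) (b l) (hb l))
      (d' : ∀ m, Spec (CommRingCat.of (D k l m)) ⟶ pullback c₁ c₂)
      (_ : Presieve.ofArrows (fun m => Spec (CommRingCat.of (D k l m))) d' ∈ K.coverings (pullback c₁ c₂))
      (_ : ∀ m, d' m ≫ pullback.fst c₁ c₂ = Spec.map (σ' k l m))
      (_ : ∀ m, d' m ≫ pullback.snd c₁ c₂ = Spec.map (τ' k l m)),
      Presieve.ofArrows (fun m => Spec (CommRingCat.of (D k l m)))
        (fun m => dmap f a (C k) (b k) (hb k) (C l) (b l) (hb l) (D k l m) (e k l m) (σ k l m) (τ k l m)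
          rfl (hτ k l m)) ∈
        K.coverings (pullback (cmap f a (C k) (b k) (hb k)) (cmap f a (C l) (b l) (hb l))) := by
    intro c₁ c₂ h₁ h₂ d' hd' hf hs
    subst h₁ h₂
    have : d' = fun m => dmap f a (C k) (b k) (hb k) (C l) (b l) (hb l) (D k l m) (e k l m) (σ k l m)
        (τ k l m) rfl (hτ k l m) := by
      funext m
      apply pullback.hom_ext
      · rw [hf, dmap_fst]
        rfl
      · rw [hs, dmap_snd]
        rfl
    rw [← this]
    exact hd'
  exact key (c k) (c l) (hcm k).symm (hcm l).symm (d k l) (hd k l) (fun m => (hσ' k l m).symm)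
    (fun m => (hτ' k l m).symm)

end Main

section Final
open Groth.Agent.Lib.Helper86.Adeq2Main

/-- a compact scheme has a finite covering by affine opens. -/
theorem exists_finite_affine_cover (X : Scheme.{u}) [CompactSpace X] :
    ∃ (ι : Type u) (_ : Finite ι) (C : ι → CommRingCat.{u}) (c : ∀ k, Spec (C k) ⟶ X),
      Presieve.ofArrows (fun k => Spec (C k)) c ∈ Scheme.zariskiPrecoverage.coverings X := by
  obtain ⟨t, ht⟩ := exists_finite_subcover @IsOpenImmersion
    (fun X Y f hf => by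
      haveI : IsOpenImmersion f := hf
      exact f.isOpenEmbedding.isOpenMap)
    (fun i => Spec (X.affineOpenCover.X i)) X.affineOpenCover.f X.affineOpenCover.openCover.mem₀
  exact ⟨t, inferInstance, fun k => X.affineOpenCover.X k, fun k => X.affineOpenCover.f k, ht⟩

variable [K.IsStableUnderBaseChange]

/-- Stacks 46.5: pushforward along a qcqs morphism preserves adequacy. -/
theorem adequateMod_pushMod (hK : Scheme.zariskiPrecoverage.{u} ≤ K) [QuasiCompact f] [QuasiSeparated f]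
    (hadq : ∀ (C' : CommRingCat.{u}) (b' : Spec C' ⟶ T), Adeq.adequate C' ((Adeq.toMVF K b').obj M)) :
    Adeq.adequateMod K S ((BigSite.pushMod K f).obj M) := by
  refine ⟨S.affineOpenCover.I₀, S.affineOpenCover.X, S.affineOpenCover.f,
    hK _ S.affineOpenCover.openCover.mem₀, fun i => ?_⟩
  generalize S.affineOpenCover.f i = a
  generalize S.affineOpenCover.X i = R at a
  haveI : QuasiSeparatedSpace (pullback a f : Scheme.{u}) :=
    quasiSeparatedSpace_of_quasiSeparated (pullback.fst a f)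
  obtain ⟨ι, hfin, C, c, hc⟩ := exists_finite_affine_cover (pullback a f)
  choose I' hfin' D d hd using fun k l => exists_finite_affine_cover (pullback (c k) (c l))
  exact adequate_FF' K f M a C c (hK _ hc) I' D d (fun k l => hK _ (hd k l)) hadq

end Final

end Groth.Agent.Lib.Helper86.Adeq2Push
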