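import Mathlib
import Groth.Prelude.Def_Adeq
import Groth.Agent.Lib.Helper86.AdeqFO

open CategoryTheory Limits TensorProduct Opposite

/-!
# Adequate functors commute with filtered colimits (Stacks 46.3.3 (1))
-/

namespace Groth.Agent.Lib.Helper86.AdeqFiltered
universe u
variable {A : Type u} [CommRing A]

open Groth.Agent.Lib.Helper86.AdeqBasic Groth.Agent.Lib.Helper86.AdeqFO

section Alg
variable {J : Type u} [SmallCategory J] [IsFiltered J] (D : J ⥤ Adeq.Alg A) (c : Cocone D)
  (hc : IsColimit c)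

/-- underlying type functor factored through `Under`. -/
noncomputable abbrev UT (A : Type u) [CommRing A] : Adeq.Alg A ⥤ Type u :=
  (commAlgCatEquivUnder (CommRingCat.of A)).functor ⋙ Under.forget _ ⋙ forget CommRingCat.{u}

attribute [local instance] IsFiltered.isConnected in
noncomputable def isColimitUT : IsColimit ((UT A).mapCocone c) :=
  isColimitOfPreserves (UT A) hc

include hc in
theorem alg_exists_rep (b : c.pt) : ∃ (j : J) (bj : D.obj j), (c.ι.app j).hom bj = b :=
  Types.jointly_surjective_of_isColimit (isColimitUT D c hc) b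

include hc in
theorem alg_eq {j j' : J} (x : D.obj j) (y : D.obj j')
    (h : (c.ι.app j).hom x = (c.ι.app j').hom y) :
    ∃ (k : J) (f : j ⟶ k) (g : j' ⟶ k), (D.map f).hom x = (D.map g).hom y :=
  (Types.FilteredColimit.isColimit_eq_iff _ (isColimitUT D c hc)).1 h

end Alg

section AbCrit
variable {J : Type u} [SmallCategory J] [IsFiltered J]

instance presFilt : PreservesFilteredColimitsOfSize.{u, u} (forget AddCommGrpCat.{u + 1}) :=
  preservesFilteredColimitsOfSize_shrink.{u, u + 1, u, u + 1} (forget AddCommGrpCat.{u + 1})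

instance hasColimAb : HasColimitsOfShape J AddCommGrpCat.{u+1} :=
  (hasColimitsOfSizeShrink.{u, u, u+1, u+1} AddCommGrpCat.{u+1}).has_colimits_of_shape J

variable {T : J ⥤ AddCommGrpCat.{u+1}} {t : Cocone T}

theorem ab_exists_rep (ht : IsColimit t) (x : t.pt) : ∃ (j : J) (y : T.obj j), t.ι.app j y = x :=
  Concrete.isColimit_exists_rep T ht x

theorem ab_exists_map_eq_zero (ht : IsColimit t) (j : J) (y : T.obj j) (h : t.ι.app j y = 0) :
    ∃ (k : J) (f : j ⟶ k), T.map f y = 0 := by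
  have h' : t.ι.app j y = t.ι.app j (0 : T.obj j) := by rw [h, map_zero]
  obtain ⟨k, f, g, hfg⟩ := Concrete.isColimit_exists_of_rep_eq T ht y (0 : T.obj j) h'
  refine ⟨k, f, ?_⟩
  rw [hfg, map_zero]

theorem ab_nonempty_isColimit
    (hsurj : ∀ x : t.pt, ∃ (j : J) (y : T.obj j), t.ι.app j y = x)
    (hinj : ∀ (j : J) (y : T.obj j), t.ι.app j y = 0 → ∃ (k : J) (f : j ⟶ k), T.map f y = 0) :
    Nonempty (IsColimit t) := by
  haveI : PreservesColimit T (forget AddCommGrpCat.{u+1}) :=
    (PreservesFilteredColimitsOfSize.preserves_filtered_colimits (F := forget AddCommGrpCat.{u+1}) J).preservesColimit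
  haveI : ReflectsColimit T (forget AddCommGrpCat.{u+1}) :=
    reflectsColimit_of_reflectsIsomorphisms T (forget AddCommGrpCat.{u+1})
  refine ⟨isColimitOfReflects (forget AddCommGrpCat.{u+1}) ?_⟩
  refine Types.FilteredColimit.isColimitOf' _ _ ?_ ?_
  · intro x
    obtain ⟨j, y, hy⟩ := hsurj x
    exact ⟨j, y, hy.symm⟩
  · intro i (x : T.obj i) (y : T.obj i) hxy
    have hxy' : t.ι.app i x = t.ι.app i y := hxy
    have h0 : t.ι.app i (x - y : T.obj i) = 0 := by
      rw [map_sub, hxy', sub_self]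
    obtain ⟨k, f, hf⟩ := hinj i (x - y : T.obj i) h0
    refine ⟨k, f, ?_⟩
    have : T.map f x = T.map f y := by
      rw [map_sub, sub_eq_zero] at hf
      exact hf
    exact this

end AbCrit

section Criterion
variable {J : Type u} [SmallCategory J] [IsFiltered J] (D : J ⥤ Adeq.Alg A) (c : Cocone D)

theorem nonempty_isColimit_toAb (F : Adeq.MVF A)
    (hsurj : ∀ x : F.obj (Adeq.pt c.pt), ∃ (j : J) (y : F.obj (Adeq.pt (D.obj j))),
      mp F (c.ι.app j) y = x)
    (hinj : ∀ (j : J) (y : F.obj (Adeq.pt (D.obj j))), mp F (c.ι.app j) y = 0 →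
      ∃ (k : J) (f : j ⟶ k), mp F (D.map f) y = 0) :
    Nonempty (IsColimit (F.toAb.mapCocone c)) :=
  ab_nonempty_isColimit (T := D ⋙ F.toAb) (t := F.toAb.mapCocone c) hsurj hinj

end Criterion

section Und
variable {J : Type u} [SmallCategory J] [IsFiltered J] (D : J ⥤ Adeq.Alg A) (c : Cocone D)
  (hc : IsColimit c) (M : ModuleCat.{u+1} A)

/-- `B_j ⊗ M → B ⊗ M`. -/
noncomputable abbrev ρm (j : J) : (D.obj j) ⊗[A] M →ₗ[A] (c.pt) ⊗[A] M :=
  (c.ι.app j).hom.toLinearMap.rTensor M

/-- `B_j ⊗ M → B_k ⊗ M`. -/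
noncomputable abbrev τm {j k : J} (f : j ⟶ k) : (D.obj j) ⊗[A] M →ₗ[A] (D.obj k) ⊗[A] M :=
  (D.map f).hom.toLinearMap.rTensor M

theorem ρm_τm {j k : J} (f : j ⟶ k) (w : (D.obj j) ⊗[A] M) : ρm D c M k (τm D M f w) = ρm D c M j w := by
  have h : D.map f ≫ c.ι.app k = c.ι.app j := c.w f
  have h2 : (c.ι.app k).hom.toLinearMap ∘ₗ (D.map f).hom.toLinearMap = (c.ι.app j).hom.toLinearMap := by
    rw [← h]
    rfl
  unfold ρm τm
  rw [← LinearMap.comp_apply, ← LinearMap.rTensor_comp, h2]

include hc in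
theorem und_surj (w : (c.pt) ⊗[A] M) : ∃ (j : J) (wj : (D.obj j) ⊗[A] M), ρm D c M j wj = w := by
  induction w using TensorProduct.induction_on with
  | zero => exact ⟨IsFiltered.nonempty.some, 0, map_zero _⟩
  | tmul b m =>
    obtain ⟨j, bj, rfl⟩ := alg_exists_rep D c hc b
    exact ⟨j, bj ⊗ₜ[A] m, rfl⟩
  | add w₁ w₂ h₁ h₂ =>
    obtain ⟨j₁, w₁', rfl⟩ := h₁
    obtain ⟨j₂, w₂', rfl⟩ := h₂
    refine ⟨IsFiltered.max j₁ j₂, τm D M (IsFiltered.leftToMax j₁ j₂) w₁' +
      τm D M (IsFiltered.rightToMax j₁ j₂) w₂', ?_⟩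
    rw [map_add, ρm_τm, ρm_τm]

/-- the diagram `j ↦ B_j ⊗ M` in `Ab`. -/
noncomputable abbrev TM : J ⥤ AddCommGrpCat.{u+1} := D ⋙ ((Adeq.underline A).obj M).toAb

/-- the leg of the colimit, as an additive map on the tensor product. -/
noncomputable def legm (j : J) : (D.obj j) ⊗[A] M →+ (colimit (TM D M) : AddCommGrpCat.{u+1}) :=
  (colimit.ι (TM D M) j).hom

theorem legm_τm {j k : J} (f : j ⟶ k) (w : (D.obj j) ⊗[A] M) :
    legm D M k (τm D M f w) = legm D M j w := by
  have h := colimit.w (TM D M) f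
  exact ConcreteCategory.congr_hom h w

include hc in
theorem legm_well {j j' : J} (bj : D.obj j) (bj' : D.obj j')
    (h : (c.ι.app j).hom bj = (c.ι.app j').hom bj') (m : M) :
    legm D M j (bj ⊗ₜ[A] m) = legm D M j' (bj' ⊗ₜ[A] m) := by
  obtain ⟨k, f, g, hfg⟩ := alg_eq D c hc bj bj' h
  rw [← legm_τm D M f, ← legm_τm D M g]
  change legm D M k ((D.map f).hom bj ⊗ₜ[A] m) = legm D M k ((D.map g).hom bj' ⊗ₜ[A] m)
  rw [hfg]

/-- chosen representative. -/
noncomputable def repj (b : c.pt) : J := (alg_exists_rep D c hc b).choose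
noncomputable def repb (b : c.pt) : D.obj (repj D c hc b) :=
  (alg_exists_rep D c hc b).choose_spec.choose
theorem rep_spec (b : c.pt) : (c.ι.app (repj D c hc b)).hom (repb D c hc b) = b :=
  (alg_exists_rep D c hc b).choose_spec.choose_spec

noncomputable def gfun (b : c.pt) : M →+ (colimit (TM D M) : AddCommGrpCat.{u+1}) :=
  (legm D M (repj D c hc b)).comp
    ((TensorProduct.mk A (D.obj (repj D c hc b)) M (repb D c hc b)).toAddMonoidHom)

theorem gfun_eq (b : c.pt) {j : J} (bj : D.obj j) (h : (c.ι.app j).hom bj = b) (m : M) :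
    gfun D c hc M b m = legm D M j (bj ⊗ₜ[A] m) :=
  legm_well D c hc M (j := repj D c hc b) (j' := j) (repb D c hc b) bj
    ((rep_spec D c hc b).trans h.symm) m

theorem ι_map {j k : J} (f : j ⟶ k) (x : D.obj j) :
    (c.ι.app k).hom ((D.map f).hom x) = (c.ι.app j).hom x := by
  have h : D.map f ≫ c.ι.app k = c.ι.app j := c.w f
  rw [← h]
  rfl

noncomputable def gHom : c.pt →+ M →+ (colimit (TM D M) : AddCommGrpCat.{u+1}) where
  toFun := gfun D c hc M
  map_zero' := by
    ext m
    rw [gfun_eq D c hc M 0 (0 : D.obj IsFiltered.nonempty.some) (map_zero _) m,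
      TensorProduct.zero_tmul, map_zero]
    rfl
  map_add' b b' := by
    ext m
    let k := IsFiltered.max (repj D c hc b) (repj D c hc b')
    let x : D.obj k := (D.map (IsFiltered.leftToMax _ _)).hom (repb D c hc b)
    let x' : D.obj k := (D.map (IsFiltered.rightToMax _ _)).hom (repb D c hc b')
    have hb : (c.ι.app k).hom x = b := by
      rw [ι_map, rep_spec]
    have hb' : (c.ι.app k).hom x' = b' := by
      rw [ι_map, rep_spec]
    have hbb : (c.ι.app k).hom (x + x') = b + b' := by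
      rw [map_add, hb, hb']
    rw [gfun_eq D c hc M (b + b') (x + x') hbb m, TensorProduct.add_tmul, map_add,
      ← gfun_eq D c hc M b x hb m, ← gfun_eq D c hc M b' x' hb' m]
    rfl

theorem gHom_apply (b : c.pt) {j : J} (bj : D.obj j) (h : (c.ι.app j).hom bj = b) (m : M) :
    gHom D c hc M b m = legm D M j (bj ⊗ₜ[A] m) := gfun_eq D c hc M b bj h m

/-- the inverse map `B ⊗ M → colim (B_j ⊗ M)`. -/
noncomputable def Ψ : (c.pt) ⊗[A] M →+ (colimit (TM D M) : AddCommGrpCat.{u+1}) :=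
  TensorProduct.liftAddHom (gHom D c hc M) (by
    intro a b m
    have h := rep_spec D c hc b
    rw [gHom_apply D c hc M (a • b) (a • repb D c hc b) (by rw [map_smul, h]) m,
      gHom_apply D c hc M b (repb D c hc b) h (a • m), TensorProduct.smul_tmul])

theorem Ψ_ρm (j : J) (w : (D.obj j) ⊗[A] M) : Ψ D c hc M (ρm D c M j w) = legm D M j w := by
  induction w using TensorProduct.induction_on with
  | zero => rw [map_zero, map_zero, map_zero]
  | tmul bj m =>
    change Ψ D c hc M ((c.ι.app j).hom bj ⊗ₜ[A] m) = _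
    unfold Ψ
    rw [TensorProduct.liftAddHom_tmul, gHom_apply D c hc M _ bj rfl m]
  | add w₁ w₂ h₁ h₂ => rw [map_add, map_add, map_add, h₁, h₂]

include hc in
theorem und_inj (j : J) (w : (D.obj j) ⊗[A] M) (h : ρm D c M j w = 0) :
    ∃ (k : J) (f : j ⟶ k), τm D M f w = 0 := by
  have h1 : legm D M j w = 0 := by rw [← Ψ_ρm D c hc M j w, h, map_zero]
  exact ab_exists_map_eq_zero (colimit.isColimit (TM D M)) j w h1

end Und

section Main
variable {J : Type u} [SmallCategory J] [IsFiltered J] (D : J ⥤ Adeq.Alg A) (c : Cocone D)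
  (hc : IsColimit c)

theorem rT_lT {B B' : Adeq.Alg A} (f : B ⟶ B') {M N : ModuleCat.{u+1} A} (φ : M ⟶ N) (w : B ⊗[A] M) :
    (f.hom.toLinearMap.rTensor N) (φ.hom.lTensor B w) = φ.hom.lTensor B' (f.hom.toLinearMap.rTensor M w) := by
  rw [← LinearMap.comp_apply, ← LinearMap.comp_apply, LinearMap.rTensor_comp_lTensor,
    LinearMap.lTensor_comp_rTensor]

include hc in
theorem isColimit_toAb_of_adequate (F : Adeq.MVF A) (hF : Adeq.adequate A F) :
    Nonempty (IsColimit (F.toAb.mapCocone c)) := by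
  obtain ⟨M, N, φ, i, hi⟩ := (adequate_iff F).1 hF
  apply nonempty_isColimit_toAb D c F
  · intro x
    obtain ⟨j, w, hw⟩ := und_surj D c hc M (toT M c.pt (i.app (Adeq.pt c.pt) x))
    have h1 : ρm D c N j (φ.hom.lTensor (D.obj j) w) = 0 := by
      unfold ρm
      rw [rT_lT]
      change φ.hom.lTensor c.pt (ρm D c M j w) = 0
      rw [hw, ← toT_map_app, hi.apply, map_zero]
    obtain ⟨k, f, hk⟩ := und_inj D c hc N j _ h1
    have h2 : φ.hom.lTensor (D.obj k) (τm D M f w) = 0 := by
      unfold τm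
      rw [← rT_lT]
      exact hk
    obtain ⟨y, hy⟩ := hi.ex (Adeq.pt (D.obj k)) ((toT M (D.obj k)).symm (τm D M f w)) (by
      apply (toT N _).injective
      rw [toT_map_app, LinearEquiv.apply_symm_apply, h2, map_zero])
    refine ⟨k, y, ?_⟩
    apply hi.inj
    rw [app_mp, hy]
    apply (toT M c.pt).injective
    rw [toT_mp, LinearEquiv.apply_symm_apply]
    change ρm D c M k (τm D M f w) = _
    rw [ρm_τm, hw]
    rfl
  · intro j y hy
    have h1 : ρm D c M j (toT M (D.obj j) (i.app (Adeq.pt (D.obj j)) y)) = 0 := by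
      change (c.ι.app j).hom.toLinearMap.rTensor M _ = 0
      rw [← toT_mp, ← app_mp, hy, map_zero, map_zero]
    obtain ⟨k, f, hk⟩ := und_inj D c hc M j _ h1
    refine ⟨k, f, hi.inj _ ?_⟩
    rw [map_zero, app_mp]
    apply (toT M _).injective
    rw [toT_mp, map_zero]
    exact hk

end Main

end Groth.Agent.Lib.Helper86.AdeqFiltered
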