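import Mathlib
import Groth.Agent.Lib.Helper86.CechPow

open CategoryTheory Limits Opposite

/-! # Čech complexes of injective abelian presheaves are exact (free resolution by representables) -/

namespace Groth.Agent.Lib.Helper86.CechInj
universe w v u

open Groth.Agent.Lib.Helper86.CechPow

section Free
variable {C : Type u} [Category.{v} C]

/-- the free abelian presheaf on a representable presheaf. -/
def ZZ (Y : C) : Cᵒᵖ ⥤ AddCommGrpCat.{max w v} where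
  obj V := AddCommGrpCat.of (FreeAbelianGroup (ULift.{w} (V.unop ⟶ Y)))
  map h := AddCommGrpCat.ofHom (FreeAbelianGroup.map (fun f => ⟨h.unop ≫ f.down⟩))
  map_id V := by
    refine AddCommGrpCat.hom_ext (FreeAbelianGroup.lift_ext _ _ (fun f => ?_))
    simp
  map_comp h h' := by
    refine AddCommGrpCat.hom_ext (FreeAbelianGroup.lift_ext _ _ (fun f => ?_))
    simp

theorem ZZ_map_of {Y : C} {V V' : Cᵒᵖ} (h : V ⟶ V') (f : ULift.{w} (V.unop ⟶ Y)) :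
    (ZZ.{w} Y).map h (FreeAbelianGroup.of f) = FreeAbelianGroup.of ⟨h.unop ≫ f.down⟩ :=
  FreeAbelianGroup.map_of_apply _

/-- functoriality in the representing object. -/
def ZZmap {Y Y' : C} (φ : Y' ⟶ Y) : ZZ.{w} Y' ⟶ ZZ.{w} Y where
  app V := AddCommGrpCat.ofHom (FreeAbelianGroup.map (fun f => ⟨f.down ≫ φ⟩))
  naturality V V' h := by
    refine AddCommGrpCat.hom_ext (FreeAbelianGroup.lift_ext _ _ (fun f => ?_))
    change FreeAbelianGroup.map (fun f : ULift.{w} (V'.unop ⟶ Y') => (⟨f.down ≫ φ⟩ : ULift.{w} (V'.unop ⟶ Y)))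
        (FreeAbelianGroup.map (fun f : ULift.{w} (V.unop ⟶ Y') => (⟨h.unop ≫ f.down⟩ : ULift.{w} (V'.unop ⟶ Y')))
          (FreeAbelianGroup.of f)) =
      FreeAbelianGroup.map (fun f : ULift.{w} (V.unop ⟶ Y) => (⟨h.unop ≫ f.down⟩ : ULift.{w} (V'.unop ⟶ Y)))
        (FreeAbelianGroup.map (fun f : ULift.{w} (V.unop ⟶ Y') => (⟨f.down ≫ φ⟩ : ULift.{w} (V.unop ⟶ Y)))
          (FreeAbelianGroup.of f))
    rw [FreeAbelianGroup.map_of_apply, FreeAbelianGroup.map_of_apply, FreeAbelianGroup.map_of_apply,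
      FreeAbelianGroup.map_of_apply, Category.assoc]

theorem ZZmap_of {Y Y' : C} (φ : Y' ⟶ Y) (V : Cᵒᵖ) (f : ULift.{w} (V.unop ⟶ Y')) :
    (ZZmap.{w} φ).app V (FreeAbelianGroup.of f) = FreeAbelianGroup.of ⟨f.down ≫ φ⟩ :=
  FreeAbelianGroup.map_of_apply _

variable (Q : Cᵒᵖ ⥤ AddCommGrpCat.{max w v})

/-- the morphism from the free presheaf attached to a section. -/
def toNat {Y : C} (x : Q.obj (op Y)) : ZZ.{w} Y ⟶ Q where
  app V := AddCommGrpCat.ofHom (FreeAbelianGroup.lift (fun f => Q.map f.down.op x))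
  naturality V V' h := by
    refine AddCommGrpCat.hom_ext (FreeAbelianGroup.lift_ext _ _ (fun f => ?_))
    simp only [ZZ, AddCommGrpCat.hom_comp, AddCommGrpCat.hom_ofHom, AddMonoidHom.coe_comp,
      Function.comp_apply, FreeAbelianGroup.map_of_apply, FreeAbelianGroup.lift_apply_of]
    rw [op_comp, Q.map_comp]
    rfl

theorem toNat_of {Y : C} (x : Q.obj (op Y)) (V : Cᵒᵖ) (f : ULift.{w} (V.unop ⟶ Y)) :
    (toNat.{w} Q x).app V (FreeAbelianGroup.of f) = Q.map f.down.op x :=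
  FreeAbelianGroup.lift_apply_of _ _

/-- the section attached to a morphism from the free presheaf. -/
def ofNat {Y : C} (y : ZZ.{w} Y ⟶ Q) : Q.obj (op Y) := y.app (op Y) (FreeAbelianGroup.of ⟨𝟙 Y⟩)

theorem ofNat_toNat {Y : C} (x : Q.obj (op Y)) : ofNat.{w} Q (toNat.{w} Q x) = x := by
  unfold ofNat
  rw [toNat_of]
  change Q.map (𝟙 _) x = x
  rw [Q.map_id]
  rfl

theorem ofNat_ZZmap {Y Y' : C} (φ : Y' ⟶ Y) (y : ZZ.{w} Y ⟶ Q) :
    ofNat.{w} Q (ZZmap.{w} φ ≫ y) = Q.map φ.op (ofNat.{w} Q y) := by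
  unfold ofNat
  have h1 := ConcreteCategory.congr_hom (y.naturality φ.op) (FreeAbelianGroup.of ⟨𝟙 Y⟩)
  change y.app (op Y') ((ZZ.{w} Y).map φ.op (FreeAbelianGroup.of ⟨𝟙 Y⟩)) =
    Q.map φ.op (y.app (op Y) (FreeAbelianGroup.of ⟨𝟙 Y⟩)) at h1
  rw [← h1, ZZ_map_of]
  change y.app (op Y') ((ZZmap.{w} φ).app (op Y') (FreeAbelianGroup.of ⟨𝟙 Y'⟩)) = _
  rw [ZZmap_of]
  simp

theorem ZZmap_toNat {Y Y' : C} (φ : Y' ⟶ Y) (x : Q.obj (op Y)) :
    ZZmap.{w} φ ≫ toNat.{w} Q x = toNat.{w} Q (Q.map φ.op x) := by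
  ext V : 2
  refine AddCommGrpCat.hom_ext (FreeAbelianGroup.lift_ext _ _ (fun f => ?_))
  change (toNat.{w} Q x).app V ((ZZmap.{w} φ).app V (FreeAbelianGroup.of f)) =
    (toNat.{w} Q (Q.map φ.op x)).app V (FreeAbelianGroup.of f)
  rw [ZZmap_of, toNat_of, toNat_of]
  change Q.map (f.down ≫ φ).op x = _
  rw [op_comp, Q.map_comp]
  rfl

theorem toNat_add {Y : C} (x x' : Q.obj (op Y)) :
    toNat.{w} Q (x + x') = toNat.{w} Q x + toNat.{w} Q x' := by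
  ext V : 2
  refine AddCommGrpCat.hom_ext (FreeAbelianGroup.lift_ext _ _ (fun f => ?_))
  change (toNat.{w} Q (x + x')).app V (FreeAbelianGroup.of f) =
    (toNat.{w} Q x).app V (FreeAbelianGroup.of f) + (toNat.{w} Q x').app V (FreeAbelianGroup.of f)
  rw [toNat_of, toNat_of, toNat_of, map_add]

/-- `toNat` as an additive map. -/
def toNatHom (Y : C) : Q.obj (op Y) →+ (ZZ.{w} Y ⟶ Q) :=
  AddMonoidHom.mk' (toNat.{w} Q) (toNat_add Q)

theorem toNatHom_apply {Y : C} (x : Q.obj (op Y)) : toNatHom.{w} Q Y x = toNat.{w} Q x := rfl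

/-- `ofNat` as an additive map. -/
def ofNatHom (Y : C) : (ZZ.{w} Y ⟶ Q) →+ Q.obj (op Y) where
  toFun := ofNat.{w} Q
  map_zero' := rfl
  map_add' _ _ := rfl

theorem ofNatHom_apply {Y : C} (y : ZZ.{w} Y ⟶ Q) : ofNatHom.{w} Q Y y = ofNat.{w} Q y := rfl

end Free


section Extension

theorem exists_extension {𝒜 : Type*} [Category 𝒜] [Abelian 𝒜] {A B I : 𝒜} [Injective I]
    (φ : A ⟶ B) (x : A ⟶ I) (h : kernel.ι φ ≫ x = 0) : ∃ y : B ⟶ I, φ ≫ y = x := by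
  let x' : Abelian.coimage φ ⟶ I := cokernel.desc (kernel.ι φ) x h
  let μ : Abelian.coimage φ ⟶ B := Abelian.coimageImageComparison φ ≫ Abelian.image.ι φ
  refine ⟨Injective.factorThru x' μ, ?_⟩
  have h1 : Abelian.coimage.π φ ≫ μ = φ := Abelian.coimage_image_factorisation φ
  calc φ ≫ Injective.factorThru x' μ = Abelian.coimage.π φ ≫ μ ≫ Injective.factorThru x' μ := by
        rw [← Category.assoc, h1]
    _ = Abelian.coimage.π φ ≫ x' := by rw [Injective.comp_factorThru]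
    _ = x := cokernel.π_desc _ _ _

variable {C : Type u} [Category.{v} C]

theorem exists_extension_presheaf {A B I : Cᵒᵖ ⥤ AddCommGrpCat.{w}} [Injective I]
    (φ : A ⟶ B) (x : A ⟶ I)
    (h : ∀ (V : Cᵒᵖ) (z : A.obj V), φ.app V z = 0 → x.app V z = 0) :
    ∃ y : B ⟶ I, φ ≫ y = x := by
  apply exists_extension
  ext V κ
  have h1 : φ.app V ((kernel.ι φ).app V κ) = 0 := by
    have := congrArg (fun t => t.app V) (kernel.condition φ)
    exact ConcreteCategory.congr_hom this κ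
  exact h V _ h1

end Extension


section Homotopy
variable {𝒮 : Type u} [Category.{v} 𝒮] {T Y₀ : 𝒮} (a : Y₀ ⟶ T) [HasFiniteProducts (Over Y₀)]
  (X₀ : Over Y₀)

/-- a morphism into `(Over.map a).obj Y` from data over `Y₀`. -/
def mkΨ {Y : Over Y₀} (V : Over T) (g : V.left ⟶ Y₀) (hg : g ≫ a = V.hom) (e : Over.mk g ⟶ Y) :
    V ⟶ (Over.map a).obj Y :=
  Over.homMk e.left (by
    change e.left ≫ Y.hom ≫ a = V.hom
    rw [← Category.assoc, Over.w e]
    exact hg)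

theorem mkΨ_left {Y : Over Y₀} (V : Over T) (g : V.left ⟶ Y₀) (hg : g ≫ a = V.hom)
    (e : Over.mk g ⟶ Y) : (mkΨ a V g hg e).left = e.left := rfl

theorem mkΨ_comp {Y Y' : Over Y₀} (V : Over T) (g : V.left ⟶ Y₀) (hg : g ≫ a = V.hom)
    (e : Over.mk g ⟶ Y) (φ : Y ⟶ Y') :
    mkΨ a V g hg e ≫ (Over.map a).map φ = mkΨ a V g hg (e ≫ φ) := by
  ext
  rfl

/-- a chosen base point. -/
noncomputable def bp {Z : 𝒮} (g : Z ⟶ Y₀) (h : Nonempty (Over.mk g ⟶ X₀)) : Over.mk g ⟶ X₀ :=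
  Classical.choice h

/-- the cone construction. -/
noncomputable def hc (k : ℕ) (V : Over T) (g : V.left ⟶ Y₀) (hg : g ≫ a = V.hom)
    (e : Fin (k + 1) → (Over.mk g ⟶ X₀)) : V ⟶ (Over.map a).obj (W X₀ (k + 1)) :=
  mkΨ a V g hg (Pi.lift (Fin.cons (α := fun _ => (Over.mk g ⟶ X₀)) (bp X₀ g ⟨e 0⟩) e))

theorem hc_congr (k : ℕ) (V : Over T) (g g' : V.left ⟶ Y₀) (hg : g ≫ a = V.hom)
    (hg' : g' ≫ a = V.hom) (e : Fin (k + 1) → (Over.mk g ⟶ X₀))
    (e' : Fin (k + 1) → (Over.mk g' ⟶ X₀)) (h : g = g') (he : ∀ i, (e i).left = (e' i).left) :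
    hc a X₀ k V g hg e = hc a X₀ k V g' hg' e' := by
  subst h
  have : e = e' := funext (fun i => Over.OverMorphism.ext (he i))
  subst this
  rfl

theorem hc_zero (k : ℕ) (V : Over T) (g : V.left ⟶ Y₀) (hg : g ≫ a = V.hom)
    (e : Fin (k + 1) → (Over.mk g ⟶ X₀)) :
    hc a X₀ k V g hg e ≫ (Over.map a).map (θ X₀ k 0) = mkΨ a V g hg (Pi.lift e) := by
  unfold hc
  rw [mkΨ_comp]
  congr 1
  apply Limits.Pi.hom_ext
  intro i
  rw [Category.assoc, θ_π, Pi.lift_π, Pi.lift_π, Fin.succAbove_zero, Fin.cons_succ]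

theorem hc_succ (k : ℕ) (V : Over T) (g : V.left ⟶ Y₀) (hg : g ≫ a = V.hom)
    (e : Fin (k + 2) → (Over.mk g ⟶ X₀)) (j : Fin (k + 2)) :
    hc a X₀ (k + 1) V g hg e ≫ (Over.map a).map (θ X₀ (k + 1) j.succ) =
      hc a X₀ k V g hg (e ∘ j.succAbove) := by
  unfold hc
  rw [mkΨ_comp]
  congr 1
  apply Limits.Pi.hom_ext
  intro i
  rw [Category.assoc, θ_π, Pi.lift_π, Pi.lift_π]
  induction i using Fin.cases with
  | zero =>
    rw [Fin.succ_succAbove_zero, Fin.cons_zero, Fin.cons_zero]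
  | succ i => rw [Fin.succ_succAbove_succ, Fin.cons_succ, Fin.cons_succ]; rfl

variable {a X₀}

/-- the structure map to `Y₀` of a section. -/
noncomputable def gOf {k : ℕ} {V : Over T} (f : V ⟶ (Over.map a).obj (W X₀ k)) : V.left ⟶ Y₀ :=
  f.left ≫ (W X₀ k).hom

theorem gOf_a {k : ℕ} {V : Over T} (f : V ⟶ (Over.map a).obj (W X₀ k)) : gOf f ≫ a = V.hom := by
  unfold gOf
  rw [Category.assoc]
  exact Over.w f

/-- the section, as a morphism over `Y₀`. -/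
noncomputable def fOf {k : ℕ} {V : Over T} (f : V ⟶ (Over.map a).obj (W X₀ k)) : Over.mk (gOf f) ⟶ W X₀ k :=
  Over.homMk f.left rfl

/-- the components of a section. -/
noncomputable def eOf {k : ℕ} {V : Over T} (f : V ⟶ (Over.map a).obj (W X₀ k)) (i : Fin (k + 1)) :
    Over.mk (gOf f) ⟶ X₀ :=
  fOf f ≫ Pi.π _ i

theorem mkΨ_eOf {k : ℕ} {V : Over T} (f : V ⟶ (Over.map a).obj (W X₀ k)) :
    mkΨ a V (gOf f) (gOf_a f) (Pi.lift (eOf f)) = f := by
  have : Pi.lift (eOf f) = fOf f := by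
    apply Limits.Pi.hom_ext
    intro i
    rw [Pi.lift_π]
    rfl
  rw [this]
  ext
  rfl

/-- the cone over a section. -/
noncomputable def hcons {k : ℕ} {V : Over T} (f : V ⟶ (Over.map a).obj (W X₀ k)) :
    V ⟶ (Over.map a).obj (W X₀ (k + 1)) :=
  hc a X₀ k V (gOf f) (gOf_a f) (eOf f)

theorem hcons_zero {k : ℕ} {V : Over T} (f : V ⟶ (Over.map a).obj (W X₀ k)) :
    hcons f ≫ (Over.map a).map (θ X₀ k 0) = f := by
  unfold hcons
  rw [hc_zero, mkΨ_eOf]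

theorem hcons_succ {k : ℕ} {V : Over T} (f : V ⟶ (Over.map a).obj (W X₀ (k + 1))) (j : Fin (k + 2)) :
    hcons f ≫ (Over.map a).map (θ X₀ (k + 1) j.succ) =
      hcons (f ≫ (Over.map a).map (θ X₀ k j)) := by
  unfold hcons
  rw [hc_succ]
  apply hc_congr
  · unfold gOf
    rw [Over.comp_left, Category.assoc]
    congr 1
    exact (Over.w (θ X₀ k j)).symm
  · intro i
    change f.left ≫ (Pi.π (fun _ : Fin (k + 2) => X₀) (j.succAbove i)).left =
      (f.left ≫ (θ X₀ k j).left) ≫ (Pi.π (fun _ : Fin (k + 1) => X₀) i).left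
    rw [Category.assoc, ← Over.comp_left, θ_π]

variable (a X₀)

/-- the boundary of the free resolution. -/
noncomputable def dZ (k : ℕ) :
    ZZ.{w} ((Over.map a).obj (W X₀ (k + 1))) ⟶ ZZ.{w} ((Over.map a).obj (W X₀ k)) :=
  ∑ j : Fin (k + 2), ((-1 : ℤ) ^ (j : ℕ)) • ZZmap.{w} ((Over.map a).map (θ X₀ k j))

theorem dZ_app_of (k : ℕ) (V : (Over T)ᵒᵖ) (f : V.unop ⟶ (Over.map a).obj (W X₀ (k + 1))) :
    (dZ.{w} a X₀ k).app V (FreeAbelianGroup.of ⟨f⟩) =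
      ∑ j : Fin (k + 2), ((-1 : ℤ) ^ (j : ℕ)) •
        (FreeAbelianGroup.of (⟨f ≫ (Over.map a).map (θ X₀ k j)⟩ :
          ULift.{w} (V.unop ⟶ (Over.map a).obj (W X₀ k)))) := by
  unfold dZ
  rw [NatTrans.app_sum]
  have := map_sum (evalHom (N := (ZZ.{w} ((Over.map a).obj (W X₀ k))).obj V)
    (FreeAbelianGroup.of (⟨f⟩ : ULift.{w} (V.unop ⟶ (Over.map a).obj (W X₀ (k + 1))))))
    (fun j : Fin (k + 2) => (((-1 : ℤ) ^ (j : ℕ)) • ZZmap.{w} ((Over.map a).map (θ X₀ k j))).app V)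
    Finset.univ
  refine this.trans ?_
  refine Finset.sum_congr rfl (fun j _ => ?_)
  rw [NatTrans.app_zsmul]
  change ((-1 : ℤ) ^ (j : ℕ)) • ((ZZmap.{w} ((Over.map a).map (θ X₀ k j))).app V
    (FreeAbelianGroup.of ⟨f⟩)) = _
  rw [ZZmap_of]
  rfl

/-- the groups of the free resolution. -/
abbrev FZ (k : ℕ) (V : (Over T)ᵒᵖ) : Type (max w v) :=
  FreeAbelianGroup (ULift.{w} (V.unop ⟶ (Over.map a).obj (W X₀ k)))

/-- the boundary, objectwise, as a plain additive map. -/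
noncomputable def dZ' (k : ℕ) (V : (Over T)ᵒᵖ) : FZ.{w} a X₀ (k + 1) V →+ FZ.{w} a X₀ k V :=
  ∑ j : Fin (k + 2), ((-1 : ℤ) ^ (j : ℕ)) •
    FreeAbelianGroup.map (fun f : ULift.{w} (V.unop ⟶ (Over.map a).obj (W X₀ (k + 1))) =>
      (⟨f.down ≫ (Over.map a).map (θ X₀ k j)⟩ : ULift.{w} (V.unop ⟶ (Over.map a).obj (W X₀ k))))

theorem dZ'_of (k : ℕ) (V : (Over T)ᵒᵖ) (f : V.unop ⟶ (Over.map a).obj (W X₀ (k + 1))) :
    dZ'.{w} a X₀ k V (FreeAbelianGroup.of ⟨f⟩) =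
      ∑ j : Fin (k + 2), ((-1 : ℤ) ^ (j : ℕ)) •
        (FreeAbelianGroup.of (⟨f ≫ (Over.map a).map (θ X₀ k j)⟩ :
          ULift.{w} (V.unop ⟶ (Over.map a).obj (W X₀ k)))) := by
  unfold dZ'
  rw [AddMonoidHom.finsetSum_apply]
  refine Finset.sum_congr rfl (fun j _ => ?_)
  rw [AddMonoidHom.smul_apply, FreeAbelianGroup.map_of_apply]

theorem dZ_app_eq (k : ℕ) (V : (Over T)ᵒᵖ) (z : FZ.{w} a X₀ (k + 1) V) :
    (dZ.{w} a X₀ k).app V z = dZ'.{w} a X₀ k V z := by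
  have key : ((dZ.{w} a X₀ k).app V).hom = dZ'.{w} a X₀ k V := by
    refine FreeAbelianGroup.lift_ext _ _ (fun f => ?_)
    obtain ⟨f⟩ := f
    exact (dZ_app_of.{w} a X₀ k V f).trans (dZ'_of.{w} a X₀ k V f).symm
  exact DFunLike.congr_fun key z

/-- the contracting homotopy, objectwise. -/
noncomputable def hh (k : ℕ) (V : (Over T)ᵒᵖ) : FZ.{w} a X₀ k V →+ FZ.{w} a X₀ (k + 1) V :=
  FreeAbelianGroup.map (fun f => ⟨hcons f.down⟩)

theorem hh_of (k : ℕ) (V : (Over T)ᵒᵖ) (f : ULift.{w} (V.unop ⟶ (Over.map a).obj (W X₀ k))) :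
    hh.{w} a X₀ k V (FreeAbelianGroup.of f) = FreeAbelianGroup.of ⟨hcons f.down⟩ :=
  FreeAbelianGroup.map_of_apply _

theorem homotopy_identity (k : ℕ) (V : (Over T)ᵒᵖ) (z : FZ.{w} a X₀ (k + 1) V) :
    dZ'.{w} a X₀ (k + 1) V (hh.{w} a X₀ (k + 1) V z) +
      hh.{w} a X₀ k V (dZ'.{w} a X₀ k V z) = z := by
  have key : ((dZ'.{w} a X₀ (k + 1) V).comp (hh.{w} a X₀ (k + 1) V) +
      (hh.{w} a X₀ k V).comp (dZ'.{w} a X₀ k V)) = AddMonoidHom.id _ := by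
    refine FreeAbelianGroup.lift_ext _ _ (fun f => ?_)
    obtain ⟨f⟩ := f
    change dZ'.{w} a X₀ (k + 1) V (hh.{w} a X₀ (k + 1) V (FreeAbelianGroup.of ⟨f⟩)) +
      hh.{w} a X₀ k V (dZ'.{w} a X₀ k V (FreeAbelianGroup.of ⟨f⟩)) = FreeAbelianGroup.of ⟨f⟩
    rw [hh_of, dZ'_of, dZ'_of, map_sum, Fin.sum_univ_succ]
    simp only [hcons_zero, hcons_succ, map_zsmul, hh_of, Fin.val_zero, pow_zero, one_smul,
      Fin.val_succ, pow_succ, mul_neg, mul_one, neg_smul, Finset.sum_neg_distrib]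
    abel
  exact DFunLike.congr_fun key z

theorem dZ_exact (k : ℕ) (V : (Over T)ᵒᵖ)
    (z : (ZZ.{w} ((Over.map a).obj (W X₀ (k + 1)))).obj V) (hz : (dZ.{w} a X₀ k).app V z = 0) :
    ∃ z' : (ZZ.{w} ((Over.map a).obj (W X₀ (k + 2)))).obj V, (dZ.{w} a X₀ (k + 1)).app V z' = z := by
  refine ⟨hh.{w} a X₀ (k + 1) V z, ?_⟩
  have h1 := homotopy_identity.{w} a X₀ k V z
  have h2 : dZ'.{w} a X₀ k V z = 0 := (dZ_app_eq.{w} a X₀ k V z).symm.trans hz
  rw [h2, map_zero, add_zero] at h1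
  exact (dZ_app_eq.{w} a X₀ (k + 1) V _).trans h1


variable (P : (Over T)ᵒᵖ ⥤ AddCommGrpCat.{max w v})

theorem dP_Ψ_apply (k : ℕ) (x : P.obj (op ((Over.map a).obj (W X₀ k)))) :
    dP (X₀ := X₀) ((Over.map a).op ⋙ P) k x =
      ∑ j : Fin (k + 2), ((-1 : ℤ) ^ (j : ℕ)) • P.map ((Over.map a).map (θ X₀ k j)).op x :=
  dP_apply (X₀ := X₀) ((Over.map a).op ⋙ P) k x

theorem dZ_toNat (k : ℕ) (x : P.obj (op ((Over.map a).obj (W X₀ k)))) :
    dZ.{w} a X₀ k ≫ toNat.{w} P x =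
      toNat.{w} P (dP (X₀ := X₀) ((Over.map a).op ⋙ P) k x) := by
  rw [dP_Ψ_apply]
  have e : toNat.{w} P (∑ j : Fin (k + 2), ((-1 : ℤ) ^ (j : ℕ)) •
      P.map ((Over.map a).map (θ X₀ k j)).op x) =
      ∑ j : Fin (k + 2), ((-1 : ℤ) ^ (j : ℕ)) •
        toNat.{w} P (P.map ((Over.map a).map (θ X₀ k j)).op x) := by
    change toNatHom.{w} P _ _ = _
    rw [map_sum]
    refine Finset.sum_congr rfl (fun j _ => ?_)
    rw [map_zsmul]
    rfl
  rw [e]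
  unfold dZ
  rw [Preadditive.sum_comp]
  refine Finset.sum_congr rfl (fun j _ => ?_)
  rw [Preadditive.zsmul_comp, ZZmap_toNat]

theorem dP_ofNat (k : ℕ) (y : ZZ.{w} ((Over.map a).obj (W X₀ k)) ⟶ P) :
    dP (X₀ := X₀) ((Over.map a).op ⋙ P) k (ofNat.{w} P y) = ofNat.{w} P (dZ.{w} a X₀ k ≫ y) := by
  rw [dP_Ψ_apply]
  unfold dZ
  rw [Preadditive.sum_comp]
  have e : ofNat.{w} P (∑ j : Fin (k + 2),
      (((-1 : ℤ) ^ (j : ℕ)) • ZZmap.{w} ((Over.map a).map (θ X₀ k j))) ≫ y) =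
      ∑ j : Fin (k + 2), ((-1 : ℤ) ^ (j : ℕ)) •
        ofNat.{w} P (ZZmap.{w} ((Over.map a).map (θ X₀ k j)) ≫ y) := by
    change ofNatHom.{w} P _ _ = _
    rw [map_sum]
    refine Finset.sum_congr rfl (fun j _ => ?_)
    rw [Preadditive.zsmul_comp, map_zsmul]
    rfl
  rw [e]
  refine Finset.sum_congr rfl (fun j _ => ?_)
  rw [ofNat_ZZmap]

/-- the Čech complex of an injective abelian presheaf is exact in positive degrees, for any "cover". -/
theorem exactP_of_injective [Injective P] (n : ℕ) :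
    ExactP (X₀ := X₀) ((Over.map a).op ⋙ P) n := by
  intro x hx
  have h1 : dZ.{w} a X₀ (n + 1) ≫ toNat.{w} P x = 0 := by
    rw [dZ_toNat, hx]
    exact (toNatHom.{w} P _).map_zero
  obtain ⟨y, hy⟩ := exists_extension_presheaf (dZ.{w} a X₀ n) (toNat.{w} P x) (by
    intro V z hz
    obtain ⟨z', rfl⟩ := dZ_exact.{w} a X₀ n V z hz
    have := ConcreteCategory.congr_hom (congrArg (fun t => t.app V) h1) z'
    exact this)
  refine ⟨ofNat.{w} P y, ?_⟩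
  rw [dP_ofNat, hy, ofNat_toNat]

end Homotopy

section Sheaf

theorem injective_presheaf_of_sheaf {C : Type u} [Category.{v} C] (J : GrothendieckTopology C)
    [HasSheafify J AddCommGrpCat.{w}]
    (I : Sheaf J AddCommGrpCat.{w}) [Injective I] : Injective I.obj := by
  have : (presheafToSheaf J AddCommGrpCat.{w}).PreservesMonomorphisms := inferInstance
  exact Injective.injective_of_adjoint (sheafificationAdjunction J AddCommGrpCat.{w}) I

end Sheaf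

end Groth.Agent.Lib.Helper86.CechInj
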