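import Mathlib
import Groth.Agent.Lib.Helper86.CechPow
import Groth.Agent.Lib.Helper86.CechInj

open CategoryTheory Limits Opposite

/-! # Reverse dimension shifting, gluing of local lifts, and the augmented Čech complex of a sheaf -/

namespace Groth.Agent.Lib.Helper86.CechCartan
universe w v u

open Groth.Agent.Lib.Helper86.CechPow Groth.Agent.Lib.Helper86.CechInj

section Chase2
variable {𝒞 : Type u} [Category.{v} 𝒞] [HasFiniteProducts 𝒞] {X₀ : 𝒞}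
variable {P G Q : 𝒞ᵒᵖ ⥤ AddCommGrpCat.{w}} (ι : P ⟶ G) (π : G ⟶ Q)
  (hinj : ∀ n, Function.Injective (ι.app (op (W X₀ n))))
  (hex : ∀ n (y : G.obj (op (W X₀ n))), π.app _ y = 0 → ∃ x, ι.app _ x = y)
  (hzero : ∀ n (x : P.obj (op (W X₀ n))), π.app _ (ι.app _ x) = 0)

include hinj hex hzero in
/-- reverse dimension shifting. -/
theorem exactP_chase_rev (n : ℕ) (hsurj : Function.Surjective (π.app (op (W X₀ (n + 1)))))
    (hP : ExactP (X₀ := X₀) P (n + 1)) (hG : ExactP (X₀ := X₀) G n) :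
    ExactP (X₀ := X₀) Q n := by
  intro x hx
  obtain ⟨y, rfl⟩ := hsurj x
  have h1 : π.app _ (dP G (n + 1) y) = 0 := by
    rw [dP_naturality_apply, hx]
  obtain ⟨g, hg⟩ := hex _ _ h1
  have h2 : dP P (n + 2) g = 0 := by
    apply hinj
    rw [dP_naturality_apply, hg, dP_dP_apply, map_zero]
  obtain ⟨g', rfl⟩ := hP g h2
  have h3 : dP G (n + 1) (y - ι.app _ g') = 0 := by
    rw [map_sub, ← dP_naturality_apply, hg, sub_self]
  obtain ⟨y'', hy''⟩ := hG _ h3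
  refine ⟨π.app _ y'', ?_⟩
  rw [← dP_naturality_apply, hy'', map_sub, hzero, sub_zero]

include hinj hex hzero in
/-- local lifts along a "cover" with vanishing Čech `H¹` of the kernel give global lifts. -/
theorem lift_of_local (Z : 𝒞) (hZ : IsTerminal Z) (hP : ExactP (X₀ := X₀) P 0)
    (hGaug : ∀ y : G.obj (op (W X₀ 0)), dP G 0 y = 0 →
      ∃ y' : G.obj (op Z), G.map (hZ.from (W X₀ 0)).op y' = y)
    (hQsep : ∀ q q' : Q.obj (op Z),
      Q.map (hZ.from (W X₀ 0)).op q = Q.map (hZ.from (W X₀ 0)).op q' → q = q')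
    (q : Q.obj (op Z)) (y : G.obj (op (W X₀ 0)))
    (hy : π.app _ y = Q.map (hZ.from (W X₀ 0)).op q) : ∃ y' : G.obj (op Z), π.app _ y' = q := by
  have h4 : dP Q 0 (Q.map (hZ.from (W X₀ 0)).op q) = 0 := by
    rw [dP_apply, Fin.sum_univ_two, map_comp_apply', map_comp_apply',
      hZ.hom_ext (θ X₀ 0 0 ≫ hZ.from (W X₀ 0)) (θ X₀ 0 1 ≫ hZ.from (W X₀ 0))]
    simp
  have h1 : π.app _ (dP G 0 y) = 0 := by
    rw [dP_naturality_apply, hy, h4]
  obtain ⟨g, hg⟩ := hex _ _ h1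
  have h2 : dP P 1 g = 0 := by
    apply hinj
    rw [dP_naturality_apply, hg, dP_dP_apply, map_zero]
  obtain ⟨g₀, rfl⟩ := hP g h2
  have h3 : dP G 0 (y - ι.app _ g₀) = 0 := by
    rw [map_sub, ← dP_naturality_apply, hg, sub_self]
  obtain ⟨y', hy'⟩ := hGaug _ h3
  refine ⟨y', hQsep _ _ ?_⟩
  have hnat : π.app _ (G.map (hZ.from (W X₀ 0)).op y') = Q.map (hZ.from (W X₀ 0)).op (π.app _ y') :=
    ConcreteCategory.congr_hom (π.naturality (hZ.from (W X₀ 0)).op) y'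
  rw [← hnat, hy', map_sub, hzero, sub_zero, hy]

end Chase2

section Sheaf
variable {𝒮 : Type u} [Category.{v} 𝒮] {T Y₀ : 𝒮} (a : Y₀ ⟶ T) [HasFiniteProducts (Over Y₀)]
  (X₀ : Over Y₀)

theorem mkΨ_fOf {k : ℕ} {V : Over T} (f : V ⟶ (Over.map a).obj (W X₀ k)) :
    mkΨ a V (gOf f) (gOf_a f) (fOf f) = f := by
  ext
  rfl

theorem weak_pullback' (V : Over T) (g₀ : V.left ⟶ Y₀) (hg₀ : g₀ ≫ a = V.hom)
    (e e' : Over.mk g₀ ⟶ W X₀ 0) :
    ∃ h : V ⟶ (Over.map a).obj (W X₀ 1),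
      h ≫ (Over.map a).map (θ X₀ 0 0) = mkΨ a V g₀ hg₀ e' ∧
      h ≫ (Over.map a).map (θ X₀ 0 1) = mkΨ a V g₀ hg₀ e := by
  refine ⟨mkΨ a V g₀ hg₀ (Pi.lift (Fin.cons (α := fun _ => (Over.mk g₀ ⟶ X₀))
    (e ≫ Pi.π _ 0) (fun _ => e' ≫ Pi.π _ 0))), ?_, ?_⟩
  · rw [mkΨ_comp]
    congr 1
    apply Limits.Pi.hom_ext
    intro i
    rw [Category.assoc, θ_π, Pi.lift_π]
    fin_cases i
    rfl
  · rw [mkΨ_comp]
    congr 1
    apply Limits.Pi.hom_ext
    intro i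
    rw [Category.assoc, θ_π, Pi.lift_π]
    fin_cases i
    rfl

variable {a X₀}

theorem weak_pullback (Z : Over Y₀) (hZ : IsTerminal Z) (V : Over T)
    (g g' : V ⟶ (Over.map a).obj (W X₀ 0))
    (h : g ≫ (Over.map a).map (hZ.from (W X₀ 0)) = g' ≫ (Over.map a).map (hZ.from (W X₀ 0))) :
    ∃ h : V ⟶ (Over.map a).obj (W X₀ 1),
      h ≫ (Over.map a).map (θ X₀ 0 0) = g' ∧ h ≫ (Over.map a).map (θ X₀ 0 1) = g := by
  have hgg : gOf g = gOf g' := by
    unfold gOf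
    have h1 := congrArg (fun t => t.left ≫ Z.hom) h
    simp only [Over.comp_left, Over.map_map_left, Category.assoc, Over.w] at h1
    exact h1
  let e' : Over.mk (gOf g) ⟶ W X₀ 0 := Over.homMk g'.left hgg.symm
  obtain ⟨h, h0, h1⟩ := weak_pullback' a X₀ V (gOf g) (gOf_a g) (fOf g) e'
  refine ⟨h, h0.trans ?_, h1.trans (mkΨ_fOf a X₀ g)⟩
  ext
  rfl

variable (P : (Over T)ᵒᵖ ⥤ AddCommGrpCat.{w})

theorem dP_zero_iff (y : P.obj (op ((Over.map a).obj (W X₀ 0))))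
    (hy : dP (X₀ := X₀) ((Over.map a).op ⋙ P) 0 y = 0) :
    P.map ((Over.map a).map (θ X₀ 0 0)).op y = P.map ((Over.map a).map (θ X₀ 0 1)).op y := by
  have h1 := dP_apply (X₀ := X₀) ((Over.map a).op ⋙ P) 0 y
  rw [hy, Fin.sum_univ_two] at h1
  change (0 : P.obj (op ((Over.map a).obj (W X₀ 1)))) =
    ((-1 : ℤ) ^ ((0 : Fin 2) : ℕ)) • P.map ((Over.map a).map (θ X₀ 0 0)).op y +
    ((-1 : ℤ) ^ ((1 : Fin 2) : ℕ)) • P.map ((Over.map a).map (θ X₀ 0 1)).op y at h1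
  simp only [Fin.val_zero, pow_zero, one_smul, Fin.val_one, pow_one, neg_smul] at h1
  exact (sub_eq_zero.1 (by rw [sub_eq_add_neg]; exact h1.symm))

/-- the augmented Čech complex is exact at the first spot, by the sheaf condition. -/
theorem aug_of_sheaf (Z : Over Y₀) (hZ : IsTerminal Z)
    (hsh : ∀ y : P.obj (op ((Over.map a).obj (W X₀ 0))),
      (∀ (V : Over T) (g g' : V ⟶ (Over.map a).obj (W X₀ 0)),
        g ≫ (Over.map a).map (hZ.from (W X₀ 0)) = g' ≫ (Over.map a).map (hZ.from (W X₀ 0)) →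
        P.map g.op y = P.map g'.op y) →
      ∃ y' : P.obj (op ((Over.map a).obj Z)), P.map ((Over.map a).map (hZ.from (W X₀ 0))).op y' = y)
    (y : P.obj (op ((Over.map a).obj (W X₀ 0))))
    (hy : dP (X₀ := X₀) ((Over.map a).op ⋙ P) 0 y = 0) :
    ∃ y' : P.obj (op ((Over.map a).obj Z)),
      P.map ((Over.map a).map (hZ.from (W X₀ 0))).op y' = y := by
  refine hsh y (fun V g g' hgg => ?_)
  obtain ⟨h, h0, h1⟩ := weak_pullback Z hZ V g g' hgg
  rw [← h1, ← h0, op_comp, op_comp, P.map_comp, P.map_comp]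
  change P.map h.op (P.map ((Over.map a).map (θ X₀ 0 1)).op y) =
    P.map h.op (P.map ((Over.map a).map (θ X₀ 0 0)).op y)
  rw [dP_zero_iff P y hy]

end Sheaf

end Groth.Agent.Lib.Helper86.CechCartan
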