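import Mathlib
import Groth.Prelude.Def_Adeq2
import Groth.Agent.Lib.Helper86.CechPow
import Groth.Agent.Lib.Helper86.CechInj
import Groth.Agent.Lib.Helper86.CechCartan
import Groth.Agent.Lib.Helper86.Adeq2Sheafify
import Groth.Agent.Lib.Helper86.Adeq2Cech
import Groth.Agent.Lib.Helper28.CartanT

open CategoryTheory Limits Opposite AlgebraicGeometry

/-! # Cartan's criterion on the big fppf site of an affine scheme; vanishing of the higher cohomology
of adequate modules over affine objects (Stacks 46.5) -/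

namespace Groth.Agent.Lib.Helper86.CartanFppf
universe u

open Groth.Agent.Lib.Helper86.CechPow Groth.Agent.Lib.Helper86.CechInj
open Groth.Agent.Lib.Helper86.CechCartan Groth.Agent.Lib.Helper86.Adeq2Sheafify

variable {T : Scheme.{u}}

section Glue
variable (K : Precoverage Scheme.{u})

/-- gluing sections of an abelian sheaf along a covering family. -/
theorem ab_glue_sieve (F : BigSite.Ab K T) {X : Over T} {ι : Type*} (Y : ι → Over T)
    (v : ∀ k, Y k ⟶ X) (hcov : Sieve.ofArrows Y v ∈ QuotSh.J K T X)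
    (y : ∀ k, F.obj.obj (op (Y k)))
    (hy : ∀ k l (Z : Over T) (gk : Z ⟶ Y k) (gl : Z ⟶ Y l), gk ≫ v k = gl ≫ v l →
      F.obj.map gk.op (y k) = F.obj.map gl.op (y l)) :
    ∃ x : F.obj.obj (op X), ∀ k, F.obj.map (v k).op x = y k := by
  have hsh := ((Presheaf.isSheaf_iff_isSheaf_forget _ _ (forget AddCommGrpCat)).1 F.property)
  have hsh' := (isSheaf_iff_isSheaf_of_type _ _).1 hsh
  have h0 : (Presieve.ofArrows Y v).IsSheafFor (F.obj ⋙ forget AddCommGrpCat) := by
    rw [Presieve.isSheafFor_iff_generate]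
    exact hsh' _ hcov
  have h := (Presieve.isSheafFor_arrows_iff _ _).1 h0
  obtain ⟨t, ht, -⟩ := h y (fun i j Z gi gj hg => hy i j Z gi gj hg)
  exact ⟨t, ht⟩

/-- separatedness of an abelian sheaf along a covering family. -/
theorem ab_sep_sieve (F : BigSite.Ab K T) {X : Over T} {ι : Type*} (Y : ι → Over T)
    (v : ∀ k, Y k ⟶ X) (hcov : Sieve.ofArrows Y v ∈ QuotSh.J K T X)
    (x x' : F.obj.obj (op X)) (h : ∀ k, F.obj.map (v k).op x = F.obj.map (v k).op x') : x = x' := by
  have hsh := ((Presheaf.isSheaf_iff_isSheaf_forget _ _ (forget AddCommGrpCat)).1 F.property)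
  have hsh' := (isSheaf_iff_isSheaf_of_type _ _).1 hsh
  have h0 : (Presieve.ofArrows Y v).IsSheafFor (F.obj ⋙ forget AddCommGrpCat) := by
    rw [Presieve.isSheafFor_iff_generate]
    exact hsh' _ hcov
  have h1 := (Presieve.isSheafFor_arrows_iff _ _).1 h0
  have hc : Presieve.Arrows.Compatible (F.obj ⋙ forget AddCommGrpCat) v
      (fun k => F.obj.map (v k).op x') := by
    intro i j Z gi gj hg
    change F.obj.map gi.op (F.obj.map (v i).op x') = F.obj.map gj.op (F.obj.map (v j).op x')
    rw [map_comp_apply', map_comp_apply', hg]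
  obtain ⟨t, -, ht⟩ := h1 _ hc
  exact (ht x h).trans (ht x' (fun _ => rfl)).symm

end Glue

abbrev KK := Scheme.fppfPrecoverage.{u}

/-- sections over an empty object vanish. -/
theorem subsingleton_of_isEmpty (F : BigSite.Ab KK T) (V : Over T) [IsEmpty V.left] :
    Subsingleton (F.obj.obj (op V)) := by
  have H : (⊥ : Sieve V) ∈ QuotSh.J KK T V := by
    rw [QuotSh.J, GrothendieckTopology.mem_over_iff, map_bot]
    exact Scheme.bot_mem_grothendieckTopology V.left
  have hT := Sheaf.isTerminalOfBotCover F V H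
  refine ⟨fun x y => ?_⟩
  have h1 : 𝟙 (F.obj.obj (op V)) = 0 := hT.hom_ext _ _
  have hx : x = 0 := ConcreteCategory.congr_hom h1 x
  have hy : y = 0 := ConcreteCategory.congr_hom h1 y
  exact hx.trans hy.symm

section StepA
variable {n : ℕ} (C : Fin n → CommRingCat.{u}) (c : Spec (CommRingCat.of (∀ k, C k)) ⟶ T)

/-- the pieces of `Spec` of a finite product. -/
noncomputable abbrev piece (k : Fin n) : Over T :=
  Over.mk (Spec.map (CommRingCat.ofHom (Pi.evalRingHom (fun k => (C k : Type u)) k)) ≫ c)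

/-- the inclusions of the pieces. -/
noncomputable abbrev pieceHom (k : Fin n) : piece C c k ⟶ Over.mk c :=
  Over.homMk (Spec.map (CommRingCat.ofHom (Pi.evalRingHom (fun k => (C k : Type u)) k))) rfl

theorem piece_cover : Sieve.ofArrows (piece C c) (pieceHom C c) ∈ QuotSh.J KK T (Over.mk c) := by
  rw [QuotSh.J, GrothendieckTopology.mem_over_iff, Sieve.overEquiv_ofArrows]
  apply Precoverage.generate_mem_toGrothendieck
  apply Scheme.zariskiPrecoverage_le_fppfPrecoverage
  rw [Scheme.zariskiPrecoverage, Scheme.ofArrows_mem_precoverage_iff]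
  refine ⟨fun x => ?_, fun k => ?_⟩
  · obtain ⟨⟨k, p⟩, hp⟩ := (PrimeSpectrum.sigmaToPi_bijective (fun k => (C k : Type u))).2 x
    exact ⟨k, p, hp⟩
  · change IsOpenImmersion (Spec.map (CommRingCat.ofHom (Pi.evalRingHom (fun k => (C k : Type u)) k)))
    infer_instance

theorem piece_compat (F : BigSite.Ab KK T) (y : ∀ k, F.obj.obj (op (piece C c k)))
    (k l : Fin n) (Z : Over T) (gk : Z ⟶ piece C c k) (gl : Z ⟶ piece C c l)
    (hg : gk ≫ pieceHom C c k = gl ≫ pieceHom C c l) :
    F.obj.map gk.op (y k) = F.obj.map gl.op (y l) := by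
  by_cases hkl : k = l
  · subst hkl
    have h1 : gk.left = gl.left := by
      have h2 := congrArg CommaMorphism.left hg
      simp only [Over.comp_left, Over.homMk_left] at h2
      exact (cancel_mono _).1 h2
    have : gk = gl := Over.OverMorphism.ext h1
    rw [this]
  · haveI : IsEmpty Z.left := by
      refine ⟨fun z => hkl ?_⟩
      have h2 := congrArg CommaMorphism.left hg
      simp only [Over.comp_left, Over.homMk_left] at h2
      have h3 := congrArg (fun t => t z) h2
      simp only [Scheme.Hom.comp_apply] at h3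
      have h4 : PrimeSpectrum.sigmaToPi (fun k => (C k : Type u)) ⟨k, gk.left z⟩ =
          PrimeSpectrum.sigmaToPi (fun k => (C k : Type u)) ⟨l, gl.left z⟩ := h3
      have h5 := PrimeSpectrum.sigmaToPi_injective _ h4
      exact congrArg Sigma.fst h5
    haveI := subsingleton_of_isEmpty F Z
    exact Subsingleton.elim _ _

/-- Step A: sections over the pieces of a finite product glue. -/
theorem piece_glue (F : BigSite.Ab KK T) (y : ∀ k, F.obj.obj (op (piece C c k))) :
    ∃ x : F.obj.obj (op (Over.mk c)), ∀ k, F.obj.map (pieceHom C c k).op x = y k :=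
  ab_glue_sieve KK F (piece C c) (pieceHom C c) (piece_cover C c) y (piece_compat C c F y)

theorem piece_sep (F : BigSite.Ab KK T) (x x' : F.obj.obj (op (Over.mk c)))
    (h : ∀ k, F.obj.map (pieceHom C c k).op x = F.obj.map (pieceHom C c k).op x') : x = x' :=
  ab_sep_sieve KK F (piece C c) (pieceHom C c) (piece_cover C c) x x' h

end StepA


/-- Čech-acyclic abelian presheaves on the big fppf site. -/
def CA (G : (Over T)ᵒᵖ ⥤ AddCommGrpCat.{u + 1}) : Prop :=
  ∀ (R : CommRingCat.{u}) (a : Spec R ⟶ T) (B : Type u) [CommRing B] [Algebra R B]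
    [Module.FaithfullyFlat R B] (n : ℕ),
    ExactP (X₀ := (Over.mk (Spec.map (CommRingCat.ofHom (algebraMap R B))) : Over (Spec R)))
      ((Over.map a).op ⋙ G) n

section Sections
variable {S : ShortComplex (BigSite.Ab KK T)} (hS : S.ShortExact)

include hS in
theorem sec_inj (V : (Over T)ᵒᵖ) : Function.Injective (S.f.hom.app V) := by
  haveI := hS.mono_f
  let E : BigSite.Ab KK T ⥤ AddCommGrpCat.{u + 1} :=
    sheafToPresheaf _ _ ⋙ (evaluation _ _).obj V
  haveI : Mono (E.map S.f) := inferInstance
  exact (AddCommGrpCat.mono_iff_injective (E.map S.f)).1 this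

include hS in
theorem sec_ex (V : (Over T)ᵒᵖ) (y : S.X₂.obj.obj V) (hy : S.g.hom.app V y = 0) :
    ∃ x, S.f.hom.app V x = y := by
  let E : BigSite.Ab KK T ⥤ AddCommGrpCat.{u + 1} :=
    sheafToPresheaf _ _ ⋙ (evaluation _ _).obj V
  haveI : E.PreservesZeroMorphisms := ⟨fun _ _ => rfl⟩
  have h2 := hS.exact.map_of_mono_of_preservesKernel E hS.mono_f inferInstance
  rw [ShortComplex.ab_exact_iff] at h2
  exact h2 y hy

theorem sec_zero (V : (Over T)ᵒᵖ) (x : S.X₁.obj.obj V) : S.g.hom.app V (S.f.hom.app V x) = 0 := by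
  have h1 : S.f.hom.app V ≫ S.g.hom.app V = 0 := by
    have h0 := congrArg (fun t => t.hom.app V) S.zero
    exact h0
  exact ConcreteCategory.congr_hom h1 x

end Sections

section Core
variable (R : CommRingCat.{u}) (a : Spec R ⟶ T)

/-- the terminal object of `Over (Spec R)` in the form used by `Adeq.specOver`. -/
noncomputable abbrev ZR : Over (Spec R) := Over.mk (Spec.map (CommRingCat.ofHom (algebraMap R R)))

theorem ZR_hom : (ZR R).hom = 𝟙 (Spec R) := by
  change Spec.map (CommRingCat.ofHom (algebraMap R R)) = 𝟙 (Spec R)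
  rw [Algebra.algebraMap_self, CommRingCat.ofHom_id]
  exact Spec.map_id R

/-- `ZR` is terminal. -/
noncomputable def hZR : IsTerminal (ZR R) :=
  IsTerminal.ofUniqueHom
    (fun V => Over.homMk V.hom ((congrArg (fun t => V.hom ≫ t) (ZR_hom R)).trans (Category.comp_id _)))
    (fun V m => by
      apply Over.OverMorphism.ext
      have h := Over.w m
      rw [ZR_hom] at h
      exact (Category.comp_id _).symm.trans h)

theorem left_from (V : Over (Spec R)) : ((hZR R).from V).left = V.hom := by
  have h := Over.w ((hZR R).from V)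
  rw [ZR_hom] at h
  exact (Category.comp_id _).symm.trans h

end Core


section Core2
variable {S : ShortComplex (BigSite.Ab KK T)} (hS : S.ShortExact)
variable (R : CommRingCat.{u}) (a : Spec R ⟶ T) {n : ℕ} (C : Fin n → CommRingCat.{u})
  [∀ k, Algebra R (C k)]

/-- the single covering object `Spec (∏ C k) → Spec R`. -/
noncomputable abbrev XB : Over (Spec R) :=
  Over.mk (Spec.map (CommRingCat.ofHom (algebraMap R (∀ k, C k))))

/-- the structure morphism of `Spec (∏ C k)` to `T`. -/
noncomputable abbrev cc : Spec (CommRingCat.of (∀ k, C k)) ⟶ T :=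
  Spec.map (CommRingCat.ofHom (algebraMap R (∀ k, C k))) ≫ a

/-- the members of the family, in `Over (Spec R)`. -/
noncomputable abbrev Yk (k : Fin n) : Over (Spec R) :=
  Over.mk (Spec.map (CommRingCat.ofHom (algebraMap R (C k))))

theorem eval_algebraMap (k : Fin n) :
    Spec.map (CommRingCat.ofHom (Pi.evalRingHom (fun k => (C k : Type u)) k)) ≫
      Spec.map (CommRingCat.ofHom (algebraMap R (∀ k, C k))) =
    Spec.map (CommRingCat.ofHom (algebraMap R (C k))) := by
  rw [← Spec.map_comp, ← CommRingCat.ofHom_comp]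
  rfl

/-- the maps of the members to the covering object. -/
noncomputable def mk (k : Fin n) : Yk R C k ⟶ XB R C :=
  Over.homMk (Spec.map (CommRingCat.ofHom (Pi.evalRingHom (fun k => (C k : Type u)) k)))
    (eval_algebraMap R C k)

/-- comparison of the piece with the member of the family. -/
noncomputable def jk (k : Fin n) : piece C (cc R a C) k ⟶ (Over.map a).obj (Yk R C k) :=
  Over.homMk (𝟙 _) (by
    change 𝟙 _ ≫ Spec.map (CommRingCat.ofHom (algebraMap R (C k))) ≫ a =
      Spec.map (CommRingCat.ofHom (Pi.evalRingHom (fun k => (C k : Type u)) k)) ≫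
        Spec.map (CommRingCat.ofHom (algebraMap R (∀ k, C k))) ≫ a
    rw [Category.id_comp, ← Category.assoc, eval_algebraMap])

theorem jk_comp (k : Fin n) :
    jk R a C k ≫ (Over.map a).map ((hZR R).from (Yk R C k)) =
      pieceHom C (cc R a C) k ≫ (Over.map a).map ((hZR R).from (XB R C)) := by
  ext
  change 𝟙 _ ≫ ((hZR R).from (Yk R C k)).left =
    Spec.map (CommRingCat.ofHom (Pi.evalRingHom (fun k => (C k : Type u)) k)) ≫
      ((hZR R).from (XB R C)).left
  rw [left_from, left_from, Category.id_comp]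
  exact (eval_algebraMap R C k).symm

theorem nat_g {S : ShortComplex (BigSite.Ab KK T)} {V V' : Over T} (f : V ⟶ V')
    (x : S.X₂.obj.obj (op V')) :
    S.g.hom.app _ (S.X₂.obj.map f.op x) = S.X₃.obj.map f.op (S.g.hom.app _ x) :=
  ConcreteCategory.congr_hom (S.g.hom.naturality f.op) x

include hS in
/-- local lifts along a finite faithfully flat family of affines give a global lift, when the kernel
is Čech-acyclic. -/
theorem surj_core [Module.FaithfullyFlat R (∀ k, C k)] (hCA : CA S.X₁.obj)
    (hcov : Sieve.ofArrows (fun k => (Over.map a).obj (Yk R C k))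
      (fun k => (Over.map a).map ((hZR R).from (Yk R C k))) ∈
        QuotSh.J KK T ((Over.map a).obj (ZR R)))
    (q : S.X₃.obj.obj (op ((Over.map a).obj (ZR R))))
    (t : ∀ k, S.X₂.obj.obj (op ((Over.map a).obj (Yk R C k))))
    (ht : ∀ k, S.g.hom.app _ (t k) =
      S.X₃.obj.map ((Over.map a).map ((hZR R).from (Yk R C k))).op q) :
    ∃ t₀, S.g.hom.app _ t₀ = q := by
  obtain ⟨tB, htB⟩ := piece_glue C (cc R a C) S.X₂ (fun k => S.X₂.obj.map (jk R a C k).op (t k))
  have h2 : S.g.hom.app _ tB =
      S.X₃.obj.map ((Over.map a).map ((hZR R).from (XB R C))).op q := by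
    apply piece_sep C (cc R a C) S.X₃
    intro k
    rw [← nat_g, htB k, nat_g, ht k, map_comp_apply', map_comp_apply', jk_comp]
  let y := S.X₂.obj.map ((Over.map a).map (Pi.π (fun _ : Fin 1 => XB R C) 0)).op tB
  have hy : S.g.hom.app _ y =
      S.X₃.obj.map ((Over.map a).map ((hZR R).from (W (XB R C) 0))).op q := by
    have h2' : S.g.hom.app (op ((Over.map a).obj (XB R C))) tB =
      S.X₃.obj.map ((Over.map a).map ((hZR R).from (XB R C))).op q := h2
    rw [nat_g, h2', map_comp_apply', ← Functor.map_comp,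
      (hZR R).hom_ext (Pi.π (fun _ : Fin 1 => XB R C) 0 ≫ (hZR R).from (XB R C))
        ((hZR R).from (W (XB R C) 0))]
  have hcov1 : Sieve.ofArrows (fun _ : Unit => (Over.map a).obj (W (XB R C) 0))
      (fun _ => (Over.map a).map ((hZR R).from (W (XB R C) 0))) ∈
        QuotSh.J KK T ((Over.map a).obj (ZR R)) := by
    refine (QuotSh.J KK T).superset_covering ?_ hcov
    rw [Sieve.ofArrows, Sieve.generate_le_iff]
    rintro _ _ ⟨k⟩
    have : (Over.map a).map ((hZR R).from (Yk R C k)) =
        (Over.map a).map (Pi.lift (fun _ => mk R C k)) ≫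
          (Over.map a).map ((hZR R).from (W (XB R C) 0)) := by
      rw [← Functor.map_comp]
      congr 1
      exact (hZR R).hom_ext _ _
    rw [this]
    exact Sieve.downward_closed _ (Sieve.ofArrows_mk _ _ ()) _
  exact lift_of_local (X₀ := XB R C) (P := (Over.map a).op ⋙ S.X₁.obj)
    (G := (Over.map a).op ⋙ S.X₂.obj) (Q := (Over.map a).op ⋙ S.X₃.obj)
    (Functor.whiskerLeft (Over.map a).op S.f.hom) (Functor.whiskerLeft (Over.map a).op S.g.hom)
    (fun n => sec_inj hS _) (fun n y hy => sec_ex hS _ y hy) (fun n x => sec_zero _ x)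
    (ZR R) (hZR R) (hCA R a (∀ k, C k) 0)
    (fun y hy => aug_of_sheaf S.X₂.obj (ZR R) (hZR R) (fun y hc => by
        obtain ⟨x, hx⟩ := ab_glue_sieve KK S.X₂ _ _ hcov1 (fun _ => y)
          (fun _ _ V g g' h => hc V g g' h)
        exact ⟨x, hx ()⟩) y hy)
    (fun q q' h => ab_sep_sieve KK S.X₃ _ _ hcov1 q q' (fun _ => h))
    q y hy

end Core2


section Wrapper
variable {S : ShortComplex (BigSite.Ab KK T)} (hS : S.ShortExact)
variable (R : CommRingCat.{u}) (a : Spec R ⟶ T)

/-- the affine object attached to an algebra, in `Over (Spec R)`. -/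
noncomputable abbrev YA (A : Type u) [CommRing A] [Algebra R A] : Over (Spec R) :=
  Over.mk (Spec.map (CommRingCat.ofHom (algebraMap R A)))

theorem specOver_eta_eq {ι : Type*} (C : ι → Type u) [∀ k, CommRing (C k)] [∀ k, Algebra R (C k)]
    (k : ι) :
    (Adeq.specOver a).map (Groth.Agent.Lib.Helper86.AdeqFFDescentFam.ηk (A := R) C k).op =
      (Over.map a).map ((hZR R).from (YA R (C k))) := by
  apply Over.OverMorphism.ext
  change Spec.map (CommRingCat.ofHom (algebraMap R (C k))) = ((hZR R).from (YA R (C k))).left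
  rw [left_from]
  rfl

include hS in
/-- sections of the quotient lift over affine objects (special form). -/
theorem surj_special (hCA : CA S.X₁.obj)
    (q : S.X₃.obj.obj (op ((Over.map a).obj (ZR R)))) : ∃ t, S.g.hom.app _ t = q := by
  classical
  haveI := hS.epi_g
  haveI : Sheaf.IsLocallySurjective S.g := (Sheaf.isLocallySurjective_iff_epi' (φ := S.g)).2 inferInstance
  have hT := Presheaf.imageSieve_mem (QuotSh.J KK T) S.g.hom (U := op ((Over.map a).obj (ZR R))) q
  obtain ⟨ι, _, _, C, ψ, hff, hmem, hcov⟩ := exists_finite_affine_refinement a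
    (Presheaf.imageSieve S.g.hom q) hT
  letI : ∀ k, Algebra R (C k) := fun k => (ψ k).hom.toAlgebra
  let e := Fintype.equivFin ι
  let C' : Fin (Fintype.card ι) → CommRingCat.{u} := fun k => C (e.symm k)
  haveI : Module.FaithfullyFlat R (∀ k, C k) := hff
  haveI : Module.FaithfullyFlat R (∀ k, C' k) :=
    Module.FaithfullyFlat.of_linearEquiv (R := R) (M := ∀ k, C k)
      (LinearEquiv.piCongrLeft' R (fun k => (C k : Type u)) e).symm
  choose t₁ ht₁ using fun k => hmem k
  refine surj_core hS R a C' hCA ?_ q (fun k => t₁ (e.symm k)) (fun k => ?_)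
  · refine (QuotSh.J KK T).superset_covering ((Sieve.generate_le_iff _ _).2 ?_) hcov
    rintro _ _ ⟨k⟩
    obtain ⟨k', rfl⟩ := e.symm.surjective k
    rw [specOver_eta_eq]
    exact Sieve.ofArrows_mk _ _ k'
  · have := ht₁ (e.symm k)
    rw [specOver_eta_eq] at this
    exact this

end Wrapper


section Affine
variable {S : ShortComplex (BigSite.Ab KK T)} (hS : S.ShortExact)

include hS in
/-- sections of the quotient lift over affine objects. -/
theorem surj_affine (hCA : CA S.X₁.obj) (V : Over T) [IsAffine V.left] :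
    Function.Surjective (S.g.hom.app (op V)) := by
  intro q
  let R : CommRingCat.{u} := Γ(V.left, ⊤)
  let a : Spec R ⟶ T := V.left.isoSpec.inv ≫ V.hom
  let f : (Over.map a).obj (ZR R) ⟶ V := Over.homMk V.left.isoSpec.inv (by
    change V.left.isoSpec.inv ≫ V.hom = (ZR R).hom ≫ V.left.isoSpec.inv ≫ V.hom
    rw [ZR_hom]
    exact (Category.id_comp _).symm)
  let g : V ⟶ (Over.map a).obj (ZR R) := Over.homMk V.left.isoSpec.hom (by
    change V.left.isoSpec.hom ≫ (ZR R).hom ≫ V.left.isoSpec.inv ≫ V.hom = V.hom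
    rw [ZR_hom]
    erw [Category.id_comp]
    rw [Iso.hom_inv_id_assoc])
  have hgf : g ≫ f = 𝟙 V := by
    apply Over.OverMorphism.ext
    exact V.left.isoSpec.hom_inv_id
  obtain ⟨t', ht'⟩ := surj_special hS R a hCA (S.X₃.obj.map f.op q)
  refine ⟨S.X₂.obj.map g.op t', ?_⟩
  rw [nat_g, ht', map_comp_apply', hgf]
  simp

end Affine

section AffineW
variable (R : CommRingCat.{u}) (B : Type u) [CommRing B] [Algebra R B]

instance isAffine_W (n : ℕ) : IsAffine (W (YA R B) n).left := by
  let i := (Over.forget _).mapIso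
    (εW (algSpec R) (op (CommAlgCat.of R B) : (CommAlgCat R)ᵒᵖ) n).symm
  have h1 : IsAffine ((Over.forget (Spec R)).obj
      ((algSpec R).obj (W (op (CommAlgCat.of R B) : (CommAlgCat R)ᵒᵖ) n))) :=
    inferInstanceAs (IsAffine (Spec _))
  exact @IsAffine.of_isIso _ _ i.hom (Iso.isIso_hom i) h1

end AffineW


section Step
variable {S : ShortComplex (BigSite.Ab KK T)} (hS : S.ShortExact)

include hS in
/-- the quotient of an injective sheaf by a Čech-acyclic sheaf is Čech-acyclic. -/
theorem CA_X₃ (hCA : CA S.X₁.obj) [Injective S.X₂] : CA S.X₃.obj := by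
  intro R a B _ _ _ n
  haveI : Injective S.X₂.obj := injective_presheaf_of_sheaf _ S.X₂
  haveI : IsAffine ((Over.map a).obj (W (YA R B) (n + 1))).left := isAffine_W R B (n + 1)
  exact exactP_chase_rev (X₀ := YA R B)
    (Functor.whiskerLeft (Over.map a).op S.f.hom) (Functor.whiskerLeft (Over.map a).op S.g.hom)
    (fun n => sec_inj hS _) (fun n y hy => sec_ex hS _ y hy) (fun n x => sec_zero _ x) n
    (surj_affine hS hCA ((Over.map a).obj (W (YA R B) (n + 1))))
    (hCA R a B (n + 1)) (exactP_of_injective.{u + 1} a (YA R B) S.X₂.obj n)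

end Step

section Vanish
open Abelian

/-- Cartan's criterion on the big fppf site of an affine scheme: Čech-acyclic sheaves have no higher
cohomology. -/
theorem subsingleton_H_of_CA [IsAffine T] (p : ℕ) (G : BigSite.Ab KK T) (hG : CA G.obj) :
    Subsingleton (Sheaf.H G (p + 1)) := by
  have hT : IsTerminal (Over.mk (𝟙 T)) := Over.mkIdTerminal
  have key := Groth.Agent.Lib.Helper28.CartanT.acyc_of_step
    ((constantSheaf (QuotSh.J KK T) AddCommGrpCat.{u + 1}).obj (AddCommGrpCat.of (ULift ℤ)))
    (fun G : BigSite.Ab KK T => CA G.obj)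
    (fun S hS hI hCA => by
      haveI := hI
      refine ⟨CA_X₃ hS hCA, fun x => ?_⟩
      haveI : IsAffine (Over.mk (𝟙 T)).left := inferInstanceAs (IsAffine T)
      obtain ⟨t, ht⟩ := surj_affine hS hCA (Over.mk (𝟙 T))
        (Sheaf.H.equiv₀ S.X₃ hT (Ext.mk₀ x))
      obtain ⟨y, hy⟩ := (Ext.mk₀_bijective _ _).2 ((Sheaf.H.equiv₀ S.X₂ hT).symm t)
      refine ⟨y, (Ext.mk₀_bijective _ _).1 ?_⟩
      have h1 := Sheaf.H.equiv₀_symm_naturality hT S.g t
      rw [ht, AddEquiv.symm_apply_apply, ← hy, Sheaf.H.map_apply, Ext.mk₀_comp_mk₀] at h1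
      exact h1) p G hG
  exact ⟨fun x y => (key x).trans (key y).symm⟩

end Vanish

section Adequate
open Groth.Agent.Lib.Helper86.AdeqCech Groth.Agent.Lib.Helper86.Adeq2Cech
open Groth.Agent.Lib.Helper86.Adeq2Main

variable {S₀ : Scheme.{u}}

/-- the comparison for the composition of two restriction functors. -/
noncomputable def αComp {R : CommRingCat.{u}} (a : Spec R ⟶ T) (f : T ⟶ S₀)
    (P : (Over S₀)ᵒᵖ ⥤ AddCommGrpCat.{u + 1}) :
    (Over.map (a ≫ f)).op ⋙ P ⟶ (Over.map a).op ⋙ (Over.map f).op ⋙ P :=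
  Functor.whiskerRight (NatTrans.op (Over.mapComp a f).inv) P

theorem αComp_bijective {R : CommRingCat.{u}} (a : Spec R ⟶ T) (f : T ⟶ S₀)
    (P : (Over S₀)ᵒᵖ ⥤ AddCommGrpCat.{u + 1}) (Y : (Over (Spec R))ᵒᵖ) :
    Function.Bijective ((αComp a f P).app Y) := by
  haveI : IsIso ((αComp a f P).app Y) := by
    unfold αComp
    infer_instance
  exact ConcreteCategory.bijective_of_isIso _

/-- the restriction of an adequate module to the big site of a scheme over the base is Čech-acyclic. -/
theorem CA_pull (M : BigSite.Mod KK S₀) (hM : Adeq.adequateMod KK S₀ M) (f : T ⟶ S₀) :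
    CA ((BigSite.pullBig KK f AddCommGrpCat.{u + 1}).obj ((BigSite.toAbMod KK S₀).obj M)).obj := by
  intro R a B _ _ _ n
  have hF : Adeq.adequate R ((Adeq.toMVF KK (a ≫ f)).obj M) := adequate_toMVF_fppf M hM R (a ≫ f)
  have h1 := exactP_adequate (A := R) B n _ hF
  have h2 := exactP_of_bijective (X₀ := X0 (A := R) B) (αIso M R (a ≫ f))
    (fun n => Function.bijective_id) n h1
  have h3 := exactP_transfer (algSpec R) (X0 (A := R) B)
    ((Over.map (a ≫ f)).op ⋙ ((BigSite.toAbMod KK S₀).obj M).obj) n h2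
  exact exactP_of_bijective (X₀ := YA R B)
    (αComp a f ((BigSite.toAbMod KK S₀).obj M).obj) (fun n => αComp_bijective a f _ _) n h3

/-- S8759: vanishing of the higher cohomology of an adequate module over affine objects. -/
theorem subsingleton_HU_affine (M : BigSite.Mod KK S₀) (hM : Adeq.adequateMod KK S₀ M)
    (U : Over S₀) [IsAffine U.left] (p : ℕ) :
    Subsingleton (BigSite.HU KK ((BigSite.toAbMod KK S₀).obj M) (p + 1) U) :=
  subsingleton_H_of_CA p _ (CA_pull M hM U.hom)

end Adequate

end Groth.Agent.Lib.Helper86.CartanFppf
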