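import Mathlib
import Groth.Agent.Lib.Helper86.CechPow
import Groth.Agent.Lib.Helper86.CechInj

open CategoryTheory Limits Opposite

/-! # Čech complexes of injective presheaves of modules are exact (free resolution by free modules on
representables); injective sheaves of modules have injective underlying presheaves of modules -/

namespace Groth.Agent.Lib.Helper86.CechInjMod
universe w v u
open Groth.Agent.Lib.Helper86.CechPow Groth.Agent.Lib.Helper86.CechInj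

section Free
variable {C : Type u} [Category.{v} C] (R₀ : Cᵒᵖ ⥤ RingCat.{max w v})

/-- the free presheaf of modules on a representable presheaf. -/
noncomputable abbrev FR (Y : C) : PresheafOfModules.{max w v} R₀ :=
  (PresheafOfModules.free R₀).obj (uliftYoneda.{w}.obj Y)

/-- functoriality in the representing object. -/
noncomputable abbrev FRmap {Y Y' : C} (φ : Y' ⟶ Y) : FR.{w} R₀ Y' ⟶ FR.{w} R₀ Y :=
  (PresheafOfModules.free R₀).map (uliftYoneda.{w}.map φ)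

variable {R₀} (Q : PresheafOfModules.{max w v} R₀)

/-- Yoneda for the free presheaf of modules. -/
noncomputable def EE (Y : C) : (FR.{w} R₀ Y ⟶ Q) ≃ Q.obj (op Y) :=
  PresheafOfModules.freeHomEquiv.trans uliftYonedaEquiv.{w}

theorem EE_apply {Y : C} (y : FR.{w} R₀ Y ⟶ Q) :
    EE.{w} Q Y y = y.app (op Y) (ModuleCat.freeMk (ULift.up (𝟙 Y))) := rfl

theorem FRmap_app_freeMk {Y Y' : C} (φ : Y' ⟶ Y) (V : Cᵒᵖ) (f : ULift.{w} (V.unop ⟶ Y')) :
    (FRmap.{w} R₀ φ).app V (ModuleCat.freeMk f) = ModuleCat.freeMk (ULift.up (f.down ≫ φ)) := by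
  change (ModuleCat.free (R₀.obj V)).map ((uliftYoneda.{w}.map φ).app V) (ModuleCat.freeMk f) = _
  rw [ModuleCat.free_map_apply]
  rfl

theorem FR_map_freeMk {Y : C} {V V' : Cᵒᵖ} (g : V ⟶ V') (f : ULift.{w} (V.unop ⟶ Y)) :
    (FR.{w} R₀ Y).map g (ModuleCat.freeMk f) = ModuleCat.freeMk (ULift.up (g.unop ≫ f.down)) := by
  exact (ModuleCat.freeDesc_apply _ _).trans rfl

theorem EE_FRmap {Y Y' : C} (φ : Y' ⟶ Y) (y : FR.{w} R₀ Y ⟶ Q) :
    EE.{w} Q Y' (FRmap.{w} R₀ φ ≫ y) = Q.map φ.op (EE.{w} Q Y y) := by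
  rw [EE_apply, EE_apply]
  have h := PresheafOfModules.naturality_apply y φ.op (ModuleCat.freeMk (ULift.up (𝟙 Y)))
  refine Eq.trans ?_ h
  rw [FR_map_freeMk]
  change y.app (op Y') ((FRmap.{w} R₀ φ).app (op Y') (ModuleCat.freeMk (ULift.up (𝟙 Y')))) = _
  rw [FRmap_app_freeMk]
  simp

theorem EE_add {Y : C} (y y' : FR.{w} R₀ Y ⟶ Q) :
    EE.{w} Q Y (y + y') = EE.{w} Q Y y + EE.{w} Q Y y' := rfl

theorem EE_zero {Y : C} : EE.{w} Q Y 0 = 0 := rfl

/-- `EE` as an additive map. -/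
noncomputable def EEHom (Y : C) : (FR.{w} R₀ Y ⟶ Q) →+ Q.obj (op Y) where
  toFun := EE.{w} Q Y
  map_zero' := rfl
  map_add' _ _ := rfl

theorem EEHom_apply {Y : C} (y : FR.{w} R₀ Y ⟶ Q) : EEHom.{w} Q Y y = EE.{w} Q Y y := rfl

/-- `EE` with values in the underlying abelian presheaf. -/
noncomputable def EEp (Y : C) : (FR.{w} R₀ Y ⟶ Q) →+ Q.presheaf.obj (op Y) where
  toFun y := EE.{w} Q Y y
  map_zero' := rfl
  map_add' _ _ := rfl

theorem EEp_bijective (Y : C) : Function.Bijective (EEp.{w} Q Y) := (EE.{w} Q Y).bijective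

theorem EEp_FRmap {Y Y' : C} (φ : Y' ⟶ Y) (y : FR.{w} R₀ Y ⟶ Q) :
    EEp.{w} Q Y' (FRmap.{w} R₀ φ ≫ y) = Q.presheaf.map φ.op (EEp.{w} Q Y y) :=
  EE_FRmap Q φ y

end Free

section Generic

theorem generic_homotopy (A : Type v) [Ring A] (k : ℕ) {S0 S1 S2 : Type v}
    (d1 : Fin (k + 2) → (S1 ⟶ S0)) (d2 : Fin (k + 3) → (S2 ⟶ S1)) (s0 : S0 ⟶ S1) (s1 : S1 ⟶ S2)
    (h0 : s1 ≫ d2 0 = 𝟙 _) (hs : ∀ j : Fin (k + 2), s1 ≫ d2 j.succ = d1 j ≫ s0) :
    (ModuleCat.free A).map s1 ≫ (∑ j : Fin (k + 3), ((-1 : ℤ) ^ (j : ℕ)) • (ModuleCat.free A).map (d2 j)) +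
      (∑ j : Fin (k + 2), ((-1 : ℤ) ^ (j : ℕ)) • (ModuleCat.free A).map (d1 j)) ≫
        (ModuleCat.free A).map s0 = 𝟙 _ := by
  rw [Preadditive.comp_sum, Preadditive.sum_comp, Fin.sum_univ_succ]
  have e0 : (ModuleCat.free A).map s1 ≫
      (((-1 : ℤ) ^ ((0 : Fin (k + 3)) : ℕ)) • (ModuleCat.free A).map (d2 0)) = 𝟙 _ := by
    rw [Fin.val_zero, pow_zero, one_smul, ← Functor.map_comp, h0]
    exact CategoryTheory.Functor.map_id _ _
  have e1 : ∀ j : Fin (k + 2), (ModuleCat.free A).map s1 ≫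
      (((-1 : ℤ) ^ ((j.succ : Fin (k + 3)) : ℕ)) • (ModuleCat.free A).map (d2 j.succ)) =
      -(((-1 : ℤ) ^ (j : ℕ)) • (ModuleCat.free A).map (d1 j ≫ s0)) := by
    intro j
    rw [Preadditive.comp_zsmul, ← Functor.map_comp, hs, Fin.val_succ, pow_succ, mul_neg, mul_one,
      neg_smul]
  have e2 : ∀ j : Fin (k + 2), (((-1 : ℤ) ^ (j : ℕ)) • (ModuleCat.free A).map (d1 j)) ≫
      (ModuleCat.free A).map s0 = ((-1 : ℤ) ^ (j : ℕ)) • (ModuleCat.free A).map (d1 j ≫ s0) := by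
    intro j
    rw [Preadditive.zsmul_comp, ← Functor.map_comp]
  rw [e0, Finset.sum_congr rfl (fun j _ => e1 j), Finset.sum_congr rfl (fun j _ => e2 j),
    Finset.sum_neg_distrib]
  abel

end Generic

section Homotopy
variable {𝒮 : Type u} [Category.{v} 𝒮] {T Y₀ : 𝒮} (a : Y₀ ⟶ T) [HasFiniteProducts (Over Y₀)]
  (X₀ : Over Y₀) (R₀ : (Over T)ᵒᵖ ⥤ RingCat.{max w v})

/-- the objects of the Čech nerve, over `T`. -/
noncomputable abbrev Wk (k : ℕ) : Over T := (Over.map a).obj (W X₀ k)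

/-- the boundary of the free resolution. -/
noncomputable def dZ (k : ℕ) : FR.{w} R₀ (Wk a X₀ (k + 1)) ⟶ FR.{w} R₀ (Wk a X₀ k) :=
  ∑ j : Fin (k + 2), ((-1 : ℤ) ^ (j : ℕ)) • FRmap.{w} R₀ ((Over.map a).map (θ X₀ k j))

/-- the faces, objectwise. -/
noncomputable abbrev dj (k : ℕ) (j : Fin (k + 2)) (V : (Over T)ᵒᵖ) :
    (uliftYoneda.{w}.obj (Wk a X₀ (k + 1))).obj V ⟶ (uliftYoneda.{w}.obj (Wk a X₀ k)).obj V :=
  (uliftYoneda.{w}.map ((Over.map a).map (θ X₀ k j))).app V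

/-- the extra degeneracy, objectwise. -/
noncomputable def sk (k : ℕ) (V : (Over T)ᵒᵖ) :
    (uliftYoneda.{w}.obj (Wk a X₀ k)).obj V ⟶ (uliftYoneda.{w}.obj (Wk a X₀ (k + 1))).obj V :=
  ↾fun f => ULift.up (hcons f.down)

theorem sk_dj_zero (k : ℕ) (V : (Over T)ᵒᵖ) : sk.{w} a X₀ k V ≫ dj.{w} a X₀ k 0 V = 𝟙 _ := by
  ext f
  apply ULift.ext
  exact hcons_zero f.down

theorem sk_dj_succ (k : ℕ) (j : Fin (k + 2)) (V : (Over T)ᵒᵖ) :
    sk.{w} a X₀ (k + 1) V ≫ dj.{w} a X₀ (k + 1) j.succ V = dj.{w} a X₀ k j V ≫ sk.{w} a X₀ k V := by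
  ext f
  apply ULift.ext
  exact hcons_succ f.down j

theorem dZ_app (k : ℕ) (V : (Over T)ᵒᵖ) :
    (dZ.{w} a X₀ R₀ k).app V =
      ∑ j : Fin (k + 2), ((-1 : ℤ) ^ (j : ℕ)) • (ModuleCat.free (R₀.obj V)).map (dj.{w} a X₀ k j V) := by
  change (PresheafOfModules.evaluation R₀ V).map (dZ.{w} a X₀ R₀ k) = _
  unfold dZ
  rw [Functor.map_sum]
  refine Finset.sum_congr rfl (fun j _ => ?_)
  rw [Functor.map_zsmul]
  rfl

/-- the contracting homotopy, objectwise. -/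
noncomputable def HH (k : ℕ) (V : (Over T)ᵒᵖ) :
    (FR.{w} R₀ (Wk a X₀ k)).obj V ⟶ (FR.{w} R₀ (Wk a X₀ (k + 1))).obj V :=
  (ModuleCat.free (R₀.obj V)).map (sk.{w} a X₀ k V)

theorem homotopy_identity (k : ℕ) (V : (Over T)ᵒᵖ) :
    HH.{w} a X₀ R₀ (k + 1) V ≫ (dZ.{w} a X₀ R₀ (k + 1)).app V +
      (dZ.{w} a X₀ R₀ k).app V ≫ HH.{w} a X₀ R₀ k V = 𝟙 _ := by
  rw [dZ_app, dZ_app]
  exact generic_homotopy (R₀.obj V) k (fun j => dj.{w} a X₀ k j V) (fun j => dj.{w} a X₀ (k + 1) j V)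
    (sk.{w} a X₀ k V) (sk.{w} a X₀ (k + 1) V) (sk_dj_zero.{w} a X₀ (k + 1) V)
    (fun j => sk_dj_succ.{w} a X₀ k j V)

theorem dZ_exact (k : ℕ) (V : (Over T)ᵒᵖ) (z : (FR.{w} R₀ (Wk a X₀ (k + 1))).obj V)
    (hz : (dZ.{w} a X₀ R₀ k).app V z = 0) :
    ∃ z' : (FR.{w} R₀ (Wk a X₀ (k + 2))).obj V, (dZ.{w} a X₀ R₀ (k + 1)).app V z' = z := by
  refine ⟨HH.{w} a X₀ R₀ (k + 1) V z, ?_⟩
  have h1 := congrArg (fun t => t.hom z) (homotopy_identity.{w} a X₀ R₀ k V)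
  simp only [ModuleCat.hom_add, ModuleCat.hom_comp, LinearMap.add_apply, LinearMap.comp_apply,
    ModuleCat.hom_id, LinearMap.id_apply] at h1
  have hz' : ((dZ.{w} a X₀ R₀ k).app V).hom z = 0 := hz
  rw [hz', map_zero, add_zero] at h1
  exact h1

variable {R₀} (P : PresheafOfModules.{max w v} R₀)

theorem dP_EE (k : ℕ) (y : FR.{w} R₀ (Wk a X₀ k) ⟶ P) :
    dP (X₀ := X₀) ((Over.map a).op ⋙ P.presheaf) k (EEp.{w} P (Wk a X₀ k) y) =
      EEp.{w} P (Wk a X₀ (k + 1)) (dZ.{w} a X₀ R₀ k ≫ y) := by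
  rw [dP_Ψ_apply]
  unfold dZ
  rw [Preadditive.sum_comp, map_sum]
  refine Finset.sum_congr rfl (fun j _ => ?_)
  rw [Preadditive.zsmul_comp, map_zsmul, EEp_FRmap]

theorem exists_extension_mod {A B I : PresheafOfModules.{max w v} R₀} [Injective I]
    (φ : A ⟶ B) (x : A ⟶ I)
    (h : ∀ (V : (Over T)ᵒᵖ) (z : A.obj V), φ.app V z = 0 → x.app V z = 0) :
    ∃ y : B ⟶ I, φ ≫ y = x := by
  apply exists_extension
  ext V κ
  have h1 : φ.app V ((kernel.ι φ).app V κ) = 0 := by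
    have := congrArg (fun t => t.app V) (kernel.condition φ)
    exact ConcreteCategory.congr_hom this κ
  exact h V _ h1

/-- the Čech complex of an injective presheaf of modules is exact in positive degrees. -/
theorem exactP_of_injective_mod [Injective P] (n : ℕ) :
    ExactP (X₀ := X₀) ((Over.map a).op ⋙ P.presheaf) n := by
  intro x hx
  obtain ⟨ξ, rfl⟩ := (EEp_bijective.{w} P (Wk a X₀ (n + 1))).2 x
  have h1 : dZ.{w} a X₀ R₀ (n + 1) ≫ ξ = 0 := by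
    apply (EEp_bijective.{w} P (Wk a X₀ (n + 2))).1
    rw [← dP_EE, hx, map_zero]
  obtain ⟨y, hy⟩ := exists_extension_mod (dZ.{w} a X₀ R₀ n) ξ (by
    intro V z hz
    obtain ⟨z', rfl⟩ := dZ_exact.{w} a X₀ R₀ n V z hz
    have := ConcreteCategory.congr_hom (congrArg (fun t => t.app V) h1) z'
    exact this)
  refine ⟨EEp.{w} P (Wk a X₀ n) y, ?_⟩
  rw [dP_EE, hy]

end Homotopy

section Sheaf
universe w'
variable {C : Type u} [Category.{v} C] {J : GrothendieckTopology C} (R : Sheaf J RingCat.{w'})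
  [HasSheafify J AddCommGrpCat.{w'}] [J.WEqualsLocallyBijective AddCommGrpCat.{w'}]

/-- the presheaf of modules underlying an injective sheaf of modules is injective. -/
theorem injective_presheaf_of_sheaf_mod (I : SheafOfModules.{w'} R) [Injective I] :
    Injective ((SheafOfModules.forget R ⋙ PresheafOfModules.restrictScalars (𝟙 R.obj)).obj I) := by
  haveI : (PresheafOfModules.sheafification (𝟙 R.obj)).PreservesMonomorphisms := inferInstance
  exact Injective.injective_of_adjoint (PresheafOfModules.sheafificationAdjunction (𝟙 R.obj)) I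

end Sheaf

end Groth.Agent.Lib.Helper86.CechInjMod
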