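import Mathlib
import Groth.Prelude.Def_Adeq2
import Groth.Agent.Lib.Helper86.CechPow
import Groth.Agent.Lib.Helper86.CechInj
import Groth.Agent.Lib.Helper86.CechCartan
import Groth.Agent.Lib.Helper86.CartanFppf
import Groth.Agent.Lib.Helper86.CechInjMod
import Groth.Agent.Lib.Helper86.ModLocal
import Groth.Agent.Lib.Helper86.Adeq2Parasitic

open CategoryTheory Limits Opposite AlgebraicGeometry

/-! # Cartan's criterion on the class of objects flat over the base of the big fppf site: the dimension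
shifting step for sheaves of modules -/

namespace Groth.Agent.Lib.Helper86.FlatCartan
universe v u
open Groth.Agent.Lib.Helper86.CechPow Groth.Agent.Lib.Helper86.CechInj
open Groth.Agent.Lib.Helper86.CechCartan Groth.Agent.Lib.Helper86.CartanFppf
open Groth.Agent.Lib.Helper86.Adeq2Sheafify (sieve_mem_iff)

section Pow
variable {𝒮 : Type u} [Category.{v} 𝒮] {Y₀ : 𝒮} [HasFiniteProducts (Over Y₀)] (X₀ : Over Y₀)

/-- the projection forgetting the last factor is a base change of the structure morphism. -/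
theorem isPullback_W (k : ℕ) :
    IsPullback (θ X₀ k (Fin.last _)).left (Pi.π (fun _ : Fin (k + 2) => X₀) (Fin.last _)).left
      (W X₀ k).hom X₀.hom := by
  refine ⟨⟨by rw [Over.w, Over.w]⟩, ⟨PullbackCone.IsLimit.mk _
    (fun s => (Pi.lift (fun i : Fin (k + 2) => Fin.lastCases
      (motive := fun _ => (Over.mk (s.fst ≫ (W X₀ k).hom) ⟶ X₀))
      (Over.homMk s.snd s.condition.symm)
      (fun i => (Over.homMk s.fst rfl : Over.mk (s.fst ≫ (W X₀ k).hom) ⟶ W X₀ k) ≫ Pi.π _ i) i) :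
        Over.mk (s.fst ≫ (W X₀ k).hom) ⟶ W X₀ (k + 1)).left) ?_ ?_ ?_⟩⟩
  · intro s
    rw [← Over.comp_left]
    have : (Pi.lift (fun i : Fin (k + 2) => Fin.lastCases
        (motive := fun _ => (Over.mk (s.fst ≫ (W X₀ k).hom) ⟶ X₀))
        (Over.homMk s.snd s.condition.symm)
        (fun i => (Over.homMk s.fst rfl : Over.mk (s.fst ≫ (W X₀ k).hom) ⟶ W X₀ k) ≫ Pi.π _ i) i) :
          Over.mk (s.fst ≫ (W X₀ k).hom) ⟶ W X₀ (k + 1)) ≫ θ X₀ k (Fin.last _) =
        (Over.homMk s.fst rfl : Over.mk (s.fst ≫ (W X₀ k).hom) ⟶ W X₀ k) := by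
      apply Limits.Pi.hom_ext
      intro i
      rw [Category.assoc, θ_π, Pi.lift_π, Fin.succAbove_last, Fin.lastCases_castSucc]
    rw [this]
    rfl
  · intro s
    rw [← Over.comp_left, Pi.lift_π, Fin.lastCases_last]
    rfl
  · intro s m h1 h2
    let m' : Over.mk (s.fst ≫ (W X₀ k).hom) ⟶ W X₀ (k + 1) := Over.homMk m (by
      change m ≫ (W X₀ (k + 1)).hom = s.fst ≫ (W X₀ k).hom
      rw [← h1, Category.assoc, Over.w])
    have hm : m' ≫ θ X₀ k (Fin.last _) =
        (Over.homMk s.fst rfl : Over.mk (s.fst ≫ (W X₀ k).hom) ⟶ W X₀ k) := by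
      apply Over.OverMorphism.ext
      exact h1
    change m'.left = _
    congr 1
    apply Limits.Pi.hom_ext
    intro i
    rw [Pi.lift_π]
    induction i using Fin.lastCases with
    | last =>
      rw [Fin.lastCases_last]
      apply Over.OverMorphism.ext
      exact h2
    | cast j =>
      rw [Fin.lastCases_castSucc, ← hm, Category.assoc, θ_π, Fin.succAbove_last]

end Pow

section Flat
variable {Y₀ : Scheme.{u}} (X₀ : Over Y₀)

theorem flat_W (h : Flat X₀.hom) (k : ℕ) : Flat (W X₀ k).hom := by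
  induction k with
  | zero =>
    let e : W X₀ 0 ≅ X₀ := productUniqueIso (fun _ : Fin 1 => X₀)
    have h1 : (W X₀ 0).hom = e.hom.left ≫ X₀.hom := (Over.w e.hom).symm
    rw [h1]
    haveI : IsIso e.hom.left := inferInstanceAs (IsIso ((Over.forget _).map e.hom))
    infer_instance
  | succ k ih =>
    have h1 : (W X₀ (k + 1)).hom = (θ X₀ k (Fin.last _)).left ≫ (W X₀ k).hom := (Over.w _).symm
    rw [h1]
    haveI : Flat (θ X₀ k (Fin.last _)).left :=
      MorphismProperty.of_isPullback (P := @Flat) (isPullback_W X₀ k).flip h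
    infer_instance

end Flat

variable {T : Scheme.{u}}

/-- abelian presheaves on the big fppf site whose Čech complexes for fppf covers of objects flat over
the base are exact in positive degrees. -/
def FCA (G : (Over T)ᵒᵖ ⥤ AddCommGrpCat.{u + 1}) : Prop :=
  ∀ (Y₀ : Scheme.{u}) (a : Y₀ ⟶ T) (X₀ : Over Y₀), Flat a → Flat X₀.hom →
    LocallyOfFinitePresentation X₀.hom → Surjective X₀.hom → ∀ n : ℕ,
    ExactP (X₀ := X₀) ((Over.map a).op ⋙ G) n

theorem FCA_of_subsingleton (G : (Over T)ᵒᵖ ⥤ AddCommGrpCat.{u + 1})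
    (h : ∀ U : Over T, Flat U.hom → Subsingleton (G.obj (op U))) : FCA G := by
  intro Y₀ a X₀ ha hX _ _ n x hx
  haveI : Flat a := ha
  haveI := flat_W X₀ hX n
  haveI : Subsingleton (G.obj (op ((Over.map a).obj (W X₀ (n + 1))))) := by
    apply h
    haveI := flat_W X₀ hX (n + 1)
    exact inferInstanceAs (Flat ((W X₀ (n + 1)).hom ≫ a))
  exact ⟨0, Subsingleton.elim _ _⟩

section Sigma
variable {σ : Type u} (Y' : σ → Scheme.{u}) (c : ∐ Y' ⟶ T)

/-- the pieces of a disjoint union. -/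
noncomputable abbrev spiece (x : σ) : Over T := Over.mk (Sigma.ι Y' x ≫ c)

/-- the inclusions of the pieces. -/
noncomputable abbrev spieceHom (x : σ) : spiece Y' c x ⟶ Over.mk c := Over.homMk (Sigma.ι Y' x) rfl

theorem spiece_cover : Sieve.ofArrows (spiece Y' c) (spieceHom Y' c) ∈ QuotSh.J KK T (Over.mk c) := by
  rw [QuotSh.J, GrothendieckTopology.mem_over_iff, Sieve.overEquiv_ofArrows]
  apply Precoverage.generate_mem_toGrothendieck
  apply Scheme.zariskiPrecoverage_le_fppfPrecoverage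
  exact (sigmaOpenCover Y').mem₀

theorem spiece_compat (F : BigSite.Ab KK T) (y : ∀ x, F.obj.obj (op (spiece Y' c x)))
    (k l : σ) (Z : Over T) (gk : Z ⟶ spiece Y' c k) (gl : Z ⟶ spiece Y' c l)
    (hg : gk ≫ spieceHom Y' c k = gl ≫ spieceHom Y' c l) :
    F.obj.map gk.op (y k) = F.obj.map gl.op (y l) := by
  have h2 : gk.left ≫ Sigma.ι Y' k = gl.left ≫ Sigma.ι Y' l := by
    have h2 := congrArg CommaMorphism.left hg
    simpa only [Over.comp_left, Over.homMk_left] using h2
  by_cases hkl : k = l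
  · subst hkl
    have h1 : gk.left = gl.left := (cancel_mono _).1 h2
    have : gk = gl := Over.OverMorphism.ext h1
    rw [this]
  · haveI : IsEmpty Z.left := isEmpty_of_commSq_sigmaι_of_ne ⟨h2⟩ hkl
    haveI := subsingleton_of_isEmpty F Z
    exact Subsingleton.elim _ _

theorem spiece_glue (F : BigSite.Ab KK T) (y : ∀ x, F.obj.obj (op (spiece Y' c x))) :
    ∃ z : F.obj.obj (op (Over.mk c)), ∀ x, F.obj.map (spieceHom Y' c x).op z = y x :=
  ab_glue_sieve KK F (spiece Y' c) (spieceHom Y' c) (spiece_cover Y' c) y (spiece_compat Y' c F y)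

theorem spiece_sep (F : BigSite.Ab KK T) (z z' : F.obj.obj (op (Over.mk c)))
    (h : ∀ x, F.obj.map (spieceHom Y' c x).op z = F.obj.map (spieceHom Y' c x).op z') : z = z' :=
  ab_sep_sieve KK F (spiece Y' c) (spieceHom Y' c) (spiece_cover Y' c) z z' h

end Sigma

section Core
variable {A B C : BigSite.Ab KK T} (ι : A ⟶ B) (π : B ⟶ C)
  (hinj : ∀ V, Function.Injective (ι.hom.app V))
  (hex : ∀ V (y : B.obj.obj V), π.hom.app V y = 0 → ∃ x, ι.hom.app V x = y)
  (hzero : ∀ V (x : A.obj.obj V), π.hom.app V (ι.hom.app V x) = 0)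
  (hloc : ∀ (U : Over T) (q : C.obj.obj (op U)), ∃ R : Sieve U, R ∈ QuotSh.J KK T U ∧
      ∀ ⦃V : Over T⦄ (f : V ⟶ U), R f →
        ∃ t : B.obj.obj (op V), π.hom.app (op V) t = C.obj.map f.op q)

variable (Y₀ : Scheme.{u}) (a : Y₀ ⟶ T)

/-- the terminal object of `Over Y₀`. -/
noncomputable abbrev Z₀ : Over Y₀ := Over.mk (𝟙 Y₀)

/-- it is terminal. -/
noncomputable def hZ₀ : IsTerminal (Z₀ Y₀) := Over.mkIdTerminal

theorem left_from₀ (V : Over Y₀) : ((hZ₀ Y₀).from V).left = V.hom :=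
  (Category.comp_id _).symm.trans (Over.w ((hZ₀ Y₀).from V))

omit hinj hex hzero hloc in
theorem nat_π {V V' : Over T} (f : V ⟶ V') (x : B.obj.obj (op V')) :
    π.hom.app _ (B.obj.map f.op x) = C.obj.map f.op (π.hom.app _ x) :=
  ConcreteCategory.congr_hom (π.hom.naturality f.op) x

set_option backward.isDefEq.respectTransparency.types false in
include hinj hex hzero hloc in
/-- sections of the quotient lift over objects flat over the base (special form). -/
theorem surj_special (ha : Flat a) (hA : FCA A.obj)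
    (q : C.obj.obj (op ((Over.map a).obj (Z₀ Y₀)))) : ∃ t, π.hom.app _ t = q := by
  classical
  haveI := Groth.Agent.Lib.Helper86.Adeq2Parasitic.hasIsos_fppf.{u}
  obtain ⟨R, hR, hlift⟩ := hloc _ q
  rw [QuotSh.J, GrothendieckTopology.mem_over_iff,
    Precoverage.mem_toGrothendieck_iff_of_isStableUnderComposition] at hR
  obtain ⟨R', hR', hle⟩ := hR
  obtain ⟨ι₀, Y, f, rfl⟩ := R'.exists_eq_ofArrows
  have hc := (Scheme.ofArrows_mem_precoverage_iff _).1 hR'
  let f' : ∀ i, Y i ⟶ Y₀ := f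
  have hc1 : ∀ x : Y₀, ∃ i, x ∈ Set.range (f' i) := hc.1
  have hc2 : ∀ i, Flat (f' i) ∧ LocallyOfFinitePresentation (f' i) := hc.2
  choose idx hidx using hc1
  let Y' : Y₀ → Scheme.{u} := fun x => Y (idx x)
  let p : ∐ Y' ⟶ Y₀ := Sigma.desc (fun x => f' (idx x))
  haveI : ∀ x, Flat (f' (idx x)) := fun x => (hc2 _).1
  haveI hpflat : Flat p := inferInstance
  have hplfp : LocallyOfFinitePresentation p :=
    IsZariskiLocalAtSource.sigmaDesc (P := @LocallyOfFinitePresentation) (fun x => (hc2 (idx x)).2)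
  have hpsurj : Surjective p := by
    apply Surjective.sigmaDesc_of_union_range_eq_univ
    rw [Set.eq_univ_iff_forall]
    intro x
    exact Set.mem_iUnion.2 ⟨x, hidx x⟩
  let X₀ : Over Y₀ := Over.mk p
  -- the members of the family
  let Yx : Y₀ → Over Y₀ := fun x => Over.mk (f' (idx x))
  let jx : ∀ x, Yx x ⟶ X₀ := fun x => Over.homMk (Sigma.ι Y' x) (Sigma.ι_desc _ _)
  have hmem : ∀ x, R ((Over.map a).map ((hZ₀ Y₀).from (Yx x))) := by
    intro x
    rw [sieve_mem_iff]
    have h1 : ((Over.map a).map ((hZ₀ Y₀).from (Yx x))).left = f (idx x) := left_from₀ Y₀ (Yx x)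
    rw [h1]
    exact hle _ _ (Presieve.ofArrows.mk (idx x))
  choose t ht using fun x => hlift _ (hmem x)
  -- glue the lifts over the disjoint union
  let c : ∐ Y' ⟶ T := p ≫ a
  let kx : ∀ x, spiece Y' c x ⟶ (Over.map a).obj (Yx x) := fun x => Over.homMk (𝟙 _) (by
    change 𝟙 _ ≫ f' (idx x) ≫ a = Sigma.ι Y' x ≫ p ≫ a
    rw [Category.id_comp, ← Category.assoc (Sigma.ι Y' x), Sigma.ι_desc])
  obtain ⟨tB, htB⟩ := spiece_glue Y' c B (fun x => B.obj.map (kx x).op (t x))
  have h2 : π.hom.app _ tB = C.obj.map ((Over.map a).map ((hZ₀ Y₀).from X₀)).op q := by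
    apply spiece_sep Y' c C
    intro x
    have e1 : spieceHom Y' c x ≫ (Over.map a).map ((hZ₀ Y₀).from X₀) =
        kx x ≫ (Over.map a).map ((hZ₀ Y₀).from (Yx x)) := by
      have : (Over.map a).map ((hZ₀ Y₀).from (Yx x)) =
          (Over.map a).map (jx x) ≫ (Over.map a).map ((hZ₀ Y₀).from X₀) := by
        rw [← Functor.map_comp]
        congr 1
        exact (hZ₀ Y₀).hom_ext _ _
      rw [this]
      apply Over.OverMorphism.ext
      change Sigma.ι Y' x ≫ ((Over.map a).map ((hZ₀ Y₀).from X₀)).left =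
        𝟙 _ ≫ Sigma.ι Y' x ≫ ((Over.map a).map ((hZ₀ Y₀).from X₀)).left
      rw [Category.id_comp]
    have h3 := nat_π π (spieceHom Y' c x) tB
    rw [htB x] at h3
    rw [← h3, nat_π, ht x, map_comp_apply', map_comp_apply', e1]
  let y := B.obj.map ((Over.map a).map (Pi.π (fun _ : Fin 1 => X₀) 0)).op tB
  have hy : π.hom.app _ y =
      C.obj.map ((Over.map a).map ((hZ₀ Y₀).from (W X₀ 0))).op q := by
    have h2' : π.hom.app (op ((Over.map a).obj X₀)) tB =
      C.obj.map ((Over.map a).map ((hZ₀ Y₀).from X₀)).op q := h2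
    rw [nat_π, h2', map_comp_apply', ← Functor.map_comp,
      (hZ₀ Y₀).hom_ext (Pi.π (fun _ : Fin 1 => X₀) 0 ≫ (hZ₀ Y₀).from X₀)
        ((hZ₀ Y₀).from (W X₀ 0))]
  have hcov : Sieve.ofArrows (fun x => (Over.map a).obj (Yx x))
      (fun x => (Over.map a).map ((hZ₀ Y₀).from (Yx x))) ∈
        QuotSh.J KK T ((Over.map a).obj (Z₀ Y₀)) := by
    rw [QuotSh.J, GrothendieckTopology.mem_over_iff, Sieve.overEquiv_ofArrows]
    apply Precoverage.generate_mem_toGrothendieck
    refine (Scheme.ofArrows_mem_precoverage_iff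
      (P := @Flat ⊓ @LocallyOfFinitePresentation)).2 ⟨fun x => ⟨x, ?_⟩, fun x => ?_⟩
    · have h1 : ((Over.map a).map ((hZ₀ Y₀).from (Yx x))).left = f' (idx x) := left_from₀ Y₀ (Yx x)
      rw [h1]
      exact hidx x
    · have h1 : ((Over.map a).map ((hZ₀ Y₀).from (Yx x))).left = f' (idx x) := left_from₀ Y₀ (Yx x)
      rw [h1]
      exact hc.2 (idx x)
  have hcov1 : Sieve.ofArrows (fun _ : Unit => (Over.map a).obj (W X₀ 0))
      (fun _ => (Over.map a).map ((hZ₀ Y₀).from (W X₀ 0))) ∈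
        QuotSh.J KK T ((Over.map a).obj (Z₀ Y₀)) := by
    refine (QuotSh.J KK T).superset_covering ?_ hcov
    rw [Sieve.ofArrows, Sieve.generate_le_iff]
    rintro _ _ ⟨x⟩
    have : (Over.map a).map ((hZ₀ Y₀).from (Yx x)) =
        (Over.map a).map (Pi.lift (fun _ => jx x)) ≫
          (Over.map a).map ((hZ₀ Y₀).from (W X₀ 0)) := by
      rw [← Functor.map_comp]
      congr 1
      exact (hZ₀ Y₀).hom_ext _ _
    rw [this]
    exact Sieve.downward_closed _ (Sieve.ofArrows_mk _ _ ()) _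
  exact lift_of_local (X₀ := X₀) (P := (Over.map a).op ⋙ A.obj)
    (G := (Over.map a).op ⋙ B.obj) (Q := (Over.map a).op ⋙ C.obj)
    (Functor.whiskerLeft (Over.map a).op ι.hom) (Functor.whiskerLeft (Over.map a).op π.hom)
    (fun n => hinj _) (fun n y hy => hex _ y hy) (fun n x => hzero _ x)
    (Z₀ Y₀) (hZ₀ Y₀) (hA Y₀ a X₀ ha hpflat hplfp hpsurj 0)
    (fun y hy => aug_of_sheaf B.obj (Z₀ Y₀) (hZ₀ Y₀) (fun y hc => by
        obtain ⟨x, hx⟩ := ab_glue_sieve KK B _ _ hcov1 (fun _ => y)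
          (fun _ _ V g g' h => hc V g g' h)
        exact ⟨x, hx ()⟩) y hy)
    (fun q q' h => ab_sep_sieve KK C _ _ hcov1 q q' (fun _ => h))
    q y hy

include hinj hex hzero hloc in
/-- sections of the quotient lift over objects flat over the base. -/
theorem surj_flat (hA : FCA A.obj) (U : Over T) (hU : Flat U.hom) :
    Function.Surjective (π.hom.app (op U)) := by
  intro q
  let fU : (Over.map U.hom).obj (Z₀ U.left) ⟶ U := Over.homMk (𝟙 _) rfl
  let gU : U ⟶ (Over.map U.hom).obj (Z₀ U.left) := Over.homMk (𝟙 _) (by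
    change 𝟙 _ ≫ 𝟙 _ ≫ U.hom = U.hom
    rw [Category.id_comp, Category.id_comp])
  have hgf : gU ≫ fU = 𝟙 U := by
    apply Over.OverMorphism.ext
    exact Category.id_comp _
  obtain ⟨t', ht'⟩ := surj_special ι π hinj hex hzero hloc U.left U.hom hU hA (C.obj.map fU.op q)
  refine ⟨B.obj.map gU.op t', ?_⟩
  rw [nat_π, ht', map_comp_apply', hgf]
  simp

include hinj hex hzero hloc in
/-- the quotient of a flat-Čech-acyclic sheaf by a flat-Čech-acyclic subsheaf is flat-Čech-acyclic. -/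
theorem FCA_quot (hA : FCA A.obj) (hB : FCA B.obj) : FCA C.obj := by
  intro Y₀ a X₀ ha hX hlfp hsurj n
  haveI := ha
  haveI := flat_W X₀ hX (n + 1)
  exact exactP_chase_rev (X₀ := X₀)
    (Functor.whiskerLeft (Over.map a).op ι.hom) (Functor.whiskerLeft (Over.map a).op π.hom)
    (fun n => hinj _) (fun n y hy => hex _ y hy) (fun n x => hzero _ x) n
    (surj_flat ι π hinj hex hzero hloc hA ((Over.map a).obj (W X₀ (n + 1)))
      (inferInstanceAs (Flat ((W X₀ (n + 1)).hom ≫ a))))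
    (hA Y₀ a X₀ ha hX hlfp hsurj (n + 1)) (hB Y₀ a X₀ ha hX hlfp hsurj n)

end Core

section Modules
variable {S : ShortComplex (BigSite.Mod KK T)} (hS : S.ShortExact)

/-- the underlying abelian presheaf of a module. -/
noncomputable abbrev pr (M : BigSite.Mod KK T) : (Over T)ᵒᵖ ⥤ AddCommGrpCat.{u + 1} :=
  ((BigSite.toAbMod KK T).obj M).obj

include hS in
theorem msec_inj (V : (Over T)ᵒᵖ) :
    Function.Injective (((BigSite.toAbMod KK T).map S.f).hom.app V) := by
  haveI := hS.mono_f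
  let E : BigSite.Mod KK T ⥤ AddCommGrpCat.{u + 1} :=
    BigSite.toAbMod KK T ⋙ sheafToPresheaf _ _ ⋙ (evaluation _ _).obj V
  haveI : Mono (E.map S.f) := inferInstance
  exact (AddCommGrpCat.mono_iff_injective (E.map S.f)).1 this

include hS in
theorem msec_ex (V : (Over T)ᵒᵖ) (y : (pr S.X₂).obj V)
    (hy : ((BigSite.toAbMod KK T).map S.g).hom.app V y = 0) :
    ∃ x, ((BigSite.toAbMod KK T).map S.f).hom.app V x = y := by
  let E : BigSite.Mod KK T ⥤ AddCommGrpCat.{u + 1} :=
    BigSite.toAbMod KK T ⋙ sheafToPresheaf _ _ ⋙ (evaluation _ _).obj V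
  haveI : E.PreservesZeroMorphisms := ⟨fun _ _ => rfl⟩
  have h2 := hS.exact.map_of_mono_of_preservesKernel E hS.mono_f inferInstance
  rw [ShortComplex.ab_exact_iff] at h2
  exact h2 y hy

theorem msec_zero (V : (Over T)ᵒᵖ) (x : (pr S.X₁).obj V) :
    ((BigSite.toAbMod KK T).map S.g).hom.app V (((BigSite.toAbMod KK T).map S.f).hom.app V x) = 0 := by
  have h1 : ((BigSite.toAbMod KK T).map S.f).hom.app V ≫ ((BigSite.toAbMod KK T).map S.g).hom.app V = 0 := by
    have h0 : (BigSite.toAbMod KK T).map S.f ≫ (BigSite.toAbMod KK T).map S.g = 0 := by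
      rw [← Functor.map_comp, S.zero, Functor.map_zero]
    exact congrArg (fun t => t.hom.app V) h0
  exact ConcreteCategory.congr_hom h1 x

include hS in
theorem msec_loc (U : Over T) (q : (pr S.X₃).obj (op U)) :
    ∃ R : Sieve U, R ∈ QuotSh.J KK T U ∧ ∀ ⦃V : Over T⦄ (f : V ⟶ U), R f →
      ∃ t : (pr S.X₂).obj (op V),
        ((BigSite.toAbMod KK T).map S.g).hom.app (op V) t = (pr S.X₃).map f.op q := by
  haveI := hS.epi_g
  obtain ⟨R, hR, h⟩ := Groth.Agent.Lib.Helper86.ModLocal.locally_lift_of_epi S.g (op U) q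
  exact ⟨R, hR, fun V f hf => h f hf⟩

include hS in
/-- the dimension shifting step. -/
theorem FCA_step (hA : FCA (pr S.X₁)) (hB : FCA (pr S.X₂)) :
    FCA (pr S.X₃) ∧ ∀ U : Over T, Flat U.hom →
      Function.Surjective (((BigSite.toAbMod KK T).map S.g).hom.app (op U)) :=
  ⟨FCA_quot _ _ (msec_inj hS) (msec_ex hS) msec_zero (msec_loc hS) hA hB,
    fun U hU => surj_flat _ _ (msec_inj hS) (msec_ex hS) msec_zero (msec_loc hS) hA U hU⟩

/-- injective modules are flat-Čech-acyclic. -/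
theorem FCA_of_injective (I : BigSite.Mod KK T) [Injective I] : FCA (pr I) := by
  intro Y₀ a X₀ _ _ _ _ n
  haveI := Groth.Agent.Lib.Helper86.CechInjMod.injective_presheaf_of_sheaf_mod (BigSite.ORing KK T) I
  exact Groth.Agent.Lib.Helper86.CechInjMod.exactP_of_injective_mod.{u + 1} a X₀
    ((SheafOfModules.forget (BigSite.ORing KK T) ⋙
      PresheafOfModules.restrictScalars (𝟙 (BigSite.ORing KK T).obj)).obj I) n

end Modules

end Groth.Agent.Lib.Helper86.FlatCartan
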