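import Mathlib
import Groth.Prelude.Def_Adeq2
import Groth.Agent.Lib.Helper86.FlatCartan
import Groth.Agent.Lib.Helper86.Adeq2Parasitic
import Groth.Agent.Lib.Helper68.RightDerivedLES

open CategoryTheory Limits Opposite AlgebraicGeometry

/-! # The higher direct images of a parasitic module on the big fppf site are parasitic -/

namespace Groth.Agent.Lib.Helper86.ParasiticRpush
universe u
open Groth.Agent.Lib.Helper86.CechPow Groth.Agent.Lib.Helper86.CartanFppf
open Groth.Agent.Lib.Helper86.FlatCartan
open Groth.Agent.Lib.Helper86.Adeq2Sheafify (sieve_mem_iff)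

variable {S T : Scheme.{u}}

/-- a quotient `N ⟶ N'` killing the image of a map which is surjective on sections over flat objects
is parasitic. -/
theorem parasitic_of_epi_of_surj {N₀ N N' : BigSite.Mod KK S} (g : N₀ ⟶ N) (p : N ⟶ N') [Epi p]
    (hgp : g ≫ p = 0)
    (hsurj : ∀ U : Over S, Flat U.hom → Function.Surjective (g.val.app (op U))) :
    Adeq.parasitic KK S N' := by
  intro U hU
  haveI := Groth.Agent.Lib.Helper86.Adeq2Parasitic.hasIsos_fppf.{u}
  refine ⟨fun n n' => ?_⟩
  suffices h : ∀ n : N'.val.obj (op U), n = 0 from (h n).trans (h n').symm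
  intro n
  obtain ⟨R, hR, hlift⟩ := Groth.Agent.Lib.Helper86.ModLocal.locally_lift_of_epi p (op U) n
  rw [QuotSh.J, GrothendieckTopology.mem_over_iff,
    Precoverage.mem_toGrothendieck_iff_of_isStableUnderComposition] at hR
  obtain ⟨R', hR', hle⟩ := hR
  obtain ⟨ι₀, Y, f, rfl⟩ := R'.exists_eq_ofArrows
  have hc := (Scheme.ofArrows_mem_precoverage_iff _).1 hR'
  let f' : ∀ i, Y i ⟶ U.left := f
  let V : ι₀ → Over S := fun i => Over.mk (f' i ≫ U.hom)
  let v : ∀ i, V i ⟶ U := fun i => Over.homMk (f' i) rfl
  have hcov : Sieve.ofArrows V v ∈ QuotSh.J KK S U := by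
    rw [QuotSh.J, GrothendieckTopology.mem_over_iff, Sieve.overEquiv_ofArrows]
    exact Precoverage.generate_mem_toGrothendieck hR'
  have hmem : ∀ i, R (v i) := by
    intro i
    rw [sieve_mem_iff]
    exact hle _ _ (Presieve.ofArrows.mk i)
  refine ab_sep_sieve KK ((BigSite.toAbMod KK S).obj N') V v hcov n 0 (fun i => ?_)
  obtain ⟨t, ht⟩ := hlift (v i) (hmem i)
  have hVflat : Flat (V i).hom := by
    haveI : Flat (f' i) := (hc.2 i).1
    haveI : Flat U.hom := hU
    exact inferInstanceAs (Flat (f' i ≫ U.hom))
  obtain ⟨b, rfl⟩ := hsurj (V i) hVflat t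
  have h0 : p.val.app (op (V i)) (g.val.app (op (V i)) b) = 0 := by
    have h1 := congrArg (fun t => t.val.app (op (V i))) hgp
    exact ConcreteCategory.congr_hom h1 b
  have h2 : N'.val.map (v i).op n = 0 := ht.symm.trans h0
  refine Eq.trans h2 ?_
  exact (map_zero _).symm

section Main
variable [HasInjectiveResolutions (BigSite.Mod KK T)]

/-- the first term of an injective resolution. -/
noncomputable abbrev I0 (M : BigSite.Mod KK T) : BigSite.Mod KK T :=
  (injectiveResolution M).cocomplex.X 0

instance (M : BigSite.Mod KK T) : Injective (I0 M) := (injectiveResolution M).injective 0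

/-- the embedding into the first term of an injective resolution. -/
noncomputable abbrev j0 (M : BigSite.Mod KK T) : M ⟶ I0 M :=
  (HomologicalComplex.singleObjXSelf (ComplexShape.up ℕ) 0 M).inv ≫ (injectiveResolution M).ι.f 0

instance (M : BigSite.Mod KK T) : Mono (j0 M) := by
  haveI : Mono ((injectiveResolution M).ι.f 0) := inferInstance
  exact mono_comp _ _

/-- the short exact sequence `0 → M → I⁰ → Q → 0`. -/
noncomputable abbrev seq (M : BigSite.Mod KK T) : ShortComplex (BigSite.Mod KK T) :=
  ShortComplex.mk (j0 M) (cokernel.π (j0 M)) (cokernel.condition _)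

theorem seq_shortExact (M : BigSite.Mod KK T) : (seq M).ShortExact where
  exact := ShortComplex.exact_of_g_is_cokernel _ (cokernelIsCokernel _)
  mono_f := inferInstanceAs (Mono (j0 M))
  epi_g := inferInstanceAs (Epi (cokernel.π (j0 M)))

variable (f : T ⟶ S)

omit [HasInjectiveResolutions (BigSite.Mod KK T)] in
theorem flat_pullback_obj (U : Over S) (hU : Flat U.hom) : Flat ((Over.pullback f).obj U).hom := by
  haveI := hU
  exact inferInstanceAs (Flat (pullback.snd U.hom f))

theorem parasitic_Rpush_succ (n : ℕ) : ∀ M : BigSite.Mod KK T, FCA (pr M) →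
    Adeq.parasitic KK S ((BigSite.RpushMod KK f (n + 1)).obj M) := by
  induction n with
  | zero =>
    intro M hM
    obtain ⟨hQ, hsurj⟩ := FCA_step (seq_shortExact M) hM (FCA_of_injective (I0 M))
    haveI : PreservesFiniteLimits (BigSite.pushMod KK f) := by
      haveI := (BigSite.modAdj KK f).rightAdjoint_preservesLimits
      infer_instance
    let e := (BigSite.pushMod KK f).rightDerivedZeroIsoSelf
    haveI : Epi (Groth.Agent.Lib.Helper68.RightDerivedLES.δ (BigSite.pushMod KK f)
        (seq_shortExact M) 0) :=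
      Groth.Agent.Lib.Helper68.RightDerivedLES.epi_δ (BigSite.pushMod KK f) (seq_shortExact M) 0
        (Functor.isZero_rightDerived_obj_injective_succ (BigSite.pushMod KK f) 0 (I0 M))
    refine parasitic_of_epi_of_surj (g := (BigSite.pushMod KK f).map (seq M).g)
      (p := e.inv.app (seq M).X₃ ≫ Groth.Agent.Lib.Helper68.RightDerivedLES.δ (BigSite.pushMod KK f)
        (seq_shortExact M) 0) ?_ ?_
    · rw [← Category.assoc, e.inv.naturality, Category.assoc,
        Groth.Agent.Lib.Helper68.RightDerivedLES.map_g_δ, comp_zero]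
    · intro U hU q
      exact hsurj ((Over.pullback f).obj U) (flat_pullback_obj f U hU) q
  | succ n ih =>
    intro M hM
    obtain ⟨hQ, -⟩ := FCA_step (seq_shortExact M) hM (FCA_of_injective (I0 M))
    haveI : Epi (Groth.Agent.Lib.Helper68.RightDerivedLES.δ (BigSite.pushMod KK f)
        (seq_shortExact M) (n + 1)) :=
      Groth.Agent.Lib.Helper68.RightDerivedLES.epi_δ (BigSite.pushMod KK f) (seq_shortExact M) (n + 1)
        (Functor.isZero_rightDerived_obj_injective_succ (BigSite.pushMod KK f) (n + 1) (I0 M))
    refine parasitic_of_epi_of_surj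
      (g := (0 : ((BigSite.pushMod KK f).rightDerived (n + 1)).obj (seq M).X₃ ⟶ _))
      (p := Groth.Agent.Lib.Helper68.RightDerivedLES.δ (BigSite.pushMod KK f)
        (seq_shortExact M) (n + 1)) zero_comp ?_
    intro U hU q
    haveI := ih (seq M).X₃ hQ U hU
    exact ⟨0, Subsingleton.elim _ _⟩

/-- S8789: the higher direct images of a parasitic module are parasitic. -/
theorem parasitic_Rpush (M : BigSite.Mod KK T) (hP : Adeq.parasitic KK T M) (i : ℕ) :
    Adeq.parasitic KK S ((BigSite.RpushMod KK f i).obj M) := by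
  cases i with
  | zero =>
    haveI : PreservesFiniteLimits (BigSite.pushMod KK f) := by
      haveI := (BigSite.modAdj KK f).rightAdjoint_preservesLimits
      infer_instance
    have h0 : Adeq.parasitic KK S ((BigSite.pushMod KK f).obj M) :=
      fun U hU => hP ((Over.pullback f).obj U) (flat_pullback_obj f U hU)
    exact (Adeq.parasitic KK S).prop_of_iso
      ((BigSite.pushMod KK f).rightDerivedZeroIsoSelf.app M).symm h0
  | succ n =>
    exact parasitic_Rpush_succ f n M (FCA_of_subsingleton _ (fun U hU => hP U hU))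

end Main

end Groth.Agent.Lib.Helper86.ParasiticRpush
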