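import Mathlib
import Groth.Prelude.Def_Adeq2
import Groth.Agent.Lib.Helper86.ParasiticRpush

open CategoryTheory Limits Opposite AlgebraicGeometry

/-! # Dimension shifting for functors between module categories of big sites, relative to a class of
modules and a family of test objects -/

namespace Groth.Agent.Lib.Helper86.ClassShift
universe u
open Groth.Agent.Lib.Helper86.CartanFppf (KK ab_sep_sieve)
open Groth.Agent.Lib.Helper86.Adeq2Sheafify (sieve_mem_iff)
open Groth.Agent.Lib.Helper86.ParasiticRpush (I0 j0 seq seq_shortExact)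

variable {S' T : Scheme.{u}}

/-- a family of test objects covering every object. -/
def Covers (test : Over S' → Prop) : Prop :=
  ∀ U : Over S', ∃ (ι : Type u) (V : ι → Over S') (v : ∀ i, V i ⟶ U),
    Sieve.ofArrows V v ∈ QuotSh.J KK S' U ∧ ∀ i, test (V i)

/-- a quotient `N ⟶ N'` killing the image of a map which is surjective on sections over enough test
objects is zero. -/
theorem isZero_of_epi_of_surj {N₀ N N' : BigSite.Mod KK S'} (g : N₀ ⟶ N) (p : N ⟶ N') [Epi p]
    (hgp : g ≫ p = 0) (test : Over S' → Prop) (hcov : Covers test)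
    (hsurj : ∀ U : Over S', test U → Function.Surjective (g.val.app (op U))) :
    IsZero N' := by
  haveI := Groth.Agent.Lib.Helper86.Adeq2Parasitic.hasIsos_fppf.{u}
  have hzero : ∀ (U : Over S') (n : N'.val.obj (op U)), n = 0 := by
    intro U n
    obtain ⟨R, hR, hlift⟩ := Groth.Agent.Lib.Helper86.ModLocal.locally_lift_of_epi p (op U) n
    rw [QuotSh.J, GrothendieckTopology.mem_over_iff,
      Precoverage.mem_toGrothendieck_iff_of_isStableUnderComposition] at hR
    obtain ⟨R', hR', hle⟩ := hR
    obtain ⟨ι₀, Y, f, rfl⟩ := R'.exists_eq_ofArrows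
    let f' : ∀ i, Y i ⟶ U.left := f
    let V : ι₀ → Over S' := fun i => Over.mk (f' i ≫ U.hom)
    let v : ∀ i, V i ⟶ U := fun i => Over.homMk (f' i) rfl
    have hcovV : Sieve.ofArrows V v ∈ QuotSh.J KK S' U := by
      rw [QuotSh.J, GrothendieckTopology.mem_over_iff, Sieve.overEquiv_ofArrows]
      exact Precoverage.generate_mem_toGrothendieck hR'
    have hmem : ∀ i, R (v i) := by
      intro i
      rw [sieve_mem_iff]
      exact hle _ _ (Presieve.ofArrows.mk i)
    refine ab_sep_sieve KK ((BigSite.toAbMod KK S').obj N') V v hcovV n 0 (fun i => ?_)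
    obtain ⟨t, ht⟩ := hlift (v i) (hmem i)
    obtain ⟨κ, W, w, hW, htest⟩ := hcov (V i)
    refine ab_sep_sieve KK ((BigSite.toAbMod KK S').obj N') W w hW _ _ (fun k => ?_)
    obtain ⟨b, hb⟩ := hsurj (W k) (htest k) (N.val.map (w k).op t)
    have h0 : p.val.app (op (W k)) (g.val.app (op (W k)) b) = 0 := by
      have h1 := congrArg (fun t => t.val.app (op (W k))) hgp
      exact ConcreteCategory.congr_hom h1 b
    have h3 : N'.val.map (w k).op (N'.val.map (v i).op n) = 0 := by
      rw [← ht]
      have h4 := PresheafOfModules.naturality_apply p.val (w k).op t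
      rw [← h4, ← hb]
      exact h0
    refine Eq.trans h3 ?_
    change 0 = ((BigSite.toAbMod KK S').obj N').obj.map (w k).op
      (((BigSite.toAbMod KK S').obj N').obj.map (v i).op 0)
    rw [map_zero, map_zero]
  rw [IsZero.iff_id_eq_zero]
  apply SheafOfModules.hom_ext
  ext U x
  induction U using Opposite.rec with | _ U => ?_
  exact hzero U x


section Shift
variable [HasInjectiveResolutions (BigSite.Mod KK T)]
  (F : BigSite.Mod KK T ⥤ BigSite.Mod KK S') [F.Additive] [PreservesFiniteLimits F]

open Groth.Agent.Lib.Helper68.RightDerivedLES in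
/-- dimension shifting: a class of modules stable under the quotient `I⁰/M` on which the functor is
exact on sections over enough test objects is acyclic for the functor. -/
theorem isZero_rightDerived_succ_of_class (Cls : BigSite.Mod KK T → Prop) (test : Over S' → Prop)
    (hcov : Covers test)
    (hstep : ∀ M, Cls M → Cls (seq M).X₃ ∧
      ∀ U : Over S', test U → Function.Surjective ((F.map (seq M).g).val.app (op U)))
    (n : ℕ) : ∀ M, Cls M → IsZero ((F.rightDerived (n + 1)).obj M) := by
  induction n with
  | zero =>
    intro M hM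
    obtain ⟨-, hsurj⟩ := hstep M hM
    let e := F.rightDerivedZeroIsoSelf
    haveI : Epi (δ F (seq_shortExact M) 0) :=
      epi_δ F (seq_shortExact M) 0 (Functor.isZero_rightDerived_obj_injective_succ F 0 (I0 M))
    refine isZero_of_epi_of_surj (g := F.map (seq M).g)
      (p := e.inv.app (seq M).X₃ ≫ δ F (seq_shortExact M) 0) ?_ test hcov hsurj
    rw [← Category.assoc, e.inv.naturality, Category.assoc, map_g_δ, comp_zero]
  | succ n ih =>
    intro M hM
    obtain ⟨hQ, -⟩ := hstep M hM
    haveI : Epi (δ F (seq_shortExact M) (n + 1)) :=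
      epi_δ F (seq_shortExact M) (n + 1)
        (Functor.isZero_rightDerived_obj_injective_succ F (n + 1) (I0 M))
    have hz : IsZero ((F.rightDerived (n + 1)).obj (seq M).X₃) := ih _ hQ
    rw [IsZero.iff_id_eq_zero, ← cancel_epi (δ F (seq_shortExact M) (n + 1))]
    rw [Category.comp_id, comp_zero]
    exact hz.eq_of_src _ _

end Shift

end Groth.Agent.Lib.Helper86.ClassShift
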