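import Mathlib
import Groth.Prelude.Def_Adeq2
import Groth.Agent.Lib.Helper86.CartanFppf
open CategoryTheory Limits Opposite AlgebraicGeometry

/-! # Geometric functors between big sites and the induced functors on modules -/

namespace Groth.Agent.Lib.Helper86.GeomFun
universe u
open Groth.Agent.Lib.Helper86.CartanFppf (KK)

variable {S' T : Scheme.{u}}

/-- a ring map `O_{S'} ⟶ Φ_* O_T` given by pulling back functions along morphisms of schemes. -/
noncomputable def geomRing (Φ : Over S' ⥤ Over T)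
    [Φ.IsContinuous (QuotSh.J KK S') (QuotSh.J KK T)]
    (p : ∀ U : Over S', (Φ.obj U).left ⟶ U.left)
    (hp : ∀ {U V : Over S'} (h : U ⟶ V), (Φ.map h).left ≫ p V = p U ≫ h.left) :
    BigSite.ORing KK S' ⟶
      (Φ.sheafPushforwardContinuous RingCat.{u + 1} (QuotSh.J KK S') (QuotSh.J KK T)).obj
        (BigSite.ORing KK T) :=
  ⟨{ app := fun U => (BigSite.ORingAbs KK).obj.map (p U.unop).op
     naturality := by
      intro U V h
      change (BigSite.ORingAbs KK).obj.map h.unop.left.op ≫ (BigSite.ORingAbs KK).obj.map (p V.unop).op =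
        (BigSite.ORingAbs KK).obj.map (p U.unop).op ≫
          (BigSite.ORingAbs KK).obj.map (Φ.map h.unop).left.op
      rw [← Functor.map_comp, ← Functor.map_comp, ← op_comp, ← op_comp, hp] }⟩

/-- a ring map is geometric, given by the family `p`. -/
def IsGeom {Φ : Over S' ⥤ Over T} [Φ.IsContinuous (QuotSh.J KK S') (QuotSh.J KK T)]
    (φ : BigSite.ORing KK S' ⟶
      (Φ.sheafPushforwardContinuous RingCat.{u + 1} (QuotSh.J KK S') (QuotSh.J KK T)).obj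
        (BigSite.ORing KK T))
    (p : ∀ U : Over S', (Φ.obj U).left ⟶ U.left) : Prop :=
  ∀ U : Over S', φ.hom.app (op U) = (BigSite.ORingAbs KK).obj.map (p U).op

theorem isGeom_ext {Φ : Over S' ⥤ Over T} [Φ.IsContinuous (QuotSh.J KK S') (QuotSh.J KK T)]
    {φ ψ : BigSite.ORing KK S' ⟶
      (Φ.sheafPushforwardContinuous RingCat.{u + 1} (QuotSh.J KK S') (QuotSh.J KK T)).obj
        (BigSite.ORing KK T)}
    {p : ∀ U : Over S', (Φ.obj U).left ⟶ U.left} (hφ : IsGeom φ p) (hψ : IsGeom ψ p) : φ = ψ := by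
  apply Sheaf.hom_ext
  ext U : 2
  induction U using Opposite.rec with | _ U => ?_
  rw [hφ U, hψ U]

/-- transport of geometric ring maps along a natural transformation. -/
theorem isGeom_natTrans {Φ₁ Φ₂ : Over S' ⥤ Over T}
    [Φ₁.IsContinuous (QuotSh.J KK S') (QuotSh.J KK T)]
    [Φ₂.IsContinuous (QuotSh.J KK S') (QuotSh.J KK T)]
    {φ₂ : BigSite.ORing KK S' ⟶
      (Φ₂.sheafPushforwardContinuous RingCat.{u + 1} (QuotSh.J KK S') (QuotSh.J KK T)).obj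
        (BigSite.ORing KK T)}
    {p₂ : ∀ U : Over S', (Φ₂.obj U).left ⟶ U.left} (h₂ : IsGeom φ₂ p₂) (e : Φ₁ ⟶ Φ₂) :
    IsGeom (φ₂ ≫ (Functor.sheafPushforwardContinuousNatTrans e _ _ _).app (BigSite.ORing KK T))
      (fun U => (e.app U).left ≫ p₂ U) := by
  intro U
  change φ₂.hom.app (op U) ≫ (BigSite.ORingAbs KK).obj.map (e.app U).left.op = _
  rw [h₂ U]
  exact ((BigSite.ORingAbs KK).obj.map_comp _ _).symm

theorem isGeom_pushMod {S : Scheme.{u}} (f : T ⟶ S) :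
    IsGeom (Sheaf.toPushforwardOverPullback (BigSite.ORingAbs KK) f)
      (fun U => pullback.fst U.hom f) := fun _ => rfl

theorem isGeom_pullMod {S : Scheme.{u}} (a : S' ⟶ S) :
    IsGeom (Sheaf.pushforwardOverMapIso (BigSite.ORingAbs KK) a).inv (fun U => 𝟙 _) := by
  intro U
  exact ((BigSite.ORingAbs KK).obj.map_id _).symm


/-- a "geometric" functor between big sites, with its ring map. -/
structure GeomFun (S' T : Scheme.{u}) where
  Φ : Over S' ⥤ Over T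
  [cont : Φ.IsContinuous (QuotSh.J KK S') (QuotSh.J KK T)]
  φ : BigSite.ORing KK S' ⟶
      (Φ.sheafPushforwardContinuous RingCat.{u + 1} (QuotSh.J KK S') (QuotSh.J KK T)).obj
        (BigSite.ORing KK T)
  p : ∀ U : Over S', (Φ.obj U).left ⟶ U.left
  geom : IsGeom φ p


variable {S₁ S₂ S₃ : Scheme.{u}}

/-- the functor on modules. -/
noncomputable def GeomFun.functor (𝔉 : GeomFun S₁ S₂) : BigSite.Mod KK S₂ ⥤ BigSite.Mod KK S₁ :=
  haveI := 𝔉.cont
  SheafOfModules.pushforward 𝔉.φ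

/-- the direct image. -/
noncomputable abbrev GeomFun.push (f : S₂ ⟶ S₁) : GeomFun S₁ S₂ where
  Φ := Over.pullback f
  φ := Sheaf.toPushforwardOverPullback (BigSite.ORingAbs KK) f
  p := fun U => pullback.fst U.hom f
  geom := isGeom_pushMod f

/-- the restriction. -/
noncomputable abbrev GeomFun.pull (a : S₁ ⟶ S₂) : GeomFun S₁ S₂ where
  Φ := Over.map a
  φ := (Sheaf.pushforwardOverMapIso (BigSite.ORingAbs KK) a).inv
  p := fun U => 𝟙 _
  geom := isGeom_pullMod a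

theorem GeomFun.push_functor (f : S₂ ⟶ S₁) : (GeomFun.push f).functor = BigSite.pushMod KK f := rfl

theorem GeomFun.pull_functor (a : S₁ ⟶ S₂) : (GeomFun.pull a).functor = BigSite.pullMod KK a := rfl

/-- composition. -/
noncomputable abbrev GeomFun.comp (𝔉 : GeomFun S₁ S₂) (𝔊 : GeomFun S₂ S₃) : GeomFun S₁ S₃ where
  Φ := 𝔉.Φ ⋙ 𝔊.Φ
  cont := by
    haveI := 𝔉.cont
    haveI := 𝔊.cont
    exact Functor.isContinuous_comp _ _ _ (QuotSh.J KK S₂) _
  φ :=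
    haveI := 𝔉.cont
    haveI := 𝔊.cont
    𝔉.φ ≫ (𝔉.Φ.sheafPushforwardContinuous RingCat.{u + 1} (QuotSh.J KK S₁) (QuotSh.J KK S₂)).map 𝔊.φ
  p := fun U => 𝔊.p (𝔉.Φ.obj U) ≫ 𝔉.p U
  geom := by
    intro U
    change 𝔉.φ.hom.app (op U) ≫ 𝔊.φ.hom.app (op (𝔉.Φ.obj U)) = _
    rw [𝔉.geom U, 𝔊.geom (𝔉.Φ.obj U)]
    exact ((BigSite.ORingAbs KK).obj.map_comp _ _).symm

theorem GeomFun.comp_functor (𝔉 : GeomFun S₁ S₂) (𝔊 : GeomFun S₂ S₃) :
    (𝔉.comp 𝔊).functor = 𝔊.functor ⋙ 𝔉.functor := rfl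

theorem GeomFun.map_aux {𝔉₁ 𝔉₂ : GeomFun S₁ S₂} (e : 𝔉₁.Φ ⟶ 𝔉₂.Φ)
    (he : ∀ U, (e.app U).left ≫ 𝔉₂.p U = 𝔉₁.p U) :
    haveI := 𝔉₁.cont
    haveI := 𝔉₂.cont
    𝔉₂.φ ≫ (Functor.sheafPushforwardContinuousNatTrans e RingCat.{u + 1} (QuotSh.J KK S₁)
      (QuotSh.J KK S₂)).app (BigSite.ORing KK S₂) = 𝔉₁.φ := by
  haveI := 𝔉₁.cont
  haveI := 𝔉₂.cont
  have h1 := isGeom_natTrans 𝔉₂.geom e
  apply Sheaf.hom_ext
  ext U : 2
  induction U using Opposite.rec with | _ U => ?_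
  have h2 := h1 U
  have h3 := 𝔉₁.geom U
  rw [h3]
  refine h2.trans ?_
  have h4 := he U
  change (BigSite.ORingAbs KK).obj.map ((e.app U).left ≫ 𝔉₂.p U).op = _
  rw [h4]

/-- the natural transformation induced by a natural transformation of site functors. -/
noncomputable def GeomFun.map {𝔉₁ 𝔉₂ : GeomFun S₁ S₂} (e : 𝔉₁.Φ ⟶ 𝔉₂.Φ)
    (he : ∀ U, (e.app U).left ≫ 𝔉₂.p U = 𝔉₁.p U) : 𝔉₂.functor ⟶ 𝔉₁.functor :=
  haveI := 𝔉₁.cont
  haveI := 𝔉₂.cont
  SheafOfModules.pushforwardNatTrans 𝔉₂.φ e ≫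
    (SheafOfModules.pushforwardCongr (GeomFun.map_aux e he)).hom

theorem GeomFun.map_app_val_app {𝔉₁ 𝔉₂ : GeomFun S₁ S₂} (e : 𝔉₁.Φ ⟶ 𝔉₂.Φ)
    (he : ∀ U, (e.app U).left ≫ 𝔉₂.p U = 𝔉₁.p U) (M : BigSite.Mod KK S₂) (U : (Over S₁)ᵒᵖ)
    (x : M.val.obj (op (𝔉₂.Φ.obj U.unop))) :
    ((GeomFun.map e he).app M).val.app U x = M.val.map (e.app U.unop).op x := rfl

instance additive_functor (𝔉 : GeomFun S₁ S₂) : 𝔉.functor.Additive where

end Groth.Agent.Lib.Helper86.GeomFun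

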