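import Mathlib
import Groth.Prelude.Def_Adeq2
import Groth.Agent.Lib.Helper86.CartanFppf

open CategoryTheory Limits Opposite AlgebraicGeometry

/-! # Short exact sequences of modules on the big site from sectionwise data -/

namespace Groth.Agent.Lib.Helper86.ModSections
universe u
open Groth.Agent.Lib.Helper86.CartanFppf (KK)

variable {S' : Scheme.{u}}

theorem epi_of_sections {M N : BigSite.Mod KK S'} (g : M ⟶ N)
    (h3 : ∀ U : (Over S')ᵒᵖ, Function.Surjective (g.val.app U)) : Epi g := by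
  apply (BigSite.toAbMod KK S').epi_of_epi_map
  rw [← CategoryTheory.Sheaf.isLocallySurjective_iff_epi' (φ := (BigSite.toAbMod KK S').map g)]
  apply Presheaf.isLocallySurjective_of_surjective
  intro U
  exact h3 U

theorem exact_and_mono_of_sections (S : ShortComplex (BigSite.Mod KK S'))
    (h1 : ∀ U : (Over S')ᵒᵖ, Function.Injective (S.f.val.app U))
    (h2 : ∀ (U : (Over S')ᵒᵖ) (s : S.X₂.val.obj U), S.g.val.app U s = 0 → ∃ t, S.f.val.app U t = s) :
    S.Exact ∧ Mono S.f := by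
  have hk : IsLimit (KernelFork.ofι S.f S.zero) := by
    apply isLimitOfReflects (SheafOfModules.forget (BigSite.ORing KK S'))
    apply PresheafOfModules.evaluationJointlyReflectsLimits
    intro U
    let E := SheafOfModules.forget (BigSite.ORing KK S') ⋙
      PresheafOfModules.evaluation (BigSite.ORing KK S').obj U
    haveI : E.PreservesZeroMorphisms := ⟨fun _ _ => rfl⟩
    have hex : (S.map E).Exact := by
      rw [ShortComplex.moduleCat_exact_iff]
      intro x hx
      exact h2 U x hx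
    haveI : Mono (S.map E).f := (ModuleCat.mono_iff_injective _).2 (h1 U)
    have hk' := hex.fIsKernel
    exact (isLimitMapConeForkEquiv' E S.zero).symm hk'
  exact (ShortComplex.exact_and_mono_f_iff_f_is_kernel S).2 ⟨hk⟩

theorem shortExact_of_sections (S : ShortComplex (BigSite.Mod KK S'))
    (h1 : ∀ U : (Over S')ᵒᵖ, Function.Injective (S.f.val.app U))
    (h2 : ∀ (U : (Over S')ᵒᵖ) (s : S.X₂.val.obj U), S.g.val.app U s = 0 → ∃ t, S.f.val.app U t = s)
    (h3 : ∀ U : (Over S')ᵒᵖ, Function.Surjective (S.g.val.app U)) : S.ShortExact := by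
  obtain ⟨hex, hm⟩ := exact_and_mono_of_sections S h1 h2
  exact { exact := hex, mono_f := hm, epi_g := epi_of_sections S.g h3 }

section ev
variable {M N P : BigSite.Mod KK S'}

theorem ev_comp (φ : M ⟶ N) (ψ : N ⟶ P) (U : (Over S')ᵒᵖ) (x : M.val.obj U) :
    (φ ≫ ψ).val.app U x = ψ.val.app U (φ.val.app U x) := rfl

theorem ev_add (φ ψ : M ⟶ N) (U : (Over S')ᵒᵖ) (x : M.val.obj U) :
    (φ + ψ).val.app U x = φ.val.app U x + ψ.val.app U x := rfl

theorem ev_neg (φ : M ⟶ N) (U : (Over S')ᵒᵖ) (x : M.val.obj U) :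
    (-φ).val.app U x = -φ.val.app U x := rfl

theorem ev_id (U : (Over S')ᵒᵖ) (x : M.val.obj U) : (𝟙 M : M ⟶ M).val.app U x = x := rfl

theorem biprod_ext_sections (U : (Over S')ᵒᵖ) (x y : (M ⊞ N).val.obj U)
    (h1 : (biprod.fst : M ⊞ N ⟶ M).val.app U x = (biprod.fst : M ⊞ N ⟶ M).val.app U y)
    (h2 : (biprod.snd : M ⊞ N ⟶ N).val.app U x = (biprod.snd : M ⊞ N ⟶ N).val.app U y) : x = y := by
  have key : ∀ z : (M ⊞ N).val.obj U,
      z = (biprod.inl : M ⟶ M ⊞ N).val.app U ((biprod.fst : M ⊞ N ⟶ M).val.app U z) +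
        (biprod.inr : N ⟶ M ⊞ N).val.app U ((biprod.snd : M ⊞ N ⟶ N).val.app U z) := by
    intro z
    have h := congrArg (fun t : M ⊞ N ⟶ M ⊞ N => t.val.app U z) (biprod.total (X := M) (Y := N))
    simp only [ev_add, ev_comp, ev_id] at h
    exact h.symm
  rw [key x, key y, h1, h2]

end ev

/-- a Mayer–Vietoris square of modules which is sectionwise bicartesian with a surjective leg gives a
short exact sequence. -/
theorem shortExact_of_mv_sections {P₀ P₁ P₂ P₃ : BigSite.Mod KK S'} (a₁ : P₀ ⟶ P₁) (a₂ : P₀ ⟶ P₂)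
    (b₁ : P₁ ⟶ P₃) (b₂ : P₂ ⟶ P₃)
    (w : biprod.lift a₁ a₂ ≫ biprod.desc b₁ (-b₂) = 0)
    (hinj : ∀ (U : (Over S')ᵒᵖ) (t : P₀.val.obj U), a₁.val.app U t = 0 → a₂.val.app U t = 0 → t = 0)
    (hglue : ∀ (U : (Over S')ᵒᵖ) (s₁ : P₁.val.obj U) (s₂ : P₂.val.obj U),
      b₁.val.app U s₁ = b₂.val.app U s₂ → ∃ t : P₀.val.obj U, a₁.val.app U t = s₁ ∧ a₂.val.app U t = s₂)
    (hsurj : ∀ U : (Over S')ᵒᵖ, Function.Surjective (b₁.val.app U)) :
    (ShortComplex.mk (biprod.lift a₁ a₂) (biprod.desc b₁ (-b₂)) w).ShortExact := by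
  apply shortExact_of_sections
  · intro U
    rw [injective_iff_map_eq_zero]
    intro t ht
    have h1 : a₁.val.app U t = 0 := by
      have := congrArg ((biprod.fst : P₁ ⊞ P₂ ⟶ _).val.app U) ht
      rw [← ev_comp, biprod.lift_fst, map_zero] at this
      exact this
    have h2 : a₂.val.app U t = 0 := by
      have := congrArg ((biprod.snd : P₁ ⊞ P₂ ⟶ _).val.app U) ht
      rw [← ev_comp, biprod.lift_snd, map_zero] at this
      exact this
    exact hinj U t h1 h2
  · intro U s hs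
    have hd : b₁.val.app U ((biprod.fst : P₁ ⊞ P₂ ⟶ _).val.app U s) =
        b₂.val.app U ((biprod.snd : P₁ ⊞ P₂ ⟶ _).val.app U s) := by
      have h0 : (biprod.desc b₁ (-b₂)).val.app U s = 0 := hs
      rw [biprod.desc_eq, ev_add, ev_comp, ev_comp, ev_neg] at h0
      exact sub_eq_zero.1 ((sub_eq_add_neg _ _).trans h0)
    obtain ⟨t, ht1, ht2⟩ := hglue U _ _ hd
    refine ⟨t, ?_⟩
    apply biprod_ext_sections
    · change (biprod.fst : P₁ ⊞ P₂ ⟶ _).val.app U ((biprod.lift a₁ a₂).val.app U t) = _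
      rw [← ev_comp, biprod.lift_fst]
      exact ht1
    · change (biprod.snd : P₁ ⊞ P₂ ⟶ _).val.app U ((biprod.lift a₁ a₂).val.app U t) = _
      rw [← ev_comp, biprod.lift_snd]
      exact ht2
  · intro U c
    obtain ⟨s₁, hs₁⟩ := hsurj U c
    refine ⟨(biprod.inl : P₁ ⟶ P₁ ⊞ P₂).val.app U s₁, ?_⟩
    change (biprod.desc b₁ (-b₂)).val.app U ((biprod.inl : P₁ ⟶ P₁ ⊞ P₂).val.app U s₁) = c
    rw [← ev_comp, biprod.inl_desc]
    exact hs₁

end Groth.Agent.Lib.Helper86.ModSections
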