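import Mathlib
import Groth.Prelude.Def_Adeq2
import Groth.Agent.Lib.Helper86.GeomFun
import Groth.Agent.Lib.Helper86.ModSections
import Groth.Agent.Lib.Helper86.FlatCartan

open CategoryTheory Limits Opposite AlgebraicGeometry

/-! # Exactness properties of the geometric functors on modules -/

namespace Groth.Agent.Lib.Helper86.GeomExact
universe u
open Groth.Agent.Lib.Helper86.CartanFppf (KK)
open Groth.Agent.Lib.Helper86.GeomFun Groth.Agent.Lib.Helper86.ModSections
open Groth.Agent.Lib.Helper86.FlatCartan (msec_inj msec_ex)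

variable {S₁ S₂ : Scheme.{u}}


theorem preservesFiniteLimits_functor (𝔉 : GeomFun S₁ S₂) : PreservesFiniteLimits 𝔉.functor := by
  refine ((Functor.preservesFiniteLimits_tfae 𝔉.functor).out 0 3).1 ?_
  intro S hS
  apply exact_and_mono_of_sections
  · intro U
    exact msec_inj hS (op (𝔉.Φ.obj U.unop))
  · intro U s hs
    exact msec_ex hS (op (𝔉.Φ.obj U.unop)) s hs

theorem preservesFiniteColimits_pull (a : S₁ ⟶ S₂) : PreservesFiniteColimits (BigSite.pullMod KK a) := by
  haveI := (BigSite.modAdj KK a).leftAdjoint_preservesColimits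
  infer_instance

theorem preservesFiniteLimits_pull (a : S₁ ⟶ S₂) : PreservesFiniteLimits (BigSite.pullMod KK a) :=
  preservesFiniteLimits_functor (GeomFun.pull a)

end Groth.Agent.Lib.Helper86.GeomExact
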