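import Mathlib
import Groth.Prelude.Def_Adeq2
import Groth.Agent.Lib.Helper86.GeomFun

open CategoryTheory Limits Opposite AlgebraicGeometry

/-! # The functors `M ↦ (U ↦ M(U ×_S W))` for opens `W` of `T` and their restriction maps -/

namespace Groth.Agent.Lib.Helper86.OpenPush
universe u
open Groth.Agent.Lib.Helper86.CartanFppf (KK)
open Groth.Agent.Lib.Helper86.GeomFun

variable {S S' T : Scheme.{u}} (f : T ⟶ S) (a : S' ⟶ S)

/-- the geometric functor `U ↦ U ×_S X` over `T`, for `j : X ⟶ T`. -/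
noncomputable abbrev GW {X : Scheme.{u}} (j : X ⟶ T) : GeomFun S' T :=
  (GeomFun.pull a).comp ((GeomFun.push (j ≫ f)).comp (GeomFun.pull j))

theorem GW_functor {X : Scheme.{u}} (j : X ⟶ T) :
    (GW f a j).functor = BigSite.pullMod KK j ⋙ BigSite.pushMod KK (j ≫ f) ⋙ BigSite.pullMod KK a := by
  rw [GW, GeomFun.comp_functor, GeomFun.comp_functor, GeomFun.push_functor, GeomFun.pull_functor,
    GeomFun.pull_functor]
  rfl

theorem GW_obj {X : Scheme.{u}} (j : X ⟶ T) (U : Over S') :
    (GW f a j).Φ.obj U = Over.mk (pullback.snd ((Over.map a).obj U).hom (j ≫ f) ≫ j) := rfl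

theorem GW_p {X : Scheme.{u}} (j : X ⟶ T) (U : Over S') :
    (GW f a j).p U = pullback.fst ((Over.map a).obj U).hom (j ≫ f) := by
  change (𝟙 _ ≫ pullback.fst ((Over.map a).obj U).hom (j ≫ f)) ≫ 𝟙 _ = _
  rw [Category.id_comp, Category.comp_id]

theorem GW_map_fst {X : Scheme.{u}} (j : X ⟶ T) {U V : Over S'} (φ : U ⟶ V) :
    ((GW f a j).Φ.map φ).left ≫ pullback.fst ((Over.map a).obj V).hom (j ≫ f) =
      pullback.fst ((Over.map a).obj U).hom (j ≫ f) ≫ φ.left :=
  pullback.lift_fst _ _ _

theorem GW_map_snd {X : Scheme.{u}} (j : X ⟶ T) {U V : Over S'} (φ : U ⟶ V) :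
    ((GW f a j).Φ.map φ).left ≫ pullback.snd ((Over.map a).obj V).hom (j ≫ f) =
      pullback.snd ((Over.map a).obj U).hom (j ≫ f) :=
  pullback.lift_snd _ _ _

variable {X X' : Scheme.{u}} {j : X ⟶ T} {j' : X' ⟶ T} (h : X' ⟶ X) (hh : h ≫ j = j')

/-- the transition maps. -/
noncomputable def βleft (U : Over S') : ((GW f a j').Φ.obj U).left ⟶ ((GW f a j).Φ.obj U).left :=
  pullback.map ((Over.map a).obj U).hom (j' ≫ f) ((Over.map a).obj U).hom (j ≫ f) (𝟙 _) h (𝟙 _)
    (by rw [Category.comp_id, Category.id_comp])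
    (by rw [Category.comp_id, ← hh, Category.assoc])

@[reassoc (attr := simp)]
theorem βleft_fst (U : Over S') :
    βleft f a h hh U ≫ pullback.fst ((Over.map a).obj U).hom (j ≫ f) = pullback.fst ((Over.map a).obj U).hom (j' ≫ f) := by
  unfold βleft
  exact (pullback.lift_fst _ _ _).trans (Category.comp_id _)

@[reassoc (attr := simp)]
theorem βleft_snd (U : Over S') :
    βleft f a h hh U ≫ pullback.snd ((Over.map a).obj U).hom (j ≫ f) = pullback.snd ((Over.map a).obj U).hom (j' ≫ f) ≫ h := by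
  unfold βleft
  exact pullback.lift_snd _ _ _

/-- the transition natural transformation. -/
noncomputable def β : (GW f a j').Φ ⟶ (GW f a j).Φ where
  app U := Over.homMk (βleft f a h hh U) (by
    change βleft f a h hh U ≫ pullback.snd _ _ ≫ j = pullback.snd _ _ ≫ j'
    rw [βleft_snd_assoc, hh])
  naturality := by
    intro U V φ
    apply Over.OverMorphism.ext
    change ((GW f a j').Φ.map φ).left ≫ βleft f a h hh V =
      βleft f a h hh U ≫ ((GW f a j).Φ.map φ).left
    apply pullback.hom_ext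
    · rw [Category.assoc, βleft_fst, GW_map_fst, Category.assoc, GW_map_fst, βleft_fst_assoc]
    · rw [Category.assoc, βleft_snd, ← Category.assoc, GW_map_snd, Category.assoc, GW_map_snd,
        βleft_snd]

theorem β_app_left (U : Over S') : ((β f a h hh).app U).left = βleft f a h hh U := rfl

/-- the restriction transformation. -/
noncomputable def ρ : (GW f a j).functor ⟶ (GW f a j').functor :=
  GeomFun.map (β f a h hh) (by
    intro U
    rw [GW_p, GW_p, β_app_left, βleft_fst])

theorem ρ_app_val_app (M : BigSite.Mod KK T) (U : (Over S')ᵒᵖ)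
    (x : M.val.obj (op ((GW f a j).Φ.obj U.unop))) :
    ((ρ f a h hh).app M).val.app U x = M.val.map ((β f a h hh).app U.unop).op x := rfl

end Groth.Agent.Lib.Helper86.OpenPush
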