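import Mathlib
import Groth.Prelude.Def_Adeq2
import Groth.Agent.Lib.Helper86.OpenPush
import Groth.Agent.Lib.Helper86.CechInjMod

open CategoryTheory Limits Opposite AlgebraicGeometry

/-! # Mayer–Vietoris gluing on the objects `U ×_S W` and surjectivity of restrictions of injectives -/

namespace Groth.Agent.Lib.Helper86.OpenPushMV
universe u
open Groth.Agent.Lib.Helper86.CartanFppf (KK ab_glue_sieve ab_sep_sieve)
open Groth.Agent.Lib.Helper86.GeomFun Groth.Agent.Lib.Helper86.OpenPush

variable {S S' T : Scheme.{u}} (f : T ⟶ S) (a : S' ⟶ S)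

/-- the object `U ×_S W` over `T`. -/
noncomputable abbrev VO (W : T.Opens) (U : Over S') : Over T := (GW f a W.ι).Φ.obj U

/-- the inclusion `U ×_S W' ⟶ U ×_S W`. -/
noncomputable abbrev rO {W W' : T.Opens} (hle : W' ≤ W) (U : Over S') : VO f a W' U ⟶ VO f a W U :=
  (β f a (T.homOfLE hle) (T.homOfLE_ι hle)).app U

theorem rO_left {W W' : T.Opens} (hle : W' ≤ W) (U : Over S') :
    (rO f a hle U).left = βleft f a (T.homOfLE hle) (T.homOfLE_ι hle) U := rfl

instance {W W' : T.Opens} (hle : W' ≤ W) (U : Over S') : IsOpenImmersion (rO f a hle U).left := by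
  rw [rO_left]
  unfold βleft
  infer_instance

instance {W W' : T.Opens} (hle : W' ≤ W) (U : Over S') : Mono (rO f a hle U) := by
  haveI : Mono ((Over.forget T).map (rO f a hle U)) := inferInstanceAs (Mono (rO f a hle U).left)
  exact (Over.forget T).mono_of_mono_map inferInstance

theorem rO_comp {W W' W'' : T.Opens} (hle : W' ≤ W) (hle' : W'' ≤ W') (U : Over S') :
    rO f a hle' U ≫ rO f a hle U = rO f a (hle'.trans hle) U := by
  apply Over.OverMorphism.ext
  rw [Over.comp_left, rO_left, rO_left, rO_left]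
  apply pullback.hom_ext
  · rw [Category.assoc, βleft_fst, βleft_fst, βleft_fst]
  · rw [Category.assoc, βleft_snd, βleft_snd_assoc, βleft_snd, Scheme.homOfLE_homOfLE]

theorem range_rO {W W' : T.Opens} (hle : W' ≤ W) (U : Over S') :
    Set.range (rO f a hle U).left =
      {x | (W.ι (pullback.snd ((Over.map a).obj U).hom (W.ι ≫ f) x)) ∈ W'} := by
  rw [rO_left]
  unfold βleft
  rw [Scheme.Pullback.range_map]
  ext x
  simp only [Set.mem_inter_iff, Set.mem_preimage, Set.mem_ofPred_eq]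
  constructor
  · rintro ⟨-, y, hy⟩
    rw [← hy, ← Scheme.Hom.comp_apply, Scheme.homOfLE_ι]
    exact y.2
  · intro hx
    refine ⟨⟨_, rfl⟩, ⟨⟨_, hx⟩, ?_⟩⟩
    rw [Scheme.homOfLE_apply']
    rfl


section MV
variable (A B : T.Opens) (U : Over S')

/-- the two members of the cover. -/
abbrev Wb (b : Bool) : T.Opens := cond b A B

theorem Wb_le (b : Bool) : Wb A B b ≤ A ⊔ B := by
  cases b
  · exact le_sup_right
  · exact le_sup_left

theorem cover_mv : Sieve.ofArrows (fun b : Bool => VO f a (Wb A B b) U)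
    (fun b => rO f a (Wb_le A B b) U) ∈ QuotSh.J KK T (VO f a (A ⊔ B) U) := by
  rw [QuotSh.J, GrothendieckTopology.mem_over_iff, Sieve.overEquiv_ofArrows]
  apply Precoverage.generate_mem_toGrothendieck
  refine (Scheme.ofArrows_mem_precoverage_iff
    (P := @Flat ⊓ @LocallyOfFinitePresentation)).2 ⟨fun x => ?_, fun b => ⟨inferInstance, inferInstance⟩⟩
  have hx : ((A ⊔ B).ι (pullback.snd ((Over.map a).obj U).hom ((A ⊔ B).ι ≫ f) x)) ∈ A ⊔ B :=
    (pullback.snd ((Over.map a).obj U).hom ((A ⊔ B).ι ≫ f) x).2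
  rcases hx with hx | hx
  · refine ⟨true, ?_⟩
    change x ∈ Set.range (rO f a (Wb_le A B true) U).left
    rw [range_rO]
    exact hx
  · refine ⟨false, ?_⟩
    change x ∈ Set.range (rO f a (Wb_le A B false) U).left
    rw [range_rO]
    exact hx

theorem sep_mv (F : BigSite.Ab KK T) (x x' : F.obj.obj (op (VO f a (A ⊔ B) U)))
    (h1 : F.obj.map (rO f a (le_sup_left : A ≤ A ⊔ B) U).op x =
      F.obj.map (rO f a (le_sup_left : A ≤ A ⊔ B) U).op x')
    (h2 : F.obj.map (rO f a (le_sup_right : B ≤ A ⊔ B) U).op x =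
      F.obj.map (rO f a (le_sup_right : B ≤ A ⊔ B) U).op x') : x = x' := by
  refine ab_sep_sieve KK F _ _ (cover_mv f a A B U) x x' ?_
  intro b
  cases b
  · exact h2
  · exact h1

theorem exists_lift_inf {Z : Over T} (gA : Z ⟶ VO f a A U) (gB : Z ⟶ VO f a B U)
    (h : gA ≫ rO f a (le_sup_left : A ≤ A ⊔ B) U = gB ≫ rO f a (le_sup_right : B ≤ A ⊔ B) U) :
    ∃ g : Z ⟶ VO f a (A ⊓ B) U, g ≫ rO f a (inf_le_left : A ⊓ B ≤ A) U = gA ∧
      g ≫ rO f a (inf_le_right : A ⊓ B ≤ B) U = gB := by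
  have wA : gA.left ≫ pullback.snd ((Over.map a).obj U).hom (A.ι ≫ f) ≫ A.ι = Z.hom := Over.w gA
  have wB : gB.left ≫ pullback.snd ((Over.map a).obj U).hom (B.ι ≫ f) ≫ B.ι = Z.hom := Over.w gB
  have hrange : Set.range Z.hom ⊆ Set.range (A ⊓ B).ι := by
    rw [Scheme.Opens.range_ι]
    rintro _ ⟨z, rfl⟩
    constructor
    · rw [← wA, Scheme.Hom.comp_apply, Scheme.Hom.comp_apply]
      exact (pullback.snd ((Over.map a).obj U).hom (A.ι ≫ f) (gA.left z)).2
    · rw [← wB, Scheme.Hom.comp_apply, Scheme.Hom.comp_apply]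
      exact (pullback.snd ((Over.map a).obj U).hom (B.ι ≫ f) (gB.left z)).2
  let k : Z.left ⟶ (A ⊓ B : T.Opens) := IsOpenImmersion.lift (A ⊓ B).ι Z.hom hrange
  have hk : k ≫ (A ⊓ B).ι = Z.hom := IsOpenImmersion.lift_fac _ _ _
  have hfst : gA.left ≫ pullback.fst ((Over.map a).obj U).hom (A.ι ≫ f) =
      gB.left ≫ pullback.fst ((Over.map a).obj U).hom (B.ι ≫ f) := by
    have h1 := congrArg (fun t => t.left ≫ pullback.fst ((Over.map a).obj U).hom ((A ⊔ B).ι ≫ f)) h
    simp only [Over.comp_left, rO_left, Category.assoc, βleft_fst] at h1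
    exact h1
  let gl : Z.left ⟶ (VO f a (A ⊓ B) U).left :=
    pullback.lift (gA.left ≫ pullback.fst ((Over.map a).obj U).hom (A.ι ≫ f)) k (by
      rw [← Category.assoc k, hk, ← wA, Category.assoc, pullback.condition, Category.assoc,
        Category.assoc])
  have hgl1 : gl ≫ pullback.fst ((Over.map a).obj U).hom ((A ⊓ B).ι ≫ f) =
      gA.left ≫ pullback.fst ((Over.map a).obj U).hom (A.ι ≫ f) := pullback.lift_fst _ _ _
  have hgl2 : gl ≫ pullback.snd ((Over.map a).obj U).hom ((A ⊓ B).ι ≫ f) = k :=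
    pullback.lift_snd _ _ _
  let g : Z ⟶ VO f a (A ⊓ B) U := Over.homMk gl (by
    change gl ≫ pullback.snd ((Over.map a).obj U).hom ((A ⊓ B).ι ≫ f) ≫ (A ⊓ B).ι = Z.hom
    rw [← Category.assoc, hgl2, hk])
  refine ⟨g, ?_, ?_⟩
  · apply Over.OverMorphism.ext
    rw [Over.comp_left, rO_left]
    change gl ≫ _ = _
    apply pullback.hom_ext
    · rw [Category.assoc, βleft_fst, hgl1]
    · rw [Category.assoc, βleft_snd, ← Category.assoc, hgl2, ← cancel_mono A.ι, Category.assoc,
        Scheme.homOfLE_ι, hk, Category.assoc, wA]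
  · apply Over.OverMorphism.ext
    rw [Over.comp_left, rO_left]
    change gl ≫ _ = _
    apply pullback.hom_ext
    · rw [Category.assoc, βleft_fst, hgl1, hfst]
    · rw [Category.assoc, βleft_snd, ← Category.assoc, hgl2, ← cancel_mono B.ι, Category.assoc,
        Scheme.homOfLE_ι, hk, Category.assoc, wB]

theorem glue_mv (F : BigSite.Ab KK T) (s₁ : F.obj.obj (op (VO f a A U)))
    (s₂ : F.obj.obj (op (VO f a B U)))
    (h : F.obj.map (rO f a (inf_le_left : A ⊓ B ≤ A) U).op s₁ =
      F.obj.map (rO f a (inf_le_right : A ⊓ B ≤ B) U).op s₂) :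
    ∃ t : F.obj.obj (op (VO f a (A ⊔ B) U)),
      F.obj.map (rO f a (le_sup_left : A ≤ A ⊔ B) U).op t = s₁ ∧
      F.obj.map (rO f a (le_sup_right : B ≤ A ⊔ B) U).op t = s₂ := by
  have key : ∀ (Z : Over T) (gA : Z ⟶ VO f a A U) (gB : Z ⟶ VO f a B U),
      gA ≫ rO f a (le_sup_left : A ≤ A ⊔ B) U = gB ≫ rO f a (le_sup_right : B ≤ A ⊔ B) U →
      F.obj.map gA.op s₁ = F.obj.map gB.op s₂ := by
    intro Z gA gB hg
    obtain ⟨g, hg1, hg2⟩ := exists_lift_inf f a A B U gA gB hg
    rw [← hg1, ← hg2, op_comp, op_comp, Functor.map_comp, Functor.map_comp]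
    exact congrArg (fun t => F.obj.map g.op t) h
  obtain ⟨t, ht⟩ := ab_glue_sieve KK F (fun b : Bool => VO f a (Wb A B b) U)
    (fun b => rO f a (Wb_le A B b) U) (cover_mv f a A B U)
    (fun b => match b with | true => s₁ | false => s₂) (by
      intro k l Z gk gl hg
      cases k <;> cases l
      · have : gk = gl := (cancel_mono (rO f a (le_sup_right : B ≤ A ⊔ B) U)).1 hg
        rw [this]
      · exact (key Z gl gk hg.symm).symm
      · exact key Z gk gl hg
      · have : gk = gl := (cancel_mono (rO f a (le_sup_left : A ≤ A ⊔ B) U)).1 hg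
        rw [this])
  exact ⟨t, ht true, ht false⟩

end MV

section Inj
open Groth.Agent.Lib.Helper86.CechInjMod

/-- restriction along a monomorphism is surjective on the sections of an injective module. -/
theorem surj_of_injective (I : BigSite.Mod KK T) [Injective I] {X Y : Over T} (m : X ⟶ Y) [Mono m] :
    Function.Surjective (((BigSite.toAbMod KK T).obj I).obj.map m.op) := by
  intro s
  haveI := injective_presheaf_of_sheaf_mod (BigSite.ORing KK T) I
  let P := (SheafOfModules.forget (BigSite.ORing KK T) ⋙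
      PresheafOfModules.restrictScalars (𝟙 (BigSite.ORing KK T).obj)).obj I
  obtain ⟨x, hx⟩ := (EEp_bijective.{u + 1} P X).2 s
  obtain ⟨y, hy⟩ := exists_extension_mod.{u + 1} (FRmap.{u + 1} (BigSite.ORing KK T).obj m) x (by
    intro V z hz
    have hinj : Function.Injective ((FRmap.{u + 1} (BigSite.ORing KK T).obj m).app V) := by
      change Function.Injective (Finsupp.mapDomain ((uliftYoneda.{u + 1}.map m).app V))
      apply Finsupp.mapDomain_injective
      intro g g' hgg
      apply ULift.ext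
      have h1 : g.down ≫ m = g'.down ≫ m := congrArg ULift.down hgg
      exact (cancel_mono m).1 h1
    have hz0 : z = 0 := hinj (hz.trans (map_zero _).symm)
    rw [hz0, map_zero])
  refine ⟨EEp.{u + 1} P Y y, ?_⟩
  have h1 := EEp_FRmap.{u + 1} P m y
  rw [hy, hx] at h1
  exact h1.symm

end Inj

end Groth.Agent.Lib.Helper86.OpenPushMV
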