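import Mathlib
import Groth.Prelude.Def_Adeq2
import Groth.Agent.Lib.Helper86.OpenPushMV
import Groth.Agent.Lib.Helper86.ModSections
import Groth.Agent.Lib.Helper26.FunctorMV

open CategoryTheory Limits Opposite AlgebraicGeometry

/-! # The Mayer–Vietoris square of the functors `M ↦ (U ↦ M(U ×_S W))` -/

namespace Groth.Agent.Lib.Helper86.OpenPushExact
universe u
open Groth.Agent.Lib.Helper86.CartanFppf (KK)
open Groth.Agent.Lib.Helper86.GeomFun Groth.Agent.Lib.Helper86.OpenPush
open Groth.Agent.Lib.Helper86.OpenPushMV Groth.Agent.Lib.Helper86.ModSections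
open Groth.Agent.Lib.Helper26.FunctorMV


variable {S S' T : Scheme.{u}} (f : T ⟶ S) (a : S' ⟶ S)

/-- the functor `M ↦ (U ↦ M(U ×_S W))`. -/
noncomputable abbrev GO (W : T.Opens) : BigSite.Mod KK T ⥤ BigSite.Mod KK S' := (GW f a W.ι).functor

/-- restriction. -/
noncomputable abbrev ρO {W W' : T.Opens} (hle : W' ≤ W) : GO f a W ⟶ GO f a W' :=
  ρ f a (T.homOfLE hle) (T.homOfLE_ι hle)

theorem ρO_app_val_app {W W' : T.Opens} (hle : W' ≤ W) (M : BigSite.Mod KK T) (U : (Over S')ᵒᵖ)
    (x : M.val.obj (op (VO f a W U.unop))) :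
    ((ρO f a hle).app M).val.app U x = M.val.map (rO f a hle U.unop).op x := rfl

theorem ρO_comp {W W' W'' : T.Opens} (hle : W' ≤ W) (hle' : W'' ≤ W') :
    ρO f a hle ≫ ρO f a hle' = ρO f a (hle'.trans hle) := by
  ext M : 2
  apply SheafOfModules.hom_ext
  ext U x
  change M.val.presheaf.map (rO f a hle' U.unop).op (M.val.presheaf.map (rO f a hle U.unop).op x) =
    M.val.presheaf.map (rO f a (hle'.trans hle) U.unop).op x
  rw [← rO_comp f a hle hle' U.unop, op_comp, Functor.map_comp]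
  rfl

theorem mvExact (A B : T.Opens) :
    MVExact (ρO f a (le_sup_left : A ≤ A ⊔ B)) (ρO f a (le_sup_right : B ≤ A ⊔ B))
      (ρO f a (inf_le_left : A ⊓ B ≤ A)) (ρO f a (inf_le_right : A ⊓ B ≤ B)) where
  comm := by rw [ρO_comp, ρO_comp]
  shortExact I hI := by
    apply shortExact_of_mv_sections
    · intro U t h1 h2
      exact sep_mv f a A B U.unop ((BigSite.toAbMod KK T).obj I) t 0
        (h1.trans (map_zero _).symm) (h2.trans (map_zero _).symm)
    · intro U s₁ s₂ hd
      exact glue_mv f a A B U.unop ((BigSite.toAbMod KK T).obj I) s₁ s₂ hd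
    · intro U
      exact surj_of_injective I (rO f a (inf_le_left : A ⊓ B ≤ A) U.unop)

end Groth.Agent.Lib.Helper86.OpenPushExact
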