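import Mathlib
import Groth.Agent.Lib.Helper53.ExtRes
import Groth.Agent.Lib.Helper82.HComp

open CategoryTheory Limits Opposite

/-! # Base change for right derived functors along exact functors -/

namespace Groth.Agent.Lib.Helper86.BaseChangeDerived
universe v₁ v₂ v₃ v₄ u₁ u₂ u₃ u₄

section Abstract
variable {A : Type u₁} [Category.{v₁} A] [Abelian A] [HasInjectiveResolutions A]
  {A' : Type u₂} [Category.{v₂} A'] [Abelian A'] [HasInjectiveResolutions A']
  {B : Type u₃} [Category.{v₃} B] [Abelian B]
  {B' : Type u₄} [Category.{v₄} B'] [Abelian B']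
  (Φ : A ⥤ B) (Φ' : A' ⥤ B') (G : B ⥤ B') (G' : A ⥤ A')
  [Φ.Additive] [Φ'.Additive] [G.Additive] [G'.Additive]
  [PreservesFiniteLimits G] [PreservesFiniteColimits G]
  [PreservesFiniteLimits G'] [PreservesFiniteColimits G']

/-- base change for right derived functors along exact functors, the one on the source preserving
injectives. -/
theorem nonempty_baseChange_rightDerived
    (hinj : ∀ I : A, Injective I → Injective (G'.obj I)) (β : Φ ⋙ G ≅ G' ⋙ Φ') (F : A) (q : ℕ) :
    Nonempty (G.obj ((Φ.rightDerived q).obj F) ≅ (Φ'.rightDerived q).obj (G'.obj F)) := by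
  let I : InjectiveResolution F := injectiveResolution F
  let I' : InjectiveResolution (G'.obj F) :=
    Groth.Agent.Lib.Helper53.ExtRes.mapRes G' I (fun n => hinj _ (I.injective n))
      (fun n => Groth.Agent.Lib.Helper82.HComp.isZero_rightDerived_of_exact G' n F)
  let K := (Φ.mapHomologicalComplex (ComplexShape.up ℕ)).obj I.cocomplex
  let e1 : G.obj ((Φ.rightDerived q).obj F) ≅ G.obj (K.homology q) :=
    G.mapIso (I.isoRightDerivedObj Φ q)
  let e2 : G.obj (K.homology q) ≅ ((G.mapHomologicalComplex (ComplexShape.up ℕ)).obj K).homology q :=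
    ((K.sc q).mapHomologyIso G).symm
  let e3 : ((G.mapHomologicalComplex (ComplexShape.up ℕ)).obj K).homology q ≅
      ((Φ'.mapHomologicalComplex (ComplexShape.up ℕ)).obj I'.cocomplex).homology q :=
    (HomologicalComplex.homologyFunctor B' (ComplexShape.up ℕ) q).mapIso
      ((NatIso.mapHomologicalComplex β (ComplexShape.up ℕ)).app I.cocomplex)
  let e4 : ((Φ'.mapHomologicalComplex (ComplexShape.up ℕ)).obj I'.cocomplex).homology q ≅
      (Φ'.rightDerived q).obj (G'.obj F) := (I'.isoRightDerivedObj Φ' q).symm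
  exact ⟨e1 ≪≫ e2 ≪≫ e3 ≪≫ e4⟩

end Abstract

end Groth.Agent.Lib.Helper86.BaseChangeDerived
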