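import Mathlib
import Groth.Prelude.Def_BigSite
import Groth.Agent.Lib.Helper86.BaseChangeDerived
import Groth.Agent.Lib.Helper45.ShriekExact

open CategoryTheory Limits Opposite AlgebraicGeometry

/-! # Base change for higher direct images on the big sites -/

namespace Groth.Agent.Lib.Helper86.BigBaseChange
universe u

section Gamma
variable {T S T' S' : Scheme.{u}} {f : T ⟶ S} {g : S' ⟶ S} {g' : T' ⟶ T} {f' : T' ⟶ S'}
  (c : IsPullback g' f' f g)

include c in
theorem cond1 (V : Over S') :
    pullback.snd (V.hom ≫ g) f ≫ f = (pullback.fst (V.hom ≫ g) f ≫ V.hom) ≫ g := by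
  rw [Category.assoc]
  exact pullback.condition.symm

/-- the component of the base change isomorphism on underlying schemes. -/
noncomputable def leftHom (V : Over S') : pullback (V.hom ≫ g) f ⟶ pullback V.hom f' :=
  pullback.lift (pullback.fst _ _) (c.lift (pullback.snd _ _) (pullback.fst _ _ ≫ V.hom) (cond1 c V))
    (by rw [c.lift_snd])

include c in
theorem cond2 (V : Over S') :
    pullback.fst V.hom f' ≫ V.hom ≫ g = (pullback.snd V.hom f' ≫ g') ≫ f := by
  rw [Category.assoc, c.w, ← Category.assoc, ← Category.assoc, pullback.condition]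

/-- the inverse. -/
noncomputable def leftInv (V : Over S') : pullback V.hom f' ⟶ pullback (V.hom ≫ g) f :=
  pullback.lift (pullback.fst _ _) (pullback.snd _ _ ≫ g') (cond2 c V)

@[reassoc (attr := simp)]
theorem leftHom_fst (V : Over S') : leftHom c V ≫ pullback.fst _ _ = pullback.fst _ _ :=
  pullback.lift_fst _ _ _

@[reassoc (attr := simp)]
theorem leftHom_snd_g' (V : Over S') : leftHom c V ≫ pullback.snd _ _ ≫ g' = pullback.snd _ _ := by
  unfold leftHom
  rw [pullback.lift_snd_assoc, c.lift_fst]

@[reassoc (attr := simp)]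
theorem leftHom_snd_f' (V : Over S') :
    leftHom c V ≫ pullback.snd _ _ ≫ f' = pullback.fst _ _ ≫ V.hom := by
  unfold leftHom
  rw [pullback.lift_snd_assoc, c.lift_snd]

@[reassoc (attr := simp)]
theorem leftInv_fst (V : Over S') : leftInv c V ≫ pullback.fst _ _ = pullback.fst _ _ :=
  pullback.lift_fst _ _ _

@[reassoc (attr := simp)]
theorem leftInv_snd (V : Over S') : leftInv c V ≫ pullback.snd _ _ = pullback.snd _ _ ≫ g' :=
  pullback.lift_snd _ _ _

/-- the component of the base change isomorphism on underlying schemes, as an isomorphism. -/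
noncomputable def leftIso (V : Over S') : pullback (V.hom ≫ g) f ≅ pullback V.hom f' where
  hom := leftHom c V
  inv := leftInv c V
  hom_inv_id := by
    apply pullback.hom_ext
    · simp
    · rw [Category.assoc, leftInv_snd, Category.id_comp, leftHom_snd_g']
  inv_hom_id := by
    apply pullback.hom_ext
    · simp
    · apply c.hom_ext
      · rw [Category.assoc, Category.assoc, leftHom_snd_g', leftInv_snd, Category.id_comp]
      · rw [Category.assoc, Category.assoc, leftHom_snd_f', leftInv_fst_assoc, Category.id_comp,
          pullback.condition]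

/-- base change for the functors on the big sites. -/
noncomputable def γ : Over.map g ⋙ Over.pullback f ≅ Over.pullback f' ⋙ Over.map g' :=
  NatIso.ofComponents (fun V => Over.isoMk (leftIso c V) (by
    change leftHom c V ≫ pullback.snd _ _ ≫ g' = pullback.snd _ _
    exact leftHom_snd_g' c V)) (by
    intro V V' φ
    apply Over.OverMorphism.ext
    change pullback.lift (pullback.fst _ _ ≫ φ.left) (pullback.snd _ _) _ ≫ leftHom c V' =
      leftHom c V ≫ pullback.lift (pullback.fst _ _ ≫ φ.left) (pullback.snd _ _) _
    apply pullback.hom_ext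
    · rw [Category.assoc, leftHom_fst, pullback.lift_fst, Category.assoc, pullback.lift_fst,
        leftHom_fst_assoc]
    · apply c.hom_ext
      · rw [Category.assoc, Category.assoc, leftHom_snd_g', pullback.lift_snd, Category.assoc,
          Category.assoc, pullback.lift_snd_assoc, leftHom_snd_g']
      · rw [Category.assoc, Category.assoc, leftHom_snd_f', pullback.lift_fst_assoc, Category.assoc,
          Over.w φ, Category.assoc, Category.assoc, pullback.lift_snd_assoc, leftHom_snd_f'])

end Gamma


section Beta
variable (K : Precoverage Scheme.{u})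
variable {T S T' S' : Scheme.{u}} {f : T ⟶ S} {g : S' ⟶ S} {g' : T' ⟶ T} {f' : T' ⟶ S'}
  (c : IsPullback g' f' f g)

/-- the base change isomorphism on a sheaf. -/
noncomputable def βApp (F : BigSite.Ab K T) :
    (BigSite.pushBig K f AddCommGrpCat.{u + 1} ⋙ BigSite.pullBig K g AddCommGrpCat.{u + 1}).obj F ≅
      (BigSite.pullBig K g' AddCommGrpCat.{u + 1} ⋙ BigSite.pushBig K f' AddCommGrpCat.{u + 1}).obj F :=
  (fullyFaithfulSheafToPresheaf _ _).preimageIso
    (Functor.isoWhiskerRight (NatIso.op (γ c).symm) F.obj)

/-- the base change isomorphism `g⁻¹ f_* ≅ f'_* g'⁻¹` on the big sites. -/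
noncomputable def β :
    BigSite.pushBig K f AddCommGrpCat.{u + 1} ⋙ BigSite.pullBig K g AddCommGrpCat.{u + 1} ≅
      BigSite.pullBig K g' AddCommGrpCat.{u + 1} ⋙ BigSite.pushBig K f' AddCommGrpCat.{u + 1} :=
  NatIso.ofComponents (fun F => βApp K c F) (by
    intro F F' φ
    apply (sheafToPresheaf _ _).map_injective
    ext V : 2
    exact (φ.hom.naturality _).symm)

end Beta


section Main
variable (K : Precoverage Scheme.{u})
variable {T S : Scheme.{u}}

theorem pullBig_preservesFiniteLimits (g : T ⟶ S) :
    PreservesFiniteLimits (BigSite.pullBig K g AddCommGrpCat.{u + 1}) := by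
  haveI := (BigSite.shriekAbAdj K g).rightAdjoint_preservesLimits
  infer_instance

theorem pullBig_preservesFiniteColimits (g : T ⟶ S) :
    PreservesFiniteColimits (BigSite.pullBig K g AddCommGrpCat.{u + 1}) := by
  haveI := (BigSite.bigAdj K g AddCommGrpCat.{u + 1}).leftAdjoint_preservesColimits
  infer_instance

theorem injective_pullBig (g : T ⟶ S) (I : BigSite.Ab K S) (hI : Injective I) :
    Injective ((BigSite.pullBig K g AddCommGrpCat.{u + 1}).obj I) := by
  haveI := Groth.Agent.Lib.Helper45.ShriekExact.main g K
  exact Injective.injective_of_adjoint (BigSite.shriekAbAdj K g) I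

/-- base change for the higher direct images on the big sites. -/
theorem nonempty_pullBig_RpushBig {T S T' S' : Scheme.{u}} (f : T ⟶ S) (g : S' ⟶ S)
    (g' : T' ⟶ T) (f' : T' ⟶ S') (c : IsPullback g' f' f g) (F : BigSite.Ab K T) (q : ℕ) :
    Nonempty ((BigSite.pullBig K g AddCommGrpCat.{u + 1}).obj ((BigSite.RpushBig K f q).obj F) ≅
      (BigSite.RpushBig K f' q).obj ((BigSite.pullBig K g' AddCommGrpCat.{u + 1}).obj F)) := by
  haveI := pullBig_preservesFiniteLimits K g
  haveI := pullBig_preservesFiniteColimits K g
  haveI := pullBig_preservesFiniteLimits K g'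
  haveI := pullBig_preservesFiniteColimits K g'
  exact Groth.Agent.Lib.Helper86.BaseChangeDerived.nonempty_baseChange_rightDerived
    (BigSite.pushBig K f AddCommGrpCat.{u + 1}) (BigSite.pushBig K f' AddCommGrpCat.{u + 1})
    (BigSite.pullBig K g AddCommGrpCat.{u + 1}) (BigSite.pullBig K g' AddCommGrpCat.{u + 1})
    (fun I hI => injective_pullBig K g' I hI) (β K c) F q

end Main

end Groth.Agent.Lib.Helper86.BigBaseChange
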