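import Mathlib
import Groth.Prelude.Def_Adeq2
import Groth.Agent.Lib.Helper86.ParasiticRpush
import Groth.Agent.Lib.Helper86.BigBaseChange

open CategoryTheory Limits Opposite AlgebraicGeometry

/-! # Modules whose restriction to a scheme over the base is Čech-acyclic: the dimension shifting step -/

namespace Groth.Agent.Lib.Helper86.RestrCA
universe u
open Groth.Agent.Lib.Helper86.CechPow Groth.Agent.Lib.Helper86.CechInj
open Groth.Agent.Lib.Helper86.CechCartan Groth.Agent.Lib.Helper86.CartanFppf
open Groth.Agent.Lib.Helper86.FlatCartan (pr)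
open Groth.Agent.Lib.Helper86.ParasiticRpush (I0 j0 seq seq_shortExact)

variable {T X : Scheme.{u}}

section Quot
variable {S : ShortComplex (BigSite.Ab KK X)} (hS : S.ShortExact)

include hS in
/-- the quotient of a Čech-acyclic sheaf by a Čech-acyclic subsheaf is Čech-acyclic. -/
theorem CA_quot (hCA : CA S.X₁.obj) (hCA₂ : CA S.X₂.obj) : CA S.X₃.obj := by
  intro R a B _ _ _ n
  haveI : IsAffine ((Over.map a).obj (W (YA R B) (n + 1))).left := isAffine_W R B (n + 1)
  exact exactP_chase_rev (X₀ := YA R B)
    (Functor.whiskerLeft (Over.map a).op S.f.hom) (Functor.whiskerLeft (Over.map a).op S.g.hom)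
    (fun n => sec_inj hS _) (fun n y hy => sec_ex hS _ y hy) (fun n x => sec_zero _ x) n
    (surj_affine hS hCA ((Over.map a).obj (W (YA R B) (n + 1))))
    (hCA R a B (n + 1)) (hCA₂ R a B n)

end Quot

theorem preservesFiniteLimits_toAbMod (T : Scheme.{u}) : PreservesFiniteLimits (BigSite.toAbMod KK T) :=
  inferInstanceAs (PreservesFiniteLimits (SheafOfModules.toSheaf.{u + 1} (BigSite.ORing KK T)))

theorem shortExact_toAbMod {S : ShortComplex (BigSite.Mod KK T)} (hS : S.ShortExact) :
    (S.map (BigSite.toAbMod KK T)).ShortExact := by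
  haveI := preservesFiniteLimits_toAbMod T
  haveI := hS.mono_f
  haveI := hS.epi_g
  have hm : Mono ((BigSite.toAbMod KK T).map S.f) := inferInstance
  have hex : (S.map (BigSite.toAbMod KK T)).Exact :=
    hS.exact.map_of_mono_of_preservesKernel (BigSite.toAbMod KK T) hS.mono_f inferInstance
  have he : Epi ((BigSite.toAbMod KK T).map S.g) := by
    rw [← CategoryTheory.Sheaf.isLocallySurjective_iff_epi' (φ := (BigSite.toAbMod KK T).map S.g)]
    constructor
    intro U s
    obtain ⟨R, hR, h⟩ := Groth.Agent.Lib.Helper86.ModLocal.locally_lift_of_epi S.g (op U) s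
    refine (QuotSh.J KK T).superset_covering ?_ hR
    intro V g hg
    obtain ⟨t, ht⟩ := h g hg
    exact ⟨t, ht⟩
  exact { exact := hex, mono_f := hm, epi_g := he }

variable (j : X ⟶ T)

/-- modules on `T` whose restriction to `X` is Čech-acyclic. -/
def ClsJ (M : BigSite.Mod KK T) : Prop := CA ((Over.map j).op ⋙ pr M)

/-- the restriction to `X` of a short complex of modules, as abelian sheaves. -/
noncomputable abbrev resSC (S : ShortComplex (BigSite.Mod KK T)) : ShortComplex (BigSite.Ab KK X) :=
  (S.map (BigSite.toAbMod KK T)).map (BigSite.pullBig KK j AddCommGrpCat.{u + 1})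

theorem resSC_shortExact {S : ShortComplex (BigSite.Mod KK T)} (hS : S.ShortExact) :
    (resSC j S).ShortExact := by
  haveI := Groth.Agent.Lib.Helper86.BigBaseChange.pullBig_preservesFiniteLimits KK j
  haveI := Groth.Agent.Lib.Helper86.BigBaseChange.pullBig_preservesFiniteColimits KK j
  exact (shortExact_toAbMod hS).map_of_exact _

theorem ClsJ_of_injective (I : BigSite.Mod KK T) [Injective I] : ClsJ j I := by
  intro R a B _ _ _ n
  haveI := Groth.Agent.Lib.Helper86.CechInjMod.injective_presheaf_of_sheaf_mod (BigSite.ORing KK T) I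
  have h3 := Groth.Agent.Lib.Helper86.CechInjMod.exactP_of_injective_mod.{u + 1} (a ≫ j) (YA R B)
    ((SheafOfModules.forget (BigSite.ORing KK T) ⋙
      PresheafOfModules.restrictScalars (𝟙 (BigSite.ORing KK T).obj)).obj I) n
  exact exactP_of_bijective (X₀ := YA R B)
    (αComp a j (pr I)) (fun n => αComp_bijective a j _ _) n h3

variable [HasInjectiveResolutions (BigSite.Mod KK T)]

theorem ClsJ_step (M : BigSite.Mod KK T) (hM : ClsJ j M) :
    ClsJ j (seq M).X₃ ∧ ∀ V : Over X, IsAffine V.left →
      Function.Surjective ((seq M).g.val.app (op ((Over.map j).obj V))) := by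
  have hS := resSC_shortExact j (seq_shortExact M)
  have h1 : CA (resSC j (seq M)).X₁.obj := hM
  have h2 : CA (resSC j (seq M)).X₂.obj := ClsJ_of_injective j (I0 M)
  refine ⟨CA_quot hS h1 h2, fun V hV q => ?_⟩
  haveI := hV
  obtain ⟨t, ht⟩ := surj_affine hS h1 V q
  exact ⟨t, ht⟩

end Groth.Agent.Lib.Helper86.RestrCA
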