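import Mathlib
import Groth.Prelude.Def_Adeq2
import Groth.Agent.Lib.Helper86.RestrCA
import Groth.Agent.Lib.Helper86.ClassShift
import Groth.Agent.Lib.Helper86.OpenPushExact
import Groth.Agent.Lib.Helper86.GeomExact

open CategoryTheory Limits Opposite AlgebraicGeometry

/-! # Vanishing of the higher derived functors of `M ↦ (U ↦ M(U ×_S W))` for affine `W` on adequate modules -/

namespace Groth.Agent.Lib.Helper86.OpenPushAffine
universe u
open Groth.Agent.Lib.Helper86.CartanFppf (KK CA_pull)
open Groth.Agent.Lib.Helper86.GeomFun Groth.Agent.Lib.Helper86.OpenPush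
open Groth.Agent.Lib.Helper86.OpenPushMV Groth.Agent.Lib.Helper86.OpenPushExact
open Groth.Agent.Lib.Helper86.ClassShift Groth.Agent.Lib.Helper86.RestrCA
open Groth.Agent.Lib.Helper86.ParasiticRpush (I0 j0 seq seq_shortExact)

variable {S S' T : Scheme.{u}}

/-- every object of the big site is covered by affine objects. -/
theorem covers_affine : Covers (S' := S') (fun U => IsAffine U.left) := by
  intro U
  refine ⟨U.left.affineCover.I₀, fun i => Over.mk (U.left.affineCover.f i ≫ U.hom),
    fun i => Over.homMk (U.left.affineCover.f i) rfl, ?_, fun i => ?_⟩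
  · rw [QuotSh.J, GrothendieckTopology.mem_over_iff, Sieve.overEquiv_ofArrows]
    apply Precoverage.generate_mem_toGrothendieck
    refine (Scheme.ofArrows_mem_precoverage_iff
      (P := @Flat ⊓ @LocallyOfFinitePresentation)).2 ⟨fun x => ?_, fun i => ⟨?_, ?_⟩⟩
    · exact U.left.affineCover.exists_eq x
    · exact inferInstanceAs (Flat (U.left.affineCover.f i))
    · exact inferInstanceAs (LocallyOfFinitePresentation (U.left.affineCover.f i))
  · exact inferInstanceAs (IsAffine (U.left.affineCover.X i))

variable (f : T ⟶ S) (a : S' ⟶ S) [Mono a] [IsAffine S']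

/-- `U ×_S W` is affine for `U`, `W` affine with `W` mapping into the affine `S'`. -/
theorem isAffine_pullback_of_factors {X : Scheme.{u}} [IsAffine X] (g : X ⟶ S) (g' : X ⟶ S')
    (hg : g' ≫ a = g) (U : Over S') [IsAffine U.left] :
    IsAffine (pullback ((Over.map a).obj U).hom g) := by
  have hc : pullback.fst ((Over.map a).obj U).hom g ≫ U.hom =
      pullback.snd ((Over.map a).obj U).hom g ≫ g' := by
    rw [← cancel_mono a, Category.assoc, Category.assoc, hg]
    exact pullback.condition
  let e : pullback ((Over.map a).obj U).hom g ≅ pullback U.hom g' :=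
    { hom := pullback.lift (pullback.fst _ _) (pullback.snd _ _) hc
      inv := pullback.lift (pullback.fst _ _) (pullback.snd _ _) (by
        change pullback.fst U.hom g' ≫ U.hom ≫ a = pullback.snd U.hom g' ≫ g
        rw [← hg, ← Category.assoc, pullback.condition, Category.assoc])
      hom_inv_id := by
        apply pullback.hom_ext
        · rw [Category.assoc, pullback.lift_fst, pullback.lift_fst, Category.id_comp]
        · rw [Category.assoc, pullback.lift_snd, pullback.lift_snd, Category.id_comp]
      inv_hom_id := by
        apply pullback.hom_ext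
        · rw [Category.assoc, pullback.lift_fst, pullback.lift_fst, Category.id_comp]
        · rw [Category.assoc, pullback.lift_snd, pullback.lift_snd, Category.id_comp] }
  haveI : IsIso e.hom := Iso.isIso_hom e
  exact IsAffine.of_isIso e.hom


variable [HasInjectiveResolutions (BigSite.Mod KK T)]

/-- vanishing of the higher derived functors of `M ↦ (U ↦ M(U ×_S W))` on adequate modules, for `W`
an affine open mapping into the affine `S'`. -/
theorem isZero_rightDerived_GO_succ (W : T.Opens) (hW : IsAffineOpen W) (g' : W.toScheme ⟶ S')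
    (hg : g' ≫ a = W.ι ≫ f) (M : BigSite.Mod KK T) (hM : Adeq.adequateMod KK T M) (n : ℕ) :
    IsZero (((GO f a W).rightDerived (n + 1)).obj M) := by
  haveI : PreservesFiniteLimits (GO f a W) :=
    Groth.Agent.Lib.Helper86.GeomExact.preservesFiniteLimits_functor _
  haveI : IsAffine W.toScheme := hW
  refine isZero_rightDerived_succ_of_class (GO f a W) (ClsJ W.ι) (fun U => IsAffine U.left)
    covers_affine ?_ n M ?_
  · intro M hM
    obtain ⟨h1, h2⟩ := ClsJ_step W.ι M hM
    refine ⟨h1, fun U hU => ?_⟩
    haveI := hU
    have := isAffine_pullback_of_factors a (W.ι ≫ f) g' hg U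
    exact h2 ((Over.pullback (W.ι ≫ f)).obj ((Over.map a).obj U)) this
  · exact CA_pull M hM W.ι

end Groth.Agent.Lib.Helper86.OpenPushAffine
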