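import Mathlib
import Groth.Prelude.Def_Adeq2
import Groth.Agent.Lib.Helper86.OpenPushAffine
import Groth.Agent.S8757
import Groth.Agent.S8765

open CategoryTheory Limits Opposite AlgebraicGeometry

/-! # Comparison isomorphisms for the functors `M ↦ (U ↦ M(U ×_S W))` -/

namespace Groth.Agent.Lib.Helper86.OpenPushIso
universe u
open Groth.Agent.Lib.Helper86.CartanFppf (KK)
open Groth.Agent.Lib.Helper86.CechPow (map_comp_apply')
open Groth.Agent.Lib.Helper86.GeomFun Groth.Agent.Lib.Helper86.OpenPush
open Groth.Agent.Lib.Helper86.OpenPushMV Groth.Agent.Lib.Helper86.OpenPushExact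

variable {S₁ S₂ : Scheme.{u}}

theorem presheaf_map_map (M : BigSite.Mod KK S₂) {X Y Z : Over S₂} (f : X ⟶ Y) (g : Y ⟶ Z)
    (y : M.val.presheaf.obj (op Z)) :
    M.val.presheaf.map f.op (M.val.presheaf.map g.op y) = M.val.presheaf.map (f ≫ g).op y := by
  rw [op_comp, Functor.map_comp]
  rfl

theorem presheaf_map_id (M : BigSite.Mod KK S₂) (X : Over S₂) (y : M.val.presheaf.obj (op X)) :
    M.val.presheaf.map (𝟙 X).op y = y := by
  rw [op_id, CategoryTheory.Functor.map_id]
  rfl

/-- the natural isomorphism induced by a natural isomorphism of site functors. -/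
noncomputable def mapIso {𝔉₁ 𝔉₂ : GeomFun S₁ S₂} (e : 𝔉₁.Φ ≅ 𝔉₂.Φ)
    (he : ∀ U, (e.hom.app U).left ≫ 𝔉₂.p U = 𝔉₁.p U) : 𝔉₂.functor ≅ 𝔉₁.functor where
  hom := GeomFun.map e.hom he
  inv := GeomFun.map e.inv (by
    intro U
    rw [← he U, ← Category.assoc, ← Over.comp_left, Iso.inv_hom_id_app]
    exact Category.id_comp _)
  hom_inv_id := by
    ext M : 2
    apply SheafOfModules.hom_ext
    ext U x
    refine (presheaf_map_map M (e.inv.app U.unop) (e.hom.app U.unop) x).trans ?_
    rw [Iso.inv_hom_id_app]
    exact presheaf_map_id M _ x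
  inv_hom_id := by
    ext M : 2
    apply SheafOfModules.hom_ext
    ext U x
    refine (presheaf_map_map M (e.hom.app U.unop) (e.inv.app U.unop) x).trans ?_
    rw [Iso.hom_inv_id_app]
    exact presheaf_map_id M _ x


variable {S S' T : Scheme.{u}} (f : T ⟶ S) (a : S' ⟶ S)

section Fact
variable [Mono a] {X : Scheme.{u}} (j : X ⟶ T) (g' : X ⟶ S') (hg : g' ≫ a = j ≫ f)

include hg in
theorem fact_cond (U : Over S') :
    pullback.fst ((Over.map a).obj U).hom (j ≫ f) ≫ U.hom =
      pullback.snd ((Over.map a).obj U).hom (j ≫ f) ≫ g' := by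
  rw [← cancel_mono a, Category.assoc, Category.assoc, hg]
  exact pullback.condition

/-- `U ×_S X ≅ U ×_{S'} X` when `X ⟶ S` factors through the monomorphism `S' ⟶ S`. -/
noncomputable def factIso (U : Over S') :
    pullback ((Over.map a).obj U).hom (j ≫ f) ≅ pullback U.hom g' where
  hom := pullback.lift (pullback.fst _ _) (pullback.snd _ _) (fact_cond f a j g' hg U)
  inv := pullback.lift (pullback.fst _ _) (pullback.snd _ _) (by
    change pullback.fst U.hom g' ≫ U.hom ≫ a = pullback.snd U.hom g' ≫ j ≫ f
    rw [← hg, ← Category.assoc, pullback.condition, Category.assoc])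
  hom_inv_id := by
    apply pullback.hom_ext
    · rw [Category.assoc, pullback.lift_fst, pullback.lift_fst, Category.id_comp]
    · rw [Category.assoc, pullback.lift_snd, pullback.lift_snd, Category.id_comp]
  inv_hom_id := by
    apply pullback.hom_ext
    · rw [Category.assoc, pullback.lift_fst, pullback.lift_fst, Category.id_comp]
    · rw [Category.assoc, pullback.lift_snd, pullback.lift_snd, Category.id_comp]

@[reassoc (attr := simp)]
theorem factIso_hom_fst (U : Over S') :
    (factIso f a j g' hg U).hom ≫ pullback.fst U.hom g' =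
      pullback.fst ((Over.map a).obj U).hom (j ≫ f) := pullback.lift_fst _ _ _

@[reassoc (attr := simp)]
theorem factIso_hom_snd (U : Over S') :
    (factIso f a j g' hg U).hom ≫ pullback.snd U.hom g' =
      pullback.snd ((Over.map a).obj U).hom (j ≫ f) := pullback.lift_snd _ _ _

/-- the comparison of site functors. -/
noncomputable def factNatIso :
    (GW f a j).Φ ≅ ((GeomFun.push g').comp (GeomFun.pull j)).Φ :=
  NatIso.ofComponents (fun U => Over.isoMk (factIso f a j g' hg U) (by
    change (factIso f a j g' hg U).hom ≫ pullback.snd U.hom g' ≫ j =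
      pullback.snd ((Over.map a).obj U).hom (j ≫ f) ≫ j
    rw [factIso_hom_snd_assoc])) (by
    intro U V φ
    apply Over.OverMorphism.ext
    change ((GW f a j).Φ.map φ).left ≫ (factIso f a j g' hg V).hom =
      (factIso f a j g' hg U).hom ≫ ((Over.pullback g').map φ).left
    apply pullback.hom_ext
    · rw [Category.assoc, factIso_hom_fst, GW_map_fst, Category.assoc]
      have h1 : ((Over.pullback g').map φ).left ≫ pullback.fst V.hom g' =
        pullback.fst U.hom g' ≫ φ.left := pullback.lift_fst _ _ _
      rw [h1, factIso_hom_fst_assoc]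
    · rw [Category.assoc, factIso_hom_snd, GW_map_snd, Category.assoc]
      have h1 : ((Over.pullback g').map φ).left ≫ pullback.snd V.hom g' =
        pullback.snd U.hom g' := pullback.lift_snd _ _ _
      rw [h1, factIso_hom_snd])

/-- `M ↦ (U ↦ M(U ×_S X))` is the direct image of the restriction when `X ⟶ S` factors through `S'`. -/
noncomputable def factFunIso :
    ((GeomFun.push g').comp (GeomFun.pull j)).functor ≅ (GW f a j).functor :=
  mapIso (factNatIso f a j g' hg) (by
    intro U
    rw [GW_p]
    change (factIso f a j g' hg U).hom ≫ 𝟙 _ ≫ pullback.fst U.hom g' = _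
    rw [Category.id_comp, factIso_hom_fst])

end Fact


section Adequate
variable [Mono a] [IsAffine S']

/-- `M ↦ (U ↦ M(U ×_S W))` preserves adequate modules, for `W` an affine open mapping into `S'`. -/
theorem adequate_GO_obj (W : T.Opens) (hW : IsAffineOpen W) (g' : W.toScheme ⟶ S')
    (hg : g' ≫ a = W.ι ≫ f) (M : BigSite.Mod KK T) (hM : Adeq.adequateMod KK T M) :
    Adeq.adequateMod KK S' ((GO f a W).obj M) := by
  haveI : IsAffine W.toScheme := hW
  have h1 := Groth.Agent.S8757.result W.ι M hM
  have h2 := Groth.Agent.S8765.result g' _ h1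
  refine (Adeq.adequateMod KK S').prop_of_iso ((factFunIso f a W.ι g' hg).app M) ?_
  rw [GeomFun.comp_functor, GeomFun.push_functor, GeomFun.pull_functor]
  exact h2

end Adequate

section Top
variable [IsOpenImmersion a] (T₀ : T.Opens) (hT₀ : f ⁻¹ᵁ a.opensRange ≤ T₀)

/-- the inclusion `U ×_S T₀ ⟶ U ×_S T`. -/
noncomputable def topLeft (U : Over S') :
    pullback ((Over.map a).obj U).hom (T₀.ι ≫ f) ⟶ pullback ((Over.map a).obj U).hom f :=
  pullback.map ((Over.map a).obj U).hom (T₀.ι ≫ f) ((Over.map a).obj U).hom f (𝟙 _) T₀.ι (𝟙 _)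
    (by rw [Category.comp_id, Category.id_comp]) (by rw [Category.comp_id])

@[reassoc (attr := simp)]
theorem topLeft_fst (U : Over S') :
    topLeft f a T₀ U ≫ pullback.fst ((Over.map a).obj U).hom f =
      pullback.fst ((Over.map a).obj U).hom (T₀.ι ≫ f) := by
  unfold topLeft
  exact (pullback.lift_fst _ _ _).trans (Category.comp_id _)

@[reassoc (attr := simp)]
theorem topLeft_snd (U : Over S') :
    topLeft f a T₀ U ≫ pullback.snd ((Over.map a).obj U).hom f =
      pullback.snd ((Over.map a).obj U).hom (T₀.ι ≫ f) ≫ T₀.ι := by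
  unfold topLeft
  exact pullback.lift_snd _ _ _

include hT₀ in
theorem isIso_topLeft (U : Over S') : IsIso (topLeft f a T₀ U) := by
  rw [isIso_iff_isOpenImmersion_and_surjective]
  refine ⟨by unfold topLeft; infer_instance, ⟨fun x => ?_⟩⟩
  have hx : x ∈ Set.range (topLeft f a T₀ U) := by
    unfold topLeft
    rw [Scheme.Pullback.range_map]
    refine ⟨⟨_, rfl⟩, ?_⟩
    rw [Set.mem_preimage, Scheme.Opens.range_ι]
    apply hT₀
    change f (pullback.snd ((Over.map a).obj U).hom f x) ∈ a.opensRange
    rw [← Scheme.Hom.comp_apply, ← pullback.condition]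
    change (pullback.fst ((Over.map a).obj U).hom f ≫ U.hom ≫ a) x ∈ a.opensRange
    rw [← Category.assoc, Scheme.Hom.comp_apply]
    exact ⟨_, rfl⟩
  exact hx

/-- the comparison of site functors. -/
noncomputable def topNatIso :
    (GW f a T₀.ι).Φ ≅ ((GeomFun.pull a).comp (GeomFun.push f)).Φ :=
  NatIso.ofComponents (fun U =>
    haveI := isIso_topLeft f a T₀ hT₀ U
    Over.isoMk (asIso (topLeft f a T₀ U)) (by
      change topLeft f a T₀ U ≫ pullback.snd ((Over.map a).obj U).hom f =
        pullback.snd ((Over.map a).obj U).hom (T₀.ι ≫ f) ≫ T₀.ι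
      exact topLeft_snd f a T₀ U)) (by
    intro U V φ
    apply Over.OverMorphism.ext
    change ((GW f a T₀.ι).Φ.map φ).left ≫ topLeft f a T₀ V =
      topLeft f a T₀ U ≫ ((Over.pullback f).map ((Over.map a).map φ)).left
    apply pullback.hom_ext
    · rw [Category.assoc, topLeft_fst, GW_map_fst, Category.assoc]
      have h1 : ((Over.pullback f).map ((Over.map a).map φ)).left ≫
          pullback.fst ((Over.map a).obj V).hom f =
        pullback.fst ((Over.map a).obj U).hom f ≫ φ.left := pullback.lift_fst _ _ _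
      rw [h1, topLeft_fst_assoc]
    · rw [Category.assoc, topLeft_snd, ← Category.assoc, GW_map_snd, Category.assoc]
      have h1 : ((Over.pullback f).map ((Over.map a).map φ)).left ≫
          pullback.snd ((Over.map a).obj V).hom f =
        pullback.snd ((Over.map a).obj U).hom f := pullback.lift_snd _ _ _
      rw [h1, topLeft_snd])

/-- `f_*` followed by restriction to `S'` is `M ↦ (U ↦ M(U ×_S T₀))` for `T₀ ⊇ f⁻¹(S')`. -/
noncomputable def topFunIso :
    ((GeomFun.pull a).comp (GeomFun.push f)).functor ≅ (GW f a T₀.ι).functor :=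
  mapIso (topNatIso f a T₀ hT₀) (by
    intro U
    rw [GW_p]
    change topLeft f a T₀ U ≫ pullback.fst ((Over.map a).obj U).hom f ≫ 𝟙 _ = _
    rw [Category.comp_id, topLeft_fst])

end Top

end Groth.Agent.Lib.Helper86.OpenPushIso
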