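import Mathlib

open CategoryTheory Limits Opposite AlgebraicGeometry TopologicalSpace

/-! # Mayer–Vietoris induction over the open subsets of a quasi-compact quasi-separated open of a scheme
(after helper26's `QCohRpush`) -/

namespace Groth.Agent.Lib.Helper86.OpensInduction
universe u

variable {X : Scheme.{u}} (P : X.Opens → Prop)
  (hmv : ∀ U V : X.Opens, P U → P V → P (U ⊓ V) → P (U ⊔ V))

include hmv in
/-- MV induction over a finite union of members of a class stable under intersections -/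
theorem P_biSup (Pc : X.Opens → Prop) (hinf : ∀ U V, Pc U → Pc V → Pc (U ⊓ V))
    (hP : ∀ U, Pc U → P U) (hbot : P ⊥) {ι : Type*} [DecidableEq ι] (s : Finset ι) :
    ∀ (V : ι → X.Opens), (∀ i ∈ s, Pc (V i)) → P (⨆ i ∈ s, V i) := by
  induction s using Finset.induction_on with
  | empty =>
    intro V _
    simp only [Finset.notMem_empty, iSup_false, iSup_bot]
    exact hbot
  | insert a s ha ih =>
    intro V hV
    rw [Finset.iSup_insert]
    have hPa : Pc (V a) := hV a (Finset.mem_insert_self a s)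
    have hPs : ∀ i ∈ s, Pc (V i) := fun i hi => hV i (Finset.mem_insert_of_mem hi)
    apply hmv _ _ (hP _ hPa) (ih V hPs)
    rw [inf_iSup₂_eq]
    exact ih (fun i => V a ⊓ V i) (fun i hi => hinf _ _ hPa (hPs i hi))

variable (Z : X.Opens) (haff : ∀ U : X.Opens, IsAffineOpen U → U ≤ Z → P U)

include hmv haff in
/-- quasi-compact opens of an affine open -/
theorem P_qa {A : X.Opens} (hA : IsAffineOpen A) (hAZ : A ≤ Z) (V : X.Opens) (hVA : V ≤ A)
    (hV : IsCompact (V : Set X)) : P V := by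
  classical
  choose g hg1 hg2 using fun x : V => hA.exists_basicOpen_le (V := V) x (hVA x.2)
  obtain ⟨t, ht⟩ := hV.elim_finite_subcover (fun x : V => (X.basicOpen (g x) : Set X))
    (fun x => (X.basicOpen (g x)).isOpen)
    (fun x hx => Set.mem_iUnion.2 ⟨⟨x, hx⟩, hg2 ⟨x, hx⟩⟩)
  have hVeq : V = ⨆ y ∈ t, X.basicOpen (g y) := by
    apply le_antisymm
    · intro x hx
      obtain ⟨y, hy⟩ := Set.mem_iUnion.1 (ht hx)
      obtain ⟨hyt, hxy⟩ := Set.mem_iUnion.1 hy
      exact Opens.mem_iSup.2 ⟨y, Opens.mem_iSup.2 ⟨hyt, hxy⟩⟩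
    · exact iSup₂_le fun y _ => hg1 y
  rw [hVeq]
  exact P_biSup P hmv (fun W : X.Opens => ∃ h : Γ(X, A), W = X.basicOpen h)
    (by
      rintro _ _ ⟨h, rfl⟩ ⟨h', rfl⟩
      exact ⟨h * h', (X.basicOpen_mul h h').symm⟩)
    (by
      rintro _ ⟨h, rfl⟩
      exact haff _ (hA.basicOpen h) ((X.basicOpen_le h).trans hAZ))
    (haff ⊥ (isAffineOpen_bot X) bot_le)
    t (fun y => X.basicOpen (g y)) (fun y _ => ⟨g y, rfl⟩)

include hmv haff in
theorem P_main (hZ : IsQuasiSeparated (Z : Set X))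
    {ι : Type*} [DecidableEq ι] (s : Finset ι) :
    ∀ (U : ι → X.Opens), (∀ i ∈ s, IsAffineOpen (U i) ∧ U i ≤ Z) → P (⨆ i ∈ s, U i) := by
  induction s using Finset.induction_on with
  | empty =>
    intro U _
    simp only [Finset.notMem_empty, iSup_false, iSup_bot]
    exact haff ⊥ (isAffineOpen_bot X) bot_le
  | insert a s ha ih =>
    intro U hU
    have hUa : IsAffineOpen (U a) := (hU a (Finset.mem_insert_self a s)).1
    have hUaZ : U a ≤ Z := (hU a (Finset.mem_insert_self a s)).2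
    have hUs : ∀ i ∈ s, IsAffineOpen (U i) ∧ U i ≤ Z :=
      fun i hi => hU i (Finset.mem_insert_of_mem hi)
    have hcomp : IsCompact ((U a ⊓ ⨆ i ∈ s, U i : X.Opens) : Set X) := by
      rw [inf_iSup₂_eq]
      simp only [Opens.coe_iSup]
      exact s.isCompact_biUnion fun i hi =>
        hZ _ _ hUaZ (U a).isOpen hUa.isCompact (hUs i hi).2 (U i).isOpen (hUs i hi).1.isCompact
    rw [Finset.iSup_insert]
    exact hmv _ _ (haff _ hUa hUaZ) (ih U hUs)
      (P_qa P hmv Z haff hUa hUaZ (U a ⊓ ⨆ i ∈ s, U i) inf_le_left hcomp)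

include hmv haff in
/-- induction over the open subsets of a quasi-compact quasi-separated open. -/
theorem P_of_qcqs (hZc : IsCompact (Z : Set X)) (hZ : IsQuasiSeparated (Z : Set X)) : P Z := by
  classical
  obtain ⟨s, hs, hcov⟩ := (isCompact_iff_finite_and_eq_biUnion_affineOpens (X := X) (U := Z)).mp hZc
  have hle : ∀ i ∈ s, ((i : X.affineOpens) : X.Opens) ≤ Z := by
    intro i hi
    rw [hcov]
    exact le_iSup₂ (f := fun (i : X.affineOpens) (_ : i ∈ s) => (i : X.Opens)) i hi
  have h1 := P_main P hmv Z haff hZ hs.toFinset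
    (fun i : X.affineOpens => (i : X.Opens))
    (fun i hi => ⟨i.2, hle i (hs.mem_toFinset.1 hi)⟩)
  have h2 : (⨆ i ∈ hs.toFinset, (i : X.Opens)) = Z := by
    rw [hcov]
    simp only [Set.Finite.mem_toFinset]
  rw [h2] at h1
  exact h1

end Groth.Agent.Lib.Helper86.OpensInduction
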