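import Mathlib
import Groth.Prelude.Def_Adeq2
import Groth.Agent.Lib.Helper86.OpenPushIso
import Groth.Agent.Lib.Helper86.OpensInduction
import Groth.Agent.Lib.Helper26.MVClosure
import Groth.Agent.Lib.Helper26.DegComposite
import Groth.Agent.Lib.Helper26.DerivedExactComp
import Groth.Agent.S8758
import Groth.Agent.S8761
import Groth.Agent.S8762
import Groth.Agent.S8763

open CategoryTheory Limits Opposite AlgebraicGeometry

/-! # Higher direct images of adequate modules along quasi-compact quasi-separated morphisms, locally on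
the base -/

namespace Groth.Agent.Lib.Helper86.AdeqRpush
universe u
open Groth.Agent.Lib.Helper86.CartanFppf (KK)
open Groth.Agent.Lib.Helper86.GeomFun Groth.Agent.Lib.Helper86.OpenPush
open Groth.Agent.Lib.Helper86.OpenPushMV Groth.Agent.Lib.Helper86.OpenPushExact
open Groth.Agent.Lib.Helper86.OpenPushAffine Groth.Agent.Lib.Helper86.OpenPushIso
open Groth.Agent.Lib.Helper26.MVClosure Groth.Agent.Lib.Helper26.FunctorMV
open Groth.Agent.Lib.Helper26

variable {S S' T : Scheme.{u}}

theorem qClosed_adequate (S' : Scheme.{u}) :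
    QClosed (fun N : BigSite.Mod KK S' => Adeq.adequateMod KK S' N) where
  iso e h := (Adeq.adequateMod KK S').prop_of_iso e h
  ker f hA hB := Groth.Agent.S8761.result S' f hA hB
  coker f hA hB := Groth.Agent.S8762.result S' f hA hB
  ext C hC h1 h3 := Groth.Agent.S8763.result S' C hC h1 h3

theorem adequate_of_isZero {A N : BigSite.Mod KK S'} (hA : Adeq.adequateMod KK S' A) (hN : IsZero N) :
    Adeq.adequateMod KK S' N := by
  have hk : IsZero (kernel (𝟙 A)) := by
    rw [IsZero.iff_id_eq_zero, ← cancel_mono (kernel.ι (𝟙 A))]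
    have := kernel.condition (𝟙 A)
    rw [Category.comp_id] at this
    rw [this]; simp
  exact (qClosed_adequate S').iso (hk.iso hN) ((qClosed_adequate S').ker (𝟙 A) hA hA)

instance additive_pullMod (a : S' ⟶ S) : (BigSite.pullMod KK a).Additive :=
  inferInstanceAs ((GeomFun.pull a).functor.Additive)

section Local
variable (f : T ⟶ S) [QuasiCompact f] [QuasiSeparated f]
  [HasInjectiveResolutions (BigSite.Mod KK T)] (a : S' ⟶ S) [IsOpenImmersion a] [IsAffine S']

/-- the property to be proven, for an open `W` of `T`. -/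
def P (W : T.Opens) : Prop :=
  ∀ M : BigSite.Mod KK T, Adeq.adequateMod KK T M → ∀ p : ℕ,
    Adeq.adequateMod KK S' (((GO f a W).rightDerived p).obj M)

omit [QuasiCompact f] [QuasiSeparated f] in
theorem P_of_isAffineOpen (W : T.Opens) (hW : IsAffineOpen W) (hle : W ≤ f ⁻¹ᵁ a.opensRange) :
    P f a W := by
  have hrange : Set.range (W.ι ≫ f) ⊆ Set.range a := by
    rintro _ ⟨x, rfl⟩
    have h1 : W.ι x ∈ f ⁻¹ᵁ a.opensRange := hle x.2
    exact h1
  let g' : W.toScheme ⟶ S' := IsOpenImmersion.lift a (W.ι ≫ f) hrange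
  have hg : g' ≫ a = W.ι ≫ f := IsOpenImmersion.lift_fac _ _ _
  intro M hM p
  have h0 := adequate_GO_obj f a W hW g' hg M hM
  haveI : PreservesFiniteLimits (GO f a W) :=
    Groth.Agent.Lib.Helper86.GeomExact.preservesFiniteLimits_functor _
  cases p with
  | zero =>
    exact (Adeq.adequateMod KK S').prop_of_iso ((GO f a W).rightDerivedZeroIsoSelf.app M).symm h0
  | succ p =>
    exact adequate_of_isZero h0 (isZero_rightDerived_GO_succ f a W hW g' hg M hM p)

omit [QuasiCompact f] [QuasiSeparated f] [IsOpenImmersion a] [IsAffine S'] in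
theorem P_mv (U V : T.Opens) (hU : P f a U) (hV : P f a V) (hUV : P f a (U ⊓ V)) :
    P f a (U ⊔ V) := by
  intro M hM p
  exact Q_rightDerived_of_mv (qClosed_adequate S') (mvExact f a U V) M (hU M hM) (hV M hM)
    (hUV M hM) p

theorem P_preimage : P f a (f ⁻¹ᵁ a.opensRange) := by
  have hA : IsAffineOpen a.opensRange := isAffineOpen_opensRange a
  apply Groth.Agent.Lib.Helper86.OpensInduction.P_of_qcqs (P f a) (P_mv f a) _
    (fun U hU hle => P_of_isAffineOpen f a U hU hle)
  · exact QuasiCompact.isCompact_preimage (f := f) _ a.opensRange.isOpen hA.isCompact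
  · exact Scheme.Hom.isQuasiSeparated_preimage f hA.isQuasiSeparated

/-- the restriction to an affine open of the base of the higher direct images of an adequate module
is adequate. -/
theorem adequate_pull_Rpush (M : BigSite.Mod KK T) (hM : Adeq.adequateMod KK T M) (p : ℕ) :
    Adeq.adequateMod KK S' ((BigSite.pullMod KK a).obj ((BigSite.RpushMod KK f p).obj M)) := by
  haveI := Groth.Agent.Lib.Helper86.GeomExact.preservesFiniteLimits_pull a
  haveI := Groth.Agent.Lib.Helper86.GeomExact.preservesFiniteColimits_pull a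
  obtain ⟨e1⟩ := DerivedExactComp.nonempty_rightDerived_comp_exact_iso (BigSite.pushMod KK f)
    (BigSite.pullMod KK a) M p
  have he : BigSite.pushMod KK f ⋙ BigSite.pullMod KK a =
      ((GeomFun.pull a).comp (GeomFun.push f)).functor := by
    rw [GeomFun.comp_functor, GeomFun.push_functor, GeomFun.pull_functor]
  let e2 := (DegComposite.rightDerivedMapIso
    (eqToIso he ≪≫ topFunIso f a (f ⁻¹ᵁ a.opensRange) le_rfl) p).app M
  exact (Adeq.adequateMod KK S').prop_of_iso (e2.symm ≪≫ e1) (P_preimage f a M hM p)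

end Local

end Groth.Agent.Lib.Helper86.AdeqRpush
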