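import Mathlib
import Groth.Prelude.Def_BigSite
import Groth.Agent.Lib.Helper86.BigBaseChange
import Groth.Agent.Lib.Helper45.ResInj

open CategoryTheory Limits Opposite AlgebraicGeometry

/-! # Base change from the big to the small etale site for higher direct images -/

namespace Groth.Agent.Lib.Helper86.BigSmallBaseChange
universe u

open Groth.Agent.Lib.Helper86.BigBaseChange

abbrev KE := Scheme.etalePrecoverage.{u}

section Delta
variable {T S T' S' : Scheme.{u}} {f : T ⟶ S} {g : S' ⟶ S} {g' : T' ⟶ T} {f' : T' ⟶ S'}
  (c : IsPullback g' f' f g)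

/-- base change for the functors from the small etale site to the big site. -/
noncomputable def δ : EtFppf.a S' ⋙ Over.map g ⋙ Over.pullback f ≅
    EtCoh.bc f' ⋙ EtFppf.a T' ⋙ Over.map g' :=
  Functor.isoWhiskerLeft (EtFppf.a S') (γ c) ≪≫
    (Functor.associator _ _ _).symm ≪≫
    Functor.isoWhiskerRight
      (MorphismProperty.Over.pullbackCompForgetIso (P := EtCoh.etaleMP.{u}) (Q := ⊤) f').symm
      (Over.map g') ≪≫ Functor.associator _ _ _

/-- the base change isomorphism on a sheaf. -/
noncomputable def βApp' (F : BigSite.Ab KE T) :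
    (BigSite.pushBig KE f AddCommGrpCat.{u + 1} ⋙ BigSite.resEtAlong KE g).obj F ≅
      (BigSite.resEtAlong KE g' ⋙ EtCoh.push f').obj F :=
  (fullyFaithfulSheafToPresheaf _ _).preimageIso
    (Functor.isoWhiskerRight (NatIso.op (δ c).symm) F.obj)

/-- the base change isomorphism `i_g⁻¹ f_big,* ≅ f'_small,* i_g'⁻¹`. -/
noncomputable def β' :
    BigSite.pushBig KE f AddCommGrpCat.{u + 1} ⋙ BigSite.resEtAlong KE g ≅
      BigSite.resEtAlong KE g' ⋙ EtCoh.push f' :=
  NatIso.ofComponents (fun F => βApp' c F) (by
    intro F F' φ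
    apply (sheafToPresheaf _ _).map_injective
    ext V : 2
    exact (φ.hom.naturality _).symm)

end Delta

section Main
variable {T S : Scheme.{u}}

theorem resEt_preservesFiniteLimits (S : Scheme.{u}) :
    PreservesFiniteLimits (BigSite.resEt KE S) := by
  haveI := (BigSite.piEtAdj KE S).rightAdjoint_preservesLimits
  infer_instance

theorem resEt_preservesFiniteColimits (S : Scheme.{u}) :
    PreservesFiniteColimits (BigSite.resEt KE S) := by
  haveI := (BigSite.iEtAdj KE S).leftAdjoint_preservesColimits
  infer_instance

theorem resEtAlong_preservesFiniteLimits (g : T ⟶ S) :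
    PreservesFiniteLimits (BigSite.resEtAlong KE g) := by
  haveI := pullBig_preservesFiniteLimits KE g
  haveI := resEt_preservesFiniteLimits T
  infer_instance

theorem resEtAlong_preservesFiniteColimits (g : T ⟶ S) :
    PreservesFiniteColimits (BigSite.resEtAlong KE g) := by
  haveI := pullBig_preservesFiniteColimits KE g
  haveI := resEt_preservesFiniteColimits T
  infer_instance

/-- base change from the big to the small etale site for higher direct images. -/
theorem nonempty_resEtAlong_RpushBig {T S T' S' : Scheme.{u}} (f : T ⟶ S) (g : S' ⟶ S)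
    (g' : T' ⟶ T) (f' : T' ⟶ S') (c : IsPullback g' f' f g) (F : BigSite.Ab KE T) (q : ℕ) :
    Nonempty ((BigSite.resEtAlong KE g).obj ((BigSite.RpushBig KE f q).obj F) ≅
      (EtCoh.Rpush f' q).obj ((BigSite.resEtAlong KE g').obj F)) := by
  haveI := resEtAlong_preservesFiniteLimits g
  haveI := resEtAlong_preservesFiniteColimits g
  haveI := resEtAlong_preservesFiniteLimits g'
  haveI := resEtAlong_preservesFiniteColimits g'
  exact Groth.Agent.Lib.Helper86.BaseChangeDerived.nonempty_baseChange_rightDerived
    (BigSite.pushBig KE f AddCommGrpCat.{u + 1}) (EtCoh.push f')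
    (BigSite.resEtAlong KE g) (BigSite.resEtAlong KE g')
    (fun I hI => by
      haveI := hI
      exact (Groth.Agent.Lib.Helper45.ResInj.main T I g').2) (β' c) F q

end Main

end Groth.Agent.Lib.Helper86.BigSmallBaseChange
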