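import Mathlib
import Groth.Prelude.Def_BigSite
import Groth.Agent.Lib.Helper82.BigEt

open CategoryTheory Limits Opposite AlgebraicGeometry

/-! # Cohomology of `π_S⁻¹ F` over an object of the big etale site: `i_f⁻¹ π_S⁻¹ ≅ f_small⁻¹` by uniqueness of adjoints -/

namespace Groth.Agent.Lib.Helper86.BigSmallPull
universe u

abbrev KE := Scheme.etalePrecoverage.{u}

section Counit
variable (T : Scheme.{u})

instance : HasLimitsOfSize.{u, u + 1} AddCommGrpCat.{u + 1} :=
  hasLimitsOfSizeShrink.{u, u + 1, u + 1, u + 1} _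

set_option backward.isDefEq.respectTransparency.types false in
instance (F : (T.Etale)ᵒᵖ ⥤ AddCommGrpCat.{u + 1}) :
    (EtFppf.a T).op.HasPointwiseRightKanExtension F := by
  intro Y
  infer_instance

set_option backward.isDefEq.respectTransparency.types false in
theorem isIso_counit_iEtAdj : IsIso (BigSite.iEtAdj KE T).counit := by
  haveI : ∀ F, IsIso ((BigSite.iEtAdj KE T).counit.app F) := by
    intro F
    haveI : IsIso ((sheafToPresheaf _ _).map ((BigSite.iEtAdj KE T).counit.app F)) := by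
      show IsIso ((BigSite.iEtAdj KE T).counit.app F).hom
      rw [Functor.sheafAdjunctionCocontinuous_counit_app_hom]
      haveI : (EtFppf.a T).Full :=
        inferInstanceAs ((MorphismProperty.Over.forget EtCoh.etaleMP.{u} ⊤ T).Full)
      haveI : (EtFppf.a T).Faithful :=
        inferInstanceAs ((MorphismProperty.Over.forget EtCoh.etaleMP.{u} ⊤ T).Faithful)
      haveI : (EtFppf.a T).op.Full := inferInstance
      haveI : (EtFppf.a T).op.Faithful := inferInstance
      have h1 : IsIso ((EtFppf.a T).op.ranAdjunction AddCommGrpCat.{u + 1}).counit :=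
        Functor.reflective' _
      exact @NatIso.isIso_app_of_isIso _ _ _ _ _ _ _ h1 F.obj
    exact isIso_of_reflects_iso _ (sheafToPresheaf _ _)
  exact NatIso.isIso_of_isIso_app _

/-- `i_* ` followed by restriction is the identity. -/
noncomputable def counitIso : BigSite.iEtPush KE T ⋙ BigSite.resEt KE T ≅ 𝟭 (EtCoh.Ab T) :=
  haveI := isIso_counit_iEtAdj T
  asIso (BigSite.iEtAdj KE T).counit

end Counit


section Rho
variable {T S : Scheme.{u}} (f : T ⟶ S)

/-- restriction to the small site commutes with direct image, on a sheaf. -/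
noncomputable def ρApp (G : BigSite.Ab KE T) :
    (BigSite.pushBig KE f AddCommGrpCat.{u + 1} ⋙ BigSite.resEt KE S).obj G ≅
      (BigSite.resEt KE T ⋙ EtCoh.push f).obj G :=
  (fullyFaithfulSheafToPresheaf _ _).preimageIso
    (Functor.isoWhiskerRight (NatIso.op
      (MorphismProperty.Over.pullbackCompForgetIso (P := EtCoh.etaleMP.{u}) (Q := ⊤) f)) G.obj)

/-- restriction to the small site commutes with direct image. -/
noncomputable def ρ :
    BigSite.pushBig KE f AddCommGrpCat.{u + 1} ⋙ BigSite.resEt KE S ≅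
      BigSite.resEt KE T ⋙ EtCoh.push f :=
  NatIso.ofComponents (fun G => ρApp f G) (by
    intro G G' φ
    apply (sheafToPresheaf _ _).map_injective
    ext V : 2
    exact (φ.hom.naturality _).symm)

/-- the right adjoint of `π_S⁻¹ ⋙ f_big⁻¹ ⋙ restriction`. -/
noncomputable abbrev R₁ : EtCoh.Ab T ⥤ EtCoh.Ab S :=
  BigSite.iEtPush KE T ⋙ BigSite.pushBig KE f AddCommGrpCat.{u + 1} ⋙ BigSite.resEt KE S

/-- `π_S⁻¹ ⋙ f_big⁻¹ ⋙ restriction`. -/
noncomputable abbrev L₁ : EtCoh.Ab S ⥤ EtCoh.Ab T :=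
  BigSite.piEtPull KE S ⋙ BigSite.pullBig KE f AddCommGrpCat.{u + 1} ⋙ BigSite.resEt KE T

noncomputable def adj₁ : L₁ f ⊣ R₁ f :=
  ((BigSite.piEtAdj KE S).comp (BigSite.bigAdj KE f AddCommGrpCat.{u + 1})).comp
    (BigSite.iEtAdj KE T)

noncomputable def R₁Iso : R₁ f ≅ EtCoh.push f :=
  Functor.isoWhiskerLeft (BigSite.iEtPush KE T) (ρ f) ≪≫ (Functor.associator _ _ _).symm ≪≫
    Functor.isoWhiskerRight (counitIso T) (EtCoh.push f) ≪≫ Functor.leftUnitor _

/-- `i_f⁻¹ π_S⁻¹ ≅ f_small⁻¹`. -/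
noncomputable def L₁Iso : L₁ f ≅ EtCoh.pull f :=
  Adjunction.leftAdjointUniq ((adj₁ f).ofNatIsoRight (R₁Iso f)) (EtCoh.pullPushAdj f)

end Rho

section Main

theorem nonempty_HU_piEtPull {T S : Scheme.{u}} (f : T ⟶ S) (n : ℕ) (F : EtCoh.Ab S) :
    Nonempty (BigSite.HU KE ((BigSite.piEtPull KE S).obj F) n (Over.mk f) ≃+
      EtCoh.H T ((EtCoh.pull f).obj F) n) := by
  obtain ⟨e1⟩ := Groth.Agent.Lib.Helper82.BigEt.main T
    ((BigSite.pullBig KE f AddCommGrpCat.{u + 1}).obj ((BigSite.piEtPull KE S).obj F)) n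
  let e2 : EtCoh.H T ((L₁ f).obj F) n ≃+ EtCoh.H T ((EtCoh.pull f).obj F) n :=
    ((EtCoh.HF T n).mapIso ((L₁Iso f).app F)).addCommGroupIsoToAddEquiv
  exact ⟨e1.symm.trans e2⟩

end Main

end Groth.Agent.Lib.Helper86.BigSmallPull
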