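import Mathlib
import Groth.Prelude.Def_CE

/-!
# Cartan–Eilenberg resolutions (helper86)

Construction of Cartan–Eilenberg resolutions of a bounded below cochain complex `K` in an
abelian category with enough injectives, by iterating an embedding `K ⟶ J` into a
"CE-injective" complex (a sum of disks and of a complex with zero differential, all terms
injective) which is a monomorphism inducing monomorphisms in cohomology, and splicing.
-/

open CategoryTheory Category Limits HomologicalComplex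

namespace Groth.Agent.Lib.Helper86.CERes

universe v u

variable {A : Type u} [Category.{v} A] [Abelian A]

/-! ## Short exact sequences preserved by cycles and homology -/

section SES

variable {K J : CochainComplex A ℤ} (u : K ⟶ J)

/-- The short complex `K ⟶ J ⟶ cokernel u`. -/
noncomputable abbrev sesS : ShortComplex (CochainComplex A ℤ) :=
  ShortComplex.mk u (cokernel.π u) (cokernel.condition u)

variable [Mono u]

lemma sesS_shortExact : (sesS u).ShortExact where
  exact := ShortComplex.exact_cokernel u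

lemma shortExact_eval (p : ℤ) :
    ((sesS u).map (HomologicalComplex.eval A (ComplexShape.up ℤ) p)).ShortExact :=
  (sesS_shortExact u).map_of_exact _

variable (hH : ∀ p : ℤ, Mono (homologyMap u p))

include hH in
lemma epi_homologyMap_π (p : ℤ) : Epi (homologyMap (cokernel.π u) p) := by
  have hS := sesS_shortExact u
  have h3 := hS.homology_exact₃ p (p + 1) (by simp)
  have h1 := hS.homology_exact₁ p (p + 1) (by simp)
  haveI := hH (p + 1)
  have hδ : hS.δ p (p + 1) (by simp) = 0 := by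
    rw [← cancel_mono (homologyMap u (p + 1)), zero_comp]
    exact hS.δ_comp p (p + 1) (by simp)
  exact h3.epi_f hδ

include hH in
lemma shortExact_homology (p : ℤ) :
    ((sesS u).map (HomologicalComplex.homologyFunctor A (ComplexShape.up ℤ) p)).ShortExact := by
  have hS := sesS_shortExact u
  haveI : Mono ((sesS u).map (HomologicalComplex.homologyFunctor A (ComplexShape.up ℤ) p)).f := by
    exact hH p
  haveI : Epi ((sesS u).map (HomologicalComplex.homologyFunctor A (ComplexShape.up ℤ) p)).g := by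
    exact epi_homologyMap_π u hH p
  exact { exact := hS.homology_exact₂ p }

include hH in
lemma epi_cyclesMap_π (p : ℤ) : Epi (cyclesMap (cokernel.π u) p) := by
  rw [epi_iff_surjective_up_to_refinements]
  intro T z
  have hepi := epi_homologyMap_π u hH p
  rw [epi_homologyMap_iff_up_to_refinements (cokernel.π u) (p - 1) p (p + 1) (by simp)
    (by simp)] at hepi
  obtain ⟨T', π, hπ, x₂, hx₂, y₁, hy⟩ := hepi (z ≫ (cokernel u).iCycles p) (by simp)
  haveI : Epi (cokernel.π u) := inferInstance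
  haveI : Epi ((cokernel.π u).f (p - 1)) := inferInstance
  obtain ⟨T'', π', hπ', x, hx⟩ :=
    surjective_up_to_refinements_of_epi ((cokernel.π u).f (p - 1)) y₁
  refine ⟨T'', π' ≫ π, inferInstance,
    J.liftCycles (π' ≫ x₂ + x ≫ J.d (p - 1) p) (p + 1) (by simp) (by simp [hx₂]), ?_⟩
  rw [← cancel_mono ((cokernel u).iCycles p)]
  simp only [Category.assoc, cyclesMap_i, liftCycles_i_assoc, Preadditive.add_comp, hy,
    Preadditive.comp_add]
  rw [← (cokernel.π u).comm (p - 1) p, reassoc_of% hx]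

include hH in
lemma shortExact_cycles (p : ℤ) :
    ((sesS u).map (HomologicalComplex.cyclesFunctor A (ComplexShape.up ℤ) p)).ShortExact := by
  have hS := sesS_shortExact u
  haveI : Mono (sesS u).f := by assumption
  haveI : Mono ((sesS u).map (HomologicalComplex.cyclesFunctor A (ComplexShape.up ℤ) p)).f := by
    change Mono (cyclesMap u p); infer_instance
  haveI : Epi ((sesS u).map (HomologicalComplex.cyclesFunctor A (ComplexShape.up ℤ) p)).g := by
    exact epi_cyclesMap_π u hH p
  exact { exact := cycles_left_exact (sesS u) hS.exact p }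

end SES


/-! ## The CE-injective embedding -/

section Step

variable [EnoughInjectives A] (K : CochainComplex A ℤ)

/-- The boundaries `B^p = ker (K^p ⟶ opcycles^p)`. -/
noncomputable abbrev Bd (p : ℤ) : A := kernel (K.pOpcycles p)

/-- An injective object containing `B^p`. -/
noncomputable abbrev Ed (p : ℤ) : A := Injective.under (Bd K p)

/-- An extension of `B^p ⟶ E^p` to `K^p`. -/
noncomputable def φd (p : ℤ) : K.X p ⟶ Ed K p :=
  Injective.factorThru (Injective.ι (Bd K p)) (kernel.ι (K.pOpcycles p))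

@[reassoc (attr := simp)]
lemma ι_φd (p : ℤ) : kernel.ι (K.pOpcycles p) ≫ φd K p = Injective.ι (Bd K p) :=
  Injective.comp_factorThru _ _

/-- The disk complex: `E^{p+1} ⊞ E^p` in degree `p`. -/
noncomputable def Dk : CochainComplex A ℤ :=
  CochainComplex.of (fun p => Ed K (p + 1) ⊞ Ed K p) (fun p => biprod.fst ≫ biprod.inr)
    (fun _ => by simp)

/-- first projection -/
noncomputable def DkFst (p : ℤ) : (Dk K).X p ⟶ Ed K (p + 1) :=
  (biprod.fst : Ed K (p + 1) ⊞ Ed K p ⟶ Ed K (p + 1))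
/-- second projection -/
noncomputable def DkSnd (p : ℤ) : (Dk K).X p ⟶ Ed K p :=
  (biprod.snd : Ed K (p + 1) ⊞ Ed K p ⟶ Ed K p)
/-- first inclusion -/
noncomputable def DkInl (p : ℤ) : Ed K (p + 1) ⟶ (Dk K).X p :=
  (biprod.inl : Ed K (p + 1) ⟶ Ed K (p + 1) ⊞ Ed K p)
/-- second inclusion -/
noncomputable def DkInr (p : ℤ) : Ed K p ⟶ (Dk K).X p :=
  (biprod.inr : Ed K p ⟶ Ed K (p + 1) ⊞ Ed K p)
/-- lift -/
noncomputable def DkLift (p : ℤ) {T : A} (a : T ⟶ Ed K (p + 1)) (b : T ⟶ Ed K p) :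
    T ⟶ (Dk K).X p :=
  (biprod.lift a b : T ⟶ Ed K (p + 1) ⊞ Ed K p)

@[reassoc (attr := simp)] lemma DkInl_fst (p : ℤ) : DkInl K p ≫ DkFst K p = 𝟙 _ := biprod.inl_fst
@[reassoc (attr := simp)] lemma DkInl_snd (p : ℤ) : DkInl K p ≫ DkSnd K p = 0 := biprod.inl_snd
@[reassoc (attr := simp)] lemma DkInr_fst (p : ℤ) : DkInr K p ≫ DkFst K p = 0 := biprod.inr_fst
@[reassoc (attr := simp)] lemma DkInr_snd (p : ℤ) : DkInr K p ≫ DkSnd K p = 𝟙 _ := biprod.inr_snd
@[reassoc (attr := simp)] lemma DkLift_fst (p : ℤ) {T : A} (a : T ⟶ Ed K (p + 1))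
    (b : T ⟶ Ed K p) : DkLift K p a b ≫ DkFst K p = a := biprod.lift_fst _ _
@[reassoc (attr := simp)] lemma DkLift_snd (p : ℤ) {T : A} (a : T ⟶ Ed K (p + 1))
    (b : T ⟶ Ed K p) : DkLift K p a b ≫ DkSnd K p = b := biprod.lift_snd _ _
lemma Dk_total (p : ℤ) : DkFst K p ≫ DkInl K p + DkSnd K p ≫ DkInr K p = 𝟙 _ := biprod.total

lemma Dk_hom_ext (p : ℤ) {T : A} (f g : T ⟶ (Dk K).X p) (h1 : f ≫ DkFst K p = g ≫ DkFst K p)
    (h2 : f ≫ DkSnd K p = g ≫ DkSnd K p) : f = g :=
  biprod.hom_ext (X := Ed K (p + 1)) (Y := Ed K p) f g h1 h2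

instance (p : ℤ) : Mono (DkInr K p) := mono_of_mono_fac (DkInr_snd K p)

lemma Dk_d (p : ℤ) : (Dk K).d p (p + 1) = DkFst K p ≫ DkInr K (p + 1) :=
  CochainComplex.of_d (fun p => Ed K (p + 1) ⊞ Ed K p) (fun _ => biprod.fst ≫ biprod.inr) p

/-- The morphism `K ⟶ Dk K`. -/
noncomputable def u₁ : K ⟶ Dk K where
  f p := DkLift K p (K.d p (p + 1) ≫ φd K (p + 1)) (φd K p)
  comm' i j hij := by
    obtain rfl : i + 1 = j := hij
    rw [Dk_d]
    apply Dk_hom_ext
    · simp
    · simp

@[reassoc (attr := simp)]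
lemma u₁_f_snd (p : ℤ) : (u₁ K).f p ≫ DkSnd K p = φd K p := DkLift_snd _ _ _ _

/-- An injective object containing `opcycles^p`. -/
noncomputable abbrev Fd (p : ℤ) : A := Injective.under (K.opcycles p)

/-- The complex with zero differential and terms `F^p`. -/
noncomputable def J₂ : CochainComplex A ℤ where
  X p := Fd K p
  d _ _ := 0

lemma J₂_d (p q : ℤ) : (J₂ K).d p q = 0 := rfl

/-- The embedding `opcycles^p ⟶ F^p`. -/
noncomputable def ιF (p : ℤ) : K.opcycles p ⟶ (J₂ K).X p := Injective.ι (K.opcycles p)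

instance (p : ℤ) : Mono (ιF K p) := inferInstanceAs (Mono (Injective.ι (K.opcycles p)))

/-- The morphism `K ⟶ J₂ K`. -/
noncomputable def u₂ : K ⟶ J₂ K where
  f p := K.pOpcycles p ≫ ιF K p
  comm' i j _ := by
    rw [J₂_d, comp_zero, d_pOpcycles_assoc, zero_comp]

lemma u₂_f (p : ℤ) : (u₂ K).f p = K.pOpcycles p ≫ ιF K p := rfl

/-- The CE-injective complex containing `K`. -/
noncomputable abbrev Jc : CochainComplex A ℤ := Dk K ⊞ J₂ K

/-- The embedding. -/
noncomputable abbrev uc : K ⟶ Jc K := biprod.lift (u₁ K) (u₂ K)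

lemma mono_uc_f (p : ℤ) : Mono ((uc K).f p) := by
  apply Preadditive.mono_of_cancel_zero
  intro T x hx
  have h1 : x ≫ (u₁ K).f p = 0 := by
    have := hx =≫ (biprod.fst : Jc K ⟶ Dk K).f p
    rwa [zero_comp, Category.assoc, ← HomologicalComplex.comp_f, biprod.lift_fst] at this
  have h2 : x ≫ (u₂ K).f p = 0 := by
    have := hx =≫ (biprod.snd : Jc K ⟶ J₂ K).f p
    rwa [zero_comp, Category.assoc, ← HomologicalComplex.comp_f, biprod.lift_snd] at this
  have h3 : x ≫ K.pOpcycles p = 0 := by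
    rw [← cancel_mono (ιF K p), zero_comp, Category.assoc]
    exact h2
  have h4 : x ≫ φd K p = 0 := by
    rw [← u₁_f_snd K p, reassoc_of% h1, zero_comp]
  have h5 : x = kernel.lift (K.pOpcycles p) x h3 ≫ kernel.ι _ := by rw [kernel.lift_ι]
  rw [h5, Category.assoc, ι_φd] at h4
  have h6 : kernel.lift (K.pOpcycles p) x h3 = 0 := by
    rw [← cancel_mono (Injective.ι (Bd K p)), h4, zero_comp]
  rw [h5, h6, zero_comp]

instance : Mono (uc K) :=
  haveI := mono_uc_f K
  HomologicalComplex.mono_of_mono_f _ inferInstance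

lemma mono_homologyMap_u₂ (p : ℤ) : Mono (homologyMap (u₂ K) p) := by
  haveI : IsIso ((J₂ K).pOpcycles p) := (J₂ K).isIso_pOpcycles (p - 1) p (by simp) rfl
  have h1 : opcyclesMap (u₂ K) p = ιF K p ≫ (J₂ K).pOpcycles p := by
    rw [← cancel_epi (K.pOpcycles p), p_opcyclesMap, u₂_f, Category.assoc]
  haveI : Mono (opcyclesMap (u₂ K) p) := by
    rw [h1]
    infer_instance
  haveI : Mono (homologyMap (u₂ K) p ≫ (J₂ K).homologyι p) := by
    rw [homologyι_naturality]; infer_instance
  exact mono_of_mono _ ((J₂ K).homologyι p)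

lemma mono_homologyMap_uc (p : ℤ) : Mono (homologyMap (uc K) p) := by
  haveI := mono_homologyMap_u₂ K p
  haveI : Mono (homologyMap (uc K) p ≫ homologyMap (biprod.snd : Jc K ⟶ J₂ K) p) := by
    rw [← homologyMap_comp, biprod.lift_snd]; infer_instance
  exact mono_of_mono _ (homologyMap (biprod.snd : Jc K ⟶ J₂ K) p)

/-! ### Injectivity of terms, cycles and homology of `Jc K` -/

instance (p : ℤ) : Injective ((Dk K).X p) :=
  inferInstanceAs (Injective (Ed K (p + 1) ⊞ Ed K p))

instance (p : ℤ) : Injective ((J₂ K).X p) := inferInstanceAs (Injective (Fd K p))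

instance injective_Jc_X (p : ℤ) : Injective ((Jc K).X p) :=
  Injective.of_iso (HomologicalComplex.biprodXIso (Dk K) (J₂ K) p).symm inferInstance

/-- `DkInr` is a kernel of the differential of `Dk K`. -/
noncomputable def DkIsKernel (p : ℤ) :
    IsLimit (KernelFork.ofι (DkInr K p) (show DkInr K p ≫ (Dk K).d p (p + 1) = 0 by
      rw [Dk_d, DkInr_fst_assoc, zero_comp])) :=
  KernelFork.IsLimit.ofι' _ _ (fun {T} k hk => ⟨k ≫ DkSnd K p, by
    have h1 : k ≫ DkFst K p = 0 := by
      rw [Dk_d, ← Category.assoc] at hk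
      rw [← cancel_mono (DkInr K (p + 1)), hk, zero_comp]
    have h2 := k ≫= Dk_total K p
    rw [Preadditive.comp_add, reassoc_of% h1, zero_comp, zero_add, Category.comp_id,
      ← Category.assoc] at h2
    exact h2⟩)

instance injective_Dk_cycles (p : ℤ) : Injective ((Dk K).cycles p) :=
  Injective.of_iso (IsLimit.conePointUniqueUpToIso (DkIsKernel K p)
    ((Dk K).cyclesIsKernel p (p + 1) (by simp))) (inferInstanceAs (Injective (Ed K p)))

lemma Dk_exactAt (p : ℤ) : (Dk K).ExactAt p := by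
  obtain ⟨m, rfl⟩ : ∃ m : ℤ, p = m + 1 := ⟨p - 1, by ring⟩
  rw [exactAt_iff_exact_up_to_refinements (Dk K) m (m + 1) (m + 1 + 1) (by simp) (by simp)]
  intro T x₂ hx₂
  have h1 : x₂ ≫ DkFst K (m + 1) = 0 := by
    rw [Dk_d, ← Category.assoc] at hx₂
    rw [← cancel_mono (DkInr K (m + 1 + 1)), hx₂, zero_comp]
  refine ⟨T, 𝟙 T, inferInstance, DkLift K m (x₂ ≫ DkSnd K (m + 1)) 0, ?_⟩
  rw [Category.id_comp, Dk_d, DkLift_fst_assoc]
  have h2 := x₂ ≫= Dk_total K (m + 1)
  rw [Preadditive.comp_add, reassoc_of% h1, zero_comp, zero_add, Category.comp_id] at h2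
  rw [Category.assoc]
  exact h2.symm

instance injective_J₂_cycles (p : ℤ) : Injective ((J₂ K).cycles p) :=
  Injective.of_iso ((J₂ K).iCyclesIso p (p + 1) (by simp) rfl).symm inferInstance

instance injective_J₂_homology (p : ℤ) : Injective ((J₂ K).homology p) :=
  Injective.of_iso ((J₂ K).isoHomologyπ (p - 1) p (by simp) rfl) inferInstance

lemma cyclesMap_add' {X Y : CochainComplex A ℤ} (f g : X ⟶ Y) (p : ℤ) :
    cyclesMap (f + g) p = cyclesMap f p + cyclesMap g p := by
  rw [← cancel_mono (Y.iCycles p), Preadditive.add_comp, cyclesMap_i, cyclesMap_i, cyclesMap_i,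
    HomologicalComplex.add_f_apply, Preadditive.comp_add]

instance cyclesFunctor_additive (p : ℤ) :
    (HomologicalComplex.cyclesFunctor A (ComplexShape.up ℤ) p).Additive where
  map_add {_ _ f g} := cyclesMap_add' f g p

lemma preservesBinaryBiproducts_of_additive {C D : Type*} [Category C] [Category D]
    [Preadditive C] [Preadditive D] (F : C ⥤ D) [F.Additive] : PreservesBinaryBiproducts F :=
  preservesBinaryBiproducts_of_preservesBiproducts F

instance injective_Jc_cycles (p : ℤ) : Injective ((Jc K).cycles p) :=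
  haveI := preservesBinaryBiproducts_of_additive
    (HomologicalComplex.cyclesFunctor A (ComplexShape.up ℤ) p)
  Injective.of_iso ((HomologicalComplex.cyclesFunctor A (ComplexShape.up ℤ) p).mapBiprod
    (Dk K) (J₂ K)).symm
    (inferInstanceAs (Injective ((Dk K).cycles p ⊞ (J₂ K).cycles p)))

instance injective_Jc_homology (p : ℤ) : Injective ((Jc K).homology p) := by
  haveI : Injective ((Dk K).homology p) :=
    (((Dk K).exactAt_iff_isZero_homology p).1 (Dk_exactAt K p)).injective
  haveI := preservesBinaryBiproducts_of_additive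
    (HomologicalComplex.homologyFunctor A (ComplexShape.up ℤ) p)
  exact Injective.of_iso ((HomologicalComplex.homologyFunctor A (ComplexShape.up ℤ) p).mapBiprod
    (Dk K) (J₂ K)).symm
    (inferInstanceAs (Injective ((Dk K).homology p ⊞ (J₂ K).homology p)))

/-! ### Boundedness -/

section Bounded

variable (n : ℤ) [K.IsStrictlyGE n]

lemma isZero_Ed (q : ℤ) (hq : q ≤ n) : IsZero (Ed K q) := by
  apply Injective.isZero_under
  have h0 : K.d (q - 1) q = 0 := (K.isZero_of_isStrictlyGE n (q - 1) (by lia)).eq_of_src _ _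
  haveI : IsIso (K.pOpcycles q) := K.isIso_pOpcycles (q - 1) q (by simp) h0
  exact isZero_kernel_of_mono _

lemma isZero_Fd (q : ℤ) (hq : q < n) : IsZero (Fd K q) := by
  apply Injective.isZero_under
  exact IsZero.of_epi (K.pOpcycles q) (K.isZero_of_isStrictlyGE n q hq)

instance isStrictlyGE_Jc : (Jc K).IsStrictlyGE n := by
  rw [CochainComplex.isStrictlyGE_iff]
  intro i hi
  refine IsZero.of_iso ?_ (HomologicalComplex.biprodXIso (Dk K) (J₂ K) i)
  rw [biprod_isZero_iff]
  constructor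
  · change IsZero (Ed K (i + 1) ⊞ Ed K i)
    rw [biprod_isZero_iff]
    exact ⟨isZero_Ed K n _ (by lia), isZero_Ed K n _ (by lia)⟩
  · exact isZero_Fd K n i hi

instance isStrictlyGE_cokernel : (cokernel (uc K)).IsStrictlyGE n := by
  rw [CochainComplex.isStrictlyGE_iff]
  intro i hi
  haveI : Epi ((cokernel.π (uc K)).f i) := inferInstance
  exact IsZero.of_epi ((cokernel.π (uc K)).f i) ((Jc K).isZero_of_isStrictlyGE n i hi)

end Bounded

end Step


/-! ## Splicing short exact sequences -/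

section Splice

lemma exact_epi_comp_mono {B : Type*} [Category B] [Abelian B] {X₀ X₁ X₂ X₃ X₄ : B}
    (f : X₁ ⟶ X₂) (g : X₂ ⟶ X₃) (w : f ≫ g = 0)
    (hS : (ShortComplex.mk f g w).Exact) (a : X₀ ⟶ X₁) [Epi a] (d : X₃ ⟶ X₄) [Mono d] :
    (ShortComplex.mk (a ≫ f) (g ≫ d)
      (by rw [Category.assoc, ← Category.assoc f g d, w, zero_comp, comp_zero])).Exact := by
  rw [ShortComplex.exact_iff_exact_up_to_refinements]
  intro T x₂ hx₂
  dsimp at x₂ hx₂ ⊢
  have h1 : x₂ ≫ g = 0 := by
    apply (cancel_mono d).1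
    simpa using hx₂
  obtain ⟨T', π, hπ, x₁, hx₁⟩ := hS.exact_up_to_refinements x₂ h1
  dsimp at x₁ hx₁
  obtain ⟨T'', π', hπ', x₀, hx₀⟩ := surjective_up_to_refinements_of_epi a x₁
  exact ⟨T'', π' ≫ π, inferInstance, x₀, by rw [Category.assoc, hx₁, reassoc_of% hx₀]⟩

variable {𝒞 : Type*} [Category 𝒞] [Abelian 𝒞]
  (Kq Jq : ℕ → 𝒞) (uq : ∀ q, Kq q ⟶ Jq q) (vq : ∀ q, Jq q ⟶ Kq (q + 1))
  (wq : ∀ q, uq q ≫ vq q = 0)

/-- The spliced complex, indexed by `ℕ`. -/
noncomputable def spliceN : CochainComplex 𝒞 ℕ :=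
  CochainComplex.of Jq (fun q => vq q ≫ uq (q + 1)) (fun q => by
    rw [Category.assoc, reassoc_of% (wq (q + 1)), zero_comp, comp_zero])

lemma spliceN_d (q : ℕ) : (spliceN Kq Jq uq vq wq).d q (q + 1) = vq q ≫ uq (q + 1) :=
  CochainComplex.of_d Jq (fun q => vq q ≫ uq (q + 1)) q

/-- The spliced complex, indexed by `ℤ`. -/
noncomputable def splice : CochainComplex 𝒞 ℤ :=
  (spliceN Kq Jq uq vq wq).extend ComplexShape.embeddingUpNat

/-- The terms of the spliced complex. -/
noncomputable def spliceXIso (q : ℕ) (i : ℤ) (h : ComplexShape.embeddingUpNat.f q = i) :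
    (splice Kq Jq uq vq wq).X i ≅ Jq q :=
  (spliceN Kq Jq uq vq wq).extendXIso ComplexShape.embeddingUpNat h

lemma isZero_splice_X (i : ℤ) (hi : i < 0) : IsZero ((splice Kq Jq uq vq wq).X i) :=
  (spliceN Kq Jq uq vq wq).isZero_extend_X ComplexShape.embeddingUpNat i (fun n => by
    simp only [ComplexShape.embeddingUpNat_f]
    lia)

lemma splice_d (q : ℕ) (i j : ℤ) (hi : ComplexShape.embeddingUpNat.f q = i)
    (hj : ComplexShape.embeddingUpNat.f (q + 1) = j) :
    (splice Kq Jq uq vq wq).d i j = (spliceXIso Kq Jq uq vq wq q i hi).hom ≫ (vq q ≫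
      uq (q + 1)) ≫ (spliceXIso Kq Jq uq vq wq (q + 1) j hj).inv := by
  have h1 := (spliceN Kq Jq uq vq wq).extend_d_eq ComplexShape.embeddingUpNat hi hj
  have h2 : (spliceN Kq Jq uq vq wq).d q (q + 1) = vq q ≫ uq (q + 1) := spliceN_d Kq Jq uq vq wq q
  exact h1.trans (by rw [h2]; rfl)

/-- The augmentation. -/
noncomputable def spliceε : Kq 0 ⟶ (splice Kq Jq uq vq wq).X 0 :=
  uq 0 ≫ (spliceXIso Kq Jq uq vq wq 0 0 (by simp)).inv

lemma spliceε_d : spliceε Kq Jq uq vq wq ≫ (splice Kq Jq uq vq wq).d 0 1 = 0 := by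
  rw [spliceε, splice_d Kq Jq uq vq wq 0 0 1 (by simp) (by simp), Category.assoc,
    Iso.inv_hom_id_assoc, Category.assoc, reassoc_of% (wq 0), zero_comp]

variable (F : 𝒞 ⥤ A) [F.PreservesZeroMorphisms]

lemma map_splice_d_comm (q : ℕ) (i j : ℤ) (hi : ComplexShape.embeddingUpNat.f q = i)
    (hj : ComplexShape.embeddingUpNat.f (q + 1) = j) :
    F.map ((splice Kq Jq uq vq wq).d i j) ≫ F.map (spliceXIso Kq Jq uq vq wq (q + 1) j hj).hom =
      F.map (spliceXIso Kq Jq uq vq wq q i hi).hom ≫ F.map (vq q ≫ uq (q + 1)) := by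
  rw [← F.map_comp, ← F.map_comp, splice_d Kq Jq uq vq wq q i j hi hj]
  simp

variable (hF : ∀ q, (ShortComplex.mk (F.map (uq q)) (F.map (vq q))
    (by rw [← F.map_comp, wq, F.map_zero])).ShortExact)
  (hinj : ∀ q, Injective (F.obj (Jq q)))

include hF in
lemma exact_map_splice (q : ℕ) :
    (ShortComplex.mk (F.map (vq q ≫ uq (q + 1))) (F.map (vq (q + 1) ≫ uq (q + 1 + 1))) (by
      rw [← F.map_comp, Category.assoc, reassoc_of% (wq (q + 1)), zero_comp, comp_zero,
        F.map_zero])).Exact := by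
  haveI : Epi (F.map (vq q)) := (hF q).epi_g
  haveI : Mono (F.map (uq (q + 1 + 1))) := (hF (q + 1 + 1)).mono_f
  have := exact_epi_comp_mono _ _ _ (hF (q + 1)).exact (F.map (vq q)) (F.map (uq (q + 1 + 1)))
  simp only [F.map_comp]
  exact this

include hF in
lemma exact_map_splice_zero :
    (ShortComplex.mk (F.map (uq 0)) (F.map (vq 0 ≫ uq (0 + 1))) (by
      rw [← F.map_comp, reassoc_of% (wq 0), zero_comp, F.map_zero])).Exact := by
  haveI : Mono (F.map (uq (0 + 1))) := (hF (0 + 1)).mono_f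
  have := exact_epi_comp_mono _ _ _ (hF 0).exact (𝟙 _) (F.map (uq (0 + 1)))
  simp only [F.map_comp]
  simp only [Category.id_comp] at this
  exact this

include hF hinj in
theorem isInjResolutionVia_splice :
    CE.IsInjResolutionVia
      ((F.mapHomologicalComplex (ComplexShape.up ℤ)).obj (splice Kq Jq uq vq wq))
      (F.obj (Kq 0)) (F.map (spliceε Kq Jq uq vq wq)) := by
  have h0 : F.map (spliceε Kq Jq uq vq wq) ≫
      ((F.mapHomologicalComplex (ComplexShape.up ℤ)).obj (splice Kq Jq uq vq wq)).d 0 1 = 0 := by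
    change F.map (spliceε Kq Jq uq vq wq) ≫ F.map ((splice Kq Jq uq vq wq).d 0 1) = 0
    rw [← F.map_comp, spliceε_d, F.map_zero]
  refine ⟨h0, ?_, ?_, ?_, ?_, ?_⟩
  · rw [CochainComplex.isStrictlyGE_iff]
    intro i hi
    exact F.map_isZero (isZero_splice_X Kq Jq uq vq wq i hi)
  · intro i
    by_cases hi : i < 0
    · exact (F.map_isZero (isZero_splice_X Kq Jq uq vq wq i hi)).injective
    · obtain ⟨q, rfl⟩ := Int.eq_ofNat_of_zero_le (not_lt.1 hi)
      exact Injective.of_iso (F.mapIso (spliceXIso Kq Jq uq vq wq q q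
        (ComplexShape.embeddingUpNat_f q))).symm (hinj q)
  · intro i hi0
    by_cases hi : i < 0
    · exact ShortComplex.exact_of_isZero_X₂ _
        (F.map_isZero (isZero_splice_X Kq Jq uq vq wq i hi))
    · obtain ⟨q', rfl⟩ := Int.eq_ofNat_of_zero_le (not_lt.1 hi)
      obtain ⟨q, rfl⟩ : ∃ q : ℕ, q' = q + 1 := ⟨q' - 1, by
        have : q' ≠ 0 := by rintro rfl; exact hi0 rfl
        lia⟩
      rw [HomologicalComplex.exactAt_iff' _ (q : ℤ) ((q + 1 : ℕ) : ℤ) ((q + 1 + 1 : ℕ) : ℤ)
        (by simp) (by simp)]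
      refine (ShortComplex.exact_iff_of_iso ?_).2 (exact_map_splice Kq Jq uq vq wq F hF q)
      exact ShortComplex.isoMk
        (F.mapIso (spliceXIso Kq Jq uq vq wq q q (ComplexShape.embeddingUpNat_f q)))
        (F.mapIso (spliceXIso Kq Jq uq vq wq (q + 1) _ (ComplexShape.embeddingUpNat_f (q + 1))))
        (F.mapIso (spliceXIso Kq Jq uq vq wq (q + 1 + 1) _
          (ComplexShape.embeddingUpNat_f (q + 1 + 1))))
        (map_splice_d_comm Kq Jq uq vq wq F q _ _ (ComplexShape.embeddingUpNat_f q)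
          (ComplexShape.embeddingUpNat_f (q + 1))).symm
        (map_splice_d_comm Kq Jq uq vq wq F (q + 1) _ _ (ComplexShape.embeddingUpNat_f (q + 1))
          (ComplexShape.embeddingUpNat_f (q + 1 + 1))).symm
  · haveI : Mono (F.map (uq 0)) := (hF 0).mono_f
    have : Mono (F.map (spliceε Kq Jq uq vq wq)) := by
      rw [spliceε, F.map_comp]
      exact mono_comp _ _
    exact this
  · have hc : F.map (spliceε Kq Jq uq vq wq) ≫
        F.map (spliceXIso Kq Jq uq vq wq 0 0 (by simp)).hom = F.map (uq 0) := by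
      rw [← F.map_comp, spliceε, Category.assoc, Iso.inv_hom_id, Category.comp_id]
    refine (ShortComplex.exact_iff_of_iso ?_).2 (exact_map_splice_zero Kq Jq uq vq wq F hF)
    exact ShortComplex.isoMk (Iso.refl _)
      (F.mapIso (spliceXIso Kq Jq uq vq wq 0 0 (by simp)))
      (F.mapIso (spliceXIso Kq Jq uq vq wq (0 + 1) 1 (by simp)))
      ((Category.id_comp _).trans hc.symm)
      (map_splice_d_comm Kq Jq uq vq wq F 0 0 1 (by simp) (by simp)).symm

end Splice


/-! ## The Cartan–Eilenberg resolution -/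

section Main

variable [EnoughInjectives A] (K : CochainComplex A ℤ) (n : ℤ) [K.IsStrictlyGE n]

/-- The sequence of successive cokernels. -/
noncomputable def Kseq : ℕ → {L : CochainComplex A ℤ // L.IsStrictlyGE n}
  | 0 => ⟨K, inferInstance⟩
  | q + 1 => ⟨cokernel (uc (Kseq q).1), haveI := (Kseq q).2; isStrictlyGE_cokernel (Kseq q).1 n⟩

/-- The `q`-th cokernel. -/
noncomputable def Kq (q : ℕ) : CochainComplex A ℤ := (Kseq K n q).1

instance (q : ℕ) : (Kq K n q).IsStrictlyGE n := (Kseq K n q).2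

/-- The `q`-th CE-injective complex. -/
noncomputable def Jq (q : ℕ) : CochainComplex A ℤ := Jc (Kq K n q)

instance (q : ℕ) : (Jq K n q).IsStrictlyGE n := isStrictlyGE_Jc (Kq K n q) n

/-- The embeddings. -/
noncomputable def uq (q : ℕ) : Kq K n q ⟶ Jq K n q := uc (Kq K n q)

instance (q : ℕ) : Mono (uq K n q) := inferInstanceAs (Mono (uc (Kq K n q)))

/-- The projections. -/
noncomputable def vq (q : ℕ) : Jq K n q ⟶ Kq K n (q + 1) := cokernel.π (uc (Kq K n q))

lemma wq (q : ℕ) : uq K n q ≫ vq K n q = 0 := cokernel.condition _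

/-- The Cartan–Eilenberg resolution. -/
noncomputable def ceI : CochainComplex (CochainComplex A ℤ) ℤ :=
  splice (Kq K n) (Jq K n) (uq K n) (vq K n) (wq K n)

/-- The augmentation. -/
noncomputable def ceε : K ⟶ (ceI K n).X 0 :=
  spliceε (Kq K n) (Jq K n) (uq K n) (vq K n) (wq K n)

lemma ceε_d : ceε K n ≫ (ceI K n).d 0 1 = 0 :=
  spliceε_d (Kq K n) (Jq K n) (uq K n) (vq K n) (wq K n)

lemma isZero_ceI_X_X (p q : ℤ) (hp : p < n) : IsZero (((ceI K n).X q).X p) := by
  by_cases hq : q < 0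
  · exact (HomologicalComplex.eval A (ComplexShape.up ℤ) p).map_isZero
      (isZero_splice_X (Kq K n) (Jq K n) (uq K n) (vq K n) (wq K n) q hq)
  · obtain ⟨q', rfl⟩ := Int.eq_ofNat_of_zero_le (not_lt.1 hq)
    exact IsZero.of_iso ((Jq K n q').isZero_of_isStrictlyGE n p hp)
      ((HomologicalComplex.eval A (ComplexShape.up ℤ) p).mapIso
        (spliceXIso (Kq K n) (Jq K n) (uq K n) (vq K n) (wq K n) q' q'
          (ComplexShape.embeddingUpNat_f q')))

theorem isInjResolutionVia_eval (p : ℤ) :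
    CE.IsInjResolutionVia (((HomologicalComplex.eval A (ComplexShape.up ℤ) p).mapHomologicalComplex
      (ComplexShape.up ℤ)).obj (ceI K n)) (K.X p) ((ceε K n).f p) :=
  isInjResolutionVia_splice (Kq K n) (Jq K n) (uq K n) (vq K n) (wq K n)
    (HomologicalComplex.eval A (ComplexShape.up ℤ) p)
    (fun q => shortExact_eval (uq K n q) p)
    (fun q => injective_Jc_X (Kq K n q) p)

theorem isInjResolutionVia_cycles (p : ℤ) :
    CE.IsInjResolutionVia (((HomologicalComplex.cyclesFunctor A (ComplexShape.up ℤ)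
      p).mapHomologicalComplex (ComplexShape.up ℤ)).obj (ceI K n)) (K.cycles p)
      (HomologicalComplex.cyclesMap (ceε K n) p) :=
  isInjResolutionVia_splice (Kq K n) (Jq K n) (uq K n) (vq K n) (wq K n)
    (HomologicalComplex.cyclesFunctor A (ComplexShape.up ℤ) p)
    (fun q => shortExact_cycles (uq K n q) (mono_homologyMap_uc (Kq K n q)) p)
    (fun q => injective_Jc_cycles (Kq K n q) p)

theorem isInjResolutionVia_homology (p : ℤ) :
    CE.IsInjResolutionVia (((HomologicalComplex.homologyFunctor A (ComplexShape.up ℤ)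
      p).mapHomologicalComplex (ComplexShape.up ℤ)).obj (ceI K n)) (K.homology p)
      (HomologicalComplex.homologyMap (ceε K n) p) :=
  isInjResolutionVia_splice (Kq K n) (Jq K n) (uq K n) (vq K n) (wq K n)
    (HomologicalComplex.homologyFunctor A (ComplexShape.up ℤ) p)
    (fun q => shortExact_homology (uq K n q) (mono_homologyMap_uc (Kq K n q)) p)
    (fun q => injective_Jc_homology (Kq K n q) p)

end Main

end Groth.Agent.Lib.Helper86.CERes
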