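import Mathlib
import Groth.Prelude.Def_W4stkcategoriessitesFib

/-! Helper lemmas on `FibCat.categoricalPullbackMap` (helper86). -/

set_option autoImplicit false
open CategoryTheory CategoryTheory.Limits
universe v u

namespace Groth.Agent.Lib.Helper86.CPM

variable {X Y Z A B C : Type u} [Category.{v} X] [Category.{v} Y] [Category.{v} Z] [Category.{v} A] [Category.{v} B] [Category.{v} C] {H : X ⥤ Z} {I : Y ⥤ Z} {F : A ⥤ C} {G : B ⥤ C} (ψ : CatCospanTransform H I F G)

lemma cpm_map_fst {x y : CategoricalPullback H I} (f : x ⟶ y) :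
    ((FibCat.categoricalPullbackMap ψ).map f).fst = ψ.left.map f.fst := rfl

lemma cpm_map_snd {x y : CategoricalPullback H I} (f : x ⟶ y) :
    ((FibCat.categoricalPullbackMap ψ).map f).snd = ψ.right.map f.snd := rfl

lemma cpm_obj_fst (x : CategoricalPullback H I) :
    ((FibCat.categoricalPullbackMap ψ).obj x).fst = ψ.left.obj x.fst := rfl

lemma cpm_obj_snd (x : CategoricalPullback H I) :
    ((FibCat.categoricalPullbackMap ψ).obj x).snd = ψ.right.obj x.snd := rfl

lemma cpm_obj_iso (x : CategoricalPullback H I) :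
    ((FibCat.categoricalPullbackMap ψ).obj x).iso.hom =
      ψ.squareLeft.iso.inv.app x.fst ≫ ψ.base.map x.iso.hom ≫ ψ.squareRight.iso.hom.app x.snd := by
  simp [FibCat.categoricalPullbackMap]
  rfl

lemma cpm_faithful [ψ.left.Faithful] [ψ.right.Faithful] :
    (FibCat.categoricalPullbackMap ψ).Faithful := by
  constructor
  intro x y f g h
  apply CategoricalPullback.hom_ext
  · apply ψ.left.map_injective
    rw [← cpm_map_fst, ← cpm_map_fst, h]
  · apply ψ.right.map_injective
    rw [← cpm_map_snd, ← cpm_map_snd, h]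

lemma cpm_full [ψ.left.Full] [ψ.right.Full] [ψ.base.Faithful] :
    (FibCat.categoricalPullbackMap ψ).Full := by
  constructor
  intro x y g
  obtain ⟨a, ha⟩ := ψ.left.map_surjective (X := x.fst) (Y := y.fst) g.fst
  obtain ⟨b, hb⟩ := ψ.right.map_surjective (X := x.snd) (Y := y.snd) g.snd
  have hw : F.map (ψ.left.map a) ≫ (ψ.squareLeft.iso.inv.app y.fst ≫ ψ.base.map y.iso.hom ≫ ψ.squareRight.iso.hom.app y.snd) = (ψ.squareLeft.iso.inv.app x.fst ≫ ψ.base.map x.iso.hom ≫ ψ.squareRight.iso.hom.app x.snd) ≫ G.map (ψ.right.map b) := by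
    rw [ha, hb, ← cpm_obj_iso, ← cpm_obj_iso]; exact g.w
  have n1 := ψ.squareLeft.iso.inv.naturality a
  have n2 := ψ.squareRight.iso.hom.naturality b
  simp only [Functor.comp_map] at n1 n2
  refine ⟨⟨a, b, ?_⟩, ?_⟩
  · apply ψ.base.map_injective
    rw [← cancel_mono (ψ.squareRight.iso.hom.app y.snd), ← cancel_epi (ψ.squareLeft.iso.inv.app x.fst)]
    simp only [Functor.map_comp, Category.assoc]
    rw [n2, ← reassoc_of% n1]
    simpa using hw
  · apply CategoricalPullback.hom_ext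
    · exact ha
    · exact hb

lemma cpm_essSurj [ψ.left.EssSurj] [ψ.right.EssSurj] [ψ.base.Full] [ψ.base.Faithful] :
    (FibCat.categoricalPullbackMap ψ).EssSurj := by
  constructor
  intro z
  let x := ψ.left.objPreimage z.fst
  let y := ψ.right.objPreimage z.snd
  let e1 : ψ.left.obj x ≅ z.fst := ψ.left.objObjPreimageIso z.fst
  let e2 : ψ.right.obj y ≅ z.snd := ψ.right.objObjPreimageIso z.snd
  let θ' : ψ.base.obj (H.obj x) ≅ ψ.base.obj (I.obj y) :=
    ψ.squareLeft.iso.app x ≪≫ F.mapIso e1 ≪≫ z.iso ≪≫ (G.mapIso e2).symm ≪≫ (ψ.squareRight.iso.app y).symm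
  let θ : H.obj x ≅ I.obj y := ψ.base.preimageIso θ'
  have key : F.map e1.hom ≫ z.iso.hom = (ψ.squareLeft.iso.inv.app x ≫ ψ.base.map θ.hom ≫ ψ.squareRight.iso.hom.app y) ≫ G.map e2.hom := by
    simp only [θ, θ', Functor.preimageIso_hom, Functor.map_preimage, Iso.trans_hom, Iso.app_hom, Functor.mapIso_hom, Iso.symm_hom, Functor.mapIso_inv, Iso.app_inv, Category.assoc, Iso.inv_hom_id_app, Iso.inv_hom_id_app_assoc]
    erw [Category.id_comp]
    rw [← Functor.map_comp, Iso.inv_hom_id, CategoryTheory.Functor.map_id, Category.comp_id]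
  refine ⟨⟨x, y, θ⟩, ⟨CategoricalPullback.mkIso e1 e2 ?_⟩⟩
  rw [cpm_obj_iso]
  exact key

end Groth.Agent.Lib.Helper86.CPM
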