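import Mathlib

/-!
# Factorization lemmas for a class of objects (port of Mathlib's CM5a/CM5b from injectives)

Let `C` be an abelian category and `P` a class of objects closed under isomorphisms,
containing zero, closed under binary biproducts and such that every object embeds in an object
of `P` (`ResClass P`).  We port Mathlib's factorization lemmas
`CochainComplex.cm5b` and `CochainComplex.Plus.modelCategoryQuillen.cm5a` (which are stated for
injective objects) to such a class: any morphism `f : K ⟶ L` between bounded below cochain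
complexes factors as a monomorphism which is a quasi-isomorphism followed by a morphism which
is degreewise a split epimorphism with kernel in `P`.
-/

open CategoryTheory Category Limits ZeroObject Preadditive

namespace Groth.Agent.Lib.Helper86.ClassFactor

universe v u

variable {C : Type u} [Category.{v} C] [Abelian C]

/-- A class of objects suitable for right resolutions. -/
class ResClass (P : ObjectProperty C) : Prop where
  iso : ∀ {X Y : C}, (X ≅ Y) → P X → P Y
  zero : ∃ Z : C, IsZero Z ∧ P Z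
  biprod : ∀ X Y : C, P X → P Y → P (X ⊞ Y)
  enough : ∀ X : C, ∃ (Y : C) (ι : X ⟶ Y), P Y ∧ Mono ι

variable (P : ObjectProperty C) [ResClass P]

lemma prop_of_isZero {X : C} (hX : IsZero X) : P X := by
  obtain ⟨Z, hZ, hPZ⟩ := ResClass.zero (P := P)
  exact ResClass.iso (hZ.iso hX) hPZ

lemma exists_presentation (X : C) :
    ∃ (Y : C) (ι : X ⟶ Y), P Y ∧ Mono ι ∧ (IsZero X → IsZero Y) := by
  by_cases hX : IsZero X
  · exact ⟨X, 𝟙 X, prop_of_isZero P hX, inferInstance, fun h => h⟩
  · obtain ⟨Y, ι, hY, hι⟩ := ResClass.enough (P := P) X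
    exact ⟨Y, ι, hY, hι, fun h => (hX h).elim⟩

/-- A chosen object of `P` containing `X`. -/
noncomputable def under (X : C) : C := (exists_presentation P X).choose

/-- The chosen monomorphism `X ⟶ under P X`. -/
noncomputable def underι (X : C) : X ⟶ under P X := (exists_presentation P X).choose_spec.choose

lemma prop_under (X : C) : P (under P X) := (exists_presentation P X).choose_spec.choose_spec.1

instance underι_mono (X : C) : Mono (underι P X) := (exists_presentation P X).choose_spec.choose_spec.2.1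

lemma isZero_under (X : C) (hX : IsZero X) : IsZero (under P X) :=
  (exists_presentation P X).choose_spec.choose_spec.2.2 hX

/-- Split epimorphisms with kernel in `P`. -/
def epiWithKernelIn : MorphismProperty C :=
  fun X _ g => ∃ (I : C) (_ : P I) (f : I ⟶ X) (w : f ≫ g = 0),
    Nonempty (ShortComplex.mk f g w).Splitting

variable {P}

lemma epiWithKernelIn.epi {X Y : C} {g : X ⟶ Y} (hg : epiWithKernelIn P g) : Epi g := by
  obtain ⟨I, _, f, w, ⟨σ⟩⟩ := hg
  have : IsSplitEpi g := ⟨σ.s, σ.s_g⟩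
  infer_instance

lemma epiWithKernelIn.exists_section {X Y : C} {g : X ⟶ Y} (hg : epiWithKernelIn P g) :
    ∃ s : Y ⟶ X, s ≫ g = 𝟙 _ := by
  obtain ⟨I, _, f, w, ⟨σ⟩⟩ := hg
  exact ⟨σ.s, σ.s_g⟩

lemma epiWithKernelIn.prop_kernel {X Y : C} {g : X ⟶ Y} (hg : epiWithKernelIn P g) :
    P (kernel g) := by
  obtain ⟨I, hI, f, w, ⟨σ⟩⟩ := hg
  let e : I ≅ kernel g :=
    IsLimit.conePointUniqueUpToIso σ.shortExact.fIsKernel (limit.isLimit _)
  exact ResClass.iso e hI

lemma epiWithKernelIn.prop_src {X Y : C} {g : X ⟶ Y} (hg : epiWithKernelIn P g) (hY : P Y) :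
    P X := by
  obtain ⟨I, hI, f, w, ⟨σ⟩⟩ := hg
  exact ResClass.iso σ.isoBinaryBiproduct.symm (ResClass.biprod _ _ hI hY)

variable (P)

lemma epiWithKernelIn_of_iso {X Y : C} (f : X ⟶ Y) [IsIso f] :
    epiWithKernelIn P f :=
  ⟨0, prop_of_isZero P (isZero_zero C), 0, by simp,
    ⟨ShortComplex.Splitting.ofIsZeroOfIsIso _ (isZero_zero C) (by assumption)⟩⟩

instance : (epiWithKernelIn P).IsMultiplicative where
  id_mem _ := epiWithKernelIn_of_iso P _
  comp_mem {X Y Z} g₁ g₂ hg₁ hg₂ := by
    obtain ⟨I₁, hI₁, f₁, w₁, ⟨σ₁⟩⟩ := hg₁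
    obtain ⟨I₂, hI₂, f₂, w₂, ⟨σ₂⟩⟩ := hg₂
    refine ⟨I₁ ⊞ I₂, ResClass.biprod _ _ hI₁ hI₂,
      biprod.fst ≫ f₁ + biprod.snd ≫ f₂ ≫ σ₁.s, ?_, ⟨?_⟩⟩
    · ext
      · simp [reassoc_of% w₁]
      · simp [reassoc_of% σ₁.s_g, w₂]
    · exact
        { r := σ₁.r ≫ biprod.inl + g₁ ≫ σ₂.r ≫ biprod.inr
          s := σ₂.s ≫ σ₁.s
          f_r := by
            ext
            · simp [σ₁.f_r]
            · simp [reassoc_of% w₁]
            · simp
            · simp [reassoc_of% σ₁.s_g, σ₂.f_r]
          s_g := by simp [reassoc_of% σ₁.s_g, σ₂.s_g]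
          id := by
            dsimp
            have h := g₁ ≫= σ₂.id =≫ σ₁.s
            simp only [add_comp, assoc, comp_add, id_comp] at h
            rw [← σ₁.id, ← h]
            simp only [comp_add, add_comp, assoc, BinaryBicone.inl_fst_assoc,
              BinaryBicone.inr_fst_assoc, zero_comp, comp_zero, add_zero,
              BinaryBicone.inl_snd_assoc, BinaryBicone.inr_snd_assoc, zero_add]
            abel }

/-- Degreewise split epimorphisms with kernel in `P`. -/
def degreewiseEpiWithKernelIn : MorphismProperty (CochainComplex C ℤ) :=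
  fun _ _ φ => ∀ (i : ℤ), epiWithKernelIn P (φ.f i)

instance : (degreewiseEpiWithKernelIn P).IsMultiplicative where
  id_mem _ _ := MorphismProperty.id_mem _ _
  comp_mem _ _ hf hg n := MorphismProperty.comp_mem _ _ _ (hf n) (hg n)

lemma prop_single_X {I : C} (hI : P I) (n q : ℤ) :
    P (((HomologicalComplex.single C (ComplexShape.up ℤ) n).obj I).X q) := by
  by_cases h : q = n
  · subst h
    exact ResClass.iso (HomologicalComplex.singleObjXSelf (ComplexShape.up ℤ) q I).symm hI
  · exact prop_of_isZero P (HomologicalComplex.isZero_single_obj_X (ComplexShape.up ℤ) _ _ _ h)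


/-! ## Port of CM5b -/

section CM5b

open CochainComplex HomComplex

variable {K L : CochainComplex C ℤ} (f : K ⟶ L)

namespace cm5b

variable (K L) in
/-- Given a cochain complex `K`, this is a cochain complex `I K` with
zero differentials which in degree `n` consists of `under P (K.X n)`. -/
@[simps]
noncomputable def I : CochainComplex C ℤ where
  X n := under P (K.X n)
  d _ _ := 0

lemma prop_I_X (n : ℤ) : P ((I P K).X n) := prop_under P _

instance (n : ℤ) [K.IsStrictlyGE n] : (I P K).IsStrictlyGE n := by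
  rw [isStrictlyGE_iff]
  intro i hi
  exact isZero_under P _ (K.isZero_of_isStrictlyGE n i hi)

instance (n : ℤ) [K.IsStrictlyGE (n + 1)] [L.IsStrictlyGE n] :
    (mappingCone (𝟙 (I P K)) ⊞ L).IsStrictlyGE n := by
  rw [isStrictlyGE_iff]
  intro i hi
  refine IsZero.of_iso ?_ ((HomologicalComplex.eval C (ComplexShape.up ℤ) i).mapBiprod _ _)
  simp only [HomologicalComplex.eval_obj, biprod_isZero_iff, mappingCone.isZero_X_iff]
  refine ⟨⟨?_, ?_⟩, L.isZero_of_isStrictlyGE n i hi⟩
  all_goals exact (I P K).isZero_of_isStrictlyGE (n + 1) _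

variable (K L) in
/-- The second projection `mappingCone (𝟙 (I K)) ⊞ L ⟶ L`. -/
noncomputable abbrev p : mappingCone (𝟙 (I P K)) ⊞ L ⟶ L := biprod.snd

set_option backward.isDefEq.respectTransparency false in
/-- A lift of a morphism `f : K ⟶ L` between bounded below cochain complexes
as a monomorphism `K ⟶ mappingCone (𝟙 (I K)) ⊞ L`. -/
noncomputable def i : K ⟶ mappingCone (𝟙 (I P K)) ⊞ L :=
  biprod.lift (mappingCone.lift _
    (HomComplex.Cocycle.mk (HomComplex.Cochain.mk (fun p q _ => K.d p q ≫ underι P _)) 2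
      (by lia) (by
        ext p q hpq
        simp [HomComplex.δ_v 1 2 (by lia) _ p q hpq (p + 1) (p + 1) (by lia) rfl]))
    (HomComplex.Cochain.ofHoms (fun n => underι P _)) (by cat_disch)) f

set_option backward.isDefEq.respectTransparency false in
@[reassoc]
lemma i_f_comp (n : ℤ) : (i P f).f n ≫
    (biprod.fst : mappingCone (𝟙 (I P K)) ⊞ L ⟶ _).f n ≫
      (mappingCone.snd (𝟙 (I P K))).v n n (add_zero n) = underι P (K.X n) := by
  simp [i]

set_option backward.isDefEq.respectTransparency false in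
instance (n : ℤ) : Mono ((i P f).f n) := mono_of_mono_fac (i_f_comp P f n)

instance : Mono (i P f) := HomologicalComplex.mono_of_mono_f (i P f) inferInstance

@[reassoc (attr := simp)]
lemma fac : i P f ≫ p P K L = f := by simp [i]

lemma prop_mappingCone_X (n : ℤ) : P ((mappingCone (𝟙 (I P K))).X n) :=
  ResClass.iso (HomologicalComplex.homotopyCofiber.XIsoBiprod (𝟙 (I P K)) n (n + 1) rfl).symm
    (ResClass.biprod _ _ (prop_I_X P _) (prop_I_X P _))

variable (K L) in
lemma degreewiseEpiWithKernelIn_p :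
    degreewiseEpiWithKernelIn P (p P K L) := by
  intro n
  refine ⟨(mappingCone (𝟙 (I P K))).X n, prop_mappingCone_X P n,
    (biprod.inl :_ ⟶ (mappingCone (𝟙 (I P K))) ⊞ L).f n, ?_,
    ⟨(biprod.fst : (mappingCone (𝟙 (I P K))) ⊞ L ⟶ _).f n,
    (biprod.inr :_ ⟶ (mappingCone (𝟙 (I P K))) ⊞ L).f n, ?_, ?_, ?_⟩⟩
  all_goals simp [← HomologicalComplex.comp_f, ← HomologicalComplex.add_f_apply]

variable (K L) in
/-- The second projection `p K L : mappingCone (𝟙 (I K)) ⊞ L ⟶ L` is a homotopy equivalence. -/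
noncomputable def homotopyEquiv : HomotopyEquiv (mappingCone (𝟙 (I P K)) ⊞ L) L where
  hom := p P K L
  inv := biprod.inr
  homotopyHomInvId :=
    let h₀ : Homotopy (𝟙 (mappingCone (𝟙 (I P K)))) 0 :=
      mappingCone.liftHomotopy _ _ _ (mappingCone.snd _) 0 (by simp) (by simp)
    let h₁ := (h₀.compRight
      (biprod.inl : _ ⟶ mappingCone (𝟙 (I P K)) ⊞ L)).compLeft
        (biprod.fst : mappingCone (𝟙 (I P K)) ⊞ L ⟶ _)
    let h₂ := Homotopy.add h₁ (Homotopy.refl (biprod.snd ≫ biprod.inr))
    (Homotopy.ofEq (by simp [p])).trans (h₂.symm.trans (Homotopy.ofEq (by simp)))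
  homotopyInvHomId := Homotopy.ofEq (by simp)

instance : QuasiIso (p P K L) := (homotopyEquiv P K L).quasiIso_hom

end cm5b

lemma cm5b (n : ℤ) [K.IsStrictlyGE (n + 1)] [L.IsStrictlyGE n] :
    ∃ (L' : CochainComplex C ℤ) (_hL' : L'.IsStrictlyGE n)
      (i : K ⟶ L') (p : L' ⟶ L) (_hi : Mono i)
      (_hp : degreewiseEpiWithKernelIn P p) (_hp' : QuasiIso p),
      i ≫ p = f :=
  ⟨_ , by infer_instance, cm5b.i P f, cm5b.p P K L, inferInstance,
    cm5b.degreewiseEpiWithKernelIn_p P K L, inferInstance, by simp⟩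

end CM5b


/-! ## Port of CM5a -/

/-- A chosen resolving class on `C` (used to keep the port of CM5a close to the original). -/
class HasResClass (C : Type u) [Category.{v} C] [Abelian C] where
  P : ObjectProperty C
  isRes : ResClass P

attribute [instance] HasResClass.isRes

/-- The chosen resolving class. -/
abbrev PP (C : Type u) [Category.{v} C] [Abelian C] [HasResClass C] : ObjectProperty C :=
  HasResClass.P

section CM5a

open CategoryTheory Limits Opposite Abelian HomologicalComplex Pretriangulated CochainComplex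


variable [HasResClass C] {K L : CochainComplex C ℤ} (f : K ⟶ L)

namespace cm5a_cof

/-- Given a morphism `f : K ⟶ L`, this is the property of factorisations
of `f` consisting of a monomorphism followed by a degreewise epimorphism
with injective kernel. -/
def cofFib : ObjectProperty (Factorisation f) :=
  fun F ↦ Mono F.ι ∧ degreewiseEpiWithKernelIn (PP C) F.π

instance (F : (cofFib f).FullSubcategory) : Mono F.obj.ι :=
  F.property.1

variable {f} in
/-- The property that the first morphism of a factorisation is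
a quasi-isomorphisms in degrees `≤ n`. -/
def quasiIsoLE (n : ℤ) : ObjectProperty (cofFib f).FullSubcategory :=
  fun F ↦ ∀ i ≤ n, QuasiIsoAt F.obj.ι i

variable {f} in
/-- The property that the second morphism of a factorisation is
an isomorphism in degrees `≤ n`. -/
def isIsoLE (n : ℤ) : ObjectProperty (cofFib f).FullSubcategory :=
  fun F ↦ ∀ i ≤ n, IsIso (F.obj.π.f i)

namespace step₁


/-!
This section provides the material in order to prove the lemma `step₁` below.
Given a monomorphism `f : K ⟶ L` in `CochainComplex C ℤ` which is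
a quasi-isomorphism in degrees `≤ n₀` (with `n₀ + 1 = n₁`), we construct
a factorization `ι f n₁ ≫ π K L n₁ = f` where the intermediate object
`mid K L n₁` is `S K n₁ ⊞ L`, with `S K n₁` the single complex in degree `n₁`
given by an injective object containing `K.opcycles n₁` (which is a cokernel of
the differential `K.X n₀ ⟶ K.X n₁`).
We obtain that `ι f n₁` is a quasi-isomorphism in degrees `≤ n₀` and
induces a monomorphism in homology in degree `n₀`,
and that `π K L n₁` is an isomorphism in degrees `≤ n₀` that is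
also a degreewise epimorphism with an injective kernel. -/

variable (n₀ n₁ : ℤ) (hn₁ : n₀ + 1 = n₁)

variable (K) in
/-- The single complex in degree `n₁` that is given by an injective
object containing `K.opcycles n₁`. -/
noncomputable abbrev S : CochainComplex C ℤ :=
    ((single C _ n₁).obj (under (PP C) (K.opcycles n₁)))

variable (K L) in
/-- The intermediate object in the factorization. -/
noncomputable abbrev mid := S K n₁ ⊞ L

variable (K) in
/-- The morphim `K ⟶ S K n₁` which in degree `n₁` corresponds to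
the composition `K.X n₁ ⟶ K.opcycles n₁ ⟶ under (PP C) (K.opcycles n₁)`. -/
noncomputable def i : K ⟶ S K n₁ := mkHomToSingle (K.pOpcycles n₁ ≫ underι (PP C) _) (by simp)

/-- The first morphism in the factorization. -/
noncomputable abbrev ι : K ⟶ mid K L n₁ := biprod.lift (i K n₁) f

variable (K L) in
/-- The second morphism in the factorization. -/
noncomputable abbrev π : mid K L n₁ ⟶ L := biprod.snd

variable (K L) in
/-- A section of `π K L n₁` -/
noncomputable abbrev σ : L ⟶ mid K L n₁ := biprod.inr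

@[reassoc]
lemma ι_π : ι f n₁ ≫ π K L n₁ = f := by simp

instance [Mono f] : Mono (ι f n₁) := mono_of_mono_fac (ι_π f n₁)

variable (K L) in
lemma degreewiseEpiWithKernelIn_π :
    degreewiseEpiWithKernelIn (PP C) (π K L n₁) := by
  intro q
  exact ⟨(S K n₁).X q, prop_single_X (PP C) (prop_under _ _) _ _, (biprod.inl : _ ⟶ mid K L n₁).f q, by simp,
    ⟨{ r := (biprod.fst : mid K L n₁ ⟶ _).f q, s := (biprod.inr : _ ⟶ mid K L n₁).f q }⟩⟩

variable (K L) in
lemma isIso_π_f (i : ℤ) (hi : i ≠ n₁ := by lia) :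
    IsIso ((π K L n₁).f i) := by
  refine ⟨(biprod.inr : _ ⟶ mid K L n₁).f i, ?_, by simp⟩
  rw [biprodX_ext_to_iff]
  constructor
  · apply (isZero_single_obj_X (.up ℤ) _ _ _ hi).eq_of_tgt
  · simp

include hn₁ in
variable (K L) in
lemma quasiIsoAt_π (i : ℤ) (hi : i ≤ n₀ := by lia) :
    QuasiIsoAt (π K L n₁) i := by
  obtain (hi | rfl) := hi.lt_or_eq
  · rw [quasiIsoAt_iff' _ (i - 1) i (i + 1) (by simp) (by simp)]
    let φ := (shortComplexFunctor' C _ (i - 1) i (i + 1)).map (π K L n₁)
    have : IsIso φ.τ₁ := isIso_π_f ..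
    have : IsIso φ.τ₂ := isIso_π_f ..
    have : IsIso φ.τ₃ := isIso_π_f ..
    exact ShortComplex.quasiIso_of_epi_of_isIso_of_mono φ
  · rw [quasiIsoAt_iff_isIso_homologyMap]
    have : homologyMap (biprod.inl : _ ⟶ mid K L n₁) i = 0 :=
      (ShortComplex.isZero_homology_of_isZero_X₂ _
        (isZero_single_obj_X (.up ℤ) _ _ _ (by lia))).eq_of_src _ _
    refine ⟨homologyMap (σ K L n₁) i, ?_, ?_⟩
    · simp [← homologyMap_id, ← biprod.total, homologyMap_comp, this]
    · simp [← homologyMap_comp, homologyMap_id]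

variable (hf : ∀ i ≤ n₀, QuasiIsoAt f i)

include hn₁ hf in
lemma quasiIsoAt_ι (i : ℤ) (hi : i ≤ n₀) :
    QuasiIsoAt (ι f n₁) i := by
  have := quasiIsoAt_π K L n₀ n₁ hn₁ i hi
  rw [← quasiIsoAt_iff_comp_right _ (π K L n₁), ι_π]
  exact hf i hi

instance : Mono (homologyMap (ι f n₁) n₁) := by
  let n₀ := n₁ - 1
  rw [mono_homologyMap_iff_up_to_refinements _ n₀ n₁ (n₁ + 1) (by simp; lia) (by simp)]
  intro A x₁ _ y₀ hy₀
  obtain ⟨y₀, rfl⟩ : ∃ (z₁ : A ⟶ L.X n₀), z₁ ≫ (σ K L n₁).f n₀ = y₀ := by
    refine ⟨y₀ ≫ (π K L n₁).f n₀, Eq.trans ?_ (Category.comp_id _)⟩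
    have : (biprod.inl : _ ⟶ mid K L n₁).f n₀ = 0 :=
      (isZero_single_obj_X (.up ℤ) _ _ _ (by lia)).eq_of_src _ _
    simp [this, ← biprod_total_f]
  simp only [Category.assoc, Hom.comm, biprodX_ext_to_iff, biprod_lift_fst_f,
    biprod_inr_fst_f, comp_zero, biprod_lift_snd_f, biprod_inr_snd_f,
    Category.comp_id] at hy₀
  obtain ⟨h₁, h₂⟩ := hy₀
  replace h₁ : x₁ ≫ K.pOpcycles n₁ = 0 := by
    rw [← cancel_mono (underι (PP C) _)]
    simpa [i, ← cancel_mono (singleObjXSelf (.up ℤ) n₁ _).hom] using h₁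
  obtain ⟨A₁, π, _, x₀, hx₀⟩ :=
    (K.comp_pOpcycles_eq_zero_iff_up_to_refinements x₁ n₀ (by simp; lia)).1 h₁
  exact ⟨A₁, π, inferInstance, x₀, hx₀⟩

end step₁

open step₁ in
lemma step₁ [Mono f] (n₀ n₁ : ℤ)
    (hf : ∀ i ≤ n₀, QuasiIsoAt f i) (hn₁ : n₀ + 1 = n₁ := by lia) :
    ∃ (F : (cofFib f).FullSubcategory), quasiIsoLE n₀ F ∧ isIsoLE n₀ F ∧
      Mono (homologyMap F.obj.ι n₁) :=
  ⟨.mk { mid := mid K L n₁, ι := ι f n₁, π := π K L n₁ }
    ⟨inferInstance, degreewiseEpiWithKernelIn_π K L n₁⟩,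
    fun i hi ↦ quasiIsoAt_ι f n₀ n₁ hn₁ hf i hi,
    fun i hi ↦ isIso_π_f K L n₁ i (by lia),
    inferInstance⟩

namespace step₂

/-!
This section provides the material in order to prove the lemma `step₂` below.
Given a monomorphism `f : K ⟶ L` that is a quasi-isomorphism in degrees `< n`
and which induces a monomorphism in homology in degree `n`, we construct
a factorisation of `f` as `ι f n ≫ π f n = f` where
`ι f n : K ⟶ mid f n` is a monomorphism which is a quasi-isomorphism
in degrees `≤ n`, `π f n` is a degreewise epimorphism with an injective kernel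
which also induces isomorphisms in degrees `≤ n`.
-/

open HomComplex

variable (n : ℤ)

/-- Given a morphism `f : K ⟶ L`, this is the single cochain complex in degree `n`
which is given an injective object which contains `((cokernel f).truncGE n).X n`,
i.e. the object in degree `n` of the canonical truncation `≥ n` of `cokernel f`. -/
noncomputable abbrev S :=
  (single C (.up ℤ) n).obj (under (PP C) (((cokernel f).truncGE n).X n))

/-- The morphism `(cokernel f).truncGE n ⟶ S f n` which in degree `n` is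
given by `underι (PP C) _`. -/
noncomputable def p : (cokernel f).truncGE n ⟶ S f n :=
  mkHomToSingle (underι (PP C) _) (fun i hi ↦ by
    simp only [ComplexShape.up_Rel] at hi
    exact (isZero_of_isStrictlyGE _ n _).eq_of_src _ _)

instance : Mono ((p f n).f n) := by
  simp only [p, mkHomToSingle_f, mono_comp_iff_of_mono]
  infer_instance

/-- The obvious morphism `L ⟶ S f n`. -/
noncomputable def α : L ⟶ S f n := cokernel.π f ≫ (cokernel f).πTruncGE n ≫ p f n

@[reassoc (attr := simp)]
lemma comp_α : f ≫ α f n = 0 := by simp [α]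

@[reassoc (attr := simp)]
lemma comp_α_f (i : ℤ) : f.f i ≫ (α f n).f i = 0 := by simp [← comp_f]

/-- The intermediate object in the factorisation. -/
noncomputable abbrev mid := mappingCocone (α f n)

/-- The first morphism of the factorisation. -/
noncomputable abbrev ι : K ⟶ mid f n := mappingCocone.lift (α f n) f 0 (by simp)

/-- The second morphism of the factorisation. -/
noncomputable abbrev π : mid f n ⟶ L := mappingCocone.fst (α f n)

@[reassoc]
lemma ι_π : ι f n ≫ π f n = f := by simp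

instance [Mono f] : Mono (ι f n) := mono_of_mono_fac (ι_π f n)

lemma degreewiseEpiWithKernelIn_π :
    degreewiseEpiWithKernelIn (PP C) (π f n) := by
  intro i
  exact ⟨_, prop_single_X (PP C) (prop_under _ _) _ _, (mappingCocone.inr (α f n)).1.v (i - 1) i (by lia), by simp,
    ⟨{r := (mappingCocone.snd (α f n)).v _ _ (by lia)
      s := (mappingCocone.inl (α f n)).v _ _ (by lia)
      id := (add_comm _ _).trans (by simp [mappingCocone.id_X]) }⟩⟩

lemma isIso_π_f (i : ℤ) (hi : i ≤ n) : IsIso ((π f n).f i) := by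
  refine ⟨(mappingCocone.inl (α f n)).v i i (add_zero i), ?_, by simp⟩
  simp [← mappingCocone.id_X (α f n) i (i - 1) (by lia),
    (isZero_single_obj_X _ _ _ _ (by lia)).eq_of_src
      ((mappingCocone.inr (α f n)).1.v (i - 1) i (by lia)) 0]

section

attribute [local instance] HasDerivedCategory.standard

lemma mono_homologyMap_π (q : ℤ) (hq : q ≤ n) : Mono (homologyMap (π f n) q) :=
  (CochainComplex.homologyMap_exact₁_of_distTriang _
    (DerivedCategory.mappingCocone_triangle_distinguished (α f n)) (q - 1) q (by lia)).mono_g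
      ((ExactAt.isZero_homology (exactAt_single_obj _ _ _ _ (by lia))).eq_of_src _ _)

lemma epi_homologyMap_π (q : ℤ) (hq : q < n) : Epi (homologyMap (π f n) q) :=
  (CochainComplex.homologyMap_exact₂_of_distTriang _
    (DerivedCategory.mappingCocone_triangle_distinguished (α f n)) q).epi_f
      ((ExactAt.isZero_homology (exactAt_single_obj _ _ _ _ (by lia))).eq_of_tgt _ _)

end

lemma quasiIsoAt_π (q : ℤ) (hq : q < n) : QuasiIsoAt (π f n) q := by
  have := mono_homologyMap_π f n q (by lia)
  have := epi_homologyMap_π f n q hq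
  rw [quasiIsoAt_iff_isIso_homologyMap]
  apply Balanced.isIso_of_mono_of_epi

/-- The (exact) short complex `K.homology n ⟶ L.homology n ⟶ (S f n).homology n`. -/
@[simps]
noncomputable def homologyShortComplex : ShortComplex C :=
  ShortComplex.mk (homologyMap f n) (homologyMap (α f n) n) (by
    rw [← homologyMap_comp, comp_α, homologyMap_zero])

instance [Mono (homologyMap f n)] :
    Mono (homologyShortComplex f n).f := by
  assumption

instance : Mono (homologyMap (p f n) n) := by
  have := (S f n).isIso_homologyπ (n - 1) n (by simp) (by simp)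
  have : Mono ((truncGE (cokernel f) n).homologyπ n ≫ homologyMap (p f n) n) := by
    rw [homologyπ_naturality (p f n) n]
    infer_instance
  have := (truncGE (cokernel f) n).isIso_homologyπ (n - 1) n (by simp)
    ((isZero_of_isStrictlyGE _ n _ (by lia)).eq_of_src _ _)
  rw [← IsIso.inv_hom_id_assoc ((truncGE (cokernel f) n).homologyπ n) (homologyMap (p f n) n)]
  infer_instance

lemma shortExact [Mono f] : (ShortComplex.mk _ _ (cokernel.condition f)).ShortExact where
  exact := ShortComplex.exact_of_g_is_cokernel _ (cokernelIsCokernel f)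

set_option backward.defeqAttrib.useBackward true in
lemma exact_homologyShortComplex [Mono f] :
    (homologyShortComplex f n).Exact := by
  let T := ShortComplex.mk (homologyMap f n) (homologyMap (cokernel.π f) n)
    (by rw [← homologyMap_comp, cokernel.condition, homologyMap_zero])
  let φ : T ⟶ homologyShortComplex f n :=
    { τ₁ := 𝟙 _
      τ₂ := 𝟙 _
      τ₃ := homologyMap ((cokernel f).πTruncGE n ≫ p f n) n
      comm₂₃ := by
        dsimp
        rw [Category.id_comp, ← homologyMap_comp, α] }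
  obtain ⟨_, _, _⟩ : Mono φ.τ₃ ∧ IsIso φ.τ₂ ∧ Epi φ.τ₁ := by
    dsimp [φ]
    rw [homologyMap_comp]
    exact ⟨inferInstance, inferInstance, inferInstance⟩
  rw [← ShortComplex.exact_iff_of_epi_of_isIso_of_mono φ]
  exact (shortExact f).homology_exact₂ n

variable (hf : ∀ i < n, QuasiIsoAt f i)

include hf

lemma isGE_cokernel [Mono f] [Mono (homologyMap f n)] : (cokernel f).IsGE n := by
  rw [isGE_iff]
  intro i hi
  rw [exactAt_iff_isZero_homology]
  refine ((shortExact f).homology_exact₃ i (i + 1) (by simp)).isZero_X₂ ?_ ?_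
  · have := hf i hi
    rw [← ((shortExact f).homology_exact₂ i).epi_f_iff]
    infer_instance
  · rw [← ((shortExact f).homology_exact₁ i (i + 1) (by simp)).mono_g_iff]
    by_cases hi' : i + 1 < n
    · have := hf (i + 1) (by lia)
      infer_instance
    · obtain rfl : n = i + 1 := by lia
      infer_instance

lemma quasiIso_truncGEπ [Mono f] [Mono (homologyMap f n)] :
    QuasiIso ((cokernel f).πTruncGE n) := by
  rw [quasiIso_πTruncGE_iff]
  exact isGE_cokernel f n hf

set_option backward.isDefEq.respectTransparency.types false in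
set_option backward.defeqAttrib.useBackward true in
attribute [local instance] HasDerivedCategory.standard in
lemma quasiIsoAt_ι [Mono f] [Mono (homologyMap f n)] (q : ℤ) (hq : q ≤ n) :
    QuasiIsoAt (ι f n) q := by
  obtain hq | rfl := hq.lt_or_eq'
  · have := quasiIsoAt_π f n q hq
    rw [← quasiIsoAt_iff_comp_right _ (π f n), mappingCocone.lift_fst]
    exact hf q hq
  · have := mono_homologyMap_π f n n (by lia)
    have : Mono (homologyMap (mappingCocone.triangle (α f n)).mor₁ n) := by
      dsimp; infer_instance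
    have h₁ := (exact_homologyShortComplex f n).fIsKernel
    have h₂ := (CochainComplex.homologyMap_exact₂_of_distTriang _
      (DerivedCategory.mappingCocone_triangle_distinguished (α f n)) n).fIsKernel
    have : homologyMap (ι f n) n = (IsLimit.conePointUniqueUpToIso h₁ h₂).hom := by
      simp [← cancel_mono (homologyMap (π f n) n),
        dsimp% IsLimit.conePointUniqueUpToIso_hom_comp h₁ h₂ .zero,
        ← homologyMap_comp, mappingCocone.lift_fst]
    rw [quasiIsoAt_iff_isIso_homologyMap, this]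
    infer_instance

end step₂

open step₂ in
lemma step₂ [Mono f] (n₀ n₁ : ℤ)
    (hf : ∀ i ≤ n₀, QuasiIsoAt f i) [Mono (homologyMap f n₁)] (hn₁ : n₀ + 1 = n₁ := by lia) :
    ∃ (F : (cofFib f).FullSubcategory), quasiIsoLE n₁ F ∧ isIsoLE n₁ F :=
  ⟨.mk { mid := mid f n₁, ι := ι f n₁, π := π f n₁}
    ⟨inferInstance, degreewiseEpiWithKernelIn_π f n₁⟩,
    fun i hi ↦ quasiIsoAt_ι f n₁ (fun j hj ↦ hf j (by lia)) _ hi,
    isIso_π_f f n₁⟩

lemma step [Mono f] (n₀ n₁ : ℤ)
    (hf : ∀ i ≤ n₀, QuasiIsoAt f i) (hn₁ : n₀ + 1 = n₁ := by lia) :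
    ∃ (F : (cofFib f).FullSubcategory), quasiIsoLE n₁ F ∧ isIsoLE n₀ F := by
  obtain ⟨F₁, h₁, h₂, _⟩ := step₁ f n₀ n₁ hf
  obtain ⟨F₂, h₃, h₄⟩ := step₂ F₁.obj.ι n₀ n₁ h₁
  refine ⟨.mk { mid := F₂.obj.mid, ι := F₂.obj.ι, π := F₂.obj.π ≫ F₁.obj.π }
    ⟨by dsimp; infer_instance, MorphismProperty.comp_mem _ _ _ F₂.property.2 F₁.property.2⟩,
    ⟨h₃, fun i hi ↦ ?_⟩⟩
  have := h₂ i hi
  have := h₄ i (by lia)
  dsimp
  infer_instance

/-- The category of factorisations of `f` as a monomorphism that is a quasi-isomorphism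
in degrees `≤ n` followed by a degreewise epimorphism with an injective kernel. -/
abbrev CofFibFactorizationQuasiIsoLE (n : ℤ) := (quasiIsoLE (f := f) n).FullSubcategory


namespace CofFibFactorizationQuasiIsoLE

/-- When `K` and `L` are both strictly `≥ n + 1`, this is the factorization `f ≫ 𝟙 L = f`
of a monomorphism `f : K ⟶ L` as a monomorphism that is a quasi-isomorphism in degrees `≤ n`
followed by a degreewise epimorphism with an injective kernel. -/
def zero [Mono f] (n : ℤ) [K.IsStrictlyGE (n + 1)] [L.IsStrictlyGE (n + 1)] :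
    CofFibFactorizationQuasiIsoLE f (n + (0 : ℕ)) :=
  .mk (.mk { mid := L, ι := f, π := 𝟙 L }
    ⟨by assumption, fun i ↦ epiWithKernelIn_of_iso (PP C) (𝟙 (L.X i))⟩)
    (fun i hi ↦ by
      dsimp
      rw [quasiIsoAt_iff_isIso_homologyMap]
      apply IsZero.isIso
      all_goals
      · rw [← exactAt_iff_isZero_homology]
        exact exactAt_of_isGE _ (n + 1) i)

variable {f} in
lemma exists_next {n₀ : ℤ} (F : CofFibFactorizationQuasiIsoLE f n₀)
    (n₁ : ℤ) (hn₁ : n₀ + 1 = n₁) :
    ∃ (F' : CofFibFactorizationQuasiIsoLE f n₁) (g : F'.1 ⟶ F.1),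
      ∀ (i : ℤ) (_ : i ≤ n₀), IsIso (g.hom.h.f i) := by
  obtain ⟨F₁₂, h₁, h₂⟩ := step F.obj.obj.ι n₀ n₁ F.property
  exact ⟨.mk (.mk { mid := F₁₂.obj.mid, ι := F₁₂.obj.ι, π := F₁₂.obj.π ≫ F.obj.obj.π }
    ⟨by dsimp; infer_instance,
      MorphismProperty.comp_mem _ _ _ F₁₂.property.2 F.obj.property.2⟩) h₁,
      ObjectProperty.homMk { h := F₁₂.obj.π }, h₂⟩

variable {f} in
/-- Given `F : CofFibFactorizationQuasiIsoLE f n₀`, this is term in
`CofFibFactorizationQuasiIsoLE f n₁` with `n₀ + 1 = n₁` that is given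
by the lemma `exists_next`. -/
noncomputable def next {n₀ : ℤ} (F : CofFibFactorizationQuasiIsoLE f n₀)
    (n₁ : ℤ) (hn₁ : n₀ + 1 = n₁) :
    CofFibFactorizationQuasiIsoLE f n₁ :=
  (F.exists_next n₁ hn₁).choose

variable {f} in
/-- Given `F : CofFibFactorizationQuasiIsoLE f n₀`, this is the morphism which relates
the intermediate objects in the factorisations `F.next n₁ _` and `F`. -/
noncomputable def fromNext {n₀ : ℤ} (F : CofFibFactorizationQuasiIsoLE f n₀)
    (n₁ : ℤ) (hn₁ : n₀ + 1 = n₁) :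
    (F.next n₁ hn₁).obj ⟶ F.obj :=
  (F.exists_next n₁ hn₁).choose_spec.choose

variable {f} in
lemma isIso_fromNext_hom_h_f {n₀ : ℤ} (F : CofFibFactorizationQuasiIsoLE f n₀)
    (n₁ : ℤ) (hn₁ : n₀ + 1 = n₁) (i : ℤ) (hi : i ≤ n₀) :
    IsIso ((F.fromNext n₁ hn₁).hom.h.f i) :=
  (F.exists_next n₁ hn₁).choose_spec.choose_spec i hi

/-- Assuming `f : K ⟶ L` is a monomorphism between complexes that are strictly `≥ n₀ + 1`,
this is a dependent sequence of terms in `CofFibFactorizationQuasiIsoLE f (n₀ + q)`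
for all `q : ℕ`. -/
noncomputable def sequence
    [Mono f] (n₀ : ℤ) [K.IsStrictlyGE (n₀ + 1)] [L.IsStrictlyGE (n₀ + 1)] :
    ∀ (q : ℕ), CofFibFactorizationQuasiIsoLE f (n₀ + q)
  | 0 => zero f n₀
  | q + 1 => (sequence n₀ q).next _ (by lia)

variable [Mono f] (n₀ : ℤ) [K.IsStrictlyGE (n₀ + 1)] [L.IsStrictlyGE (n₀ + 1)]

/-- The morphism `(sequence f n₀ (q + 1)).obj ⟶ (sequence f n₀ q).obj` given by `fromNext`. -/
noncomputable def toSequenceNext (q : ℕ) :
    (sequence f n₀ (q + 1)).obj ⟶ (sequence f n₀ q).obj :=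
  (sequence f n₀ q).fromNext _ (by lia)

end CofFibFactorizationQuasiIsoLE

variable [Mono f] (n₀ : ℤ) [K.IsStrictlyGE (n₀ + 1)] [L.IsStrictlyGE (n₀ + 1)]

/-- Given a monomorphism `f : K ⟶ L` between complexes that are strictly `≥ n₀ + 1`,
this is a projective system in `(cofFib f).FullSubcategory` given by the
sequence of morphisms `CofFibFactorizationQuasiIsoLE.toSequenceNext`. -/
noncomputable def functor : ℕᵒᵖ ⥤ (cofFib f).FullSubcategory :=
  (Functor.ofSequence (fun q ↦ (CofFibFactorizationQuasiIsoLE.toSequenceNext f n₀ q).op)).leftOp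

set_option backward.defeqAttrib.useBackward true in
lemma isIso_functor_map_hom_h_f {q₁ q₂ : ℕ} (hq : q₁ ≤ q₂) (i : ℤ) (hi : i ≤ n₀ + q₁) :
    IsIso (((functor f n₀).map (homOfLE hq).op).hom.h.f i) := by
  wlog hq' : q₁ + 1 = q₂ generalizing q₁ q₂
  · clear hq'
    obtain ⟨k, hk⟩ := Nat.le.dest hq
    induction k generalizing q₁ q₂ with
    | zero =>
      obtain rfl : q₁ = q₂ := by simpa using hk
      simp only [homOfLE_refl, op_id, CategoryTheory.Functor.map_id,
        ObjectProperty.FullSubcategory.id_hom, Factorisation.id_h, id_f]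
      infer_instance
    | succ k h =>
      rw [← homOfLE_comp (show q₁ ≤ q₁ + k by lia) (show q₁ + k ≤ q₂ by lia),
        op_comp, Functor.map_comp]
      exact IsIso.comp_isIso' (this _ (by lia) (by lia)) (h _ (by lia) rfl)
  subst hq'
  dsimp [functor]
  rw [Functor.ofSequence_map_homOfLE_succ]
  exact CofFibFactorizationQuasiIsoLE.isIso_fromNext_hom_h_f _ _ _ _ hi

/-- Given a monomorphism `f : K ⟶ L` between complexes that are strictly `≥ n₀ + 1`,
this is a projective system in `CochainComplex C ℤ`, whose limit shall give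
the intermediate object in the factorization lemma `cm5a_cof`. -/
noncomputable abbrev cochainComplexFunctor : ℕᵒᵖ ⥤ CochainComplex C ℤ :=
  functor f n₀ ⋙ ObjectProperty.ι _ ⋙ Factorisation.forget

lemma isEventuallyConstantTo (i : ℤ) (q : ℕ) (h : i ≤ n₀ + q := by lia) :
    (cochainComplexFunctor f n₀ ⋙ eval _ _ i).IsEventuallyConstantTo (op q) :=
  fun _ _ ↦ isIso_functor_map_hom_h_f _ _ _ _ (by lia)

instance (i : ℤ) : HasLimit (cochainComplexFunctor f n₀ ⋙ eval _ _ i) :=
  (isEventuallyConstantTo f n₀ i (n₀ - i).natAbs).hasLimit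

/-- Given a monomorphism `f : K ⟶ L` between complexes that are strictly `≥ n₀ + 1`,
this is the limit of the projective system
`cochainComplexFunctor f n₀ : Nᵒᵖ ⥤ CochainComplex C ℤ`: this is the
intermediate object in the factorization lemma `cm5a_cof`. -/
noncomputable abbrev mid : CochainComplex C ℤ := limit (cochainComplexFunctor f n₀)

/-- The projections from `mid f n₀`. -/
noncomputable def midπ (q : ℕ) : mid f n₀ ⟶ ((functor f n₀).obj (op q)).obj.mid :=
  limit.π _ (op q)

@[reassoc (attr := simp)]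
lemma midπ_w (q₁ q₂ : ℕ) (hq : q₁ ≤ q₂) :
    midπ f n₀ q₂ ≫ ((functor f n₀).map (homOfLE hq).op).hom.h =
      midπ f n₀ q₁ :=
  limit.w _ _

@[reassoc (attr := simp)]
lemma midπ_w_f (q₁ q₂ : ℕ) (hq : q₁ ≤ q₂) (i : ℤ) :
    (midπ f n₀ q₂).f i ≫ ((functor f n₀).map (homOfLE hq).op).hom.h.f i =
      (midπ f n₀ q₁).f i := by
  rw [← midπ_w f n₀ q₁ q₂ hq]
  dsimp

lemma isIso_midπ_f (q : ℕ) (i : ℤ) (h : i ≤ n₀ + q := by lia) :
    IsIso ((midπ f n₀ q).f i) :=
  isIso_π_f_of_isLimit_of_isEventuallyConstantTo _ (limit.isLimit _) _ _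
    (isEventuallyConstantTo f n₀ _ _)

lemma quasiIsoAt_midπ (q : ℕ) (i : ℤ) (h : i + 1 ≤ n₀ + q) :
    QuasiIsoAt (midπ f n₀ q) i :=
  quasiIsoAt_π_of_isLimit_of_isEventuallyConstantTo _ (limit.isLimit _)
    (i - 1) i (i + 1) (by simp) (by simp) _
    (isEventuallyConstantTo f n₀ _ _)
    (isEventuallyConstantTo f n₀ _ _)
    (isEventuallyConstantTo f n₀ _ _)

set_option backward.defeqAttrib.useBackward true in
/-- The first morphism `ι f n₀ : K ⟶ mid f n₀` of the factorization lemma `cm5a_cof`. -/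
noncomputable def ι : K ⟶ mid f n₀ :=
  limit.lift _ (Cone.mk _ { app q := ((functor f n₀).obj q).obj.ι })

set_option backward.isDefEq.respectTransparency false in
@[reassoc (attr := simp)]
lemma ι_midπ (q : ℕ) : ι f n₀ ≫ midπ f n₀ q = ((functor f n₀).obj (op q)).obj.ι := by
  simp [ι, midπ]

@[reassoc (attr := simp)]
lemma ι_midπ_f (q : ℕ) (i : ℤ) : (ι f n₀).f i ≫ (midπ f n₀ q).f i =
    ((functor f n₀).obj (op q)).obj.ι.f i := by
  rw [← ι_midπ]
  dsimp

/-- The second morphism `π f n₀ : mid f n₀ ⟶ L` of the factorization lemma `cm5a_cof`. -/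
noncomputable def π : mid f n₀ ⟶ L := midπ f n₀ 0 ≫ ((functor f n₀).obj (op 0)).obj.π

@[reassoc (attr := simp)]
lemma ι_π : ι f n₀ ≫ π f n₀ = f := by
  simp [π]

@[reassoc (attr := simp)]
lemma midπ_π (q : ℕ) : midπ f n₀ q ≫ ((functor f n₀).obj (op q)).obj.π = π f n₀ := by
  simp [π, ← midπ_w_assoc f n₀ 0 q (by lia)]

@[reassoc (attr := simp)]
lemma midπ_π_f (q : ℕ) (i : ℤ) :
    (midπ f n₀ q).f i ≫ ((functor f n₀).obj (op q)).obj.π.f i = (π f n₀).f i := by
  rw [← midπ_π f n₀ q]
  dsimp

set_option backward.isDefEq.respectTransparency false in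
instance : (mid f n₀).IsStrictlyGE (n₀ + 1) := by
  rw [isStrictlyGE_iff]
  intro i hi
  have := isIso_midπ_f f n₀ 0 i
  exact (L.isZero_of_isStrictlyGE (n₀ + 1) i).of_iso (asIso ((midπ f n₀ 0).f i))

instance : Mono (ι f n₀) :=
  HomologicalComplex.mono_of_mono_f _ (fun i ↦ by
    obtain ⟨q, _⟩ : ∃ (q : ℕ), IsIso ((midπ f n₀ q).f i) :=
      ⟨(i - n₀).natAbs, isIso_midπ_f f n₀ _ i⟩
    exact mono_of_mono_fac (ι_midπ_f f n₀ q i))

instance : QuasiIso (ι f n₀) where
  quasiIsoAt i := by
    obtain ⟨q, hq⟩ : ∃ (q : ℕ), i + 1 ≤ n₀ + q := ⟨(i + 1 - n₀).natAbs, by lia⟩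
    have := quasiIsoAt_midπ f n₀ q i hq
    rw [← quasiIsoAt_iff_comp_right _ (midπ f n₀ q), ι_midπ]
    exact (CofFibFactorizationQuasiIsoLE.sequence f n₀ q).property i (by lia)

lemma degreewiseEpiWithKernelIn_π : degreewiseEpiWithKernelIn (PP C) (π f n₀) := by
  intro i
  obtain ⟨q, hq⟩ : ∃ (q : ℕ), i ≤ n₀ + q := ⟨(i - n₀).natAbs, by lia⟩
  rw [← midπ_π_f f n₀ q]
  have := isIso_midπ_f f n₀ q i
  exact MorphismProperty.comp_mem _ _ _
    (epiWithKernelIn_of_iso (PP C) _)
    ((CofFibFactorizationQuasiIsoLE.sequence f n₀ q).obj.property.2 i)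

end cm5a_cof

open cm5a_cof in
lemma cm5a_cof' (n : ℤ) [K.IsStrictlyGE n] [L.IsStrictlyGE n] [Mono f] :
    ∃ (K' : CochainComplex C ℤ) (_hK' : K'.IsStrictlyGE n) (ι : K ⟶ K') (π : K' ⟶ L),
      Mono ι ∧ QuasiIso ι ∧ degreewiseEpiWithKernelIn (PP C) π ∧ ι ≫ π = f := by
  obtain ⟨n, rfl⟩ : ∃ (q : ℤ), n = q + 1 := ⟨n - 1, by simp⟩
  exact ⟨mid f n, inferInstance, ι f n, π f n, inferInstance,
    inferInstance, degreewiseEpiWithKernelIn_π f n, ι_π f n⟩

lemma cm5a' (n : ℤ) [K.IsStrictlyGE (n + 1)] [L.IsStrictlyGE n] :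
    ∃ (K' : CochainComplex C ℤ) (_hK' : K'.IsStrictlyGE n) (ι : K ⟶ K') (π : K' ⟶ L),
      Mono ι ∧ QuasiIso ι ∧ degreewiseEpiWithKernelIn (PP C) π ∧ ι ≫ π = f := by
  have : K.IsStrictlyGE n := K.isStrictlyGE_of_ge n (n + 1) (by lia)
  obtain ⟨L', _, i, p, _, hp, _, rfl⟩ := cm5b (PP C) f n
  obtain ⟨K', _, ι, π, _, _, hπ, rfl⟩ := cm5a_cof' i n
  exact ⟨K', inferInstance, ι, π ≫ p, inferInstance, inferInstance,
    MorphismProperty.comp_mem _ _ _ hπ hp, by simp⟩

end CM5a

section Main

variable (P : ObjectProperty C) [ResClass P] {K L : CochainComplex C ℤ} (f : K ⟶ L)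

/-- **Factorization lemma for a class `P`**: a morphism `f : K ⟶ L` with `K` strictly `≥ n + 1`
and `L` strictly `≥ n` factors as a monomorphism which is a quasi-isomorphism, followed by a
morphism which is degreewise a split epimorphism with kernel in `P`. -/
theorem cm5a (n : ℤ) [K.IsStrictlyGE (n + 1)] [L.IsStrictlyGE n] :
    ∃ (K' : CochainComplex C ℤ) (_hK' : K'.IsStrictlyGE n) (ι : K ⟶ K') (π : K' ⟶ L),
      Mono ι ∧ QuasiIso ι ∧ degreewiseEpiWithKernelIn P π ∧ ι ≫ π = f := by
  letI : HasResClass C := ⟨P, inferInstance⟩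
  exact cm5a' f n

open ZeroObject in
/-- Every bounded below complex admits a monomorphic quasi-isomorphism to a bounded
below complex with terms in `P`. -/
theorem exists_mono_quasiIso (K : CochainComplex C ℤ) (n₀ n₁ : ℤ) (h : n₀ + 1 = n₁)
    [K.IsStrictlyGE n₁] :
    ∃ (L : CochainComplex C ℤ) (i : K ⟶ L) (_hi : Mono i) (_hi' : QuasiIso i)
      (_ : ∀ (n : ℤ), P (L.X n)), L.IsStrictlyGE n₀ := by
  have : K.IsStrictlyGE (n₀ + 1) := by rw [h]; infer_instance
  obtain ⟨L, hL, i, p, hi, hi', hp, _⟩ := cm5a P (0 : K ⟶ 0) n₀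
  refine ⟨L, i, hi, hi', fun n => ?_, hL⟩
  exact (hp n).prop_src (prop_of_isZero P
    ((HomologicalComplex.eval _ _ n).map_isZero (Limits.isZero_zero _)))

end Main

end Groth.Agent.Lib.Helper86.ClassFactor
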