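import Mathlib

/-! Direct sum dévissage helper lemmas (helper86). -/

set_option autoImplicit false
universe u

namespace Groth.Agent.Lib.Helper86.Devissage

section
variable (R : Type u) [CommRing R] (M : Type u) [AddCommGroup M] [Module R M]
  (S : Type u) [LinearOrder S] [WellFoundedLT S] (Mf : S → Submodule R M)

abbrev Idx (S : Type u) [LinearOrder S] := {p : S × S // p.1 ⋖ p.2}

variable {R M S} in
theorem span_le (hlim : ∀ s : S, Order.IsSuccPrelimit s → Mf s = ⨆ t : {t : S // t < s}, Mf t.1)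
    (C : Idx S → Submodule R M) (hC : ∀ p : Idx S, Mf p.1.1 ⊔ C p = Mf p.1.2) (s : S) :
    Mf s ≤ ⨆ p, C p := by
  induction s using WellFoundedLT.induction with
  | ind s ih =>
    by_cases hs : Order.IsSuccPrelimit s
    · rw [hlim s hs]
      exact iSup_le fun t => ih t.1 t.2
    · obtain ⟨s', hs'⟩ := Order.not_isSuccPrelimit_iff.1 hs
      rw [← hC ⟨(s', s), hs'⟩]
      exact sup_le (ih s' hs'.lt) (le_iSup C _)

variable {R M S} in
theorem indep (hmono : Monotone Mf)
    (C : Idx S → Submodule R M) (hC : ∀ p : Idx S, Mf p.1.1 ⊔ C p = Mf p.1.2)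
    (hC' : ∀ p : Idx S, Mf p.1.1 ⊓ C p = ⊥) : iSupIndep C := by
  classical
  rw [iSupIndep_iff_finsetSum_eq_zero_imp_eq_zero]
  intro s
  induction s using Finset.strongInduction with
  | H s ih =>
    intro v hv hsum i hi
    obtain ⟨i₀, hi₀, hmax⟩ := Finset.exists_max_image s (fun p : Idx S => p.1.2) ⟨i, hi⟩
    have hlt : ∀ j ∈ s, j ≠ i₀ → j.1.2 ≤ i₀.1.1 := by
      intro j hj hne
      have h1 : j.1.2 ≤ i₀.1.2 := hmax j hj
      have h2 : j.1.2 ≠ i₀.1.2 := by
        intro heq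
        apply hne
        have h3 : j.1.1 = i₀.1.1 := by
          have hj2 := j.2
          rw [heq] at hj2
          exact hj2.unique_left i₀.2
        exact Subtype.ext (Prod.ext h3 heq)
      exact i₀.2.le_of_lt (lt_of_le_of_ne h1 h2)
    have hmem : ∀ j ∈ s.erase i₀, v j ∈ Mf i₀.1.1 := by
      intro j hj
      have hj' := Finset.mem_erase.1 hj
      have h1 : v j ∈ C j := hv j hj'.2
      have h2 : C j ≤ Mf j.1.2 := by rw [← hC j]; exact le_sup_right
      exact hmono (hlt j hj'.2 hj'.1) (h2 h1)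
    have hsum' : v i₀ + ∑ j ∈ s.erase i₀, v j = 0 := by
      rw [Finset.add_sum_erase s v hi₀]; exact hsum
    have hv0 : v i₀ = 0 := by
      have h1 : v i₀ ∈ Mf i₀.1.1 := by
        have : v i₀ = -∑ j ∈ s.erase i₀, v j := eq_neg_of_add_eq_zero_left hsum'
        rw [this]
        exact Submodule.neg_mem _ (Submodule.sum_mem _ hmem)
      have h2 : v i₀ ∈ Mf i₀.1.1 ⊓ C i₀ := ⟨h1, hv i₀ hi₀⟩
      rw [hC' i₀] at h2
      exact (Submodule.mem_bot R).1 h2
    by_cases hii : i = i₀
    · rw [hii]; exact hv0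
    · have hss : s.erase i₀ ⊂ s := Finset.erase_ssubset hi₀
      have hsum'' : ∑ j ∈ s.erase i₀, v j = 0 := by
        rw [hv0, zero_add] at hsum'; exact hsum'
      exact ih (s.erase i₀) hss v (fun j hj => hv j (Finset.mem_of_mem_erase hj)) hsum'' i
        (Finset.mem_erase.2 ⟨hii, hi⟩)
end

section
variable {R : Type u} [CommRing R] {M : Type u} [AddCommGroup M] [Module R M]

/-- if `P ⊓ C = ⊥` and `P ⊔ C = T` then `C ≃ T ⧸ (P ∩ T)` -/
noncomputable def complEquiv (P C T : Submodule R M) (h1 : P ⊓ C = ⊥) (h2 : P ⊔ C = T) :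
    C ≃ₗ[R] (↥T ⧸ Submodule.comap T.subtype P) := by
  have hCT : C ≤ T := h2 ▸ le_sup_right
  have hPT : P ≤ T := h2 ▸ le_sup_left
  have hcompl : IsCompl (Submodule.comap T.subtype P) (Submodule.comap T.subtype C) := by
    constructor
    · rw [disjoint_iff, ← Submodule.comap_inf, h1]
      ext x
      simp
    · rw [codisjoint_iff, eq_top_iff]
      rintro ⟨x, hx⟩ -
      rw [← h2] at hx
      obtain ⟨y, hy, z, hz, rfl⟩ := Submodule.mem_sup.1 hx
      rw [Submodule.mem_sup]
      exact ⟨⟨y, hPT hy⟩, hy, ⟨z, hCT hz⟩, hz, rfl⟩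
  exact (Submodule.comapSubtypeEquivOfLe hCT).symm.trans
    (Submodule.quotientEquivOfIsCompl _ _ hcompl).symm
end


end Groth.Agent.Lib.Helper86.Devissage
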