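import Groth.Agent.Lib.Helper86.EtAssocQA
import Groth.Agent.Lib.Helper4.GaAcyclic
import Groth.Agent.Lib.Helper4.ZarGa
import Groth.Agent.Lib.Helper68.RightDerivedLES

set_option autoImplicit false
open CategoryTheory Limits AlgebraicGeometry Opposite TensorProduct TopologicalSpace
open Groth.Agent.Lib.Helper4 Groth.Agent.Lib.Helper4.GaCech Groth.Agent.Lib.Helper28
open Groth.Agent.Lib.Helper86.EtAssocRes Groth.Agent.Lib.Helper86.EtAssocQA

universe u

/-! Čech exactness, acyclicity on affines and vanishing of `R^q π_*` for the étale sheaf associated to a quasi-coherent module. -/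

namespace Groth.Agent.Lib.Helper86.EtAssocAcyc

section Shift
open Groth.Agent.Lib.Helper68.RightDerivedLES

/-- generic dimension shifting -/
theorem isZero_rightDerived_succ_of_class {C D : Type*} [Category C] [Category D] [Abelian C]
    [Abelian D] [HasInjectiveResolutions C] [EnoughInjectives C] (Φ : C ⥤ D) [Φ.Additive]
    [PreservesFiniteLimits Φ] (Cls : C → Prop)
    (hstep : ∀ M, Cls M → Cls (ExtAdj.injSC M).X₃ ∧ Epi (Φ.map (ExtAdj.injSC M).g))
    (n : ℕ) : ∀ M, Cls M → IsZero ((Φ.rightDerived (n + 1)).obj M) := by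
  induction n with
  | zero =>
    intro M hM
    obtain ⟨-, hepi⟩ := hstep M hM
    let e := Φ.rightDerivedZeroIsoSelf
    have hS := ExtAdj.injSC_shortExact M
    haveI : Epi (δ Φ hS 0) :=
      epi_δ Φ hS 0 (Functor.isZero_rightDerived_obj_injective_succ Φ 0 (ExtAdj.injSC M).X₂)
    have h0 : Φ.map (ExtAdj.injSC M).g ≫ (e.inv.app (ExtAdj.injSC M).X₃ ≫ δ Φ hS 0) = 0 := by
      rw [← Category.assoc, e.inv.naturality, Category.assoc, map_g_δ, comp_zero]
    have h1 : e.inv.app (ExtAdj.injSC M).X₃ ≫ δ Φ hS 0 = 0 := by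
      rw [← cancel_epi (Φ.map (ExtAdj.injSC M).g), h0, comp_zero]
    haveI : Epi (e.inv.app (ExtAdj.injSC M).X₃ ≫ δ Φ hS 0) := epi_comp _ _
    apply (IsZero.iff_id_eq_zero _).2
    refine (cancel_epi (e.inv.app (ExtAdj.injSC M).X₃ ≫ δ Φ hS 0)
      (g := 𝟙 ((Φ.rightDerived (0 + 1)).obj (ExtAdj.injSC M).X₁)) (h := 0)).1 ?_
    rw [Category.comp_id, comp_zero]
    exact h1
  | succ n ih =>
    intro M hM
    obtain ⟨hQ, -⟩ := hstep M hM
    have hS := ExtAdj.injSC_shortExact M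
    haveI : Epi (δ Φ hS (n + 1)) :=
      epi_δ Φ hS (n + 1)
        (Functor.isZero_rightDerived_obj_injective_succ Φ (n + 1) (ExtAdj.injSC M).X₂)
    have hz : IsZero ((Φ.rightDerived (n + 1)).obj (ExtAdj.injSC M).X₃) := ih _ hQ
    apply (IsZero.iff_id_eq_zero _).2
    refine (cancel_epi (δ Φ hS (n + 1))
      (g := 𝟙 ((Φ.rightDerived (n + 1 + 1)).obj (ExtAdj.injSC M).X₁)) (h := 0)).1 ?_
    rw [Category.comp_id, comp_zero]
    exact hz.eq_of_src _ _

end Shift


variable {S : Scheme.{u}} {F : S.Modules} {G : EtCoh.Ab S} (D : AssocData F G)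

section Iso
variable (U : S.Etale) [HasFiniteProducts (Over U)]

variable (F) in
lemma isIso_tauApp [F.IsQuasicoherent] (V W : Over U) [IsAffine U.left] [IsAffine V.left.left]
    [IsAffine W.left.left] : IsIso (tauApp F U V W) := by
  have hp := (isPullback_sch U V W).flip
  have hpo := isPushout_appTop_of_isPullback hp
  haveI hVW : IsAffine ((CechSplit.mulL V).obj W).left.left := IsAffine.of_isPullback hp
  letI := algW U V
  letI := algW U W
  letI := modW F U W
  letI := modW F U ((CechSplit.mulL V).obj W)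
  haveI : IsScalarTower Γ(U.left, ⊤) Γ(W.left.left, ⊤) (EtAssoc.obj F W.left) :=
    ⟨fun r s x => mul_smul _ _ _⟩
  have hb := Groth.Agent.Lib.Helper86.TauM.tauM_bijective (R := Γ(U.left, ⊤))
    (S := Γ(W.left.left, ⊤))
    (T := Γ(V.left.left, ⊤)) (P := Γ(((CechSplit.mulL V).obj W).left.left, ⊤))
    (inl := (psnd U V W).left.left.appTop.hom) (inr := (pfst U V W).left.left.appTop.hom) hpo
    (N := EtAssoc.obj F W.left) (N' := EtAssoc.obj F ((CechSplit.mulL V).obj W).left)
    (EtAssoc.resMap F (psnd U V W).left).hom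
    (fun s x => resMap_smul' F _ s x)
    (fun Q _ _ l hl => resMap_existsUnique F (psnd U V W).left Q l (fun a x => by
      rw [appLE_top_eq]; exact hl a x))
    (tauLin F U V W).toAddMonoidHom (fun x t => rfl)
  exact (ConcreteCategory.isIso_iff_bijective (tauApp F U V W)).2 hb

include D in
theorem cech_exactAt [F.IsQuasicoherent] [IsAffine U.left] {ι : Type (u + 1)} [Finite ι]
    (Y : ι → Over U) [∀ j, HasFiniteProducts (Over (Y j))]
    (hY : ∀ i, IsAffine (Y i).left.left)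
    (hcov : Sieve.ofArrows (fun i => (Y i).left) (fun i => (Y i).hom) ∈ S.smallEtaleTopology U)
    (p : ℕ) :
    ((cechComplexFunctor Y).obj ((Over.forget U).op ⋙ G.obj)).ExactAt (p + 1) := by
  have hY' : ∀ i, IsAffine (Y i).left.left := hY
  letI : ∀ j, Algebra Γ(U.left, ⊤) Γ((Y j).left.left, ⊤) := fun j => algW U (Y j)
  have hflat : ∀ j, Module.Flat Γ(U.left, ⊤) Γ((Y j).left.left, ⊤) := fun j => flat_algW U (Y j)
  have hsurj : ∀ m : Ideal Γ(U.left, ⊤), m.IsMaximal →
      ∃ j, m.map (algebraMap Γ(U.left, ⊤) Γ((Y j).left.left, ⊤)) ≠ ⊤ :=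
    fun m hm => map_ne_top U Y hcov m hm
  have hτ : ∀ (j : ι) (n : SimplexCategory) (a : ToType n → ι),
      IsIso ((tau D U (Y j)).app (op (∏ᶜ (Y ∘ a)))) := by
    intro j n a
    have := isAffine_prod U Y hY n.len a
    exact isIso_tauApp F U (Y j) (∏ᶜ (Y ∘ a))
  have h := CechDescent.exactAt_of_descent Y (QA D U) (fun j => Γ((Y j).left.left, ⊤)) hsurj
    (fun j => tau D U (Y j)) hτ p
  have h2 := CechDescent.exactAt_forget₂ Y (QA D U) p h
  exact h2.of_iso ((cechComplexFunctor Y).mapIso (QAforgetIso D U))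

end Iso

include D in
theorem ext_vanish [F.IsQuasicoherent] (T : EtCoh.Ab S) (U₀ : S.Etale) (hU₀ : IsAffine U₀.left)
    (hT : ∀ (G' H : EtCoh.Ab S) (g : G' ⟶ H),
      Function.Surjective (g.hom.app (op U₀)) → ∀ x : T ⟶ H, ∃ y : T ⟶ G', y ≫ g = x)
    (n : ℕ) (x : Abelian.Ext.{u + 1} T G (n + 1)) : x = 0 := by
  refine CartanG.cartan (GaAcyclic.Baff S) (GaAcyclic.CovAff S) ?_ ?_ T U₀ hU₀ hT G ?_ n x
  · intro U ι Y h
    obtain ⟨hfin, hU, hcov, hY⟩ := h
    refine ⟨hU, hcov, fun p a => ?_⟩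
    have : IsAffine U.left := hU
    exact GaCech.isAffine_prod U Y hY p a
  · intro U hU T hT
    have : IsAffine U.left := hU
    obtain ⟨ι, hfin, Y, f, hYa, hfT, hcov⟩ := EtQc.exists_finite_affine_refinement U T hT
    exact ⟨ι, fun i => Over.mk (f i), ⟨hfin, hU, hcov, hYa⟩, hfT⟩
  · intro U ι Y h p
    obtain ⟨hfin, hU, hcov, hY⟩ := h
    have : IsAffine U.left := hU
    have := cech_exactAt D U Y hY hcov p
    exact this.isZero_homology

include D in
theorem 𝒢_assoc [F.IsQuasicoherent] : ZarGa.𝒢 S G := fun U₀ hU₀ n x =>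
  ext_vanish D (ZarGa.PP S U₀) U₀ hU₀ (ZarGa.PP_lift S U₀) n x


include D in
theorem isZero_rightDerived_resZar [F.IsQuasicoherent] [EtZar.ZarCont S]
    [(EtZar.resZar S).Additive] (n : ℕ) :
    IsZero (((EtZar.resZar S).rightDerived (n + 1)).obj G) := by
  haveI : PreservesFiniteLimits (EtZar.resZar S) :=
    Groth.Agent.Lib.Helper57.ZarHens.resZar_preservesFiniteLimits S
  refine isZero_rightDerived_succ_of_class (EtZar.resZar S) (ZarGa.𝒢 S) ?_ n G (𝒢_assoc D)
  intro M hM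
  exact ⟨ZarGa.𝒢_coker S M hM,
    (ZarGa.shortExact_map_resZar S _ (ExtAdj.injSC_shortExact M) hM).epi_g⟩

theorem assocData_of_isAssoc (hG : EtAssoc.IsAssoc F G) : Nonempty (AssocData F G) := by
  obtain ⟨e, he⟩ := hG
  exact ⟨⟨e, he⟩⟩

end Groth.Agent.Lib.Helper86.EtAssocAcyc
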