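import Mathlib

set_option autoImplicit false
open CategoryTheory Limits TensorProduct

universe u

/-! Pure algebra: base change of a module along a pushout of rings, in the `ULift` form used for Čech descent. -/

namespace Groth.Agent.Lib.Helper86.TauM

theorem tauM_bijective {R S T P : Type u} [CommRing R] [CommRing S] [CommRing T] [CommRing P]
    [Algebra R S] [Algebra R T] (inl : S →+* P) (inr : T →+* P)
    (h : IsPushout (CommRingCat.ofHom (algebraMap R S)) (CommRingCat.ofHom (algebraMap R T))
      (CommRingCat.ofHom inl) (CommRingCat.ofHom inr))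
    {N N' : Type u} [AddCommGroup N] [Module S N] [Module R N] [IsScalarTower R S N]
    [AddCommGroup N'] [Module P N']
    (ρ : N →+ N') (hρ : ∀ (s : S) (x : N), ρ (s • x) = inl s • ρ x)
    (huniv : ∀ (Q : Type u) [AddCommGroup Q] [Module P Q] (l : N →+ Q),
        (∀ (s : S) (x : N), l (s • x) = inl s • l x) →
        ∃! α : N' →ₗ[P] Q, ∀ x, α (ρ x) = l x)
    (τ : ULift.{u + 1} N ⊗[R] T →+ ULift.{u + 1} N')
    (hτ : ∀ (x : ULift.{u + 1} N) (t : T), τ (x ⊗ₜ t) = ⟨inr t • ρ x.down⟩) :
    Function.Bijective τ := by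
  letI algSP : Algebra S P := inl.toAlgebra
  letI algTP : Algebra T P := inr.toAlgebra
  letI algRP : Algebra R P := (inl.comp (algebraMap R S)).toAlgebra
  haveI st1 : IsScalarTower R S P := IsScalarTower.of_algebraMap_eq (fun r => rfl)
  haveI st2 : IsScalarTower R T P := IsScalarTower.of_algebraMap_eq (fun r => by
    have := congrArg (fun f => f.hom r) h.w
    exact this)
  have hpush : Algebra.IsPushout R S T P := CommRingCat.isPushout_iff_isPushout.mp h
  haveI hpush' : Algebra.IsPushout R T S P := hpush.symm
  letI modSN' : Module S N' := Module.compHom N' inl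
  haveI st3 : IsScalarTower S P N' := ⟨fun s p x => by
    change (s • p) • x = inl s • (p • x)
    rw [Algebra.smul_def, mul_smul]; rfl⟩
  let ρ' : N →ₗ[S] N' := { toFun := ρ, map_add' := map_add ρ, map_smul' := fun s x => hρ s x }
  have hbc : IsBaseChange P ρ' := by
    apply IsBaseChange.of_lift_unique
    intro Q _ _ _ _ g
    letI : AddCommGroup Q := Module.addCommMonoidToAddCommGroup P
    obtain ⟨α, hα, huniq⟩ := huniv Q g.toAddMonoidHom (fun s x => by
      change g (s • x) = inl s • g x
      rw [map_smul]
      exact (algebraMap_smul P s (g x)).symm)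
    refine ⟨α, ?_, ?_⟩
    · ext x
      exact hα x
    · intro β hβ
      exact huniq β (fun x => by
        have := congrArg (fun f => f x) hβ
        exact this)
  let E1 : P ⊗[S] N ≃ₗ[T] T ⊗[R] N := Algebra.IsPushout.cancelBaseChange R T S P N
  let E2 : P ⊗[S] N ≃ₗ[P] N' := hbc.equiv
  let c : ULift.{u + 1} N ⊗[R] T ≃ₗ[R] N ⊗[R] T :=
    TensorProduct.congr ULift.moduleEquiv (LinearEquiv.refl R T)
  let cm : N ⊗[R] T ≃ₗ[R] T ⊗[R] N := TensorProduct.comm R N T
  have key : ∀ z, τ z = ⟨E2 (E1.symm (cm (c z)))⟩ := by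
    intro z
    induction z using TensorProduct.induction_on with
    | zero =>
      rw [map_zero, map_zero, map_zero, map_zero, map_zero]
      rfl
    | tmul x t =>
      rw [hτ]
      change _ = ULift.up (E2 (E1.symm (t ⊗ₜ x.down)))
      rw [Algebra.IsPushout.cancelBaseChange_symm_tmul, IsBaseChange.equiv_tmul]
      rfl
    | add x y hx hy =>
      rw [map_add, hx, hy, map_add, map_add, map_add, map_add]
      rfl
  have : (τ : _ → _) = Equiv.ulift.symm ∘ E2 ∘ E1.symm ∘ cm ∘ c := by
    funext z
    exact key z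
  rw [this]
  exact Equiv.ulift.symm.bijective.comp (E2.bijective.comp (E1.symm.bijective.comp
    (cm.bijective.comp c.bijective)))

end Groth.Agent.Lib.Helper86.TauM
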