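import Groth.Agent.Lib.Helper86.EtAssocRes
import Groth.Agent.Lib.Helper86.TauM

set_option autoImplicit false
open CategoryTheory Limits AlgebraicGeometry Opposite TensorProduct TopologicalSpace
open Groth.Agent.Lib.Helper4 Groth.Agent.Lib.Helper86.EtAssocRes

universe u

/-! The module-valued presheaf `QA` on `Over U` attached to an étale sheaf associated to a quasi-coherent module, and the comparison maps `tau`. -/

namespace Groth.Agent.Lib.Helper86.EtAssocQA

variable {S : Scheme.{u}} (F : S.Modules) (G : EtCoh.Ab S)

/-- the data of `EtAssoc.IsAssoc` -/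
structure AssocData where
  e : ∀ U : S.Etale, (G.obj.obj (op U) : Type (u + 1)) ≃+ ULift.{u + 1} (EtAssoc.obj F U)
  he : ∀ (U U' : S.Etale) (g : U' ⟶ U) (s : G.obj.obj (op U)),
      (e U' (G.obj.map g.op s)).down = EtAssoc.resMap F g (e U s).down

variable {F G} (D : AssocData F G)

theorem resMap_eq_e {U U' : S.Etale} (g : U' ⟶ U) (x : EtAssoc.obj F U) :
    EtAssoc.resMap F g x = (D.e U' (G.obj.map g.op ((D.e U).symm ⟨x⟩))).down := by
  rw [D.he, AddEquiv.apply_symm_apply]

include D in
theorem resMap_id (U : S.Etale) (x : EtAssoc.obj F U) : EtAssoc.resMap F (𝟙 U) x = x := by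
  rw [resMap_eq_e D, op_id, G.obj.map_id]
  change (D.e U ((D.e U).symm ⟨x⟩)).down = x
  rw [AddEquiv.apply_symm_apply]

include D in
theorem resMap_comp {U U' U'' : S.Etale} (g : U' ⟶ U) (g' : U'' ⟶ U') (x : EtAssoc.obj F U) :
    EtAssoc.resMap F (g' ≫ g) x = EtAssoc.resMap F g' (EtAssoc.resMap F g x) := by
  rw [resMap_eq_e D (g' ≫ g), resMap_eq_e D g', resMap_eq_e D g, op_comp, G.obj.map_comp]
  change _ = (D.e U'' (G.obj.map g'.op ((D.e U').symm (D.e U' _)))).down
  rw [AddEquiv.symm_apply_apply]
  rfl


variable (F) (U : S.Etale)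

@[reducible] noncomputable def modW (W : Over U) : Module Γ(U.left, ⊤) (EtAssoc.obj F W.left) :=
  Module.compHom _ (W.hom.left).appTop.hom

theorem modW_smul (W : Over U) (a : Γ(U.left, ⊤)) (x : EtAssoc.obj F W.left) :
    letI := modW F U W
    a • x = (W.hom.left).appTop.hom a • x := rfl

noncomputable def QAobj (W : Over U) : ModuleCat.{u + 1} Γ(U.left, ⊤) :=
  letI := modW F U W
  ModuleCat.of Γ(U.left, ⊤) (ULift.{u + 1} (EtAssoc.obj F W.left))

noncomputable def QAmap {W W' : Over U} (g : W' ⟶ W) : QAobj F U W ⟶ QAobj F U W' :=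
  letI := modW F U W
  letI := modW F U W'
  ModuleCat.ofHom (X := ULift.{u + 1} (EtAssoc.obj F W.left))
    (Y := ULift.{u + 1} (EtAssoc.obj F W'.left))
    { toFun := fun x => ⟨EtAssoc.resMap F g.left x.down⟩
      map_add' := fun x y => by
        apply ULift.ext
        exact map_add (EtAssoc.resMap F g.left).hom _ _
      map_smul' := fun a x => by
        apply ULift.ext
        change EtAssoc.resMap F g.left ((W.hom.left).appTop.hom a • x.down) =
          (W'.hom.left).appTop.hom a • EtAssoc.resMap F g.left x.down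
        rw [resMap_smul', GaCech.appTop_comp] }

theorem QAmap_apply {W W' : Over U} (g : W' ⟶ W) (x : ULift.{u + 1} (EtAssoc.obj F W.left)) :
    (QAmap F U g).hom x = ⟨EtAssoc.resMap F g.left x.down⟩ := rfl

variable {F}

noncomputable def QA : (Over U)ᵒᵖ ⥤ ModuleCat.{u + 1} Γ(U.left, ⊤) where
  obj W := QAobj F U W.unop
  map g := QAmap F U g.unop
  map_id W := by
    apply ModuleCat.hom_ext
    apply LinearMap.ext
    intro x
    apply ULift.ext
    exact resMap_id D W.unop.left x.down
  map_comp f g := by
    apply ModuleCat.hom_ext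
    apply LinearMap.ext
    intro x
    apply ULift.ext
    exact resMap_comp D f.unop.left g.unop.left x.down

noncomputable def QAforgetIso :
    QA D U ⋙ forget₂ (ModuleCat.{u + 1} Γ(U.left, ⊤)) AddCommGrpCat.{u + 1} ≅
      (Over.forget U).op ⋙ G.obj :=
  NatIso.ofComponents (fun W => (D.e W.unop.left).symm.toAddCommGrpIso) (by
    intro W W' g
    ext x
    change (D.e W'.unop.left).symm ⟨EtAssoc.resMap F g.unop.left x.down⟩ =
      G.obj.map g.unop.left.op ((D.e W.unop.left).symm x)
    apply (D.e W'.unop.left).injective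
    rw [AddEquiv.apply_symm_apply]
    apply ULift.ext
    rw [D.he]
    change _ = EtAssoc.resMap F g.unop.left
      ((D.e W.unop.left) ((D.e W.unop.left).symm (show ULift.{u + 1} (EtAssoc.obj F W.unop.left) from x))).down
    rw [AddEquiv.apply_symm_apply])


variable [HasFiniteProducts (Over U)]

open GaCech

variable (F) in
noncomputable def tauLin (V W : Over U) :
    letI := algW U V
    letI := modW F U W
    letI := modW F U ((CechSplit.mulL V).obj W)
    ULift.{u + 1} (EtAssoc.obj F W.left) ⊗[Γ(U.left, ⊤)] Γ(V.left.left, ⊤) →ₗ[Γ(U.left, ⊤)]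
      ULift.{u + 1} (EtAssoc.obj F ((CechSplit.mulL V).obj W).left) :=
  letI := algW U V
  letI := modW F U W
  letI := modW F U ((CechSplit.mulL V).obj W)
  TensorProduct.lift (LinearMap.mk₂ Γ(U.left, ⊤)
    (fun (x : ULift.{u + 1} (EtAssoc.obj F W.left)) (b : Γ(V.left.left, ⊤)) =>
      (⟨(pfst U V W).left.left.appTop.hom b • EtAssoc.resMap F (psnd U V W).left x.down⟩ :
        ULift.{u + 1} (EtAssoc.obj F ((CechSplit.mulL V).obj W).left)))
    (fun x y b => by
      apply ULift.ext
      change _ • EtAssoc.resMap F (psnd U V W).left (x.down + y.down) = _ • _ + _ • _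
      rw [map_add, smul_add])
    (fun c x b => by
      apply ULift.ext
      change (pfst U V W).left.left.appTop.hom b •
          EtAssoc.resMap F (psnd U V W).left ((W.hom.left).appTop.hom c • x.down) =
        (((CechSplit.mulL V).obj W).hom.left).appTop.hom c •
          ((pfst U V W).left.left.appTop.hom b • EtAssoc.resMap F (psnd U V W).left x.down)
      rw [resMap_smul', appTop_comp U (psnd U V W), smul_comm])
    (fun x b b' => by
      apply ULift.ext
      change (pfst U V W).left.left.appTop.hom (b + b') • _ = _ • _ + _ • _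
      rw [map_add, add_smul])
    (fun c x b => by
      apply ULift.ext
      change (pfst U V W).left.left.appTop.hom ((V.hom.left).appTop.hom c * b) •
          EtAssoc.resMap F (psnd U V W).left x.down =
        (((CechSplit.mulL V).obj W).hom.left).appTop.hom c •
          ((pfst U V W).left.left.appTop.hom b • EtAssoc.resMap F (psnd U V W).left x.down)
      rw [map_mul, appTop_comp U (pfst U V W), mul_smul]))


variable (F) in
theorem tauLin_tmul (V W : Over U) (x : ULift.{u + 1} (EtAssoc.obj F W.left))
    (b : Γ(V.left.left, ⊤)) :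
    letI := algW U V
    letI := modW F U W
    letI := modW F U ((CechSplit.mulL V).obj W)
    tauLin F U V W (x ⊗ₜ b) =
      ⟨(pfst U V W).left.left.appTop.hom b • EtAssoc.resMap F (psnd U V W).left x.down⟩ := rfl

variable (F) in
noncomputable def tauApp (V W : Over U) :
    letI := algW U V
    (FFDescent.tens Γ(V.left.left, ⊤)).obj (QAobj F U W) ⟶ QAobj F U ((CechSplit.mulL V).obj W) :=
  letI := algW U V
  letI := modW F U W
  letI := modW F U ((CechSplit.mulL V).obj W)
  ModuleCat.ofHom (tauLin F U V W)

theorem left_mulL_map_snd (V : Over U) {W W' : Over U} (g : W' ⟶ W) :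
    ((CechSplit.mulL V).map g).left ≫ (psnd U V W).left = (psnd U V W').left ≫ g.left := by
  rw [← Over.comp_left, ← Over.comp_left, mulL_map_snd]

theorem left_mulL_map_fst (V : Over U) {W W' : Over U} (g : W' ⟶ W) :
    ((CechSplit.mulL V).map g).left ≫ (pfst U V W).left = (pfst U V W').left := by
  rw [← Over.comp_left, mulL_map_fst]

set_option maxHeartbeats 1600000 in
noncomputable def tau (V : Over U) :
    letI := algW U V
    QA D U ⋙ FFDescent.tens Γ(V.left.left, ⊤) ⟶ (CechSplit.mulL V).op ⋙ QA D U :=
  letI := algW U V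
  { app := fun W => tauApp F U V W.unop
    naturality := by
      intro W W' g
      apply ModuleCat.hom_ext
      apply TensorProduct.ext'
      intro x b
      apply ULift.ext
      change (pfst U V W'.unop).left.left.appTop.hom b •
          EtAssoc.resMap F (psnd U V W'.unop).left (EtAssoc.resMap F g.unop.left x.down) =
        EtAssoc.resMap F ((CechSplit.mulL V).map g.unop).left
          ((pfst U V W.unop).left.left.appTop.hom b •
            EtAssoc.resMap F (psnd U V W.unop).left x.down)
      rw [resMap_smul', fst_nat, ← resMap_comp D, ← resMap_comp D, left_mulL_map_snd] }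

end Groth.Agent.Lib.Helper86.EtAssocQA
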