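import Groth.Prelude.Def_EtAssoc2
import Groth.Prelude.Def_EtZar
import Groth.Prelude.Def_Coh
import Groth.Prelude.Def_EtBase
import Groth.Agent.Lib.Helper48.OmegaAff1
import Groth.Agent.Lib.Helper4.GaCechVanish

set_option autoImplicit false
open CategoryTheory Limits AlgebraicGeometry Opposite TensorProduct TopologicalSpace
open Groth.Agent.Lib.Helper48.OmegaAff

universe u

/-! Sections of the etale presheaf `U ↦ Γ(U, u^*F)`: semilinearity and base-change universal property of `EtAssoc.resMap`. -/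

namespace Groth.Agent.Lib.Helper86.EtAssocRes

variable {S : Scheme.{u}} (F : S.Modules)

/-- the pulled back module on an etale scheme -/
noncomputable abbrev H (W : S.Etale) : W.left.Modules := (Scheme.Modules.pullback W.hom).obj F

theorem obj_eq (W : S.Etale) : EtAssoc.obj F W = Γ(H F W, ⊤) := rfl

noncomputable instance modObj (W : S.Etale) : Module Γ(W.left, ⊤) (EtAssoc.obj F W) :=
  inferInstanceAs (Module Γ(W.left, ⊤) Γ(H F W, ⊤))

variable {U U' : S.Etale} (g : U' ⟶ U)

theorem le_pre : (⊤ : U'.left.Opens) ≤ g.left ⁻¹ᵁ ⊤ := le_of_eq (Opens.map_top g.left.base).symm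

theorem step1_eq (x : EtAssoc.obj F U) :
    EtAssoc.step1 F g x = pullRes g.left (H F U) (le_pre g) x := by
  rfl

theorem step1_smul (a : Γ(U.left, ⊤)) (x : EtAssoc.obj F U) :
    EtAssoc.step1 F g (a • x) = g.left.appLE ⊤ ⊤ (le_pre g) a • EtAssoc.step1 F g x := by
  rw [step1_eq, step1_eq]
  exact pullRes_smul g.left (H F U) (le_pre g) a x


noncomputable instance : IsIso (EtAssoc.step2a F g) := by
  unfold EtAssoc.step2a
  infer_instance

theorem step2_eq (y : Γ((Scheme.Modules.pullback g.left).obj (H F U), ⊤)) :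
    EtAssoc.step2 F g y = (EtAssoc.step2a F g).app ⊤ y := rfl

theorem step2_smul (b : Γ(U'.left, ⊤)) (y : Γ((Scheme.Modules.pullback g.left).obj (H F U), ⊤)) :
    EtAssoc.step2 F g (b • y) = b • EtAssoc.step2 F g y := by
  rw [step2_eq, step2_eq]
  exact Scheme.Modules.Hom.app_smul _ b y

theorem step2_bijective : Function.Bijective (EtAssoc.step2 F g) := by
  have : IsIso ((EtAssoc.step2a F g).app ⊤) := inferInstance
  exact (ConcreteCategory.isIso_iff_bijective ((EtAssoc.step2a F g).app ⊤)).1 this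

theorem resMap_eq (x : EtAssoc.obj F U) :
    EtAssoc.resMap F g x = EtAssoc.step2 F g (EtAssoc.step1 F g x) := rfl

theorem resMap_smul (a : Γ(U.left, ⊤)) (x : EtAssoc.obj F U) :
    EtAssoc.resMap F g (a • x) = g.left.appLE ⊤ ⊤ (le_pre g) a • EtAssoc.resMap F g x := by
  rw [resMap_eq, resMap_eq, step1_smul, step2_smul]


noncomputable def step2Equiv :
    Γ((Scheme.Modules.pullback g.left).obj (H F U), ⊤) ≃ₗ[Γ(U'.left, ⊤)] EtAssoc.obj F U' :=
  LinearEquiv.ofBijective
    { toFun := fun y => EtAssoc.step2 F g y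
      map_add' := fun y z => map_add (EtAssoc.step2 F g).hom y z
      map_smul' := fun b y => step2_smul F g b y } (step2_bijective F g)

theorem step2Equiv_apply (y : Γ((Scheme.Modules.pullback g.left).obj (H F U), ⊤)) :
    step2Equiv F g y = EtAssoc.step2 F g y := rfl

theorem resMap_existsUnique [F.IsQuasicoherent] [IsAffine U.left] [IsAffine U'.left]
    (Q : Type u) [AddCommGroup Q] [Module Γ(U'.left, ⊤) Q] (l : EtAssoc.obj F U →+ Q)
    (hl : ∀ (a : Γ(U.left, ⊤)) (x : EtAssoc.obj F U),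
      l (a • x) = g.left.appLE ⊤ ⊤ (le_pre g) a • l x) :
    ∃! α : EtAssoc.obj F U' →ₗ[Γ(U'.left, ⊤)] Q, ∀ x, α (EtAssoc.resMap F g x) = l x := by
  obtain ⟨α₀, hα₀, huniq⟩ := existsUnique_of_semilinear g.left (H F U) (isAffineOpen_top _)
    (isAffineOpen_top _) (le_pre g) Q l hl
  refine ⟨α₀.comp (step2Equiv F g).symm.toLinearMap, ?_, ?_⟩
  · intro x
    change α₀ ((step2Equiv F g).symm (EtAssoc.resMap F g x)) = l x
    rw [resMap_eq, ← step2Equiv_apply, LinearEquiv.symm_apply_apply, step1_eq]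
    exact hα₀ x
  · intro β hβ
    have h1 : β.comp (step2Equiv F g).toLinearMap = α₀ := huniq _ (fun m => by
      change β (step2Equiv F g (pullRes g.left (H F U) (le_pre g) m)) = l m
      exact hβ m)
    rw [← h1]
    ext y
    simp


theorem appLE_top_eq {X Y : Scheme.{u}} (f : X ⟶ Y) (h : (⊤ : X.Opens) ≤ f ⁻¹ᵁ ⊤) :
    f.appLE ⊤ ⊤ h = f.appTop := by
  rw [Scheme.Hom.appLE]
  have : (homOfLE h).op = 𝟙 (op (⊤ : X.Opens)) := Subsingleton.elim _ _
  rw [this]
  erw [X.presheaf.map_id]
  exact Category.comp_id _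

theorem resMap_smul' (a : Γ(U.left, ⊤)) (x : EtAssoc.obj F U) :
    EtAssoc.resMap F g (a • x) = g.left.appTop a • EtAssoc.resMap F g x := by
  rw [resMap_smul, appLE_top_eq]

end Groth.Agent.Lib.Helper86.EtAssocRes
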