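import Groth.Agent.Lib.Helper86.EtAssocAcyc
import Groth.Agent.Lib.Helper48.PullComp

set_option autoImplicit false
open CategoryTheory Limits AlgebraicGeometry Opposite TopologicalSpace
open Groth.Agent.Lib.Helper4 Groth.Agent.Lib.Helper48.OmegaAff
open Groth.Agent.Lib.Helper86.EtAssocRes Groth.Agent.Lib.Helper86.EtAssocQA

universe u

/-! The étale sheaf associated to a quasi-coherent module, restricted to the Zariski site, is the module itself;
consequently étale cohomology of the associated sheaf agrees with Zariski cohomology of the module. -/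

namespace Groth.Agent.Lib.Helper86.EtAssocZar

theorem app_res {X : Scheme.{u}} {M N : X.Modules} (φ : M ⟶ N) {U V : X.Opens} (h : V ≤ U)
    (s : Γ(M, U)) :
    φ.app V (M.presheaf.map (homOfLE h).op s) = N.presheaf.map (homOfLE h).op (φ.app U s) := by
  have := φ.mapPresheaf.naturality (homOfLE h).op
  exact congr($this s)

theorem map_map_apply {X : Scheme.{u}} (P : X.Modules) {A B C : X.Opens} (a : B ≤ A) (b : C ≤ B)
    (t : Γ(P, A)) :
    P.presheaf.map (homOfLE b).op (P.presheaf.map (homOfLE a).op t) =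
      P.presheaf.map (homOfLE (b.trans a)).op t := by
  rw [← ConcreteCategory.comp_apply, ← Functor.map_comp]
  rfl

section General
variable {X' X : Scheme.{u}} (h : X' ⟶ X) (M : X.Modules)

theorem pullRes_eq {U : X.Opens} {O : X'.Opens} (e : O ≤ h ⁻¹ᵁ U) (s : Γ(M, U)) :
    pullRes h M e s = ((Scheme.Modules.pullback h).obj M).presheaf.map (homOfLE e).op
      (OmegaSh.pullSect h M U s) := rfl

/-- naturality of `pullRes` in the open of the target -/
theorem pullRes_res {U U' : X.Opens} (hU : U' ≤ U) {O : X'.Opens} (e' : O ≤ h ⁻¹ᵁ U')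
    (s : Γ(M, U)) :
    pullRes h M e' (M.presheaf.map (homOfLE hU).op s) =
      pullRes h M (e'.trans ((Opens.map h.base).map (homOfLE hU)).le) s := by
  rw [pullRes_eq, pullRes_eq]
  have h1 := app_res ((Scheme.Modules.pullbackPushforwardAdjunction h).unit.app M) hU s
  change OmegaSh.pullSect h M U' (M.presheaf.map (homOfLE hU).op s) = _ at h1
  rw [h1]
  exact map_map_apply ((Scheme.Modules.pullback h).obj M)
    ((Opens.map h.base).map (homOfLE hU)).le e' _

/-- transport along an equality of morphisms -/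
theorem eqToHom_pullRes {h' : X' ⟶ X} (e : h = h') {U : X.Opens} {O : X'.Opens}
    (e₁ : O ≤ h ⁻¹ᵁ U) (e₂ : O ≤ h' ⁻¹ᵁ U) (s : Γ(M, U)) :
    (eqToHom (congrArg (fun k => (Scheme.Modules.pullback k).obj M) e)).app O (pullRes h M e₁ s) =
      pullRes h' M e₂ s := by
  subst e
  simp

end General


theorem pullbackComp_hom_pullRes {X'' X' X : Scheme.{u}} (f : X'' ⟶ X') (g : X' ⟶ X)
    (M : X.Modules) {U : X.Opens} {U' : X'.Opens} {U'' : X''.Opens} (e₁ : U' ≤ g ⁻¹ᵁ U)
    (e₂ : U'' ≤ f ⁻¹ᵁ U') (e₃ : U'' ≤ (f ≫ g) ⁻¹ᵁ U) (s : Γ(M, U)) :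
    ((Scheme.Modules.pullbackComp f g).hom.app M).app U''
        (pullRes f ((Scheme.Modules.pullback g).obj M) e₂ (pullRes g M e₁ s)) =
      pullRes (f ≫ g) M e₃ s := by
  rw [pullRes_eq g M e₁, pullRes_res f ((Scheme.Modules.pullback g).obj M) e₁ e₂, pullRes_eq,
    ← Groth.Agent.Lib.Helper48.PullComp.pullbackComp_inv_pullSect f g M U s]
  have h1 := app_res ((Scheme.Modules.pullbackComp f g).hom.app M) e₃
    (((Scheme.Modules.pullbackComp f g).inv.app M).app ((f ≫ g) ⁻¹ᵁ U)
      (OmegaSh.pullSect (f ≫ g) M U s))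
  refine Eq.trans h1 ?_
  rw [pullRes_eq]
  congr 1
  have h2 : ((Scheme.Modules.pullbackComp f g).inv.app M) ≫
      ((Scheme.Modules.pullbackComp f g).hom.app M) = 𝟙 _ := by
    rw [← NatTrans.comp_app, Iso.inv_hom_id]
    rfl
  have h3 := congrArg (fun φ => φ.app ((f ≫ g) ⁻¹ᵁ U) (OmegaSh.pullSect (f ≫ g) M U s)) h2
  exact h3


section Zar
variable {X : Scheme.{u}} (F : X.Modules)

theorem le_ι (V : X.Opens) : (⊤ : (V : Scheme.{u}).Opens) ≤ V.ι ⁻¹ᵁ V := by
  rw [Scheme.Opens.ι_preimage_self]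

noncomputable def β (V : X.Opens) : Γ(F, V) →+ EtAssoc.obj F ((EtZar.zarToEt X).obj V) :=
  pullRes V.ι F (le_ι V)

theorem resMap_β {V V' : X.Opens} (i : V' ⟶ V) (s : Γ(F, V)) :
    EtAssoc.resMap F ((EtZar.zarToEt X).map i) (β F V s) = β F V' (F.presheaf.map i.op s) := by
  rw [resMap_eq, step1_eq, step2_eq]
  have e₃ : (⊤ : (V' : Scheme.{u}).Opens) ≤ (X.homOfLE i.le ≫ V.ι) ⁻¹ᵁ V := by
    rw [X.homOfLE_ι]
    exact (le_ι V').trans ((Opens.map V'.ι.base).map i).le
  have hC := pullbackComp_hom_pullRes (X.homOfLE i.le) V.ι F (le_ι V)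
    (le_pre ((EtZar.zarToEt X).map i)) e₃ s
  have hE := eqToHom_pullRes (X.homOfLE i.le ≫ V.ι) F (X.homOfLE_ι i.le) e₃
    ((le_ι V').trans ((Opens.map V'.ι.base).map i).le) s
  have hR := pullRes_res V'.ι F i.le (le_ι V') s
  refine Eq.trans ?_ hR.symm
  refine Eq.trans ?_ hE
  refine Eq.trans ?_ (congrArg _ hC)
  rfl


theorem bijective_map_of_le {P : X.Modules} {A B : X.Opens} (h : B ≤ A) (h' : A ≤ B) :
    Function.Bijective (P.presheaf.map (homOfLE h).op) := by
  haveI : IsIso (homOfLE h) := ⟨⟨homOfLE h', Subsingleton.elim _ _, Subsingleton.elim _ _⟩⟩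
  have : IsIso (P.presheaf.map (homOfLE h).op) := inferInstance
  exact (ConcreteCategory.isIso_iff_bijective _).1 this

theorem unit_restrict_bijective (V : X.Opens) :
    Function.Bijective (((Scheme.Modules.restrictAdjunction V.ι).unit.app F).app V) := by
  have key : ∀ x, ((Scheme.Modules.restrictAdjunction V.ι).unit.app F).app V x =
      (F.restrictAppIso V.ι (V.ι ⁻¹ᵁ V)).inv
        (F.presheaf.map (homOfLE (V.ι.image_preimage_le V)).op x) := by
    intro x
    have := restrictAdj_homEquiv_app V.ι F _ (𝟙 _) V x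
    rw [Adjunction.homEquiv_unit] at this
    rw [CategoryTheory.Functor.map_id] at this
    erw [Category.comp_id] at this
    exact this
  have h1 : Function.Bijective (F.presheaf.map (homOfLE (V.ι.image_preimage_le V)).op) := by
    refine bijective_map_of_le _ ?_
    intro x hx
    exact ⟨⟨x, hx⟩, by rw [Scheme.Opens.ι_preimage_self]; trivial, rfl⟩
  have h2 : Function.Bijective (F.restrictAppIso V.ι (V.ι ⁻¹ᵁ V)).inv :=
    (ConcreteCategory.isIso_iff_bijective _).1 inferInstance
  have : (((Scheme.Modules.restrictAdjunction V.ι).unit.app F).app V : _ → _) =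
      (F.restrictAppIso V.ι (V.ι ⁻¹ᵁ V)).inv ∘
        (F.presheaf.map (homOfLE (V.ι.image_preimage_le V)).op) := funext key
  rw [this]
  exact h2.comp h1


theorem β_bijective (V : X.Opens) : Function.Bijective (β F V) := by
  let adj₁ := Scheme.Modules.pullbackPushforwardAdjunction V.ι
  let adj₂ := Scheme.Modules.restrictAdjunction V.ι
  let iso := adj₁.leftAdjointUniq adj₂
  have hunit : adj₁.unit.app F ≫ (Scheme.Modules.pushforward V.ι).map (iso.hom.app F) =
      adj₂.unit.app F := Adjunction.unit_leftAdjointUniq_hom_app adj₁ adj₂ F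
  have h1 : ∀ s, (iso.hom.app F).app (V.ι ⁻¹ᵁ V) ((adj₁.unit.app F).app V s) =
      (adj₂.unit.app F).app V s := fun s => by
    have := congrArg (fun φ => φ.app V s) hunit
    exact this
  have hb2 := unit_restrict_bijective F V
  have hiso : Function.Bijective ((iso.hom.app F).app (V.ι ⁻¹ᵁ V)) :=
    (ConcreteCategory.isIso_iff_bijective _).1 inferInstance
  have hb1 : Function.Bijective ((adj₁.unit.app F).app V) := by
    have : ((adj₂.unit.app F).app V : _ → _) =
        (iso.hom.app F).app (V.ι ⁻¹ᵁ V) ∘ (adj₁.unit.app F).app V :=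
      funext (fun s => (h1 s).symm)
    rw [this] at hb2
    exact (Function.Bijective.of_comp_iff' hiso _).1 hb2
  have hres : Function.Bijective
      (((Scheme.Modules.pullback V.ι).obj F).presheaf.map (homOfLE (le_ι V)).op) :=
    bijective_map_of_le _ le_top
  have : (β F V : _ → _) =
      (((Scheme.Modules.pullback V.ι).obj F).presheaf.map (homOfLE (le_ι V)).op) ∘
        (adj₁.unit.app F).app V := rfl
  rw [this]
  exact hres.comp hb1

end Zar


section Iso
open Groth.Agent.Lib.Helper4.ZarGa Groth.Agent.Lib.Helper86.EtAssocAcyc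

variable {X : Scheme.{u}} {F : X.Modules} {G : EtCoh.Ab X} (D : AssocData F G)

noncomputable def βEquiv (F : X.Modules) (V : X.Opens) :
    Γ(F, V) ≃+ EtAssoc.obj F ((EtZar.zarToEt X).obj V) :=
  AddEquiv.ofBijective (β F V) (β_bijective F V)

noncomputable def secEquiv (V : X.Opens) :
    ((EtZar.resZar X).obj G).obj.obj (op V) ≃+
      ((ZarUniv.Φ X).obj (Coh.toAb F)).obj.obj (op V) :=
  (D.e ((EtZar.zarToEt X).obj V)).trans
    (AddEquiv.ulift.trans ((βEquiv F V).symm.trans AddEquiv.ulift.symm))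

theorem secEquiv_apply (V : X.Opens) (x : ((EtZar.resZar X).obj G).obj.obj (op V)) :
    secEquiv D V x = ULift.up ((βEquiv F V).symm (D.e ((EtZar.zarToEt X).obj V) x).down) := rfl

theorem secEquiv_natural {V V' : X.Opens} (i : V' ⟶ V)
    (x : ((EtZar.resZar X).obj G).obj.obj (op V)) :
    secEquiv D V' (((EtZar.resZar X).obj G).obj.map i.op x) =
      ((ZarUniv.Φ X).obj (Coh.toAb F)).obj.map i.op (secEquiv D V x) := by
  rw [secEquiv_apply, secEquiv_apply]
  change _ = ULift.up (F.presheaf.map i.op ((βEquiv F V).symm (D.e _ x).down))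
  congr 1
  apply (βEquiv F V').injective
  rw [AddEquiv.apply_symm_apply]
  change (D.e _ (G.obj.map ((EtZar.zarToEt X).map i).op x)).down =
    β F V' (F.presheaf.map i.op ((βEquiv F V).symm (D.e _ x).down))
  have h1 := D.he _ _ ((EtZar.zarToEt X).map i)
    (show G.obj.obj (op ((EtZar.zarToEt X).obj V)) from x)
  refine h1.trans ?_
  rw [← resMap_β]
  congr 1
  exact ((βEquiv F V).apply_symm_apply _).symm

noncomputable def resIso : (EtZar.resZar X).obj G ≅ (ZarUniv.Φ X).obj (Coh.toAb F) :=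
  ObjectProperty.isoMk _ (NatIso.ofComponents (fun V => (secEquiv D V.unop).toAddCommGrpIso) (by
    intro U V i
    ext x
    exact secEquiv_natural D i.unop x))

include D in
theorem nonempty_H_equiv [F.IsQuasicoherent] (p : ℕ) :
    Nonempty (EtCoh.H X G p ≃+ ULift.{u + 1} (Coh.HH X F p)) := by
  let α := (Groth.Agent.Lib.Helper57.ZarHens.pullZarConstIso X).app
    (AddCommGrpCat.of (ULift.{u + 1} ℤ))
  let e1 := Groth.Agent.Lib.Helper57.ZarHens.extPrecompEquiv α G p
  let e2 := leray X G (𝒢_assoc D) (ZarUniv.Zc1 X) p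
  let e3 := extPostcompEquiv (ZarUniv.Zc1 X) (resIso D) p
  let e4 := ZarUniv.UC X (Coh.toAb F) p
  exact ⟨(e1.trans (e2.symm.trans (e3.trans e4.symm))).trans AddEquiv.ulift.symm⟩

end Iso

end Groth.Agent.Lib.Helper86.EtAssocZar
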