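import Mathlib
import Groth.Prelude.Def_FilD

/-!
# helper86: basic API for `FilD` (finite filtered objects of an abelian category)

* `tr F h : F_q ⟶ F_p` transition maps, mono for finite filtered objects
* `isStrict_iff`: element-style (refinements) characterization of `FilD.IsStrict`
-/

set_option autoImplicit false
universe v u

open CategoryTheory CategoryTheory.Limits Opposite

namespace Groth.Agent.Lib.Helper86.FilD

open _root_.FilD

variable {A : Type u} [Category.{v} A]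

/-- transition map `F_q ⟶ F_p` for `p ≤ q`. -/
noncomputable abbrev tr (F : ℤᵒᵖ ⥤ A) {p q : ℤ} (h : p ≤ q) : F.obj (op q) ⟶ F.obj (op p) :=
  F.map (homOfLE h).op

lemma tr_refl (F : ℤᵒᵖ ⥤ A) (p : ℤ) : tr F (le_refl p) = 𝟙 _ := by
  simp [tr]

@[reassoc]
lemma tr_tr (F : ℤᵒᵖ ⥤ A) {p q r : ℤ} (h : p ≤ q) (h' : q ≤ r) :
    tr F h' ≫ tr F h = tr F (h.trans h') := by
  simp only [tr, ← F.map_comp]
  rfl

lemma stepHom_eq (p : ℤ) : stepHom p = (homOfLE (Int.le_add_one le_rfl : p ≤ p + 1)).op := rfl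

@[reassoc]
lemma tr_naturality {F G : ℤᵒᵖ ⥤ A} (φ : F ⟶ G) {p q : ℤ} (h : p ≤ q) :
    tr F h ≫ φ.app (op p) = φ.app (op q) ≫ tr G h :=
  φ.naturality _

/-- every morphism of `ℤᵒᵖ` is a `homOfLE _ .op`. -/
lemma hom_eq {p q : ℤᵒᵖ} (f : p ⟶ q) : ∃ (h : q.unop ≤ p.unop), f = (homOfLE h).op :=
  ⟨leOfHom f.unop, rfl⟩

variable [Abelian A]

instance tr_mono (F : FilF A) {p q : ℤ} (h : p ≤ q) : Mono (tr F.obj h) := F.property.1 _

/-! ### Factorisation through subobjects is local for epimorphisms -/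

lemma factors_of_epi_comp {X T T' : A} (π : T' ⟶ T) [Epi π] (a : T ⟶ X) (P : Subobject X)
    (h : P.Factors (π ≫ a)) : P.Factors a := by
  have sq : CommSq (P.factorThru _ h) π P.arrow a := ⟨Subobject.factorThru_arrow _ _ h⟩
  haveI := strongEpi_of_epi π
  rw [← sq.fac_right]
  exact P.factors_comp_arrow _

/-- General form of the strictness condition in terms of generalized elements. -/
lemma image_comp_eq_inf_iff {X' X Y' Y : A} (f' : X' ⟶ Y') (m : Y' ⟶ Y) [Mono m] (f : X ⟶ Y)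
    (i : X' ⟶ X) (w : f' ≫ m = i ≫ f) :
    imageSubobject (f' ≫ m) = imageSubobject f ⊓ Subobject.mk m ↔
      ∀ ⦃T : A⦄ (x : T ⟶ X) (y : T ⟶ Y'), x ≫ f = y ≫ m →
        ∃ (T' : A) (π : T' ⟶ T) (_ : Epi π) (x' : T' ⟶ X'), x' ≫ f' = π ≫ y := by
  constructor
  · intro hs T x y hxy
    have hfac : (imageSubobject f ⊓ Subobject.mk m).Factors (y ≫ m) := by
      rw [Subobject.inf_factors]
      constructor
      · rw [← hxy]
        have : x ≫ f = (x ≫ factorThruImageSubobject f) ≫ (imageSubobject f).arrow := by simp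
        rw [this]
        exact Subobject.factors_comp_arrow _
      · exact (Subobject.mk_factors_iff _ _).2 ⟨y, rfl⟩
    rw [← hs] at hfac
    obtain ⟨T', π, hπ, x', hx'⟩ := surjective_up_to_refinements_of_epi
      (factorThruImageSubobject (f' ≫ m)) (Subobject.factorThru _ _ hfac)
    refine ⟨T', π, hπ, x', ?_⟩
    rw [← cancel_mono m, Category.assoc, Category.assoc]
    have := hx' =≫ (imageSubobject (f' ≫ m)).arrow
    simp only [Category.assoc, imageSubobject_arrow_comp, Subobject.factorThru_arrow] at this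
    exact this.symm
  · intro hs
    apply le_antisymm
    · apply le_inf
      · rw [w]
        exact imageSubobject_comp_le _ _
      · exact imageSubobject_le_mk _ _ f' rfl
    · set S := imageSubobject f ⊓ Subobject.mk m with hS
      have h1 : (imageSubobject f).Factors S.arrow :=
        Subobject.factors_of_le _ inf_le_left (Subobject.factors_self _)
      have h2 : (Subobject.mk m).Factors S.arrow :=
        Subobject.factors_of_le _ inf_le_right (Subobject.factors_self _)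
      obtain ⟨y, hy⟩ : ∃ y : (S : A) ⟶ Y', y ≫ m = S.arrow := (Subobject.mk_factors_iff _ _).1 h2
      obtain ⟨T', π, hπ, x, hx⟩ := surjective_up_to_refinements_of_epi
        (factorThruImageSubobject f) (Subobject.factorThru _ _ h1)
      have hx2 : x ≫ f = (π ≫ y) ≫ m := by
        have := hx =≫ (imageSubobject f).arrow
        simp only [Category.assoc, imageSubobject_arrow_comp, Subobject.factorThru_arrow] at this
        rw [← this, Category.assoc, hy]
      obtain ⟨T'', π', hπ', x', hx'⟩ := hs x (π ≫ y) hx2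
      have hfin : (imageSubobject (f' ≫ m)).Factors ((π' ≫ π) ≫ S.arrow) := by
        have : (π' ≫ π) ≫ S.arrow =
            (x' ≫ factorThruImageSubobject (f' ≫ m)) ≫ (imageSubobject (f' ≫ m)).arrow := by
          simp only [Category.assoc, imageSubobject_arrow_comp]
          rw [reassoc_of% hx', ← hy]
        rw [this]
        exact Subobject.factors_comp_arrow _
      have : Epi (π' ≫ π) := epi_comp _ _
      have := factors_of_epi_comp (π' ≫ π) S.arrow _ hfin
      exact Subobject.le_of_comm (Subobject.factorThru _ _ this) (Subobject.factorThru_arrow _ _ _)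

/-! ### Strictness in terms of generalized elements -/

lemma isStrict_iff {F G : FilF A} (φ : F ⟶ G) :
    IsStrict φ ↔ ∀ (p q : ℤ) (h : p ≤ q) ⦃T : A⦄ (x : T ⟶ F.obj.obj (op p))
      (y : T ⟶ G.obj.obj (op q)), x ≫ φ.hom.app (op p) = y ≫ tr G.obj h →
      ∃ (T' : A) (π : T' ⟶ T) (_ : Epi π) (x' : T' ⟶ F.obj.obj (op q)),
        x' ≫ φ.hom.app (op q) = π ≫ y := by
  unfold IsStrict
  refine forall_congr' fun p => forall_congr' fun q => forall_congr' fun h => ?_
  have : Mono (G.obj.map (homOfLE h).op) := G.property.1 _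
  exact image_comp_eq_inf_iff (φ.hom.app (op q)) (G.obj.map (homOfLE h).op) (φ.hom.app (op p))
    (F.obj.map (homOfLE h).op) (φ.hom.naturality _).symm

/-! ### Graded pieces -/

/-- the projection `F_p ⟶ gr^p F`. -/
noncomputable abbrev grπ (F : ℤᵒᵖ ⥤ A) (p : ℤ) : F.obj (op p) ⟶ (gr A p).obj F :=
  cokernel.π (F.map (stepHom p))

instance (F : ℤᵒᵖ ⥤ A) (p : ℤ) : Epi (grπ F p) :=
  show Epi (cokernel.π (F.map (stepHom p))) from inferInstance

@[reassoc]
lemma grπ_map {F G : ℤᵒᵖ ⥤ A} (φ : F ⟶ G) (p : ℤ) :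
    grπ F p ≫ (gr A p).map φ = φ.app (op p) ≫ grπ G p := by
  simp [gr, grπ]

@[reassoc]
lemma step_grπ (F : ℤᵒᵖ ⥤ A) (p : ℤ) : F.map (stepHom p) ≫ grπ F p = 0 :=
  cokernel.condition _

@[reassoc]
lemma tr_grπ (F : ℤᵒᵖ ⥤ A) {p q : ℤ} (h : p + 1 ≤ q) :
    tr F (show p ≤ q by lia) ≫ grπ F p = 0 := by
  have : tr F (show p ≤ q by lia) = tr F h ≫ F.map (stepHom p) := by
    rw [stepHom_eq]; exact (tr_tr F _ _).symm
  rw [this, Category.assoc, step_grπ, comp_zero]

lemma exists_lift_of_grπ_eq_zero (F : FilF A) (p : ℤ) {T : A} (x : T ⟶ F.obj.obj (op p))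
    (hx : x ≫ grπ F.obj p = 0) :
    ∃ x' : T ⟶ F.obj.obj (op (p + 1)), x' ≫ F.obj.map (stepHom p) = x := by
  haveI : Mono (F.obj.map (stepHom p)) := F.property.1 _
  exact ⟨Abelian.monoLift (F.obj.map (stepHom p)) x hx, Abelian.monoLift_comp _ _ _⟩

/-- level `p` evaluation functor on `FilF A`. -/
noncomputable abbrev ev (p : ℤ) : FilF A ⥤ A := (IsFinFil A).ι ⋙ (evaluation ℤᵒᵖ A).obj (op p)

/-! ### gr-exact short complexes are levelwise exact and strict (Stacks 05SP-type) -/

lemma zero_app (S : ShortComplex (FilF A)) (p : ℤ) :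
    S.f.hom.app (op p) ≫ S.g.hom.app (op p) = 0 := by
  have h2 : (S.f ≫ S.g).hom.app (op p) = 0 := by rw [S.zero]; rfl
  exact h2

section GrExact

variable (S : ShortComplex (FilF A)) (hS : ∀ p : ℤ, (S.map (grF A p)).Exact)
include hS

lemma exact_level_of_succ (p : ℤ) (h : (S.map (ev (p + 1))).Exact) : (S.map (ev p)).Exact := by
  rw [ShortComplex.exact_iff_exact_up_to_refinements]
  intro T y hy
  change T ⟶ S.X₂.obj.obj (op p) at y
  change y ≫ S.g.hom.app (op p) = 0 at hy
  -- class of y in gr^p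
  have h1 : (y ≫ grπ S.X₂.obj p) ≫ (S.map (grF A p)).g = 0 := by
    change (y ≫ grπ S.X₂.obj p) ≫ (gr A p).map S.g.hom = 0
    rw [Category.assoc, grπ_map, reassoc_of% hy, zero_comp]
  obtain ⟨T₁, π₁, hπ₁, xbar, hxbar⟩ := (hS p).exact_up_to_refinements _ h1
  change T₁ ⟶ (gr A p).obj S.X₁.obj at xbar
  change π₁ ≫ y ≫ grπ S.X₂.obj p = xbar ≫ (gr A p).map S.f.hom at hxbar
  obtain ⟨T₂, π₂, hπ₂, x, hx⟩ := surjective_up_to_refinements_of_epi (grπ S.X₁.obj p) xbar
  have h2 : (π₂ ≫ π₁ ≫ y - x ≫ S.f.hom.app (op p)) ≫ grπ S.X₂.obj p = 0 := by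
    rw [Preadditive.sub_comp, Category.assoc, Category.assoc, Category.assoc, hxbar,
      reassoc_of% hx, ← grπ_map, sub_self]
  obtain ⟨y', hy'⟩ := exists_lift_of_grπ_eq_zero S.X₂ p _ h2
  have hzero : S.f.hom.app (op p) ≫ S.g.hom.app (op p) = 0 := zero_app S p
  have h3 : y' ≫ (S.map (ev (p + 1))).g = 0 := by
    change y' ≫ S.g.hom.app (op (p + 1)) = 0
    haveI : Mono (S.X₃.obj.map (stepHom p)) := S.X₃.property.1 _
    rw [← cancel_mono (S.X₃.obj.map (stepHom p)), Category.assoc, zero_comp,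
      ← S.g.hom.naturality, reassoc_of% hy', Preadditive.sub_comp, Category.assoc,
      Category.assoc, Category.assoc, hy, hzero]
    simp
  obtain ⟨T₃, π₃, hπ₃, x', hx'⟩ := h.exact_up_to_refinements _ h3
  change T₃ ⟶ S.X₁.obj.obj (op (p + 1)) at x'
  change π₃ ≫ y' = x' ≫ S.f.hom.app (op (p + 1)) at hx'
  refine ⟨T₃, π₃ ≫ π₂ ≫ π₁, inferInstance, π₃ ≫ x + x' ≫ S.X₁.obj.map (stepHom p), ?_⟩
  change (π₃ ≫ π₂ ≫ π₁) ≫ y = (π₃ ≫ x + x' ≫ S.X₁.obj.map (stepHom p)) ≫ S.f.hom.app (op p)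
  rw [Preadditive.add_comp, Category.assoc, Category.assoc, Category.assoc, Category.assoc,
    S.f.hom.naturality, ← reassoc_of% hx', hy']
  simp

lemma exact_level (p : ℤ) : (S.map (ev p)).Exact := by
  obtain ⟨b, hb⟩ := S.X₂.property.2.1
  have key : ∀ n : ℕ, ∀ p : ℤ, b ≤ p + n → (S.map (ev p)).Exact := by
    intro n
    induction n with
    | zero =>
      intro p hp
      exact ShortComplex.exact_of_isZero_X₂ _ (hb p (by simpa using hp))
    | succ n ih =>
      intro p hp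
      exact exact_level_of_succ S hS p (ih (p + 1) (by push_cast at hp; lia))
  exact key (b - p).toNat p (by lia)

lemma isStrict_f : IsStrict S.f := by
  rw [isStrict_iff]
  intro p q h T x y hxy
  have hzero : S.f.hom.app (op p) ≫ S.g.hom.app (op p) = 0 := zero_app S p
  have h3 : y ≫ (S.map (ev q)).g = 0 := by
    change y ≫ S.g.hom.app (op q) = 0
    rw [← cancel_mono (tr S.X₃.obj h), Category.assoc, zero_comp, ← tr_naturality,
      ← reassoc_of% hxy, hzero, comp_zero]
  obtain ⟨T', π, hπ, x', hx'⟩ := (exact_level S hS q).exact_up_to_refinements _ h3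
  exact ⟨T', π, hπ, x', hx'.symm⟩

lemma isStrict_g : IsStrict S.g := by
  rw [isStrict_iff]
  have key : ∀ (n : ℕ) (p q : ℤ) (h : p ≤ q), q = p + n → ∀ ⦃T : A⦄ (y : T ⟶ S.X₂.obj.obj (op p))
      (z : T ⟶ S.X₃.obj.obj (op q)), y ≫ S.g.hom.app (op p) = z ≫ tr S.X₃.obj h →
      ∃ (T' : A) (π : T' ⟶ T) (_ : Epi π) (y' : T' ⟶ S.X₂.obj.obj (op q)),
        y' ≫ S.g.hom.app (op q) = π ≫ z := by
    intro n
    induction n with
    | zero =>
      intro p q h hq T y z hyz
      obtain rfl : q = p := by simpa using hq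
      refine ⟨T, 𝟙 T, inferInstance, y, ?_⟩
      rw [hyz, tr_refl]
      simp
    | succ n ih =>
      intro p q h hq T y z hyz
      have hq' : p + 1 ≤ q := by push_cast at hq; lia
      have h1 : (y ≫ grπ S.X₂.obj p) ≫ (S.map (grF A p)).g = 0 := by
        change (y ≫ grπ S.X₂.obj p) ≫ (gr A p).map S.g.hom = 0
        rw [Category.assoc, grπ_map, reassoc_of% hyz, tr_grπ _ hq', comp_zero]
      obtain ⟨T₁, π₁, hπ₁, xbar, hxbar⟩ := (hS p).exact_up_to_refinements _ h1
      change T₁ ⟶ (gr A p).obj S.X₁.obj at xbar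
      change π₁ ≫ y ≫ grπ S.X₂.obj p = xbar ≫ (gr A p).map S.f.hom at hxbar
      obtain ⟨T₂, π₂, hπ₂, x, hx⟩ := surjective_up_to_refinements_of_epi (grπ S.X₁.obj p) xbar
      have h2 : (π₂ ≫ π₁ ≫ y - x ≫ S.f.hom.app (op p)) ≫ grπ S.X₂.obj p = 0 := by
        rw [Preadditive.sub_comp, Category.assoc, Category.assoc, Category.assoc, hxbar,
          reassoc_of% hx, ← grπ_map, sub_self]
      obtain ⟨y₁, hy₁⟩ := exists_lift_of_grπ_eq_zero S.X₂ p _ h2
      have hzero : S.f.hom.app (op p) ≫ S.g.hom.app (op p) = 0 := zero_app S p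
      have h3 : y₁ ≫ S.g.hom.app (op (p + 1)) = (π₂ ≫ π₁ ≫ z) ≫ tr S.X₃.obj hq' := by
        haveI : Mono (S.X₃.obj.map (stepHom p)) := S.X₃.property.1 _
        rw [← cancel_mono (S.X₃.obj.map (stepHom p)), Category.assoc,
          ← S.g.hom.naturality, reassoc_of% hy₁, Preadditive.sub_comp, Category.assoc,
          Category.assoc, Category.assoc, hyz, hzero, comp_zero, sub_zero, stepHom_eq]
        simp only [Category.assoc]
        erw [tr_tr]
      obtain ⟨T₃, π₃, hπ₃, y', hy'⟩ := ih (p + 1) q hq' (by push_cast at hq; lia) y₁ _ h3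
      exact ⟨T₃, π₃ ≫ π₂ ≫ π₁, inferInstance, y', by simpa using hy'⟩
  intro p q h T y z hyz
  exact key (q - p).toNat p q h (by lia) y z hyz

end GrExact

end Groth.Agent.Lib.Helper86.FilD
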