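import Mathlib
import Groth.Prelude.Def_FilD
import Groth.Agent.Lib.Helper86.FilD

/-!
# helper86: strictness criteria for `FilD`

* `isStrict_of_step`: one-step criterion for strictness
* `isStrict_iff_gr_ker_exact`: strict iff `gr (ker) → gr X → gr Y` exact (S1086)
-/

set_option autoImplicit false
universe v u

open CategoryTheory CategoryTheory.Limits Opposite

namespace Groth.Agent.Lib.Helper86.FilD

open _root_.FilD

variable {A : Type u} [Category.{v} A] [Abelian A]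

lemma isStrict_of_step {F G : FilF A} (φ : F ⟶ G)
    (hstep : ∀ (p q : ℤ) (h : p + 1 ≤ q) ⦃T : A⦄ (x : T ⟶ F.obj.obj (op p))
      (y : T ⟶ G.obj.obj (op q)), x ≫ φ.hom.app (op p) = y ≫ tr G.obj (show p ≤ q by lia) →
      ∃ (T' : A) (π : T' ⟶ T) (_ : Epi π) (x₁ : T' ⟶ F.obj.obj (op (p + 1))),
        x₁ ≫ φ.hom.app (op (p + 1)) = (π ≫ y) ≫ tr G.obj h) : IsStrict φ := by
  rw [isStrict_iff]
  have key : ∀ (n : ℕ) (p q : ℤ) (h : p ≤ q), q = p + n → ∀ ⦃T : A⦄ (x : T ⟶ F.obj.obj (op p))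
      (y : T ⟶ G.obj.obj (op q)), x ≫ φ.hom.app (op p) = y ≫ tr G.obj h →
      ∃ (T' : A) (π : T' ⟶ T) (_ : Epi π) (x' : T' ⟶ F.obj.obj (op q)),
        x' ≫ φ.hom.app (op q) = π ≫ y := by
    intro n
    induction n with
    | zero =>
      intro p q h hq T x y hxy
      obtain rfl : q = p := by simpa using hq
      refine ⟨T, 𝟙 T, inferInstance, x, ?_⟩
      rw [hxy, tr_refl]
      simp
    | succ n ih =>
      intro p q h hq T x y hxy
      have hq' : p + 1 ≤ q := by push_cast at hq; lia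
      obtain ⟨T₁, π₁, hπ₁, x₁, hx₁⟩ := hstep p q hq' x y hxy
      obtain ⟨T₂, π₂, hπ₂, x', hx'⟩ := ih (p + 1) q hq' (by push_cast at hq; lia) x₁ _ hx₁
      exact ⟨T₂, π₂ ≫ π₁, inferInstance, x', by simpa using hx'⟩
  intro p q h T x y hxy
  exact key (q - p).toNat p q h (by lia) x y hxy

section Ker

variable {X Y : FilF A} (φ : X ⟶ Y)

/-- the short complex `ker φ → X → Y` in the functor category. -/
noncomputable abbrev kerSC : ShortComplex (ℤᵒᵖ ⥤ A) :=
  ShortComplex.mk (kernel.ι φ.hom) φ.hom (kernel.condition φ.hom)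

lemma kerSC_exact : (kerSC φ).Exact :=
  ShortComplex.exact_of_f_is_kernel _ (kernelIsKernel φ.hom)

lemma kerι_app_comp (p : ℤ) : (kernel.ι φ.hom).app (op p) ≫ φ.hom.app (op p) = 0 := by
  rw [← NatTrans.comp_app, kernel.condition]
  rfl

instance kerι_app_mono (p : ℤ) : Mono ((kernel.ι φ.hom).app (op p)) :=
  inferInstanceAs (Mono (((evaluation ℤᵒᵖ A).obj (op p)).map (kernel.ι φ.hom)))

lemma exists_ker_lift (p : ℤ) {T : A} (x : T ⟶ X.obj.obj (op p)) (hx : x ≫ φ.hom.app (op p) = 0) :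
    ∃ k : T ⟶ (kernel φ.hom).obj (op p), k ≫ (kernel.ι φ.hom).app (op p) = x := by
  have hex : ((kerSC φ).map ((evaluation ℤᵒᵖ A).obj (op p))).Exact :=
    (kerSC_exact φ).map _
  haveI : Mono ((kerSC φ).map ((evaluation ℤᵒᵖ A).obj (op p))).f := kerι_app_mono φ p
  exact ⟨hex.lift x hx, hex.lift_f x hx⟩

theorem isStrict_iff_gr_ker_exact :
    IsStrict φ ↔ ∀ p : ℤ, ((kerSC φ).map (gr A p)).Exact := by
  constructor
  · intro hs p
    rw [isStrict_iff] at hs
    rw [ShortComplex.exact_iff_exact_up_to_refinements]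
    intro T xbar hxbar
    change T ⟶ (gr A p).obj X.obj at xbar
    change xbar ≫ (gr A p).map φ.hom = 0 at hxbar
    obtain ⟨T₁, π₁, hπ₁, x, hx⟩ := surjective_up_to_refinements_of_epi (grπ X.obj p) xbar
    have h1 : (x ≫ φ.hom.app (op p)) ≫ grπ Y.obj p = 0 := by
      rw [Category.assoc, ← grπ_map, ← reassoc_of% hx, hxbar, comp_zero]
    obtain ⟨y, hy⟩ := exists_lift_of_grπ_eq_zero Y p _ h1
    obtain ⟨T₂, π₂, hπ₂, x', hx'⟩ := hs p (p + 1) (by lia) x y (by rw [← hy, stepHom_eq])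
    have h2 : (π₂ ≫ x - x' ≫ X.obj.map (stepHom p)) ≫ φ.hom.app (op p) = 0 := by
      rw [Preadditive.sub_comp, Category.assoc, Category.assoc, φ.hom.naturality,
        reassoc_of% hx', ← hy, sub_self]
    obtain ⟨k, hk⟩ := exists_ker_lift φ p _ h2
    refine ⟨T₂, π₂ ≫ π₁, inferInstance, k ≫ grπ (kernel φ.hom) p, ?_⟩
    change (π₂ ≫ π₁) ≫ xbar = (k ≫ grπ (kernel φ.hom) p) ≫ (gr A p).map (kernel.ι φ.hom)
    rw [Category.assoc, Category.assoc, grπ_map, reassoc_of% hk, Preadditive.sub_comp,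
      Category.assoc, Category.assoc, step_grπ, comp_zero, sub_zero, hx]
  · intro hex
    apply isStrict_of_step
    intro p q h T x y hxy
    have h1 : (x ≫ grπ X.obj p) ≫ ((kerSC φ).map (gr A p)).g = 0 := by
      change (x ≫ grπ X.obj p) ≫ (gr A p).map φ.hom = 0
      rw [Category.assoc, grπ_map, reassoc_of% hxy, tr_grπ _ h, comp_zero]
    obtain ⟨T₁, π₁, hπ₁, kbar, hkbar⟩ := (hex p).exact_up_to_refinements _ h1
    change T₁ ⟶ (gr A p).obj (kernel φ.hom) at kbar
    change π₁ ≫ x ≫ grπ X.obj p = kbar ≫ (gr A p).map (kernel.ι φ.hom) at hkbar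
    obtain ⟨T₂, π₂, hπ₂, k, hk⟩ := surjective_up_to_refinements_of_epi (grπ (kernel φ.hom) p) kbar
    have h2 : (π₂ ≫ π₁ ≫ x - k ≫ (kernel.ι φ.hom).app (op p)) ≫ grπ X.obj p = 0 := by
      rw [Preadditive.sub_comp, Category.assoc, Category.assoc, Category.assoc, hkbar,
        reassoc_of% hk, ← grπ_map, sub_self]
    obtain ⟨x₁, hx₁⟩ := exists_lift_of_grπ_eq_zero X p _ h2
    refine ⟨T₂, π₂ ≫ π₁, inferInstance, x₁, ?_⟩
    haveI : Mono (Y.obj.map (stepHom p)) := Y.property.1 _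
    rw [← cancel_mono (Y.obj.map (stepHom p)), Category.assoc, ← φ.hom.naturality,
      reassoc_of% hx₁, Preadditive.sub_comp, Category.assoc, Category.assoc, Category.assoc,
      kerι_app_comp, comp_zero, sub_zero, hxy, stepHom_eq]
    simp only [Category.assoc]
    erw [tr_tr]

end Ker

end Groth.Agent.Lib.Helper86.FilD
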