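import Mathlib
import Groth.Prelude.Def_FilD
import Groth.Agent.Lib.Helper86.FilDKer

/-!
# helper86: filtered injective objects of `FilD`

* `natTransOfSteps`: natural transformations on `ℤᵒᵖ ⥤ A` from step-compatible families
* `kerFil φ`: the kernel of a morphism of finite filtered objects, as a finite filtered object
* `mono_app_of_mono`, `mono_of_mono_app`
* `injective_level`: the levels of a filtered injective object are injective
* `exists_extension`: extension of morphisms into filtered injectives along strict morphisms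
-/

set_option autoImplicit false
universe v u

open CategoryTheory CategoryTheory.Limits Opposite

namespace Groth.Agent.Lib.Helper86.FilD

open _root_.FilD

variable {A : Type u} [Category.{v} A] [Abelian A]

section NatTrans

variable {F G : ℤᵒᵖ ⥤ A} (g : ∀ p : ℤ, F.obj (op p) ⟶ G.obj (op p))
  (hg : ∀ p : ℤ, F.map (stepHom p) ≫ g p = g (p + 1) ≫ G.map (stepHom p))

include hg in
lemma tr_comp_of_steps : ∀ (n : ℕ) (p q : ℤ) (h : p ≤ q), q = p + n →
    tr F h ≫ g p = g q ≫ tr G h := by
  intro n
  induction n with
  | zero =>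
    intro p q h hq
    obtain rfl : q = p := by simpa using hq
    simp [tr_refl]
  | succ n ih =>
    intro p q h hq
    have hq' : p + 1 ≤ q := by push_cast at hq; lia
    have e1 : tr F h = tr F hq' ≫ F.map (stepHom p) := by
      rw [stepHom_eq]; exact (tr_tr F _ _).symm
    have e2 : tr G h = tr G hq' ≫ G.map (stepHom p) := by
      rw [stepHom_eq]; exact (tr_tr G _ _).symm
    rw [e1, e2, Category.assoc, hg, ← Category.assoc,
      ih (p + 1) q hq' (by push_cast at hq; lia), Category.assoc]

/-- a natural transformation from a step-compatible family. -/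
noncomputable def natTransOfSteps : F ⟶ G where
  app P := g P.unop
  naturality P Q f := by
    obtain ⟨h, rfl⟩ := hom_eq f
    exact tr_comp_of_steps g hg (P.unop - Q.unop).toNat Q.unop P.unop h (by lia)

@[simp]
lemma natTransOfSteps_app (p : ℤ) : (natTransOfSteps g hg).app (op p) = g p := rfl

end NatTrans

section Ker

variable {X Y : FilF A} (φ : X ⟶ Y)

lemma isFinFil_kernel : IsFinFil A (kernel φ.hom) := by
  refine ⟨?_, ?_, ?_⟩
  · intro P Q f
    have : Mono ((kernel φ.hom).map f ≫ (kernel.ι φ.hom).app Q) := by
      rw [(kernel.ι φ.hom).naturality]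
      haveI : Mono ((kernel.ι φ.hom).app P) := kerι_app_mono φ P.unop
      haveI : Mono (X.obj.map f) := X.property.1 f
      exact mono_comp _ _
    exact mono_of_mono _ ((kernel.ι φ.hom).app Q)
  · obtain ⟨b, hb⟩ := X.property.2.1
    refine ⟨b, fun p hp => ?_⟩
    haveI := kerι_app_mono φ p
    exact IsZero.of_mono ((kernel.ι φ.hom).app (op p)) (hb p hp)
  · obtain ⟨a₁, ha₁⟩ := X.property.2.2
    obtain ⟨a₂, ha₂⟩ := Y.property.2.2
    refine ⟨min a₁ a₂, ?_⟩
    intro P Q f hP
    obtain ⟨P⟩ := P
    obtain ⟨Q⟩ := Q
    haveI : IsIso (X.obj.map f) := ha₁ f (le_trans hP (min_le_left _ _))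
    haveI : IsIso (Y.obj.map f) := ha₂ f (le_trans hP (min_le_right _ _))
    haveI : Mono ((kernel φ.hom).map f) := by
      have : Mono ((kernel φ.hom).map f ≫ (kernel.ι φ.hom).app (op Q)) := by
        rw [(kernel.ι φ.hom).naturality]
        haveI : Mono ((kernel.ι φ.hom).app (op P)) := kerι_app_mono φ P
        exact mono_comp _ _
      exact mono_of_mono _ ((kernel.ι φ.hom).app (op Q))
    have h0 : ((kernel.ι φ.hom).app (op Q) ≫ inv (X.obj.map f)) ≫ φ.hom.app (op P) = 0 := by
      rw [← cancel_mono (Y.obj.map f), Category.assoc, Category.assoc, ← φ.hom.naturality,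
        IsIso.inv_hom_id_assoc, zero_comp, kerι_app_comp]
    obtain ⟨k', hk'⟩ := exists_ker_lift φ P _ h0
    have hsplit : k' ≫ (kernel φ.hom).map f = 𝟙 _ := by
      haveI := kerι_app_mono φ Q
      rw [← cancel_mono ((kernel.ι φ.hom).app (op Q)), Category.assoc,
        (kernel.ι φ.hom).naturality, reassoc_of% hk']
      simp
    haveI : IsSplitEpi ((kernel φ.hom).map f) := ⟨⟨k', hsplit⟩⟩
    exact isIso_of_mono_of_isSplitEpi _

/-- the kernel of a morphism of finite filtered objects (with the induced filtration). -/
noncomputable def kerFil : FilF A := ⟨kernel φ.hom, isFinFil_kernel φ⟩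

/-- the inclusion of the kernel. -/
noncomputable def kerFilι : kerFil φ ⟶ X := ObjectProperty.homMk (kernel.ι φ.hom)

lemma kerFilι_comp : kerFilι φ ≫ φ = 0 := by
  ext : 1
  exact kernel.condition φ.hom

lemma mono_app_of_mono [Mono φ] (p : ℤ) : Mono (φ.hom.app (op p)) := by
  have h0 : kerFilι φ = 0 := by
    rw [← cancel_mono φ, kerFilι_comp, zero_comp]
  have h1 : kernel.ι φ.hom = 0 := congr_arg (fun ψ => ψ.hom) h0
  apply Preadditive.mono_of_cancel_zero
  intro T x hx
  obtain ⟨k, hk⟩ := exists_ker_lift φ p x hx
  rw [← hk, h1]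
  simp

lemma mono_of_mono_app (h : ∀ p : ℤ, Mono (φ.hom.app (op p))) : Mono φ := by
  constructor
  intro Z a b hab
  ext P
  obtain ⟨p⟩ := P
  have h2 := congr_arg (fun ψ => ψ.hom.app (op p)) hab
  simp only [ObjectProperty.FullSubcategory.comp_hom, NatTrans.comp_app] at h2
  haveI := h p
  exact (cancel_mono _).1 h2

end Ker

section Injective

lemma injective_level {I : FilF A} (hI : IsFilteredInjective I) (p : ℤ) :
    Injective (I.obj.obj (op p)) := by
  obtain ⟨b, hb⟩ := I.property.2.1
  have key : ∀ n : ℕ, ∀ p : ℤ, b ≤ p + n → Injective (I.obj.obj (op p)) := by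
    intro n
    induction n with
    | zero =>
      intro p hp
      exact (hb p (by simpa using hp)).injective
    | succ n ih =>
      intro p hp
      haveI : Injective (I.obj.obj (op (p + 1))) := ih (p + 1) (by push_cast at hp; lia)
      haveI : Injective ((gr A p).obj I.obj) := hI p
      let S : ShortComplex A := ShortComplex.mk (I.obj.map (stepHom p)) (grπ I.obj p)
        (step_grπ _ _)
      have hS : S.Exact := ShortComplex.exact_of_g_is_cokernel _ (cokernelIsCokernel _)
      haveI : Mono S.f := I.property.1 _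
      haveI : Epi S.g := inferInstanceAs (Epi (grπ I.obj p))
      let r : S.X₂ ⟶ S.X₁ := Injective.factorThru (𝟙 _) S.f
      have f_r : S.f ≫ r = 𝟙 _ := Injective.comp_factorThru _ _
      let spl := ShortComplex.Splitting.ofExactOfRetraction S hS r f_r inferInstance
      haveI : Injective (S.X₁ ⊞ S.X₃) :=
        inferInstanceAs (Injective (I.obj.obj (op (p + 1)) ⊞ (gr A p).obj I.obj))
      exact Injective.of_iso spl.isoBinaryBiproduct.symm inferInstance
  exact key (b - p).toNat p (by lia)

end Injective

end Groth.Agent.Lib.Helper86.FilD
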