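import Mathlib
import Groth.Prelude.Def_FilD
import Groth.Agent.Lib.Helper86.FilDInj

/-!
# helper86: filtered objects from families of idempotents; the "total object" of a finite filtration

* `toTotal F a hF q : F_q ⟶ F_a` when `F` is constant below `a`
* `idemObj Χ hΧ : ℤᵒᵖ ⥤ A`, `q ↦ kernel (Χ q)` for a family of endomorphisms `Χ q : E ⟶ E`
  with `Χ q' ≫ Χ q = Χ q` for `q ≤ q'`; its graded pieces are retracts of `E`
-/

set_option autoImplicit false
universe v u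

open CategoryTheory CategoryTheory.Limits Opposite

namespace Groth.Agent.Lib.Helper86.FilD

open _root_.FilD

variable {A : Type u} [Category.{v} A] [Abelian A]

section Total

variable (F : ℤᵒᵖ ⥤ A) (a : ℤ) (hF : ∀ (p : ℤ) (h : p ≤ a), IsIso (tr F h))

/-- the canonical map `F_q ⟶ F_a` to the "total object" when `F` is constant below `a`. -/
noncomputable def toTotal (q : ℤ) : F.obj (op q) ⟶ F.obj (op a) :=
  if h : a ≤ q then tr F h else @inv _ _ _ _ (tr F (le_of_not_ge h)) (hF q (le_of_not_ge h))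

lemma toTotal_of_ge (q : ℤ) (h : a ≤ q) : toTotal F a hF q = tr F h := dif_pos h

lemma tr_toTotal_of_le (q : ℤ) (h : q ≤ a) : tr F h ≫ toTotal F a hF q = 𝟙 _ := by
  by_cases h' : a ≤ q
  · obtain rfl : q = a := le_antisymm h h'
    rw [toTotal_of_ge F q hF q le_rfl, tr_refl]
    simp
  · have : toTotal F a hF q =
        @inv _ _ _ _ (tr F (le_of_not_ge h')) (hF q (le_of_not_ge h')) := dif_neg h'
    rw [this]
    haveI := hF q h
    exact IsIso.hom_inv_id _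

lemma tr_toTotal {q q' : ℤ} (h : q ≤ q') :
    tr F h ≫ toTotal F a hF q = toTotal F a hF q' := by
  by_cases h1 : a ≤ q
  · rw [toTotal_of_ge F a hF q h1, toTotal_of_ge F a hF q' (h1.trans h), tr_tr]
  · have hq : q ≤ a := le_of_not_ge h1
    by_cases h2 : a ≤ q'
    · rw [toTotal_of_ge F a hF q' h2]
      have : tr F h = tr F h2 ≫ tr F hq := (tr_tr F _ _).symm
      rw [this, Category.assoc, tr_toTotal_of_le, Category.comp_id]
    · have hq' : q' ≤ a := le_of_not_ge h2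
      haveI := hF q' hq'
      rw [← cancel_epi (tr F hq'), tr_toTotal_of_le, tr_tr_assoc, tr_toTotal_of_le]

lemma isIso_toTotal_of_le (q : ℤ) (h : q ≤ a) : IsIso (toTotal F a hF q) := by
  haveI := hF q h
  have : toTotal F a hF q = inv (tr F h) := by
    rw [← cancel_epi (tr F h), tr_toTotal_of_le, IsIso.hom_inv_id]
  rw [this]
  infer_instance

end Total

lemma mono_toTotal (X : FilF A) (a : ℤ) (hF : ∀ (p : ℤ) (h : p ≤ a), IsIso (tr X.obj h)) (q : ℤ) :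
    Mono (toTotal X.obj a hF q) := by
  by_cases h : a ≤ q
  · rw [toTotal_of_ge _ _ _ _ h]
    infer_instance
  · haveI := isIso_toTotal_of_le X.obj a hF q (le_of_not_ge h)
    infer_instance

lemma isIso_kernelι_of_eq_zero {X Y : A} (g : X ⟶ Y) (h : g = 0) : IsIso (kernel.ι g) := by
  subst h
  infer_instance

section Idem

variable {E : A} (Χ : ℤ → (E ⟶ E)) (hΧ : ∀ q q' : ℤ, q ≤ q' → Χ q' ≫ Χ q = Χ q)

/-- the filtered object `q ↦ kernel (Χ q)`. -/
noncomputable def idemObj : ℤᵒᵖ ⥤ A where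
  obj P := kernel (Χ P.unop)
  map {P Q} f := kernel.lift (Χ Q.unop) (kernel.ι (Χ P.unop)) (by
    rw [← hΧ _ _ (leOfHom f.unop), ← Category.assoc, kernel.condition, zero_comp])
  map_id P := by
    rw [← cancel_mono (kernel.ι _)]
    simp
  map_comp f g := by
    rw [← cancel_mono (kernel.ι _)]
    simp

/-- the inclusion `kernel (Χ q) ⟶ E`. -/
noncomputable def idemι (P : ℤᵒᵖ) : (idemObj Χ hΧ).obj P ⟶ E := kernel.ι (Χ P.unop)

instance (P : ℤᵒᵖ) : Mono (idemι Χ hΧ P) :=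
  inferInstanceAs (Mono (kernel.ι (Χ P.unop)))

@[reassoc (attr := simp)]
lemma idemι_comp (P : ℤᵒᵖ) : idemι Χ hΧ P ≫ Χ P.unop = 0 := kernel.condition _

/-- lifting to `kernel (Χ q)`. -/
noncomputable def idemLiftHom {T : A} (P : ℤᵒᵖ) (x : T ⟶ E) (hx : x ≫ Χ P.unop = 0) :
    T ⟶ (idemObj Χ hΧ).obj P := kernel.lift _ x hx

@[reassoc (attr := simp)]
lemma idemLiftHom_ι {T : A} (P : ℤᵒᵖ) (x : T ⟶ E) (hx : x ≫ Χ P.unop = 0) :
    idemLiftHom Χ hΧ P x hx ≫ idemι Χ hΧ P = x := kernel.lift_ι _ _ _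

@[reassoc (attr := simp)]
lemma idemObj_map_ι {P Q : ℤᵒᵖ} (f : P ⟶ Q) :
    (idemObj Χ hΧ).map f ≫ idemι Χ hΧ Q = idemι Χ hΧ P :=
  kernel.lift_ι _ _ _

lemma isIso_idemι (P : ℤᵒᵖ) (h : Χ P.unop = 0) : IsIso (idemι Χ hΧ P) :=
  isIso_kernelι_of_eq_zero _ h

lemma isFinFil_idemObj (a b : ℤ) (ha : ∀ q, q ≤ a → Χ q = 0) (hb : ∀ q, b ≤ q → Χ q = 𝟙 E) :
    IsFinFil A (idemObj Χ hΧ) := by
  refine ⟨?_, ⟨b, ?_⟩, ⟨a, ?_⟩⟩
  · intro P Q f
    have : Mono ((idemObj Χ hΧ).map f ≫ idemι Χ hΧ Q) := by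
      rw [idemObj_map_ι]; infer_instance
    exact mono_of_mono _ (idemι Χ hΧ Q)
  · intro p hp
    apply IsZero.of_mono_eq_zero (idemι Χ hΧ (op p))
    have := idemι_comp Χ hΧ (op p)
    rwa [hb p hp, Category.comp_id] at this
  · intro P Q f hP
    have hQ : Q.unop ≤ a := le_trans (leOfHom f.unop) hP
    haveI := isIso_idemι Χ hΧ P (ha _ hP)
    haveI := isIso_idemι Χ hΧ Q (ha _ hQ)
    exact IsIso.of_isIso_fac_right (idemObj_map_ι Χ hΧ f)

lemma injective_gr_idemObj [Injective E] (q : ℤ) :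
    Injective ((gr A q).obj (idemObj Χ hΧ)) := by
  have hidem : ∀ q, Χ q ≫ Χ q = Χ q := fun q => hΧ q q le_rfl
  let I := idemObj Χ hΧ
  have htr : I.map (stepHom q) ≫ idemι Χ hΧ (op q) = idemι Χ hΧ (op (q + 1)) :=
    idemObj_map_ι Χ hΧ (stepHom q)
  let r₀ : E ⟶ I.obj (op q) := idemLiftHom Χ hΧ (op q) (𝟙 E - Χ q) (by
    change (𝟙 E - Χ q) ≫ Χ q = 0
    rw [Preadditive.sub_comp, Category.id_comp, hidem, sub_self])
  let s : (gr A q).obj I ⟶ E :=
    cokernel.desc (I.map (stepHom q)) (idemι Χ hΧ (op q) ≫ Χ (q + 1)) (by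
      rw [reassoc_of% htr]
      exact idemι_comp Χ hΧ (op (q + 1)))
  let t : I.obj (op q) ⟶ I.obj (op (q + 1)) :=
    idemLiftHom Χ hΧ (op (q + 1)) (idemι Χ hΧ (op q) ≫ (𝟙 E - Χ (q + 1))) (by
      change (idemι Χ hΧ (op q) ≫ (𝟙 E - Χ (q + 1))) ≫ Χ (q + 1) = 0
      rw [Category.assoc, Preadditive.sub_comp, Category.id_comp, hidem, sub_self, comp_zero])
  have hw : idemι Χ hΧ (op q) ≫ Χ (q + 1) ≫ r₀ + t ≫ I.map (stepHom q) = 𝟙 _ := by
    rw [← cancel_mono (idemι Χ hΧ (op q))]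
    simp only [Preadditive.add_comp, Category.assoc, htr, r₀, t, idemLiftHom_ι, Category.id_comp]
    rw [Preadditive.comp_sub, Preadditive.comp_sub, Preadditive.comp_sub, Category.comp_id,
      Category.comp_id, hΧ q (q + 1) (by lia)]
    have := idemι_comp Χ hΧ (op q)
    change idemι Χ hΧ (op q) ≫ Χ q = 0 at this
    rw [this]
    abel
  have hsr : s ≫ r₀ ≫ grπ I q = 𝟙 _ := by
    rw [← cancel_epi (grπ I q)]
    have e1 : grπ I q ≫ s = idemι Χ hΧ (op q) ≫ Χ (q + 1) := cokernel.π_desc _ _ _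
    rw [reassoc_of% e1, Category.comp_id]
    have := hw =≫ grπ I q
    rw [Preadditive.add_comp, Category.assoc, Category.assoc, Category.assoc, step_grπ, comp_zero,
      add_zero, Category.id_comp] at this
    exact this
  exact (Retract.mk s (r₀ ≫ grπ I q) hsr).injective

/-- morphisms into `idemObj`. -/
noncomputable def idemLift {F : ℤᵒᵖ ⥤ A} (v : ∀ q : ℤ, F.obj (op q) ⟶ E)
    (hv : ∀ q, v q ≫ Χ q = 0) (hv' : ∀ (q q' : ℤ) (h : q ≤ q'), tr F h ≫ v q = v q') :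
    F ⟶ idemObj Χ hΧ where
  app P := idemLiftHom Χ hΧ P (v P.unop) (hv _)
  naturality P Q f := by
    rw [← cancel_mono (idemι Χ hΧ Q)]
    simp only [Category.assoc, idemObj_map_ι, idemLiftHom_ι]
    obtain ⟨h, rfl⟩ := hom_eq f
    exact hv' _ _ h

@[reassoc (attr := simp)]
lemma idemLift_app_ι {F : ℤᵒᵖ ⥤ A} (v : ∀ q : ℤ, F.obj (op q) ⟶ E)
    (hv : ∀ q, v q ≫ Χ q = 0) (hv' : ∀ (q q' : ℤ) (h : q ≤ q'), tr F h ≫ v q = v q') (q : ℤ) :
    (idemLift Χ hΧ v hv hv').app (op q) ≫ idemι Χ hΧ (op q) = v q :=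
  idemLiftHom_ι _ _ _ _ _

end Idem

end Groth.Agent.Lib.Helper86.FilD
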