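import Mathlib
import Groth.Prelude.Def_FilD
import Groth.Agent.Lib.Helper86.FilDIdem

/-!
# helper86: enough filtered injectives in `FilD.FilF A`
-/

set_option autoImplicit false
universe v u

open CategoryTheory CategoryTheory.Limits Opposite

namespace Groth.Agent.Lib.Helper86.FilD

open _root_.FilD

variable {A : Type u} [Category.{v} A] [Abelian A]

lemma injective_biproduct {J : Type*} (c : J → A) [HasBiproduct c] [∀ j, Injective (c j)] :
    Injective (⨁ c) where
  factors g f mono := by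
    refine ⟨biproduct.lift fun b => Injective.factorThru (g ≫ biproduct.π _ _) f, ?_⟩
    ext
    simp only [Category.assoc, biproduct.lift_π, Injective.comp_factorThru]

theorem exists_strict_mono_filteredInjective [EnoughInjectives A] (X : FilF A) :
    ∃ (I : FilF A) (u : X ⟶ I), IsFilteredInjective I ∧ Mono u ∧ IsStrict u := by
  classical
  obtain ⟨b, hb⟩ := X.property.2.1
  obtain ⟨a₀, ha₀⟩ := X.property.2.2
  obtain ⟨a, ha_def⟩ : ∃ a : ℤ, a = min a₀ (b - 1) := ⟨_, rfl⟩
  have haa₀ : a ≤ a₀ := by rw [ha_def]; exact min_le_left _ _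
  have hab : a ≤ b - 1 := by rw [ha_def]; exact min_le_right _ _
  have hF : ∀ (p : ℤ) (h : p ≤ a), IsIso (tr X.obj h) := fun p h => ha₀ _ haa₀
  let J := ↥(Set.Ico a b)
  haveI : Finite J := inferInstanceAs (Finite ↥(Set.Ico a b))
  haveI : HasFiniteBiproducts A := Abelian.hasFiniteBiproducts
  haveI : HasBiproductsOfShape J A := hasBiproductsOfShape_finite A
  have hJ1 : ∀ j : J, a ≤ j.1 + 1 := fun j => by have := j.2.1; lia
  let E' : J → A := fun j => Injective.under (cokernel (tr X.obj (hJ1 j)))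
  let c' : ∀ j : J, X.obj.obj (op a) ⟶ E' j := fun j => cokernel.π _ ≫ Injective.ι _
  have hc' : ∀ j : J, tr X.obj (hJ1 j) ≫ c' j = 0 := fun j => by
    simp only [c', cokernel.condition_assoc, zero_comp]
  have hc'lift : ∀ (j : J) ⦃T : A⦄ (z : T ⟶ X.obj.obj (op a)), z ≫ c' j = 0 →
      ∃ z₁ : T ⟶ X.obj.obj (op (j.1 + 1)), z₁ ≫ tr X.obj (hJ1 j) = z := by
    intro j T z hz
    have : z ≫ cokernel.π (tr X.obj (hJ1 j)) = 0 := by
      rw [← cancel_mono (Injective.ι (cokernel (tr X.obj (hJ1 j)))), Category.assoc, zero_comp]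
      exact hz
    exact ⟨Abelian.monoLift _ z this, Abelian.monoLift_comp _ _ _⟩
  let E : A := ⨁ E'
  haveI : Injective E := injective_biproduct E'
  let c : X.obj.obj (op a) ⟶ E := biproduct.lift c'
  let Χ : ℤ → (E ⟶ E) := fun q => biproduct.map (fun j : J => if j.1 < q then 𝟙 (E' j) else 0)
  have hΧπ : ∀ (q : ℤ) (j : J), Χ q ≫ biproduct.π E' j =
      biproduct.π E' j ≫ (if j.1 < q then 𝟙 (E' j) else 0) := fun q j => biproduct.map_π _ _
  have hΧ : ∀ q q' : ℤ, q ≤ q' → Χ q' ≫ Χ q = Χ q := by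
    intro q q' h
    apply biproduct.hom_ext
    intro j
    rw [Category.assoc, hΧπ q j, reassoc_of% (hΧπ q' j)]
    by_cases hj : j.1 < q
    · rw [if_pos hj, if_pos (lt_of_lt_of_le hj h)]; simp
    · rw [if_neg hj]; simp
  have ha : ∀ q, q ≤ a → Χ q = 0 := by
    intro q hq
    apply biproduct.hom_ext
    intro j
    rw [hΧπ q j, if_neg (by have := j.2.1; lia)]
    simp
  have hb' : ∀ q, b ≤ q → Χ q = 𝟙 E := by
    intro q hq
    apply biproduct.hom_ext
    intro j
    rw [hΧπ q j, if_pos (by have := j.2.2; lia)]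
    simp
  let I : FilF A := ⟨idemObj Χ hΧ, isFinFil_idemObj Χ hΧ a b ha hb'⟩
  have hIinj : IsFilteredInjective I := fun q => injective_gr_idemObj Χ hΧ q
  let v : ∀ q : ℤ, X.obj.obj (op q) ⟶ E := fun q => toTotal X.obj a hF q ≫ c
  have hv : ∀ q, v q ≫ Χ q = 0 := by
    intro q
    apply biproduct.hom_ext
    intro j
    simp only [v, c, Category.assoc, zero_comp]
    rw [hΧπ q j, biproduct.lift_π_assoc]
    by_cases hj : j.1 < q
    · rw [if_pos hj, Category.comp_id]
      have h1 : j.1 + 1 ≤ q := hj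
      have h2 : a ≤ q := le_trans (hJ1 j) h1
      rw [toTotal_of_ge _ _ _ _ h2, ← tr_tr X.obj (hJ1 j) h1, Category.assoc, hc' j, comp_zero]
    · rw [if_neg hj]; simp
  have hv' : ∀ (q q' : ℤ) (h : q ≤ q'), tr X.obj h ≫ v q = v q' := by
    intro q q' h
    simp only [v]
    rw [← Category.assoc, tr_toTotal]
  let u : X ⟶ I := ObjectProperty.homMk (idemLift Χ hΧ v hv hv')
  have hu : ∀ q : ℤ, u.hom.app (op q) ≫ idemι Χ hΧ (op q) = v q := fun q =>
    idemLift_app_ι Χ hΧ v hv hv' q
  have hcmono : Mono c := by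
    apply Preadditive.mono_of_cancel_zero
    intro T z hz
    let j₀ : J := ⟨b - 1, hab, by lia⟩
    have hz' : z ≫ c' j₀ = 0 := by
      have := hz =≫ biproduct.π E' j₀
      simpa only [c, Category.assoc, biproduct.lift_π, zero_comp] using this
    obtain ⟨z₁, hz₁⟩ := hc'lift j₀ z hz'
    have : z₁ = 0 := (hb (j₀.1 + 1) (by simp [j₀])).eq_of_tgt _ _
    rw [← hz₁, this, zero_comp]
  have hK : ∀ (q : ℤ) ⦃T : A⦄ (z : T ⟶ X.obj.obj (op a)), z ≫ c ≫ Χ q = 0 →
      ∃ z' : T ⟶ X.obj.obj (op q), z' ≫ toTotal X.obj a hF q = z := by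
    intro q T z hz
    by_cases hq : q ≤ a
    · haveI := isIso_toTotal_of_le X.obj a hF q hq
      exact ⟨z ≫ inv (toTotal X.obj a hF q), by simp⟩
    · have hq' : a < q := lt_of_not_ge hq
      let j : J := ⟨min q b - 1, by
        have : a + 1 ≤ min q b := le_min (by lia) (by lia)
        lia, by have := min_le_right q b; lia⟩
      have hjq : j.1 < q := by have := min_le_left q b; simp only [j]; lia
      have hz' : z ≫ c' j = 0 := by
        have := hz =≫ biproduct.π E' j
        simp only [Category.assoc, zero_comp] at this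
        rw [hΧπ q j, if_pos hjq, Category.comp_id] at this
        simpa only [c, biproduct.lift_π] using this
      obtain ⟨z₁, hz₁⟩ := hc'lift j z hz'
      by_cases hqb : q ≤ b
      · have hj1 : q ≤ j.1 + 1 := by simp only [j]; rw [min_eq_left hqb]; lia
        refine ⟨z₁ ≫ tr X.obj hj1, ?_⟩
        rw [toTotal_of_ge _ _ _ _ hq'.le, Category.assoc, tr_tr]
        exact hz₁
      · have hj1 : b ≤ j.1 + 1 := by
          simp only [j]; rw [min_eq_right (le_of_not_ge hqb)]; lia
        have : z₁ = 0 := (hb (j.1 + 1) hj1).eq_of_tgt _ _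
        refine ⟨0, ?_⟩
        rw [zero_comp, ← hz₁, this, zero_comp]
  refine ⟨I, u, hIinj, ?_, ?_⟩
  · apply mono_of_mono_app
    intro q
    have : Mono (u.hom.app (op q) ≫ idemι Χ hΧ (op q)) := by
      rw [hu q]
      haveI := mono_toTotal X a hF q
      exact mono_comp _ _
    exact mono_of_mono _ (idemι Χ hΧ (op q))
  · rw [isStrict_iff]
    intro p q h T x y hxy
    have hz : (x ≫ toTotal X.obj a hF p) ≫ c ≫ Χ q = 0 := by
      have e1 : (x ≫ toTotal X.obj a hF p) ≫ c = y ≫ idemι Χ hΧ (op q) := by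
        have := hxy =≫ idemι Χ hΧ (op p)
        rw [Category.assoc, hu p, Category.assoc] at this
        rw [Category.assoc, this]
        congr 1
        exact idemObj_map_ι Χ hΧ (homOfLE h).op
      rw [← Category.assoc, e1, Category.assoc]
      have := idemι_comp Χ hΧ (op q)
      change idemι Χ hΧ (op q) ≫ Χ q = 0 at this
      rw [this, comp_zero]
    obtain ⟨z', hz'⟩ := hK q _ hz
    refine ⟨T, 𝟙 T, inferInstance, z', ?_⟩
    rw [Category.id_comp, ← cancel_mono (idemι Χ hΧ (op q)), Category.assoc, hu q]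
    simp only [v]
    rw [reassoc_of% hz']
    have := hxy =≫ idemι Χ hΧ (op p)
    rw [Category.assoc, hu p, Category.assoc] at this
    simp only [v] at this
    rw [this]
    congr 1
    exact idemObj_map_ι Χ hΧ (homOfLE h).op

end Groth.Agent.Lib.Helper86.FilD
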