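import Mathlib
import Groth.Prelude.Def_FilD
import Groth.Agent.Lib.Helper86.FilD

/-!
# helper86: `FilD.FilF A` has binary biproducts
-/

set_option autoImplicit false
universe v u

open CategoryTheory CategoryTheory.Limits Opposite

namespace Groth.Agent.Lib.Helper86.FilD

open _root_.FilD

variable {A : Type u} [Category.{v} A] [Abelian A]

section

variable (F G : ℤᵒᵖ ⥤ A)

lemma biprod_total_app (P : ℤᵒᵖ) :
    (biprod.fst : F ⊞ G ⟶ F).app P ≫ (biprod.inl : F ⟶ F ⊞ G).app P +
      (biprod.snd : F ⊞ G ⟶ G).app P ≫ (biprod.inr : G ⟶ F ⊞ G).app P = 𝟙 ((F ⊞ G).obj P) := by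
  rw [← NatTrans.comp_app, ← NatTrans.comp_app, ← NatTrans.app_add, biprod.total]
  rfl

end

lemma isFinFil_biprod (F G : FilF A) : IsFinFil A (F.obj ⊞ G.obj) := by
  refine ⟨?_, ?_, ?_⟩
  · intro P Q f
    apply Preadditive.mono_of_cancel_zero
    intro T x hx
    have h1 : x ≫ (biprod.fst : F.obj ⊞ G.obj ⟶ F.obj).app P = 0 := by
      haveI : Mono (F.obj.map f) := F.property.1 f
      rw [← cancel_mono (F.obj.map f), Category.assoc, ← NatTrans.naturality, reassoc_of% hx,
        zero_comp, zero_comp]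
    have h2 : x ≫ (biprod.snd : F.obj ⊞ G.obj ⟶ G.obj).app P = 0 := by
      haveI : Mono (G.obj.map f) := G.property.1 f
      rw [← cancel_mono (G.obj.map f), Category.assoc, ← NatTrans.naturality, reassoc_of% hx,
        zero_comp, zero_comp]
    have := x ≫= biprod_total_app F.obj G.obj P
    rw [Preadditive.comp_add, reassoc_of% h1, reassoc_of% h2] at this
    simpa using this.symm
  · obtain ⟨b₁, hb₁⟩ := F.property.2.1
    obtain ⟨b₂, hb₂⟩ := G.property.2.1
    refine ⟨max b₁ b₂, fun p hp => ?_⟩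
    rw [IsZero.iff_id_eq_zero, ← biprod_total_app F.obj G.obj (op p)]
    have h1 : (biprod.fst : F.obj ⊞ G.obj ⟶ F.obj).app (op p) = 0 :=
      (hb₁ p (le_trans (le_max_left _ _) hp)).eq_of_tgt _ _
    have h2 : (biprod.snd : F.obj ⊞ G.obj ⟶ G.obj).app (op p) = 0 :=
      (hb₂ p (le_trans (le_max_right _ _) hp)).eq_of_tgt _ _
    rw [h1, h2]
    simp
  · obtain ⟨a₁, ha₁⟩ := F.property.2.2
    obtain ⟨a₂, ha₂⟩ := G.property.2.2
    refine ⟨min a₁ a₂, ?_⟩
    intro P Q f hP
    haveI : IsIso (F.obj.map f) := ha₁ f (le_trans hP (min_le_left _ _))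
    haveI : IsIso (G.obj.map f) := ha₂ f (le_trans hP (min_le_right _ _))
    refine ⟨⟨(biprod.fst : F.obj ⊞ G.obj ⟶ F.obj).app Q ≫ inv (F.obj.map f) ≫
        (biprod.inl : F.obj ⟶ F.obj ⊞ G.obj).app P +
      (biprod.snd : F.obj ⊞ G.obj ⟶ G.obj).app Q ≫ inv (G.obj.map f) ≫
        (biprod.inr : G.obj ⟶ F.obj ⊞ G.obj).app P, ?_, ?_⟩⟩
    · rw [Preadditive.comp_add, NatTrans.naturality_assoc, NatTrans.naturality_assoc,
        IsIso.hom_inv_id_assoc, IsIso.hom_inv_id_assoc]
      exact biprod_total_app F.obj G.obj P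
    · rw [Preadditive.add_comp]
      simp only [Category.assoc]
      rw [← NatTrans.naturality, ← NatTrans.naturality, IsIso.inv_hom_id_assoc,
        IsIso.inv_hom_id_assoc]
      exact biprod_total_app F.obj G.obj Q

/-- the biproduct bicone in `FilF A`. -/
noncomputable def biprodBicone (F G : FilF A) : BinaryBicone F G where
  pt := ⟨F.obj ⊞ G.obj, isFinFil_biprod F G⟩
  fst := ObjectProperty.homMk biprod.fst
  snd := ObjectProperty.homMk biprod.snd
  inl := ObjectProperty.homMk biprod.inl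
  inr := ObjectProperty.homMk biprod.inr
  inl_fst := by ext : 1; exact biprod.inl_fst
  inl_snd := by ext : 1; exact biprod.inl_snd
  inr_fst := by ext : 1; exact biprod.inr_fst
  inr_snd := by ext : 1; exact biprod.inr_snd

instance : HasBinaryBiproducts (FilF A) where
  has_binary_biproduct F G := HasBinaryBiproduct.mk
    { bicone := biprodBicone F G
      isBilimit := isBinaryBilimitOfTotal _ (by ext : 1; exact biprod.total) }

end Groth.Agent.Lib.Helper86.FilD
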