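import Mathlib
import Groth.Prelude.Def_FilD
import Groth.Agent.Lib.Helper86.FilDInj

/-!
# helper86: cokernels of strict morphisms in `FilD.FilF A` and exactness of `gr`
-/

set_option autoImplicit false
universe v u

open CategoryTheory CategoryTheory.Limits Opposite

namespace Groth.Agent.Lib.Helper86.FilD

open _root_.FilD

variable {A : Type u} [Category.{v} A] [Abelian A]

section Coker

variable {X Y : FilF A} (u : X ⟶ Y)

/-- the short complex `X → Y → coker u` in the functor category. -/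
noncomputable abbrev cokerSC : ShortComplex (ℤᵒᵖ ⥤ A) :=
  ShortComplex.mk u.hom (cokernel.π u.hom) (cokernel.condition u.hom)

lemma cokerSC_exact : (cokerSC u).Exact :=
  ShortComplex.exact_of_g_is_cokernel _ (cokernelIsCokernel u.hom)

lemma app_comp_cokerπ (p : ℤ) : u.hom.app (op p) ≫ (cokernel.π u.hom).app (op p) = 0 := by
  rw [← NatTrans.comp_app, cokernel.condition]
  rfl

instance cokerπ_app_epi (P : ℤᵒᵖ) : Epi ((cokernel.π u.hom).app P) :=
  inferInstanceAs (Epi (((evaluation ℤᵒᵖ A).obj P).map (cokernel.π u.hom)))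

lemma exists_of_comp_cokerπ_eq_zero (p : ℤ) {T : A} (y : T ⟶ Y.obj.obj (op p))
    (hy : y ≫ (cokernel.π u.hom).app (op p) = 0) :
    ∃ (T' : A) (π : T' ⟶ T) (_ : Epi π) (x : T' ⟶ X.obj.obj (op p)),
      π ≫ y = x ≫ u.hom.app (op p) := by
  have hex : ((cokerSC u).map ((evaluation ℤᵒᵖ A).obj (op p))).Exact := (cokerSC_exact u).map _
  exact hex.exact_up_to_refinements y hy

lemma isFinFil_cokernel (hu : IsStrict u) : IsFinFil A (cokernel u.hom) := by
  have hmono : ∀ ⦃P Q : ℤᵒᵖ⦄ (f : P ⟶ Q), Mono ((cokernel u.hom).map f) := by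
    intro P Q f
    obtain ⟨q⟩ := P
    obtain ⟨p⟩ := Q
    obtain ⟨h, rfl⟩ := hom_eq f
    change p ≤ q at h
    apply Preadditive.mono_of_cancel_zero
    intro T w hw
    obtain ⟨T₁, π₁, hπ₁, y, hy⟩ := surjective_up_to_refinements_of_epi
      ((cokernel.π u.hom).app (op q)) w
    have h1 : (y ≫ tr Y.obj h) ≫ (cokernel.π u.hom).app (op p) = 0 := by
      rw [Category.assoc]
      erw [(cokernel.π u.hom).naturality]
      rw [← reassoc_of% hy, hw, comp_zero]
    obtain ⟨T₂, π₂, hπ₂, x, hx⟩ := exists_of_comp_cokerπ_eq_zero u p _ h1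
    obtain ⟨T₃, π₃, hπ₃, x', hx'⟩ := (isStrict_iff u).1 hu p q h x (π₂ ≫ y)
      (by rw [← hx, Category.assoc])
    rw [← cancel_epi π₁, ← cancel_epi π₂, ← cancel_epi π₃, comp_zero, comp_zero, comp_zero, hy,
      ← Category.assoc π₂, ← Category.assoc π₃, ← hx', Category.assoc, app_comp_cokerπ, comp_zero]
  refine ⟨hmono, ?_, ?_⟩
  · obtain ⟨b, hb⟩ := Y.property.2.1
    exact ⟨b, fun p hp => IsZero.of_epi ((cokernel.π u.hom).app (op p)) (hb p hp)⟩
  · obtain ⟨a, ha⟩ := Y.property.2.2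
    refine ⟨a, fun P Q f hP => ?_⟩
    haveI := hmono f
    haveI : IsIso (Y.obj.map f) := ha f hP
    haveI : Epi ((cokernel.π u.hom).app P ≫ (cokernel u.hom).map f) := by
      rw [← (cokernel.π u.hom).naturality]
      infer_instance
    haveI : Epi ((cokernel u.hom).map f) := epi_of_epi ((cokernel.π u.hom).app P) _
    exact isIso_of_mono_of_epi _

/-- the cokernel of a strict morphism, with the quotient filtration. -/
noncomputable abbrev cokerFil (hu : IsStrict u) : FilF A := ⟨cokernel u.hom, isFinFil_cokernel u hu⟩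

/-- the projection to the cokernel. -/
noncomputable abbrev cokerFilπ (hu : IsStrict u) : Y ⟶ cokerFil u hu :=
  ObjectProperty.homMk (cokernel.π u.hom)

lemma comp_cokerFilπ (hu : IsStrict u) : u ≫ cokerFilπ u hu = 0 := by
  ext : 1
  exact cokernel.condition u.hom

instance (hu : IsStrict u) (p : ℤ) : Epi ((cokerFilπ u hu).hom.app (op p)) :=
  cokerπ_app_epi u (op p)

instance epi_gr_cokerFilπ (hu : IsStrict u) (p : ℤ) : Epi ((gr A p).map (cokerFilπ u hu).hom) := by
  have : Epi (grπ Y.obj p ≫ (gr A p).map (cokerFilπ u hu).hom) := by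
    rw [grπ_map]
    infer_instance
  exact epi_of_epi (grπ Y.obj p) _

lemma gr_exact_coker (hu : IsStrict u) (p : ℤ) :
    (ShortComplex.mk ((gr A p).map u.hom) ((gr A p).map (cokerFilπ u hu).hom)
      (by rw [← Functor.map_comp, ← ObjectProperty.FullSubcategory.comp_hom, comp_cokerFilπ]
          exact (gr A p).map_zero _ _)).Exact := by
  rw [ShortComplex.exact_iff_exact_up_to_refinements]
  intro T ybar hybar
  change T ⟶ (gr A p).obj Y.obj at ybar
  change ybar ≫ (gr A p).map (cokerFilπ u hu).hom = 0 at hybar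
  obtain ⟨T₁, π₁, hπ₁, y, hy⟩ := surjective_up_to_refinements_of_epi (grπ Y.obj p) ybar
  have h1 : (y ≫ (cokerFilπ u hu).hom.app (op p)) ≫ grπ (cokerFil u hu).obj p = 0 := by
    rw [Category.assoc, ← grπ_map, ← reassoc_of% hy, hybar, comp_zero]
  obtain ⟨w, hw⟩ := exists_lift_of_grπ_eq_zero (cokerFil u hu) p _ h1
  obtain ⟨T₂, π₂, hπ₂, y', hy'⟩ := surjective_up_to_refinements_of_epi
    ((cokerFilπ u hu).hom.app (op (p + 1))) w
  have h2 : (π₂ ≫ y - y' ≫ Y.obj.map (stepHom p)) ≫ (cokernel.π u.hom).app (op p) = 0 := by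
    have e1 : Y.obj.map (stepHom p) ≫ (cokernel.π u.hom).app (op p) =
        (cokernel.π u.hom).app (op (p + 1)) ≫ (cokernel u.hom).map (stepHom p) :=
      (cokernel.π u.hom).naturality _
    have e2 : π₂ ≫ w = y' ≫ (cokernel.π u.hom).app (op (p + 1)) := hy'
    have e3 : w ≫ (cokernel u.hom).map (stepHom p) = y ≫ (cokernel.π u.hom).app (op p) := hw
    rw [Preadditive.sub_comp, Category.assoc, Category.assoc, e1, ← reassoc_of% e2, e3]
    exact sub_self _
  obtain ⟨T₃, π₃, hπ₃, x, hx⟩ := exists_of_comp_cokerπ_eq_zero u p _ h2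
  refine ⟨T₃, π₃ ≫ π₂ ≫ π₁, inferInstance, x ≫ grπ X.obj p, ?_⟩
  change (π₃ ≫ π₂ ≫ π₁) ≫ ybar = (x ≫ grπ X.obj p) ≫ (gr A p).map u.hom
  rw [Category.assoc, Category.assoc, Category.assoc, grπ_map, ← reassoc_of% hx,
    Preadditive.sub_comp, Preadditive.comp_sub, Category.assoc, Category.assoc, step_grπ,
    comp_zero, comp_zero, sub_zero, hy]

lemma mono_gr_of_strict_mono (hu : IsStrict u) (hm : ∀ p : ℤ, Mono (u.hom.app (op p))) (p : ℤ) :
    Mono ((gr A p).map u.hom) := by
  apply Preadditive.mono_of_cancel_zero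
  intro T xbar hxbar
  obtain ⟨T₁, π₁, hπ₁, x, hx⟩ := surjective_up_to_refinements_of_epi (grπ X.obj p) xbar
  have h1 : (x ≫ u.hom.app (op p)) ≫ grπ Y.obj p = 0 := by
    rw [Category.assoc, ← grπ_map, ← reassoc_of% hx, hxbar, comp_zero]
  obtain ⟨y, hy⟩ := exists_lift_of_grπ_eq_zero Y p _ h1
  obtain ⟨T₂, π₂, hπ₂, x', hx'⟩ := (isStrict_iff u).1 hu p (p + 1) (by lia) x y
    (by rw [← hy, stepHom_eq])
  have h2 : x' ≫ X.obj.map (stepHom p) = π₂ ≫ x := by
    haveI := hm p
    rw [← cancel_mono (u.hom.app (op p)), Category.assoc, u.hom.naturality, reassoc_of% hx',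
      hy, Category.assoc]
  rw [← cancel_epi π₁, ← cancel_epi π₂, comp_zero, comp_zero, hx, ← reassoc_of% h2, step_grπ,
    comp_zero]

end Coker

end Groth.Agent.Lib.Helper86.FilD
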