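import Mathlib
import Groth.Prelude.Def_FilD
import Groth.Agent.Lib.Helper86.FilDCoker
import Groth.Agent.Lib.Helper86.FilDBiprod

/-!
# helper86: canonical truncation `τ_{≥ a}` of complexes of finite filtered objects
-/

set_option autoImplicit false
universe v u

open CategoryTheory CategoryTheory.Limits Opposite

namespace Groth.Agent.Lib.Helper86.FilD

open _root_.FilD

variable {A : Type u} [Category.{v} A] [Abelian A]

section Strict

lemma isStrict_of_section {X Y : FilF A} (u : X ⟶ Y) (s : Y ⟶ X) (hs : s ≫ u = 𝟙 Y) :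
    IsStrict u := by
  rw [isStrict_iff]
  intro p q h T x y _
  refine ⟨T, 𝟙 T, inferInstance, y ≫ s.hom.app (op q), ?_⟩
  have : s.hom.app (op q) ≫ u.hom.app (op q) = 𝟙 _ := by
    have := congr_arg (fun φ => φ.hom.app (op q)) hs
    simpa using this
  rw [Category.assoc, this, Category.comp_id, Category.id_comp]

lemma isStrict_zero (X Y : FilF A) : IsStrict (0 : X ⟶ Y) := by
  rw [isStrict_iff]
  intro p q h T x y hxy
  refine ⟨T, 𝟙 T, inferInstance, 0, ?_⟩
  have h0 : (0 : X ⟶ Y).hom.app (op p) = 0 := rfl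
  have hy : y = 0 := by
    rw [← cancel_mono (tr Y.obj h), ← hxy, h0, comp_zero, zero_comp]
  rw [hy]
  simp

lemma isStrict_comp_of_section {X X' Y : FilF A} (e : X ⟶ X') (s : X' ⟶ X) (hs : s ≫ e = 𝟙 X')
    (d : X' ⟶ Y) (hd : IsStrict d) : IsStrict (e ≫ d) := by
  rw [isStrict_iff] at hd ⊢
  intro p q h T x y hxy
  obtain ⟨T', π, hπ, x₁, hx₁⟩ := hd p q h (x ≫ e.hom.app (op p)) y (by
    rw [Category.assoc]; exact hxy)
  refine ⟨T', π, hπ, x₁ ≫ s.hom.app (op q), ?_⟩
  have : s.hom.app (op q) ≫ e.hom.app (op q) = 𝟙 _ := by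
    have := congr_arg (fun φ => φ.hom.app (op q)) hs
    simpa using this
  change (x₁ ≫ s.hom.app (op q)) ≫ e.hom.app (op q) ≫ d.hom.app (op q) = π ≫ y
  rw [Category.assoc, reassoc_of% this, hx₁]

end Strict

section Desc

variable {X Y W : FilF A} (u : X ⟶ Y) (hu : IsStrict u)

/-- descent to the cokernel. -/
noncomputable def cokerFilDesc (ψ : Y ⟶ W) (h : u ≫ ψ = 0) : cokerFil u hu ⟶ W :=
  ObjectProperty.homMk (cokernel.desc u.hom ψ.hom (by
    have := congr_arg (fun φ => φ.hom) h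
    simpa using this))

@[reassoc (attr := simp)]
lemma cokerFilπ_desc (ψ : Y ⟶ W) (h : u ≫ ψ = 0) :
    cokerFilπ u hu ≫ cokerFilDesc u hu ψ h = ψ := by
  ext : 1
  exact cokernel.π_desc _ _ _

lemma cokerFil_hom_ext {f g : cokerFil u hu ⟶ W} (h : cokerFilπ u hu ≫ f = cokerFilπ u hu ≫ g) :
    f = g := by
  ext : 1
  have := congr_arg (fun φ => φ.hom) h
  simp only [ObjectProperty.FullSubcategory.comp_hom] at this
  exact (cancel_epi (cokernel.π u.hom)).1 this

end Desc

section TruncGE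

variable (K : CochainComplex (FilF A) ℤ) (a : ℤ)

/-- first component of `truncξ`. -/
noncomputable def truncA (n : ℤ) : K.X (n - 1) ⟶ K.X n := if n ≤ a then K.d (n - 1) n else 0

/-- second component of `truncξ`. -/
noncomputable def truncB (n : ℤ) : K.X n ⟶ K.X n := if n < a then 𝟙 _ else 0

/-- the map whose cokernel is the `n`-th term of `τ_{≥ a} K`. -/
noncomputable def truncξ (n : ℤ) : K.X (n - 1) ⊞ K.X n ⟶ K.X n :=
  biprod.desc (truncA K a n) (truncB K a n)

lemma truncξ_eq (n : ℤ) :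
    truncξ K a n = biprod.fst ≫ truncA K a n + biprod.snd ≫ truncB K a n :=
  biprod.desc_eq

lemma truncξ_strict (hd : IsStrict (K.d (a - 1) a)) (n : ℤ) : IsStrict (truncξ K a n) := by
  rcases lt_trichotomy n a with h | h | h
  · refine isStrict_of_section _ biprod.inr ?_
    rw [truncξ, biprod.inr_desc, truncB, if_pos h]
  · subst h
    have : truncξ K n n = biprod.fst ≫ K.d (n - 1) n := by
      rw [truncξ_eq, truncA, truncB, if_pos le_rfl, if_neg (lt_irrefl _), comp_zero, add_zero]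
    rw [this]
    exact isStrict_comp_of_section _ biprod.inl biprod.inl_fst _ hd
  · have : truncξ K a n = 0 := by
      rw [truncξ_eq, truncA, truncB, if_neg (not_le.2 h), if_neg (not_lt.2 h.le), comp_zero,
        comp_zero, add_zero]
    rw [this]
    exact isStrict_zero _ _

variable (hξ : ∀ n, IsStrict (truncξ K a n))

/-- the terms of `τ_{≥ a} K`. -/
noncomputable abbrev truncX (n : ℤ) : FilF A := cokerFil (truncξ K a n) (hξ n)

/-- the projection `K^n ⟶ (τ_{≥ a} K)^n`. -/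
noncomputable abbrev truncπ (n : ℤ) : K.X n ⟶ truncX K a hξ n :=
  cokerFilπ (truncξ K a n) (hξ n)

@[reassoc]
lemma truncξ_π (n : ℤ) : truncξ K a n ≫ truncπ K a hξ n = 0 := comp_cokerFilπ _ _

@[reassoc]
lemma truncA_π (n : ℤ) : truncA K a n ≫ truncπ K a hξ n = 0 := by
  have := biprod.inl ≫= truncξ_π K a hξ n
  rwa [truncξ, biprod.inl_desc_assoc, comp_zero] at this

@[reassoc]
lemma truncB_π (n : ℤ) : truncB K a n ≫ truncπ K a hξ n = 0 := by
  have := biprod.inr ≫= truncξ_π K a hξ n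
  rwa [truncξ, biprod.inr_desc_assoc, comp_zero] at this

lemma d_truncπ_of_lt (n : ℤ) (hn : n < a) : K.d n (n + 1) ≫ truncπ K a hξ (n + 1) = 0 := by
  have h1 : K.d n (n + 1) = (K.XIsoOfEq (show n = n + 1 - 1 by ring)).hom ≫ truncA K a (n + 1) := by
    rw [truncA, if_pos (by lia), HomologicalComplex.XIsoOfEq_hom_comp_d]
  rw [h1, Category.assoc, truncA_π, comp_zero]

lemma truncξ_d_π (n : ℤ) : truncξ K a n ≫ K.d n (n + 1) ≫ truncπ K a hξ (n + 1) = 0 := by
  rw [truncξ_eq, Preadditive.add_comp, Category.assoc, Category.assoc]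
  have h1 : truncA K a n ≫ K.d n (n + 1) = 0 := by
    rw [truncA]; split_ifs <;> simp
  have h2 : truncB K a n ≫ K.d n (n + 1) ≫ truncπ K a hξ (n + 1) = 0 := by
    rw [truncB]
    split_ifs with h
    · rw [Category.id_comp]; exact d_truncπ_of_lt K a hξ n h
    · rw [zero_comp]
  rw [reassoc_of% h1, h2, zero_comp, comp_zero, comp_zero, add_zero]

/-- the differential of `τ_{≥ a} K`. -/
noncomputable def truncD (n : ℤ) : truncX K a hξ n ⟶ truncX K a hξ (n + 1) :=
  cokerFilDesc (truncξ K a n) (hξ n) (K.d n (n + 1) ≫ truncπ K a hξ (n + 1))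
    (truncξ_d_π K a hξ n)

@[reassoc]
lemma truncπ_D (n : ℤ) :
    truncπ K a hξ n ≫ truncD K a hξ n = K.d n (n + 1) ≫ truncπ K a hξ (n + 1) :=
  cokerFilπ_desc _ _ _ _

lemma truncD_comp (n : ℤ) : truncD K a hξ n ≫ truncD K a hξ (n + 1) = 0 := by
  apply cokerFil_hom_ext
  rw [truncπ_D_assoc, truncπ_D, HomologicalComplex.d_comp_d_assoc, zero_comp, comp_zero]

/-- the truncation `τ_{≥ a} K`. -/
noncomputable def truncCx : CochainComplex (FilF A) ℤ :=
  CochainComplex.of (truncX K a hξ) (truncD K a hξ) (truncD_comp K a hξ)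

/-- the canonical map `K ⟶ τ_{≥ a} K`. -/
noncomputable def truncMap : K ⟶ truncCx K a hξ where
  f n := truncπ K a hξ n
  comm' i j hij := by
    obtain rfl : i + 1 = j := hij
    have : (truncCx K a hξ).d i (i + 1) = truncD K a hξ i := CochainComplex.of_d _ _ _
    rw [this]
    exact truncπ_D K a hξ i

lemma isZero_truncX (n : ℤ) (hn : n < a) : IsZero (truncX K a hξ n) := by
  rw [IsZero.iff_id_eq_zero]
  apply cokerFil_hom_ext
  rw [Category.comp_id, comp_zero]
  have := truncB_π K a hξ n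
  rwa [truncB, if_pos hn, Category.id_comp] at this

instance : (truncCx K a hξ).IsStrictlyGE a := by
  rw [CochainComplex.isStrictlyGE_iff]
  exact isZero_truncX K a hξ

section QIso

variable (p : ℤ)

lemma epi_gr_truncπ (n : ℤ) : Epi ((gr A p).map (truncπ K a hξ n).hom) :=
  epi_gr_cokerFilπ _ _ p

lemma gr_truncA (n : ℤ) : (gr A p).map (truncA K a n).hom =
    if n ≤ a then (gr A p).map (K.d (n - 1) n).hom else 0 := by
  rw [truncA]
  split_ifs
  · rfl
  · exact (gr A p).map_zero _ _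

lemma gr_truncB (n : ℤ) : (gr A p).map (truncB K a n).hom = if n < a then 𝟙 _ else 0 := by
  rw [truncB]
  split_ifs
  · exact (gr A p).map_id _
  · exact (gr A p).map_zero _ _

lemma exists_of_comp_gr_truncπ_eq_zero (n : ℤ) {T : A} (x : T ⟶ (gr A p).obj (K.X n).obj)
    (hx : x ≫ (gr A p).map (truncπ K a hξ n).hom = 0) :
    ∃ (T' : A) (π : T' ⟶ T) (_ : Epi π) (z₁ : T' ⟶ (gr A p).obj (K.X (n - 1)).obj)
      (z₂ : T' ⟶ (gr A p).obj (K.X n).obj),
      π ≫ x = z₁ ≫ (gr A p).map (truncA K a n).hom + z₂ ≫ (gr A p).map (truncB K a n).hom := by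
  obtain ⟨T', π, hπ, z, hz⟩ := (gr_exact_coker (truncξ K a n) (hξ n) p).exact_up_to_refinements x hx
  change T' ⟶ (gr A p).obj (K.X (n - 1) ⊞ K.X n).obj at z
  change π ≫ x = z ≫ (gr A p).map (truncξ K a n).hom at hz
  refine ⟨T', π, hπ, z ≫ (gr A p).map (biprod.fst : K.X (n - 1) ⊞ K.X n ⟶ K.X (n - 1)).hom,
    z ≫ (gr A p).map (biprod.snd : K.X (n - 1) ⊞ K.X n ⟶ K.X n).hom, ?_⟩
  rw [hz, truncξ_eq]
  have : (gr A p).map (biprod.fst ≫ truncA K a n + biprod.snd ≫ truncB K a n :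
      K.X (n - 1) ⊞ K.X n ⟶ K.X n).hom =
      (gr A p).map (biprod.fst : K.X (n - 1) ⊞ K.X n ⟶ K.X (n - 1)).hom ≫
        (gr A p).map (truncA K a n).hom +
      (gr A p).map (biprod.snd : K.X (n - 1) ⊞ K.X n ⟶ K.X n).hom ≫
        (gr A p).map (truncB K a n).hom := by
    rw [← Functor.map_comp, ← Functor.map_comp, ← Functor.map_add]
    rfl
  rw [this, Preadditive.comp_add, Category.assoc, Category.assoc]

lemma epi_gr_truncMap (n : ℤ) : Epi ((gr A p).map ((truncMap K a hξ).f n).hom) :=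
  epi_gr_truncπ K a hξ p n

lemma exists_of_comp_gr_truncMap_eq_zero (n : ℤ) {T : A} (x : T ⟶ (gr A p).obj (K.X n).obj)
    (hx : x ≫ (gr A p).map ((truncMap K a hξ).f n).hom = 0) :
    ∃ (T' : A) (π : T' ⟶ T) (_ : Epi π) (z₁ : T' ⟶ (gr A p).obj (K.X (n - 1)).obj)
      (z₂ : T' ⟶ (gr A p).obj (K.X n).obj),
      π ≫ x = z₁ ≫ (gr A p).map (truncA K a n).hom + z₂ ≫ (gr A p).map (truncB K a n).hom :=
  exists_of_comp_gr_truncπ_eq_zero K a hξ p n x hx

lemma isZero_gr_truncCx_X (n : ℤ) (hn : n < a) :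
    IsZero ((gr A p).obj ((truncCx K a hξ).X n).obj) :=
  (grF A p).map_isZero (isZero_truncX K a hξ n hn)

end QIso

include hξ in
theorem isFilteredQuasiIso_truncMap
    (hK : ∀ (p n : ℤ), n < a → IsZero (((grCx p).obj K).homology n)) :
    IsFilteredQuasiIso (truncMap K a hξ) := by
  intro p
  rw [quasiIso_iff]
  intro n
  rw [quasiIsoAt_iff' _ (n - 1) n (n + 1) (by simp) (by simp), ShortComplex.quasiIso_iff,
    isIso_iff_mono_and_epi]
  have hcomm : ∀ i j : ℤ, (gr A p).map (K.d i j).hom ≫ (gr A p).map ((truncMap K a hξ).f j).hom =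
      (gr A p).map ((truncMap K a hξ).f i).hom ≫ (gr A p).map ((truncCx K a hξ).d i j).hom := by
    intro i j
    have := ((grCx p).map (truncMap K a hξ)).comm i j
    exact this.symm
  constructor
  · rw [ShortComplex.mono_homologyMap_iff_up_to_refinements]
    intro T x₂ hx₂ y₁ hy₁
    by_cases hn : n < a
    · have hex : ((grCx p).obj K).ExactAt n :=
        (HomologicalComplex.exactAt_iff_isZero_homology _ _).2 (hK p n hn)
      rw [HomologicalComplex.exactAt_iff' _ (n - 1) n (n + 1) (by simp) (by simp)] at hex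
      exact hex.exact_up_to_refinements x₂ hx₂
    · change T ⟶ (gr A p).obj (K.X n).obj at x₂
      change x₂ ≫ (gr A p).map (K.d n (n + 1)).hom = 0 at hx₂
      change T ⟶ (gr A p).obj ((truncCx K a hξ).X (n - 1)).obj at y₁
      change x₂ ≫ (gr A p).map ((truncMap K a hξ).f n).hom =
        y₁ ≫ (gr A p).map ((truncCx K a hξ).d (n - 1) n).hom at hy₁
      haveI := epi_gr_truncMap K a hξ p (n - 1)
      obtain ⟨T₁, π₁, hπ₁, w, hw⟩ := surjective_up_to_refinements_of_epi
        ((gr A p).map ((truncMap K a hξ).f (n - 1)).hom) y₁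
      have h0 : (π₁ ≫ x₂ - w ≫ (gr A p).map (K.d (n - 1) n).hom) ≫
          (gr A p).map ((truncMap K a hξ).f n).hom = 0 := by
        rw [Preadditive.sub_comp, Category.assoc, Category.assoc, hy₁, hcomm,
          ← reassoc_of% hw, sub_self]
      obtain ⟨T₂, π₂, hπ₂, z₁, z₂, hz⟩ := exists_of_comp_gr_truncMap_eq_zero K a hξ p n _ h0
      rw [gr_truncB, if_neg hn, comp_zero, add_zero, gr_truncA] at hz
      by_cases hna : n ≤ a
      · rw [if_pos hna] at hz
        refine ⟨T₂, π₂ ≫ π₁, inferInstance, π₂ ≫ w + z₁, ?_⟩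
        change (π₂ ≫ π₁) ≫ x₂ = (π₂ ≫ w + z₁) ≫ (gr A p).map (K.d (n - 1) n).hom
        rw [Preadditive.add_comp, ← hz, Preadditive.comp_sub]
        simp
      · rw [if_neg hna, comp_zero] at hz
        refine ⟨T₂, π₂ ≫ π₁, inferInstance, π₂ ≫ w, ?_⟩
        change (π₂ ≫ π₁) ≫ x₂ = (π₂ ≫ w) ≫ (gr A p).map (K.d (n - 1) n).hom
        rw [Preadditive.comp_sub] at hz
        rw [Category.assoc, Category.assoc]
        exact sub_eq_zero.1 hz
  · rw [ShortComplex.epi_homologyMap_iff_up_to_refinements]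
    intro T y₂ hy₂
    by_cases hn : n < a
    · have hz : IsZero ((gr A p).obj ((truncCx K a hξ).X n).obj) :=
        isZero_gr_truncCx_X K a hξ p n hn
      have : y₂ = 0 := hz.eq_of_tgt _ _
      refine ⟨T, 𝟙 T, inferInstance, 0, zero_comp, 0, ?_⟩
      rw [this]
      simp
    · change T ⟶ (gr A p).obj ((truncCx K a hξ).X n).obj at y₂
      change y₂ ≫ (gr A p).map ((truncCx K a hξ).d n (n + 1)).hom = 0 at hy₂
      haveI := epi_gr_truncMap K a hξ p n
      obtain ⟨T₁, π₁, hπ₁, x, hx⟩ := surjective_up_to_refinements_of_epi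
        ((gr A p).map ((truncMap K a hξ).f n).hom) y₂
      have h0 : (x ≫ (gr A p).map (K.d n (n + 1)).hom) ≫
          (gr A p).map ((truncMap K a hξ).f (n + 1)).hom = 0 := by
        rw [Category.assoc, hcomm, ← reassoc_of% hx, hy₂, comp_zero]
      obtain ⟨T₂, π₂, hπ₂, z₁, z₂, hz⟩ :=
        exists_of_comp_gr_truncMap_eq_zero K a hξ p (n + 1) _ h0
      rw [gr_truncB, if_neg (by lia), comp_zero, add_zero, gr_truncA, if_neg (by lia),
        comp_zero] at hz
      refine ⟨T₂, π₂ ≫ π₁, inferInstance, π₂ ≫ x, ?_, 0, ?_⟩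
      · change (π₂ ≫ x) ≫ (gr A p).map (K.d n (n + 1)).hom = 0
        rw [Category.assoc]; exact hz
      · have e : (π₂ ≫ π₁) ≫ y₂ = (π₂ ≫ x) ≫ (gr A p).map ((truncMap K a hξ).f n).hom := by
          rw [Category.assoc, hx, Category.assoc]
        rw [zero_comp]
        exact e.trans (add_zero _).symm

theorem exists_truncGE (hK : ∀ (p n : ℤ), n < a → IsZero (((grCx p).obj K).homology n)) :
    ∃ (L : CochainComplex (FilF A) ℤ) (φ : K ⟶ L), L.IsStrictlyGE a ∧ IsFilteredQuasiIso φ := by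
  have hS : ∀ p : ℤ, ((K.sc' (a - 2) (a - 1) a).map (grF A p)).Exact := by
    intro p
    have h : ((grCx p).obj K).ExactAt (a - 1) :=
      (HomologicalComplex.exactAt_iff_isZero_homology _ _).2 (hK p (a - 1) (by lia))
    rw [HomologicalComplex.exactAt_iff' _ (a - 2) (a - 1) a (by simp; ring) (by simp)] at h
    exact h
  have hd : IsStrict (K.d (a - 1) a) := isStrict_g (K.sc' (a - 2) (a - 1) a) hS
  have hξ := truncξ_strict K a hd
  exact ⟨truncCx K a hξ, truncMap K a hξ, inferInstance, isFilteredQuasiIso_truncMap K a hξ hK⟩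

end TruncGE

end Groth.Agent.Lib.Helper86.FilD
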