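import Mathlib
import Groth.Prelude.Def_FilD
import Groth.Agent.Lib.Helper86.FilDTrunc

/-!
# helper86: canonical truncation `τ_{≤ b}` of complexes of finite filtered objects
-/

set_option autoImplicit false
universe v u

open CategoryTheory CategoryTheory.Limits Opposite

namespace Groth.Agent.Lib.Helper86.FilD

open _root_.FilD

variable {A : Type u} [Category.{v} A] [Abelian A]

section Strict

@[reassoc]
lemma app_comp_eq_id {X Y : FilF A} (u : X ⟶ Y) (r : Y ⟶ X) (hr : u ≫ r = 𝟙 X) (q : ℤ) :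
    u.hom.app (op q) ≫ r.hom.app (op q) = 𝟙 _ := by
  have := congr_arg (fun φ => φ.hom.app (op q)) hr
  simpa using this

lemma isStrict_of_retraction {X Y : FilF A} (u : X ⟶ Y) (r : Y ⟶ X) (hr : u ≫ r = 𝟙 X) :
    IsStrict u := by
  rw [isStrict_iff]
  intro p q h T x y hxy
  refine ⟨T, 𝟙 T, inferInstance, y ≫ r.hom.app (op q), ?_⟩
  haveI : Mono (tr Y.obj h) := Y.property.1 _
  have e1 : r.hom.app (op q) ≫ tr X.obj h = tr Y.obj h ≫ r.hom.app (op p) :=
    (tr_naturality r.hom h).symm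
  have e2 : u.hom.app (op q) ≫ tr Y.obj h = tr X.obj h ≫ u.hom.app (op p) :=
    (tr_naturality u.hom h).symm
  rw [Category.id_comp, ← cancel_mono (tr Y.obj h), Category.assoc, Category.assoc, e2,
    reassoc_of% e1, ← reassoc_of% hxy, app_comp_eq_id_assoc u r hr p, hxy]

lemma isStrict_comp_of_retraction {X Y Y' : FilF A} (d : X ⟶ Y) (hd : IsStrict d) (m : Y ⟶ Y')
    (r : Y' ⟶ Y) (hr : m ≫ r = 𝟙 Y) : IsStrict (d ≫ m) := by
  rw [isStrict_iff] at hd ⊢
  intro p q h T x y' hxy
  change x ≫ d.hom.app (op p) ≫ m.hom.app (op p) = y' ≫ tr Y'.obj h at hxy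
  have e1 : r.hom.app (op q) ≫ tr Y.obj h = tr Y'.obj h ≫ r.hom.app (op p) :=
    (tr_naturality r.hom h).symm
  have e2 : m.hom.app (op q) ≫ tr Y'.obj h = tr Y.obj h ≫ m.hom.app (op p) :=
    (tr_naturality m.hom h).symm
  have h1 : x ≫ d.hom.app (op p) = (y' ≫ r.hom.app (op q)) ≫ tr Y.obj h := by
    rw [Category.assoc, e1, ← reassoc_of% hxy, app_comp_eq_id m r hr p, Category.comp_id]
  obtain ⟨T', π, hπ, x', hx'⟩ := hd p q h x _ h1
  refine ⟨T', π, hπ, x', ?_⟩
  change x' ≫ d.hom.app (op q) ≫ m.hom.app (op q) = π ≫ y'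
  haveI : Mono (tr Y'.obj h) := Y'.property.1 _
  rw [reassoc_of% hx', ← cancel_mono (tr Y'.obj h), Category.assoc, Category.assoc,
    Category.assoc, Category.assoc, e2, reassoc_of% e1, ← reassoc_of% hxy,
    app_comp_eq_id_assoc m r hr p, hxy]

end Strict

section Lift

variable {X Y W : FilF A} (φ : X ⟶ Y)

/-- lift to the kernel. -/
noncomputable def kerFilLift (ψ : W ⟶ X) (h : ψ ≫ φ = 0) : W ⟶ kerFil φ :=
  ObjectProperty.homMk (kernel.lift φ.hom ψ.hom (by
    have := congr_arg (fun φ => φ.hom) h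
    simpa using this))

@[reassoc (attr := simp)]
lemma kerFilLift_ι (ψ : W ⟶ X) (h : ψ ≫ φ = 0) :
    kerFilLift φ ψ h ≫ kerFilι φ = ψ := by
  ext : 1
  exact kernel.lift_ι _ _ _

lemma kerFil_hom_ext {f g : W ⟶ kerFil φ} (h : f ≫ kerFilι φ = g ≫ kerFilι φ) :
    f = g := by
  ext : 1
  have := congr_arg (fun φ => φ.hom) h
  simp only [ObjectProperty.FullSubcategory.comp_hom] at this
  exact (cancel_mono (kernel.ι φ.hom)).1 this

instance mono_kerFilι_app (p : ℤ) : Mono ((kerFilι φ).hom.app (op p)) :=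
  kerι_app_mono φ p

@[reassoc]
lemma kerFilι_app_comp (p : ℤ) : (kerFilι φ).hom.app (op p) ≫ φ.hom.app (op p) = 0 :=
  kerι_app_comp φ p

lemma exists_kerFil_lift (p : ℤ) {T : A} (x : T ⟶ X.obj.obj (op p))
    (hx : x ≫ φ.hom.app (op p) = 0) :
    ∃ k : T ⟶ (kerFil φ).obj.obj (op p), k ≫ (kerFilι φ).hom.app (op p) = x :=
  exists_ker_lift φ p x hx

lemma isStrict_kerFilι : IsStrict (kerFilι φ) := by
  rw [isStrict_iff]
  intro p q h T x y hxy
  have h0 : y ≫ φ.hom.app (op q) = 0 := by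
    haveI : Mono (tr Y.obj h) := Y.property.1 _
    have e2 : φ.hom.app (op q) ≫ tr Y.obj h = tr X.obj h ≫ φ.hom.app (op p) :=
      (tr_naturality φ.hom h).symm
    rw [← cancel_mono (tr Y.obj h), Category.assoc, e2, ← reassoc_of% hxy, zero_comp,
      kerFilι_app_comp, comp_zero]
  obtain ⟨k, hk⟩ := exists_kerFil_lift φ q y h0
  exact ⟨T, 𝟙 T, inferInstance, k, by rw [Category.id_comp]; exact hk⟩

lemma mono_gr_kerFilι (p : ℤ) : Mono ((gr A p).map (kerFilι φ).hom) :=
  mono_gr_of_strict_mono _ (isStrict_kerFilι φ) (fun q => mono_kerFilι_app φ q) p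

lemma exists_of_comp_gr_eq_zero (hφ : IsStrict φ) (p : ℤ) {T : A} (x : T ⟶ (gr A p).obj X.obj)
    (hx : x ≫ (gr A p).map φ.hom = 0) :
    ∃ (T' : A) (π : T' ⟶ T) (_ : Epi π) (e : T' ⟶ (gr A p).obj (kerFil φ).obj),
      π ≫ x = e ≫ (gr A p).map (kerFilι φ).hom :=
  (((isStrict_iff_gr_ker_exact φ).1 hφ) p).exact_up_to_refinements x hx

end Lift

section TruncLE

variable (K : CochainComplex (FilF A) ℤ) (b : ℤ)

/-- first component of `truncζ`. -/
noncomputable def truncC (n : ℤ) : K.X n ⟶ K.X (n + 1) := if b ≤ n then K.d n (n + 1) else 0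

/-- second component of `truncζ`. -/
noncomputable def truncE (n : ℤ) : K.X n ⟶ K.X n := if b < n then 𝟙 _ else 0

/-- the map whose kernel is the `n`-th term of `τ_{≤ b} K`. -/
noncomputable def truncζ (n : ℤ) : K.X n ⟶ K.X (n + 1) ⊞ K.X n :=
  biprod.lift (truncC K b n) (truncE K b n)

lemma truncζ_eq (n : ℤ) :
    truncζ K b n = truncC K b n ≫ biprod.inl + truncE K b n ≫ biprod.inr :=
  biprod.lift_eq

lemma truncζ_strict (hd : IsStrict (K.d b (b + 1))) (n : ℤ) : IsStrict (truncζ K b n) := by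
  rcases lt_trichotomy n b with h | h | h
  · have : truncζ K b n = 0 := by
      rw [truncζ_eq, truncC, truncE, if_neg (not_le.2 h), if_neg (not_lt.2 h.le), zero_comp,
        zero_comp, add_zero]
    rw [this]
    exact isStrict_zero _ _
  · subst h
    have : truncζ K n n = K.d n (n + 1) ≫ biprod.inl := by
      rw [truncζ_eq, truncC, truncE, if_pos le_rfl, if_neg (lt_irrefl _), zero_comp, add_zero]
    rw [this]
    exact isStrict_comp_of_retraction _ hd biprod.inl biprod.fst biprod.inl_fst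
  · refine isStrict_of_retraction _ biprod.snd ?_
    rw [truncζ, biprod.lift_snd, truncE, if_pos h]

variable (hζ : ∀ n, IsStrict (truncζ K b n))

/-- the terms of `τ_{≤ b} K`. -/
noncomputable def tleX (n : ℤ) : FilF A := kerFil (truncζ K b n)

/-- the inclusion `(τ_{≤ b} K)^n ⟶ K^n`. -/
noncomputable def tleι (n : ℤ) : tleX K b n ⟶ K.X n := kerFilι (truncζ K b n)

@[reassoc]
lemma tleι_ζ (n : ℤ) : tleι K b n ≫ truncζ K b n = 0 := kerFilι_comp _

@[reassoc]
lemma tleι_C (n : ℤ) : tleι K b n ≫ truncC K b n = 0 := by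
  have := tleι_ζ K b n =≫ biprod.fst
  rwa [Category.assoc, truncζ, biprod.lift_fst, zero_comp] at this

@[reassoc]
lemma tleι_E (n : ℤ) : tleι K b n ≫ truncE K b n = 0 := by
  have := tleι_ζ K b n =≫ biprod.snd
  rwa [Category.assoc, truncζ, biprod.lift_snd, zero_comp] at this

lemma tleι_d_of_le (n : ℤ) (hn : b ≤ n) : tleι K b n ≫ K.d n (n + 1) = 0 := by
  have := tleι_C K b n
  rwa [truncC, if_pos hn] at this

lemma tleι_d_ζ (n : ℤ) : (tleι K b n ≫ K.d n (n + 1)) ≫ truncζ K b (n + 1) = 0 := by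
  rw [truncζ_eq, Preadditive.comp_add, Category.assoc]
  have h1 : K.d n (n + 1) ≫ truncC K b (n + 1) = 0 := by
    rw [truncC]; split_ifs <;> simp
  have h2 : (tleι K b n ≫ K.d n (n + 1)) ≫ truncE K b (n + 1) = 0 := by
    rw [truncE]
    split_ifs with h
    · rw [Category.comp_id]; exact tleι_d_of_le K b n (by lia)
    · rw [comp_zero]
  rw [reassoc_of% h1, ← Category.assoc (tleι K b n ≫ K.d n (n + 1)), h2, zero_comp, comp_zero,
    zero_comp, add_zero]

/-- the differential of `τ_{≤ b} K`. -/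
noncomputable def tleD (n : ℤ) : tleX K b n ⟶ tleX K b (n + 1) :=
  kerFilLift (truncζ K b (n + 1)) (tleι K b n ≫ K.d n (n + 1)) (tleι_d_ζ K b n)

@[reassoc]
lemma tleD_ι (n : ℤ) :
    tleD K b n ≫ tleι K b (n + 1) = tleι K b n ≫ K.d n (n + 1) :=
  kerFilLift_ι _ _ _

lemma tle_hom_ext {W : FilF A} (n : ℤ) {f g : W ⟶ tleX K b n}
    (h : f ≫ tleι K b n = g ≫ tleι K b n) : f = g :=
  kerFil_hom_ext _ h

lemma tleD_comp (n : ℤ) : tleD K b n ≫ tleD K b (n + 1) = 0 := by
  apply tle_hom_ext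
  rw [Category.assoc, tleD_ι, tleD_ι_assoc, HomologicalComplex.d_comp_d, comp_zero, zero_comp]

/-- the truncation `τ_{≤ b} K`. -/
noncomputable def tleCx : CochainComplex (FilF A) ℤ :=
  CochainComplex.of (tleX K b) (tleD K b) (tleD_comp K b)

/-- the canonical map `τ_{≤ b} K ⟶ K`. -/
noncomputable def tleMap : tleCx K b ⟶ K where
  f n := tleι K b n
  comm' i j hij := by
    obtain rfl : i + 1 = j := hij
    have : (tleCx K b).d i (i + 1) = tleD K b i := CochainComplex.of_d _ _ _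
    rw [this]
    exact (tleD_ι K b i).symm

lemma isZero_tleX (n : ℤ) (hn : b < n) : IsZero (tleX K b n) := by
  rw [IsZero.iff_id_eq_zero]
  apply tle_hom_ext
  rw [Category.id_comp, zero_comp]
  have := tleι_E K b n
  rwa [truncE, if_pos hn, Category.comp_id] at this

instance : (tleCx K b).IsStrictlyLE b := by
  rw [CochainComplex.isStrictlyLE_iff]
  exact isZero_tleX K b

section QIso

variable (p : ℤ)

lemma mono_gr_tleMap (n : ℤ) : Mono ((gr A p).map ((tleMap K b).f n).hom) :=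
  mono_gr_kerFilι (truncζ K b n) p

lemma gr_truncC (n : ℤ) : (gr A p).map (truncC K b n).hom =
    if b ≤ n then (gr A p).map (K.d n (n + 1)).hom else 0 := by
  rw [truncC]
  split_ifs
  · rfl
  · exact (gr A p).map_zero _ _

lemma gr_truncE (n : ℤ) : (gr A p).map (truncE K b n).hom = if b < n then 𝟙 _ else 0 := by
  rw [truncE]
  split_ifs
  · exact (gr A p).map_id _
  · exact (gr A p).map_zero _ _

lemma gr_truncζ (n : ℤ) : (gr A p).map (truncζ K b n).hom =
    (gr A p).map (truncC K b n).hom ≫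
      (gr A p).map (biprod.inl : K.X (n + 1) ⟶ K.X (n + 1) ⊞ K.X n).hom +
    (gr A p).map (truncE K b n).hom ≫
      (gr A p).map (biprod.inr : K.X n ⟶ K.X (n + 1) ⊞ K.X n).hom := by
  rw [truncζ_eq, ← Functor.map_comp, ← Functor.map_comp, ← Functor.map_add]
  rfl

include hζ in
lemma exists_of_comp_gr_tle (n : ℤ) {T : A} (x : T ⟶ (gr A p).obj (K.X n).obj)
    (h1 : x ≫ (gr A p).map (truncC K b n).hom = 0)
    (h2 : x ≫ (gr A p).map (truncE K b n).hom = 0) :
    ∃ (T' : A) (π : T' ⟶ T) (_ : Epi π) (e : T' ⟶ (gr A p).obj ((tleCx K b).X n).obj),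
      π ≫ x = e ≫ (gr A p).map ((tleMap K b).f n).hom := by
  refine exists_of_comp_gr_eq_zero (truncζ K b n) (hζ n) p x ?_
  rw [gr_truncζ, Preadditive.comp_add, reassoc_of% h1, reassoc_of% h2, zero_comp, zero_comp,
    add_zero]

lemma isZero_gr_tleCx_X (n : ℤ) (hn : b < n) :
    IsZero ((gr A p).obj ((tleCx K b).X n).obj) :=
  (grF A p).map_isZero (isZero_tleX K b n hn)

end QIso

include hζ in
theorem isFilteredQuasiIso_tleMap
    (hK : ∀ (p n : ℤ), b < n → IsZero (((grCx p).obj K).homology n)) :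
    IsFilteredQuasiIso (tleMap K b) := by
  intro p
  rw [quasiIso_iff]
  intro n
  rw [quasiIsoAt_iff' _ (n - 1) n (n + 1) (by simp) (by simp), ShortComplex.quasiIso_iff,
    isIso_iff_mono_and_epi]
  have hcomm : ∀ i j : ℤ, (gr A p).map ((tleCx K b).d i j).hom ≫
      (gr A p).map ((tleMap K b).f j).hom =
      (gr A p).map ((tleMap K b).f i).hom ≫ (gr A p).map (K.d i j).hom := by
    intro i j
    have := ((grCx p).map (tleMap K b)).comm i j
    exact this.symm
  constructor
  · rw [ShortComplex.mono_homologyMap_iff_up_to_refinements]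
    intro T x₂ hx₂ y₁ hy₁
    by_cases hn : b < n
    · have hz : IsZero ((gr A p).obj ((tleCx K b).X n).obj) := isZero_gr_tleCx_X K b p n hn
      have : x₂ = 0 := hz.eq_of_tgt _ _
      refine ⟨T, 𝟙 T, inferInstance, 0, ?_⟩
      rw [this]
      simp
    · change T ⟶ (gr A p).obj ((tleCx K b).X n).obj at x₂
      change x₂ ≫ (gr A p).map ((tleCx K b).d n (n + 1)).hom = 0 at hx₂
      change T ⟶ (gr A p).obj (K.X (n - 1)).obj at y₁
      change x₂ ≫ (gr A p).map ((tleMap K b).f n).hom =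
        y₁ ≫ (gr A p).map (K.d (n - 1) n).hom at hy₁
      obtain ⟨T₁, π₁, hπ₁, e, he⟩ := exists_of_comp_gr_tle K b hζ p (n - 1) y₁
        (by rw [gr_truncC, if_neg (by lia), comp_zero])
        (by rw [gr_truncE, if_neg (by lia), comp_zero])
      refine ⟨T₁, π₁, hπ₁, e, ?_⟩
      change π₁ ≫ x₂ = e ≫ (gr A p).map ((tleCx K b).d (n - 1) n).hom
      haveI := mono_gr_tleMap K b p n
      rw [← cancel_mono ((gr A p).map ((tleMap K b).f n).hom), Category.assoc, Category.assoc,
        hcomm, ← reassoc_of% he, hy₁]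
  · rw [ShortComplex.epi_homologyMap_iff_up_to_refinements]
    intro T y₂ hy₂
    by_cases hn : b < n
    · have hex : ((grCx p).obj K).ExactAt n :=
        (HomologicalComplex.exactAt_iff_isZero_homology _ _).2 (hK p n hn)
      rw [HomologicalComplex.exactAt_iff' _ (n - 1) n (n + 1) (by simp) (by simp)] at hex
      obtain ⟨T₁, π₁, hπ₁, y₁, hy₁⟩ := hex.exact_up_to_refinements y₂ hy₂
      refine ⟨T₁, π₁, hπ₁, 0, zero_comp, y₁, ?_⟩
      rw [zero_comp, zero_add]
      exact hy₁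
    · change T ⟶ (gr A p).obj (K.X n).obj at y₂
      change y₂ ≫ (gr A p).map (K.d n (n + 1)).hom = 0 at hy₂
      obtain ⟨T₁, π₁, hπ₁, e, he⟩ := exists_of_comp_gr_tle K b hζ p n y₂
        (by rw [gr_truncC]; split_ifs
            · exact hy₂
            · exact comp_zero)
        (by rw [gr_truncE, if_neg hn, comp_zero])
      refine ⟨T₁, π₁, hπ₁, e, ?_, 0, ?_⟩
      · change e ≫ (gr A p).map ((tleCx K b).d n (n + 1)).hom = 0
        haveI := mono_gr_tleMap K b p (n + 1)
        rw [← cancel_mono ((gr A p).map ((tleMap K b).f (n + 1)).hom), Category.assoc,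
          hcomm, ← reassoc_of% he, hy₂, comp_zero, zero_comp]
      · rw [zero_comp]
        exact he.trans (add_zero _).symm

theorem exists_truncLE (hK : ∀ (p n : ℤ), b < n → IsZero (((grCx p).obj K).homology n)) :
    ∃ (M : CochainComplex (FilF A) ℤ) (φ : M ⟶ K), M.IsStrictlyLE b ∧ IsFilteredQuasiIso φ := by
  have hS : ∀ p : ℤ, ((K.sc' b (b + 1) (b + 2)).map (grF A p)).Exact := by
    intro p
    have h : ((grCx p).obj K).ExactAt (b + 1) :=
      (HomologicalComplex.exactAt_iff_isZero_homology _ _).2 (hK p (b + 1) (by lia))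
    rw [HomologicalComplex.exactAt_iff' _ b (b + 1) (b + 2) (by simp) (by simp; ring)] at h
    exact h
  have hd : IsStrict (K.d b (b + 1)) := isStrict_f (K.sc' b (b + 1) (b + 2)) hS
  have hζ := truncζ_strict K b hd
  exact ⟨tleCx K b, tleMap K b, inferInstance, isFilteredQuasiIso_tleMap K b hζ hK⟩

end TruncLE

end Groth.Agent.Lib.Helper86.FilD
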