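import Mathlib
import Groth.Prelude.Def_FilD
import Groth.Agent.Lib.Helper86.FilDEnough
import Groth.Agent.Lib.Helper86.FilDTruncLE

/-!
# helper86: one step of the construction of filtered injective resolutions of bounded below
complexes of finite filtered objects
-/

set_option autoImplicit false
universe v u

open CategoryTheory CategoryTheory.Limits Opposite

namespace Groth.Agent.Lib.Helper86.FilD

open _root_.FilD

variable {A : Type u} [Category.{v} A] [Abelian A]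

section Strict

lemma isStrict_of_epi_app {X Y : FilF A} (φ : X ⟶ Y) (h : ∀ q : ℤ, Epi (φ.hom.app (op q))) :
    IsStrict φ := by
  rw [isStrict_iff]
  intro p q hpq T x y _
  haveI := h q
  obtain ⟨T', π, hπ, x', hx'⟩ := surjective_up_to_refinements_of_epi (φ.hom.app (op q)) y
  exact ⟨T', π, hπ, x', hx'.symm⟩

lemma isStrict_comp_strictMono {X Y Z : FilF A} (φ : X ⟶ Y) (hφ : IsStrict φ) (j : Y ⟶ Z)
    (hj : IsStrict j) (hjm : ∀ p : ℤ, Mono (j.hom.app (op p))) : IsStrict (φ ≫ j) := by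
  rw [isStrict_iff] at hφ hj ⊢
  intro p q h T x z hxz
  change x ≫ φ.hom.app (op p) ≫ j.hom.app (op p) = z ≫ tr Z.obj h at hxz
  obtain ⟨T₁, π₁, hπ₁, y', hy'⟩ := hj p q h (x ≫ φ.hom.app (op p)) z
    (by rw [Category.assoc]; exact hxz)
  have e1 : j.hom.app (op q) ≫ tr Z.obj h = tr Y.obj h ≫ j.hom.app (op p) :=
    (tr_naturality j.hom h).symm
  have h2 : (π₁ ≫ x) ≫ φ.hom.app (op p) = y' ≫ tr Y.obj h := by
    haveI := hjm p
    rw [← cancel_mono (j.hom.app (op p)), Category.assoc, Category.assoc, Category.assoc, ← e1,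
      reassoc_of% hy', hxz]
  obtain ⟨T₂, π₂, hπ₂, x', hx'⟩ := hφ p q h (π₁ ≫ x) y' h2
  refine ⟨T₂, π₂ ≫ π₁, inferInstance, x', ?_⟩
  change x' ≫ φ.hom.app (op q) ≫ j.hom.app (op q) = (π₂ ≫ π₁) ≫ z
  rw [reassoc_of% hx', hy', Category.assoc]

lemma isStrict_iso_comp {X X' Y : FilF A} (e : X ≅ X') (d : X' ⟶ Y) (hd : IsStrict d) :
    IsStrict (e.hom ≫ d) :=
  isStrict_comp_of_section e.hom e.inv e.inv_hom_id d hd

lemma mono_of_isZero_src {C : Type*} [Category C] {X Y : C} (hX : IsZero X) (f : X ⟶ Y) :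
    Mono f :=
  ⟨fun _ _ _ => hX.eq_of_tgt _ _⟩

end Strict

section GrExact

/-- `gr`-exactness from strictness and levelwise exactness. -/
lemma gr_exact_of_strict_of_level {X Y Z : FilF A} (f : X ⟶ Y) (g : Y ⟶ Z) (hg : IsStrict g)
    (hlev : ∀ (p : ℤ) ⦃T : A⦄ (y : T ⟶ Y.obj.obj (op p)), y ≫ g.hom.app (op p) = 0 →
      ∃ (T' : A) (π : T' ⟶ T) (_ : Epi π) (x : T' ⟶ X.obj.obj (op p)),
        π ≫ y = x ≫ f.hom.app (op p))
    (p : ℤ) ⦃T : A⦄ (ybar : T ⟶ (gr A p).obj Y.obj) (hy : ybar ≫ (gr A p).map g.hom = 0) :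
    ∃ (T' : A) (π : T' ⟶ T) (_ : Epi π) (xbar : T' ⟶ (gr A p).obj X.obj),
      π ≫ ybar = xbar ≫ (gr A p).map f.hom := by
  obtain ⟨T₁, π₁, hπ₁, y, hy1⟩ := surjective_up_to_refinements_of_epi (grπ Y.obj p) ybar
  have h1 : (y ≫ g.hom.app (op p)) ≫ grπ Z.obj p = 0 := by
    rw [Category.assoc, ← grπ_map, ← reassoc_of% hy1, hy, comp_zero]
  obtain ⟨z, hz⟩ := exists_lift_of_grπ_eq_zero Z p _ h1
  obtain ⟨T₂, π₂, hπ₂, y₁, hy₁⟩ := (isStrict_iff g).1 hg p (p + 1) (by lia) y z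
    (by rw [← hz, stepHom_eq])
  have h2 : (π₂ ≫ y - y₁ ≫ Y.obj.map (stepHom p)) ≫ g.hom.app (op p) = 0 := by
    rw [Preadditive.sub_comp, Category.assoc, Category.assoc, g.hom.naturality,
      reassoc_of% hy₁, ← hz, sub_self]
  obtain ⟨T₃, π₃, hπ₃, x, hx⟩ := hlev p _ h2
  refine ⟨T₃, π₃ ≫ π₂ ≫ π₁, inferInstance, x ≫ grπ X.obj p, ?_⟩
  rw [Category.assoc, Category.assoc, Category.assoc, grπ_map, ← reassoc_of% hx,
    Preadditive.sub_comp, Preadditive.comp_sub, Category.assoc, Category.assoc, step_grπ,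
    comp_zero, comp_zero, sub_zero, hy1]

end GrExact

section App

variable {X Y Z : FilF A}

lemma comp_app' (f : X ⟶ Y) (g : Y ⟶ Z) (p : ℤ) :
    (f ≫ g).hom.app (op p) = f.hom.app (op p) ≫ g.hom.app (op p) := rfl

lemma app_congr {f g : X ⟶ Y} (h : f = g) (p : ℤ) : f.hom.app (op p) = g.hom.app (op p) := by
  rw [h]

lemma zero_app' (p : ℤ) : (0 : X ⟶ Y).hom.app (op p) = 0 := rfl

@[reassoc]
lemma app_tr (f : X ⟶ Y) {p q : ℤ} (h : p ≤ q) :
    f.hom.app (op q) ≫ tr Y.obj h = tr X.obj h ≫ f.hom.app (op p) :=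
  (tr_naturality f.hom h).symm

@[reassoc (attr := simp)]
lemma inl_fst_app (p : ℤ) : (biprod.inl : X ⟶ X ⊞ Y).hom.app (op p) ≫
    (biprod.fst : X ⊞ Y ⟶ X).hom.app (op p) = 𝟙 _ := by
  rw [← comp_app', biprod.inl_fst]; rfl

@[reassoc (attr := simp)]
lemma inl_snd_app (p : ℤ) : (biprod.inl : X ⟶ X ⊞ Y).hom.app (op p) ≫
    (biprod.snd : X ⊞ Y ⟶ Y).hom.app (op p) = 0 := by
  rw [← comp_app', biprod.inl_snd]; rfl

@[reassoc (attr := simp)]
lemma inr_fst_app (p : ℤ) : (biprod.inr : Y ⟶ X ⊞ Y).hom.app (op p) ≫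
    (biprod.fst : X ⊞ Y ⟶ X).hom.app (op p) = 0 := by
  rw [← comp_app', biprod.inr_fst]; rfl

@[reassoc (attr := simp)]
lemma inr_snd_app (p : ℤ) : (biprod.inr : Y ⟶ X ⊞ Y).hom.app (op p) ≫
    (biprod.snd : X ⊞ Y ⟶ Y).hom.app (op p) = 𝟙 _ := by
  rw [← comp_app', biprod.inr_snd]; rfl

lemma isZero_app_of_isZero (hX : IsZero X) (p : ℤ) : IsZero (X.obj.obj (op p)) := by
  rw [IsZero.iff_id_eq_zero]
  have h : 𝟙 X = 0 := hX.eq_of_src _ _
  exact app_congr h p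

end App

section Stage

open ZeroObject

variable [EnoughInjectives A]

/-- the invariant (H'). -/
def StgH {T I W : FilF A} (δ : W ⟶ T ⊞ I) : Prop :=
  ∀ (p q : ℤ) (h : p ≤ q) ⦃X : A⦄ (w : X ⟶ W.obj.obj (op p)) (y : X ⟶ I.obj.obj (op q)),
    w ≫ (δ ≫ biprod.snd).hom.app (op p) = y ≫ tr I.obj h →
    ∃ (X' : A) (ρ : X' ⟶ X) (_ : Epi ρ) (t : X' ⟶ T.obj.obj (op q)),
      t ≫ tr T.obj h = ρ ≫ w ≫ (δ ≫ biprod.fst).hom.app (op p)

/-- a stage of the construction. -/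
structure Stg {T₀ T : FilF A} (d₀ : T₀ ⟶ T) where
  /-- the current term of the resolution -/
  I : FilF A
  /-- the previous term of the cone -/
  W : FilF A
  /-- the previous differential of the cone -/
  δ : W ⟶ T ⊞ I
  /-- the factorization of the `T`-component -/
  u : W ⟶ T₀
  hu : δ ≫ biprod.fst = u ≫ d₀
  hδ : IsStrict δ
  hI : IsFilteredInjective I
  hH : StgH δ

namespace Stg

variable {T₀ T : FilF A} {d₀ : T₀ ⟶ T} (s : Stg d₀)

/-- the cokernel of the previous differential. -/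
noncomputable abbrev C : FilF A := cokerFil s.δ s.hδ

/-- the next term of the resolution. -/
noncomputable def nextI : FilF A :=
  Classical.choose (exists_strict_mono_filteredInjective s.C)

/-- the embedding of the cokernel in the next term. -/
noncomputable def nextj : s.C ⟶ s.nextI :=
  Classical.choose (Classical.choose_spec (exists_strict_mono_filteredInjective s.C))

lemma nextI_inj : IsFilteredInjective s.nextI :=
  (Classical.choose_spec (Classical.choose_spec (exists_strict_mono_filteredInjective s.C))).1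

instance nextj_mono : Mono s.nextj :=
  (Classical.choose_spec (Classical.choose_spec (exists_strict_mono_filteredInjective s.C))).2.1

lemma nextj_strict : IsStrict s.nextj :=
  (Classical.choose_spec (Classical.choose_spec (exists_strict_mono_filteredInjective s.C))).2.2

instance nextj_app_mono (p : ℤ) : Mono (s.nextj.hom.app (op p)) := mono_app_of_mono _ p

/-- the map `T ⊞ I ⟶ nextI`. -/
noncomputable def nextπ : T ⊞ s.I ⟶ s.nextI := cokerFilπ s.δ s.hδ ≫ s.nextj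

@[reassoc]
lemma δ_nextπ : s.δ ≫ s.nextπ = 0 := by
  rw [nextπ, ← Category.assoc, comp_cokerFilπ, zero_comp]

lemma nextπ_level_exact (p : ℤ) ⦃X : A⦄ (w : X ⟶ (T ⊞ s.I).obj.obj (op p))
    (hw : w ≫ s.nextπ.hom.app (op p) = 0) :
    ∃ (X' : A) (ρ : X' ⟶ X) (_ : Epi ρ) (v : X' ⟶ s.W.obj.obj (op p)),
      ρ ≫ w = v ≫ s.δ.hom.app (op p) := by
  have h1 : w ≫ (cokernel.π s.δ.hom).app (op p) = 0 := by
    rw [← cancel_mono (s.nextj.hom.app (op p)), zero_comp, Category.assoc]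
    exact hw
  exact exists_of_comp_cokerπ_eq_zero s.δ p w h1

lemma isStrict_nextπ : IsStrict s.nextπ :=
  isStrict_comp_strictMono _ (isStrict_of_epi_app _ (fun q => inferInstance)) _ s.nextj_strict
    (fun p => inferInstance)

lemma nextπ_lift (p q : ℤ) (h : p ≤ q) ⦃X : A⦄ (w : X ⟶ (T ⊞ s.I).obj.obj (op p))
    (y : X ⟶ s.nextI.obj.obj (op q))
    (hwy : w ≫ s.nextπ.hom.app (op p) = y ≫ tr s.nextI.obj h) :
    ∃ (X' : A) (ρ : X' ⟶ X) (_ : Epi ρ) (w₁ : X' ⟶ (T ⊞ s.I).obj.obj (op q))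
      (v : X' ⟶ s.W.obj.obj (op p)),
      ρ ≫ w = w₁ ≫ tr (T ⊞ s.I).obj h + v ≫ s.δ.hom.app (op p) ∧
        w₁ ≫ s.nextπ.hom.app (op q) = ρ ≫ y := by
  obtain ⟨X₁, ρ₁, hρ₁, w₁, hw₁⟩ := (isStrict_iff s.nextπ).1 s.isStrict_nextπ p q h w y hwy
  have h0 : (ρ₁ ≫ w - w₁ ≫ tr (T ⊞ s.I).obj h) ≫ s.nextπ.hom.app (op p) = 0 := by
    rw [Preadditive.sub_comp, Category.assoc, Category.assoc, hwy, ← app_tr, reassoc_of% hw₁,
      sub_self]
  obtain ⟨X₂, ρ₂, hρ₂, v, hv⟩ := s.nextπ_level_exact p _ h0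
  refine ⟨X₂, ρ₂ ≫ ρ₁, inferInstance, ρ₂ ≫ w₁, v, ?_, ?_⟩
  · rw [← hv, Preadditive.comp_sub, Category.assoc, Category.assoc]
    abel
  · rw [Category.assoc, hw₁, Category.assoc]

variable {T' : FilF A} (dT : T ⟶ T')

/-- the next differential of the cone. -/
noncomputable def nextδ : T ⊞ s.I ⟶ T' ⊞ s.nextI :=
  biprod.lift (-(biprod.fst ≫ dT)) s.nextπ

@[reassoc]
lemma nextδ_fst : s.nextδ dT ≫ biprod.fst = (-biprod.fst) ≫ dT := by
  rw [nextδ, biprod.lift_fst, Preadditive.neg_comp]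

@[reassoc]
lemma nextδ_snd : s.nextδ dT ≫ biprod.snd = s.nextπ := by
  rw [nextδ, biprod.lift_snd]

lemma δ_nextδ (hd : d₀ ≫ dT = 0) : s.δ ≫ s.nextδ dT = 0 := by
  apply biprod.hom_ext
  · rw [Category.assoc, nextδ_fst, Preadditive.neg_comp, Preadditive.comp_neg,
      reassoc_of% s.hu, hd, comp_zero, neg_zero, zero_comp]
  · rw [Category.assoc, nextδ_snd, δ_nextπ, zero_comp]

lemma isStrict_nextδ (hd : d₀ ≫ dT = 0) : IsStrict (s.nextδ dT) := by
  rw [isStrict_iff]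
  intro p q h X w z hwz
  have h1 : w ≫ s.nextπ.hom.app (op p) =
      (z ≫ (biprod.snd : T' ⊞ s.nextI ⟶ s.nextI).hom.app (op q)) ≫ tr s.nextI.obj h := by
    rw [Category.assoc, app_tr, ← reassoc_of% hwz, ← comp_app', nextδ_snd]
  obtain ⟨X', ρ, hρ, w₁, v, hw, hw₁⟩ := s.nextπ_lift p q h w _ h1
  refine ⟨X', ρ, hρ, w₁, ?_⟩
  have h2 : s.δ.hom.app (op p) ≫ (s.nextδ dT).hom.app (op p) = 0 := by
    rw [← comp_app', s.δ_nextδ dT hd, zero_app']
  have hw' : w₁ ≫ tr (T ⊞ s.I).obj h = ρ ≫ w - v ≫ s.δ.hom.app (op p) := by rw [hw]; abel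
  rw [← cancel_mono (tr (T' ⊞ s.nextI).obj h), Category.assoc, app_tr, reassoc_of% hw',
    Preadditive.sub_comp, Category.assoc, Category.assoc, h2, comp_zero, sub_zero, hwz,
    Category.assoc]

lemma stgH_nextδ (hd : d₀ ≫ dT = 0) : StgH (s.nextδ dT) := by
  intro p q h X w y hwy
  rw [nextδ_snd] at hwy
  obtain ⟨X', ρ, hρ, w₁, v, hw, hw₁⟩ := s.nextπ_lift p q h w y hwy
  refine ⟨X', ρ, hρ, w₁ ≫ (s.nextδ dT ≫ biprod.fst).hom.app (op q), ?_⟩
  have h2 : s.δ.hom.app (op p) ≫ (s.nextδ dT ≫ biprod.fst).hom.app (op p) = 0 := by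
    rw [← comp_app', ← Category.assoc, s.δ_nextδ dT hd, zero_comp, zero_app']
  have hw' : w₁ ≫ tr (T ⊞ s.I).obj h = ρ ≫ w - v ≫ s.δ.hom.app (op p) := by rw [hw]; abel
  rw [Category.assoc, app_tr, reassoc_of% hw', Preadditive.sub_comp, Category.assoc,
    Category.assoc, h2, comp_zero, sub_zero]

/-- the next stage. -/
noncomputable def next (hd : d₀ ≫ dT = 0) : Stg dT where
  I := s.nextI
  W := T ⊞ s.I
  δ := s.nextδ dT
  u := -biprod.fst
  hu := s.nextδ_fst dT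
  hδ := s.isStrict_nextδ dT hd
  hI := s.nextI_inj
  hH := s.stgH_nextδ dT hd

/-- the map `T ⟶ C`. -/
noncomputable def κ : T ⟶ s.C := biprod.inl ≫ cokerFilπ s.δ s.hδ

lemma κ_app_mono (p : ℤ) : Mono (s.κ.hom.app (op p)) := by
  apply Preadditive.mono_of_cancel_zero
  intro X x hx
  have hx' : (x ≫ (biprod.inl : T ⟶ T ⊞ s.I).hom.app (op p)) ≫
      (cokernel.π s.δ.hom).app (op p) = 0 := by
    rw [Category.assoc]; exact hx
  obtain ⟨X₁, ρ₁, hρ₁, v, hv⟩ := exists_of_comp_cokerπ_eq_zero s.δ p _ hx'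
  obtain ⟨b, hb⟩ := T.property.2.1
  have h : p ≤ max p b := le_max_left _ _
  have h1 : v ≫ (s.δ ≫ biprod.snd).hom.app (op p) =
      (0 : X₁ ⟶ s.I.obj.obj (op (max p b))) ≫ tr s.I.obj h := by
    rw [comp_app', ← reassoc_of% hv]
    simp only [inl_snd_app, comp_zero, zero_comp]
  obtain ⟨X₂, ρ₂, hρ₂, t, ht⟩ := s.hH p (max p b) h v 0 h1
  have ht0 : t = 0 := (hb (max p b) (le_max_right _ _)).eq_of_tgt _ _
  rw [comp_app', ← reassoc_of% hv, ht0, zero_comp] at ht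
  simp only [inl_fst_app, Category.comp_id] at ht
  rw [← cancel_epi ρ₁, ← cancel_epi ρ₂, comp_zero, comp_zero]
  exact ht.symm

lemma κ_strict : IsStrict s.κ := by
  rw [isStrict_iff]
  intro p q h X x c hxc
  obtain ⟨X₁, ρ₁, hρ₁, u₁, hu₁⟩ := surjective_up_to_refinements_of_epi
    ((cokerFilπ s.δ s.hδ).hom.app (op q)) c
  have hxc' : x ≫ (biprod.inl : T ⟶ T ⊞ s.I).hom.app (op p) ≫
      (cokerFilπ s.δ s.hδ).hom.app (op p) = c ≫ tr s.C.obj h := hxc
  have h0 : (ρ₁ ≫ x ≫ (biprod.inl : T ⟶ T ⊞ s.I).hom.app (op p) - u₁ ≫ tr (T ⊞ s.I).obj h) ≫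
      (cokernel.π s.δ.hom).app (op p) = 0 := by
    change _ ≫ (cokerFilπ s.δ s.hδ).hom.app (op p) = 0
    rw [Preadditive.sub_comp, Category.assoc, Category.assoc, Category.assoc, hxc', ← app_tr,
      ← reassoc_of% hu₁, sub_self]
  obtain ⟨X₂, ρ₂, hρ₂, v, hv⟩ := exists_of_comp_cokerπ_eq_zero s.δ p _ h0
  have h1 : v ≫ (s.δ ≫ biprod.snd).hom.app (op p) =
      (-(ρ₂ ≫ u₁ ≫ (biprod.snd : T ⊞ s.I ⟶ s.I).hom.app (op q))) ≫ tr s.I.obj h := by
    have e := app_tr (biprod.snd : T ⊞ s.I ⟶ s.I) h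
    rw [comp_app', ← reassoc_of% hv]
    simp only [Preadditive.sub_comp, Category.assoc, inl_snd_app,
      comp_zero, zero_sub, Preadditive.neg_comp, Preadditive.comp_neg, ← e]
  obtain ⟨X₃, ρ₃, hρ₃, t, ht⟩ := s.hH p q h v _ h1
  have e' := app_tr (biprod.fst : T ⊞ s.I ⟶ T) h
  rw [comp_app', ← reassoc_of% hv] at ht
  simp only [Preadditive.sub_comp, Preadditive.comp_sub, Category.assoc, inl_fst_app,
    Category.comp_id, ← e'] at ht
  refine ⟨X₃, ρ₃ ≫ ρ₂ ≫ ρ₁, inferInstance,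
    t + ρ₃ ≫ ρ₂ ≫ u₁ ≫ (biprod.fst : T ⊞ s.I ⟶ T).hom.app (op q), ?_⟩
  have hx' : (t + ρ₃ ≫ ρ₂ ≫ u₁ ≫ (biprod.fst : T ⊞ s.I ⟶ T).hom.app (op q)) ≫ tr T.obj h =
      (ρ₃ ≫ ρ₂ ≫ ρ₁) ≫ x := by
    rw [Preadditive.add_comp, ht]
    simp only [Category.assoc]
    abel
  haveI : Mono (tr s.C.obj h) := tr_mono s.C h
  rw [← cancel_mono (tr s.C.obj h), Category.assoc, app_tr, reassoc_of% hx']
  simp only [Category.assoc, hxc]

/-- the next component of the resolution map. -/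
noncomputable def nextφ : T ⟶ s.nextI := biprod.inl ≫ s.nextπ

/-- the next differential of the resolution. -/
noncomputable def nextd : s.I ⟶ s.nextI := biprod.inr ≫ s.nextπ

lemma nextφ_eq : s.nextφ = s.κ ≫ s.nextj := by
  rw [nextφ, nextπ, κ, Category.assoc]

lemma nextφ_app_mono (p : ℤ) : Mono (s.nextφ.hom.app (op p)) := by
  rw [nextφ_eq, comp_app']
  haveI := s.κ_app_mono p
  exact mono_comp _ _

instance nextφ_mono : Mono s.nextφ := mono_of_mono_app _ (s.nextφ_app_mono)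

lemma nextφ_strict : IsStrict s.nextφ := by
  rw [nextφ_eq]
  exact isStrict_comp_strictMono _ s.κ_strict _ s.nextj_strict (fun p => inferInstance)

lemma gr_exact (hd : d₀ ≫ dT = 0) (p : ℤ) ⦃X : A⦄ (zbar : X ⟶ (gr A p).obj (T ⊞ s.I).obj)
    (hz : zbar ≫ (gr A p).map (s.nextδ dT).hom = 0) :
    ∃ (X' : A) (ρ : X' ⟶ X) (_ : Epi ρ) (wbar : X' ⟶ (gr A p).obj s.W.obj),
      ρ ≫ zbar = wbar ≫ (gr A p).map s.δ.hom := by
  refine gr_exact_of_strict_of_level s.δ (s.nextδ dT) (s.isStrict_nextδ dT hd) ?_ p zbar hz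
  intro p X y hy
  refine s.nextπ_level_exact p y ?_
  rw [← s.nextδ_snd dT, comp_app', reassoc_of% hy, zero_comp]

lemma nextδ_nextπ (hd : d₀ ≫ dT = 0) : s.nextδ dT ≫ (s.next dT hd).nextπ = 0 :=
  (s.next dT hd).δ_nextπ

lemma nextδ_eq : s.nextδ dT = -(biprod.fst ≫ dT ≫ biprod.inl) + s.nextπ ≫ biprod.inr := by
  rw [nextδ, biprod.lift_eq, Preadditive.neg_comp, Category.assoc]

lemma next_aux {Z : FilF A} (π' : T' ⊞ s.nextI ⟶ Z) (h : s.nextδ dT ≫ π' = 0) :
    s.nextd ≫ biprod.inr ≫ π' = 0 ∧ s.nextφ ≫ biprod.inr ≫ π' = dT ≫ biprod.inl ≫ π' := by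
  constructor
  · have h1 := biprod.inr ≫= h
    rw [comp_zero, nextδ_eq, Preadditive.add_comp, Preadditive.comp_add, Preadditive.neg_comp,
      Preadditive.comp_neg, Category.assoc, Category.assoc, biprod.inr_fst_assoc, zero_comp,
      neg_zero, zero_add, Category.assoc] at h1
    rw [nextd, Category.assoc]
    exact h1
  · have h1 := biprod.inl ≫= h
    rw [comp_zero, nextδ_eq, Preadditive.add_comp, Preadditive.comp_add, Preadditive.neg_comp,
      Preadditive.comp_neg, Category.assoc, Category.assoc, biprod.inl_fst_assoc,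
      Category.assoc, neg_add_eq_zero] at h1
    rw [nextφ, Category.assoc]
    exact h1.symm

lemma next_nextd (hd : d₀ ≫ dT = 0) : s.nextd ≫ (s.next dT hd).nextd = 0 :=
  (s.next_aux dT (s.next dT hd).nextπ (s.nextδ_nextπ dT hd)).1

lemma next_nextφ (hd : d₀ ≫ dT = 0) :
    s.nextφ ≫ (s.next dT hd).nextd = dT ≫ (s.next dT hd).nextφ :=
  (s.next_aux dT (s.next dT hd).nextπ (s.nextδ_nextπ dT hd)).2

@[reassoc]
lemma inl_nextδ : biprod.inl ≫ s.nextδ dT = -(dT ≫ biprod.inl) + s.nextφ ≫ biprod.inr := by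
  rw [nextδ_eq, Preadditive.comp_add, Preadditive.comp_neg, biprod.inl_fst_assoc, nextφ,
    Category.assoc]

@[reassoc]
lemma inr_nextδ : biprod.inr ≫ s.nextδ dT = s.nextd ≫ biprod.inr := by
  rw [nextδ_eq, Preadditive.comp_add, Preadditive.comp_neg, biprod.inr_fst_assoc, zero_comp,
    neg_zero, zero_add, nextd, Category.assoc]

lemma nextπ_eq : s.nextπ = biprod.fst ≫ s.nextφ + biprod.snd ≫ s.nextd := by
  rw [nextφ, nextd, ← Category.assoc, ← Category.assoc, ← Preadditive.add_comp, biprod.total,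
    Category.id_comp]

/-- the element-wise form of exactness used for injectivity on homology. -/
lemma exists_M (hd : d₀ ≫ dT = 0) (p : ℤ) ⦃X : A⦄ (x : X ⟶ (grF A p).obj T)
    (y : X ⟶ (grF A p).obj s.I) (hx : x ≫ (grF A p).map dT = 0)
    (hxy : x ≫ (grF A p).map s.nextφ = y ≫ (grF A p).map s.nextd) :
    ∃ (X' : A) (ρ : X' ⟶ X) (_ : Epi ρ) (x' : X' ⟶ (grF A p).obj T₀),
      ρ ≫ x = x' ≫ (grF A p).map d₀ := by
  obtain ⟨zbar, hzbar⟩ : ∃ zbar : X ⟶ (grF A p).obj (T ⊞ s.I),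
      zbar = x ≫ (grF A p).map biprod.inl - y ≫ (grF A p).map biprod.inr := ⟨_, rfl⟩
  have hz : zbar ≫ (grF A p).map (s.nextδ dT) = 0 := by
    have e1 : (grF A p).map (biprod.inl : T ⟶ T ⊞ s.I) ≫ (grF A p).map (s.nextδ dT) =
        -((grF A p).map dT ≫ (grF A p).map biprod.inl) +
          (grF A p).map s.nextφ ≫ (grF A p).map biprod.inr := by
      rw [← Functor.map_comp, inl_nextδ, Functor.map_add, Functor.map_neg, Functor.map_comp,
        Functor.map_comp]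
    have e2 : (grF A p).map (biprod.inr : s.I ⟶ T ⊞ s.I) ≫ (grF A p).map (s.nextδ dT) =
        (grF A p).map s.nextd ≫ (grF A p).map biprod.inr := by
      rw [← Functor.map_comp, inr_nextδ, Functor.map_comp]
    rw [hzbar, Preadditive.sub_comp, Category.assoc, Category.assoc, e1, e2,
      Preadditive.comp_add, Preadditive.comp_neg, ← Category.assoc x, hx, zero_comp, neg_zero,
      zero_add, ← Category.assoc x, hxy, Category.assoc, sub_self]
  obtain ⟨X', ρ, hρ, wbar, hw⟩ := s.gr_exact dT hd p zbar hz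
  change X' ⟶ (grF A p).obj s.W at wbar
  change ρ ≫ zbar = wbar ≫ (grF A p).map s.δ at hw
  refine ⟨X', ρ, hρ, wbar ≫ (grF A p).map s.u, ?_⟩
  have h1 : zbar ≫ (grF A p).map biprod.fst = x := by
    rw [hzbar, Preadditive.sub_comp, Category.assoc, Category.assoc, ← Functor.map_comp,
      ← Functor.map_comp, biprod.inl_fst, biprod.inr_fst, CategoryTheory.Functor.map_id,
      Functor.map_zero, comp_zero, sub_zero, Category.comp_id]
  rw [← h1, ← Category.assoc ρ, hw, Category.assoc, ← Functor.map_comp, s.hu, Functor.map_comp,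
    Category.assoc]

/-- the element-wise form of exactness used for surjectivity on homology. -/
lemma exists_E (hd : d₀ ≫ dT = 0) {T'' : FilF A} (dT' : T' ⟶ T'') (hd' : dT ≫ dT' = 0) (p : ℤ)
    ⦃X : A⦄ (y : X ⟶ (grF A p).obj s.nextI)
    (hy : y ≫ (grF A p).map (s.next dT hd).nextd = 0) :
    ∃ (X' : A) (ρ : X' ⟶ X) (_ : Epi ρ) (x : X' ⟶ (grF A p).obj T)
      (y' : X' ⟶ (grF A p).obj s.I), x ≫ (grF A p).map dT = 0 ∧
        ρ ≫ y = x ≫ (grF A p).map s.nextφ + y' ≫ (grF A p).map s.nextd := by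
  obtain ⟨zbar, hzbar⟩ : ∃ zbar : X ⟶ (grF A p).obj (T' ⊞ s.nextI),
      zbar = y ≫ (grF A p).map biprod.inr := ⟨_, rfl⟩
  have hz : zbar ≫ (grF A p).map ((s.next dT hd).nextδ dT') = 0 := by
    have e : (grF A p).map (biprod.inr : (s.next dT hd).I ⟶ T' ⊞ (s.next dT hd).I) ≫
        (grF A p).map ((s.next dT hd).nextδ dT') =
        (grF A p).map (s.next dT hd).nextd ≫ (grF A p).map biprod.inr := by
      rw [← Functor.map_comp, (s.next dT hd).inr_nextδ dT', Functor.map_comp]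
    rw [hzbar, Category.assoc]
    refine (congr_arg (fun t => y ≫ t) e).trans ?_
    change y ≫ (grF A p).map (s.next dT hd).nextd ≫ _ = 0
    rw [← Category.assoc, hy, zero_comp]
  obtain ⟨X', ρ, hρ, wbar, hw⟩ := (s.next dT hd).gr_exact dT' hd' p zbar hz
  change X' ⟶ (grF A p).obj (T ⊞ s.I) at wbar
  change ρ ≫ zbar = wbar ≫ (grF A p).map (s.nextδ dT) at hw
  refine ⟨X', ρ, hρ, wbar ≫ (grF A p).map biprod.fst, wbar ≫ (grF A p).map biprod.snd, ?_, ?_⟩
  · have h1 : zbar ≫ (grF A p).map (biprod.fst : T' ⊞ s.nextI ⟶ T') = 0 := by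
      rw [hzbar, Category.assoc, ← Functor.map_comp, biprod.inr_fst, Functor.map_zero,
        comp_zero]
    have h2 := ρ ≫= h1
    rw [comp_zero, ← Category.assoc, hw, Category.assoc, ← Functor.map_comp, nextδ_fst,
      Preadditive.neg_comp, Functor.map_neg, Preadditive.comp_neg, neg_eq_zero,
      Functor.map_comp] at h2
    rw [Category.assoc]
    exact h2
  · have h1 : zbar ≫ (grF A p).map (biprod.snd : T' ⊞ s.nextI ⟶ s.nextI) = y := by
      rw [hzbar, Category.assoc, ← Functor.map_comp, biprod.inr_snd,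
        CategoryTheory.Functor.map_id, Category.comp_id]
    rw [← h1, ← Category.assoc ρ, hw, Category.assoc, ← Functor.map_comp, nextδ_snd, nextπ_eq,
      Functor.map_add, Functor.map_comp, Functor.map_comp, Preadditive.comp_add, Category.assoc,
      Category.assoc]

end Stg

/-- the initial stage. -/
noncomputable def Stg.init {T₀ T : FilF A} (d₀ : T₀ ⟶ T) : Stg d₀ where
  I := 0
  W := 0
  δ := 0
  u := 0
  hu := by rw [zero_comp, zero_comp]
  hδ := isStrict_zero _ _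
  hI := fun p => ((grF A p).map_isZero (isZero_zero _)).injective
  hH := by
    intro p q h X w y _
    have hw : w = 0 := (isZero_app_of_isZero (isZero_zero (FilF A)) p).eq_of_tgt _ _
    refine ⟨X, 𝟙 X, inferInstance, 0, ?_⟩
    rw [hw, zero_comp, zero_comp, comp_zero]

end Stage

end Groth.Agent.Lib.Helper86.FilD
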