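import Mathlib
import Groth.Prelude.Def_FilD
import Groth.Agent.Lib.Helper86.FilDStage

/-!
# helper86: filtered injective resolutions of bounded below complexes of finite filtered objects
-/

set_option autoImplicit false
universe v u

open CategoryTheory CategoryTheory.Limits Opposite

namespace Groth.Agent.Lib.Helper86.FilD

open _root_.FilD

section Pullback

variable {V : Type*} [Category V] [HasZeroMorphisms V] (g : ℤ → ℕ)

/-- pull back an `ℕ`-indexed cochain complex along a map `ℤ → ℕ`. -/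
def pbCx (C : CochainComplex V ℕ) : CochainComplex V ℤ where
  X n := C.X (g n)
  d i j := if i + 1 = j then C.d (g i) (g j) else 0
  shape i j h := if_neg h
  d_comp_d' i j k hij hjk := by
    have hij' : i + 1 = j := hij
    have hjk' : j + 1 = k := hjk
    rw [if_pos hij', if_pos hjk', C.d_comp_d]

lemma pbCx_d (C : CochainComplex V ℕ) (i j : ℤ) (hij : i + 1 = j) :
    (pbCx g C).d i j = C.d (g i) (g j) := if_pos hij

/-- pull back a morphism of `ℕ`-indexed cochain complexes. -/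
def pbMap {C C' : CochainComplex V ℕ} (φ : C ⟶ C') : pbCx g C ⟶ pbCx g C' where
  f n := φ.f (g n)
  comm' i j hij := by
    have hij' : i + 1 = j := hij
    rw [pbCx_d g C i j hij', pbCx_d g C' i j hij']
    exact φ.comm (g i) (g j)

end Pullback

variable {A : Type u} [Category.{v} A] [Abelian A]

section Recursion

variable [EnoughInjectives A] (K : CochainComplex (FilF A) ℤ) (a : ℤ)

/-- the index function `ℕ → ℤ`. -/
def fIdx (m : ℕ) : ℤ := a - 1 + m

/-- the index function `ℤ → ℕ`. -/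
def gIdx (n : ℤ) : ℕ := (n - a + 1).toNat

lemma gIdx_of_lt (n : ℤ) (h : n < a) : gIdx a n = 0 := by
  unfold gIdx; lia

lemma gIdx_succ (n : ℤ) (h : a - 1 ≤ n) : gIdx a n + 1 = gIdx a (n + 1) := by
  unfold gIdx; lia

lemma fIdx_gIdx (n : ℤ) (h : a - 1 ≤ n) : n = fIdx a (gIdx a n) := by
  unfold gIdx fIdx; lia

lemma fIdx_gIdx_of_lt (n : ℤ) (h : n < a) : fIdx a (gIdx a n) < a := by
  unfold gIdx fIdx; lia

/-- the terms of `K` in degrees `≥ a - 1`. -/
noncomputable abbrev kX (m : ℕ) : FilF A := K.X (fIdx a m)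

/-- the differentials of `K` in degrees `≥ a - 1`. -/
noncomputable abbrev kd (m : ℕ) : kX K a m ⟶ kX K a (m + 1) := K.d (fIdx a m) (fIdx a (m + 1))

lemma kd_comp (m : ℕ) : kd K a m ≫ kd K a (m + 1) = 0 := K.d_comp_d _ _ _

/-- the stages of the construction. -/
noncomputable def stage : (m : ℕ) → Stg (kd K a m)
  | 0 => Stg.init _
  | m + 1 => (stage m).next (kd K a (m + 1)) (kd_comp K a m)

/-- the terms of the resolution. -/
noncomputable def IX (m : ℕ) : FilF A := (stage K a m).I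

/-- the differentials of the resolution. -/
noncomputable def dI (m : ℕ) : IX K a m ⟶ IX K a (m + 1) := (stage K a m).nextd

/-- the components of the resolution map. -/
noncomputable def φ' : (m : ℕ) → (kX K a m ⟶ IX K a m)
  | 0 => 0
  | m + 1 => (stage K a m).nextφ

lemma dI_comp (m : ℕ) : dI K a m ≫ dI K a (m + 1) = 0 :=
  (stage K a m).next_nextd (kd K a (m + 1)) (kd_comp K a m)

lemma isZero_kX_zero [K.IsStrictlyGE a] : IsZero (kX K a 0) :=
  K.isZero_of_isStrictlyGE a _ (by unfold fIdx; lia)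

lemma φ'_comm [K.IsStrictlyGE a] (m : ℕ) : φ' K a m ≫ dI K a m = kd K a m ≫ φ' K a (m + 1) := by
  cases m with
  | zero => exact (isZero_kX_zero K a).eq_of_src _ _
  | succ m => exact (stage K a m).next_nextφ (kd K a (m + 1)) (kd_comp K a m)

lemma isFilteredInjective_IX (m : ℕ) : IsFilteredInjective (IX K a m) := (stage K a m).hI

lemma isZero_IX_zero : IsZero (IX K a 0) := isZero_zero _

lemma φ'_mono [K.IsStrictlyGE a] (m : ℕ) : Mono (φ' K a m) := by
  cases m with
  | zero => exact mono_of_isZero_src (isZero_kX_zero K a) _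
  | succ m => exact (stage K a m).nextφ_mono

lemma φ'_strict (m : ℕ) : IsStrict (φ' K a m) := by
  cases m with
  | zero => exact isStrict_zero _ _
  | succ m => exact (stage K a m).nextφ_strict

/-- the `ℕ`-indexed complex of terms of `K`. -/
noncomputable def Kcx : CochainComplex (FilF A) ℕ :=
  CochainComplex.of (kX K a) (kd K a) (kd_comp K a)

/-- the `ℕ`-indexed resolution. -/
noncomputable def Icx : CochainComplex (FilF A) ℕ :=
  CochainComplex.of (IX K a) (dI K a) (dI_comp K a)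

lemma Kcx_d (m : ℕ) : (Kcx K a).d m (m + 1) = kd K a m :=
  CochainComplex.of_d (kX K a) (kd K a) m

lemma Icx_d (m : ℕ) : (Icx K a).d m (m + 1) = dI K a m :=
  CochainComplex.of_d (IX K a) (dI K a) m

lemma Kcx_d_eq (m m' : ℕ) (h : m + 1 = m') :
    (Kcx K a).d m m' = K.d (fIdx a m) (fIdx a m') := by
  subst h
  exact Kcx_d K a m

/-- the `ℕ`-indexed resolution map. -/
noncomputable def φcx [K.IsStrictlyGE a] : Kcx K a ⟶ Icx K a :=
  CochainComplex.ofHom (X := Kcx K a) (Y := Icx K a) (φ' K a) (fun m => by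
    rw [Kcx_d, Icx_d]
    exact φ'_comm K a m)

lemma φcx_f [K.IsStrictlyGE a] (m : ℕ) : (φcx K a).f m = φ' K a m := rfl

variable [K.IsStrictlyGE a]

lemma M_nat (m0 m1 m2 : ℕ) (h01 : m0 + 1 = m1) (h12 : m1 + 1 = m2) (p : ℤ) ⦃X : A⦄
    (x : X ⟶ (grF A p).obj ((Kcx K a).X m1)) (y : X ⟶ (grF A p).obj ((Icx K a).X m0))
    (hx : x ≫ (grF A p).map ((Kcx K a).d m1 m2) = 0)
    (hxy : x ≫ (grF A p).map ((φcx K a).f m1) = y ≫ (grF A p).map ((Icx K a).d m0 m1)) :
    ∃ (X' : A) (ρ : X' ⟶ X) (_ : Epi ρ) (x' : X' ⟶ (grF A p).obj ((Kcx K a).X m0)),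
      ρ ≫ x = x' ≫ (grF A p).map ((Kcx K a).d m0 m1) := by
  subst h01 h12
  rw [Kcx_d] at hx ⊢
  rw [Icx_d] at hxy
  exact (stage K a m0).exists_M (kd K a (m0 + 1)) (kd_comp K a m0) p x y hx hxy

lemma E_nat (m0 m1 m2 : ℕ) (h01 : m0 + 1 = m1) (h12 : m1 + 1 = m2) (p : ℤ) ⦃X : A⦄
    (y : X ⟶ (grF A p).obj ((Icx K a).X m1))
    (hy : y ≫ (grF A p).map ((Icx K a).d m1 m2) = 0) :
    ∃ (X' : A) (ρ : X' ⟶ X) (_ : Epi ρ) (x : X' ⟶ (grF A p).obj ((Kcx K a).X m1))
      (y' : X' ⟶ (grF A p).obj ((Icx K a).X m0)),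
      x ≫ (grF A p).map ((Kcx K a).d m1 m2) = 0 ∧
        ρ ≫ y = x ≫ (grF A p).map ((φcx K a).f m1) + y' ≫ (grF A p).map ((Icx K a).d m0 m1) := by
  subst h01 h12
  rw [Icx_d] at hy
  rw [Kcx_d, Icx_d]
  exact (stage K a m0).exists_E (kd K a (m0 + 1)) (kd_comp K a m0) (kd K a (m0 + 1 + 1))
    (kd_comp K a (m0 + 1)) p y hy

/-- the resolution, as a `ℤ`-indexed complex. -/
noncomputable def Ires : CochainComplex (FilF A) ℤ := pbCx (gIdx a) (Icx K a)

/-- a complex isomorphic to `K`. -/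
noncomputable def Kt : CochainComplex (FilF A) ℤ := pbCx (gIdx a) (Kcx K a)

/-- the resolution map from `Kt`. -/
noncomputable def φt : Kt K a ⟶ Ires K a := pbMap (gIdx a) (φcx K a)

lemma Ires_d (i j : ℤ) (hij : i + 1 = j) :
    (Ires K a).d i j = (Icx K a).d (gIdx a i) (gIdx a j) := pbCx_d _ _ _ _ hij

lemma Kt_d (i j : ℤ) (hij : i + 1 = j) :
    (Kt K a).d i j = (Kcx K a).d (gIdx a i) (gIdx a j) := pbCx_d _ _ _ _ hij

lemma isZero_Ires_X (n : ℤ) (hn : n < a) : IsZero ((Ires K a).X n) := by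
  change IsZero (IX K a (gIdx a n))
  rw [gIdx_of_lt a n hn]
  exact isZero_IX_zero K a

instance : (Ires K a).IsStrictlyGE a := by
  rw [CochainComplex.isStrictlyGE_iff]
  exact isZero_Ires_X K a

lemma isZero_Kt_X (n : ℤ) (hn : n < a) : IsZero ((Kt K a).X n) := by
  change IsZero (K.X (fIdx a (gIdx a n)))
  exact K.isZero_of_isStrictlyGE a _ (fIdx_gIdx_of_lt a n hn)

/-- the components of the isomorphism `K ≅ Kt`. -/
noncomputable def ψX (n : ℤ) : K.X n ≅ (Kt K a).X n :=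
  if h : a - 1 ≤ n then K.XIsoOfEq (fIdx_gIdx a n h)
  else IsZero.iso (K.isZero_of_isStrictlyGE a n (by lia)) (isZero_Kt_X K a n (by lia))

lemma ψX_comm (i j : ℤ) (hij : i + 1 = j) :
    (ψX K a i).hom ≫ (Kt K a).d i j = K.d i j ≫ (ψX K a j).hom := by
  by_cases hi : a - 1 ≤ i
  · have hj : a - 1 ≤ j := by lia
    have e : (Kt K a).d i j = K.d (fIdx a (gIdx a i)) (fIdx a (gIdx a j)) := by
      rw [Kt_d K a i j hij]
      exact Kcx_d_eq K a _ _ (by rw [← hij]; exact gIdx_succ a i hi)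
    have e1 : (ψX K a i).hom = (K.XIsoOfEq (fIdx_gIdx a i hi)).hom := by
      rw [ψX, dif_pos hi]
    have e2 : (ψX K a j).hom = (K.XIsoOfEq (fIdx_gIdx a j hj)).hom := by
      rw [ψX, dif_pos hj]
    rw [e, e1, e2]
    exact (HomologicalComplex.XIsoOfEq_hom_comp_d _ _ _).trans
      (HomologicalComplex.d_comp_XIsoOfEq_hom _ _ _).symm
  · exact (K.isZero_of_isStrictlyGE a i (by lia)).eq_of_src _ _

/-- the isomorphism `K ≅ Kt`. -/
noncomputable def ψ : K ≅ Kt K a :=
  HomologicalComplex.Hom.isoOfComponents (ψX K a) (fun i j hij => ψX_comm K a i j hij)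

lemma quasiIsoAt_gr_φt (p n : ℤ) : QuasiIsoAt ((grCx p).map (φt K a)) n := by
  by_cases hn : n < a
  · have h1 : ((grCx p).obj (Kt K a)).ExactAt n :=
      ShortComplex.exact_of_isZero_X₂ _ ((grF A p).map_isZero (isZero_Kt_X K a n hn))
    have h2 : ((grCx p).obj (Ires K a)).ExactAt n :=
      ShortComplex.exact_of_isZero_X₂ _ ((grF A p).map_isZero (isZero_Ires_X K a n hn))
    rw [quasiIsoAt_iff_exactAt _ _ h1]
    exact h2
  · have h01 : gIdx a (n - 1) + 1 = gIdx a n := by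
      have := gIdx_succ a (n - 1) (by lia)
      rwa [sub_add_cancel] at this
    have h12 : gIdx a n + 1 = gIdx a (n + 1) := gIdx_succ a n (by lia)
    have eK1 := Kt_d K a (n - 1) n (by lia)
    have eK2 := Kt_d K a n (n + 1) rfl
    have eI1 := Ires_d K a (n - 1) n (by lia)
    have eI2 := Ires_d K a n (n + 1) rfl
    rw [quasiIsoAt_iff' _ (n - 1) n (n + 1) (by simp) (by simp), ShortComplex.quasiIso_iff,
      isIso_iff_mono_and_epi]
    constructor
    · rw [ShortComplex.mono_homologyMap_iff_up_to_refinements]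
      intro T x₂ hx₂ y₁ hy₁
      change T ⟶ (grF A p).obj ((Kcx K a).X (gIdx a n)) at x₂
      change T ⟶ (grF A p).obj ((Icx K a).X (gIdx a (n - 1))) at y₁
      change x₂ ≫ (grF A p).map ((Kt K a).d n (n + 1)) = 0 at hx₂
      change x₂ ≫ (grF A p).map ((φcx K a).f (gIdx a n)) =
        y₁ ≫ (grF A p).map ((Ires K a).d (n - 1) n) at hy₁
      rw [eK2] at hx₂
      rw [eI1] at hy₁
      obtain ⟨X', ρ, hρ, x', hx'⟩ := M_nat K a _ _ _ h01 h12 p x₂ y₁ hx₂ hy₁
      refine ⟨X', ρ, hρ, x', ?_⟩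
      change ρ ≫ x₂ = x' ≫ (grF A p).map ((Kt K a).d (n - 1) n)
      rw [eK1]
      exact hx'
    · rw [ShortComplex.epi_homologyMap_iff_up_to_refinements]
      intro T y₂ hy₂
      change T ⟶ (grF A p).obj ((Icx K a).X (gIdx a n)) at y₂
      change y₂ ≫ (grF A p).map ((Ires K a).d n (n + 1)) = 0 at hy₂
      rw [eI2] at hy₂
      obtain ⟨X', ρ, hρ, x, y', hx, hxy⟩ := E_nat K a _ _ _ h01 h12 p y₂ hy₂
      refine ⟨X', ρ, hρ, x, ?_, y', ?_⟩
      · change x ≫ (grF A p).map ((Kt K a).d n (n + 1)) = 0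
        rw [eK2]
        exact hx
      · rw [← eI1] at hxy
        exact hxy

lemma isFilteredQuasiIso_φt : IsFilteredQuasiIso (φt K a) := by
  intro p
  rw [quasiIso_iff]
  exact quasiIsoAt_gr_φt K a p

include a in
theorem exists_resolution_below :
    ∃ (I : CochainComplex (FilF A) ℤ) (a' : ℤ) (φ : K ⟶ I), I.IsStrictlyGE a' ∧
      (∀ n, IsFilteredInjective (I.X n)) ∧ IsFilteredQuasiIso φ ∧
      ∀ n, Mono (φ.f n) ∧ IsStrict (φ.f n) := by
  refine ⟨Ires K a, a, (ψ K a).hom ≫ φt K a, inferInstance, ?_, ?_, ?_⟩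
  · intro n
    exact isFilteredInjective_IX K a (gIdx a n)
  · intro p
    rw [Functor.map_comp]
    haveI : QuasiIso ((grCx p).map (φt K a)) := isFilteredQuasiIso_φt K a p
    infer_instance
  · intro n
    have e : ((ψ K a).hom ≫ φt K a).f n = (ψX K a n).hom ≫ φ' K a (gIdx a n) := rfl
    rw [e]
    exact ⟨@mono_comp _ _ _ _ _ (ψX K a n).hom inferInstance (φ' K a (gIdx a n))
      (φ'_mono K a (gIdx a n)), isStrict_iso_comp (ψX K a n) _ (φ'_strict K a (gIdx a n))⟩

end Recursion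

end Groth.Agent.Lib.Helper86.FilD
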