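import Mathlib
import Groth.Prelude.Def_FilD
import Groth.Agent.Lib.Helper86.FilDInj

/-!
# helper86: extension of morphisms into filtered injective objects along strict morphisms

* `exists_extension`: `u : X ⟶ Y` strict, `I` filtered injective, `f : X ⟶ I` killing the kernel of `u`
  levelwise; then `f` extends along `u`.
-/

set_option autoImplicit false
universe v u

open CategoryTheory CategoryTheory.Limits Opposite

namespace Groth.Agent.Lib.Helper86.FilD

open _root_.FilD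

variable {A : Type u} [Category.{v} A] [Abelian A]

/-- one-level extension step (abstract form). -/
lemma exists_extension_step {X₁ X₀ Y₁ Y₀ I₁ I₀ : A} (iX : X₁ ⟶ X₀) (iY : Y₁ ⟶ Y₀) (iI : I₁ ⟶ I₀)
    (u₁ : X₁ ⟶ Y₁) (u₀ : X₀ ⟶ Y₀) (f₁ : X₁ ⟶ I₁) (f₀ : X₀ ⟶ I₀) (g₁ : Y₁ ⟶ I₁)
    [Injective I₀]
    (hu : iX ≫ u₀ = u₁ ≫ iY) (hf : iX ≫ f₀ = f₁ ≫ iI) (hg₁ : u₁ ≫ g₁ = f₁)
    (hstrict : ∀ ⦃T : A⦄ (x : T ⟶ X₀) (y : T ⟶ Y₁), x ≫ u₀ = y ≫ iY →
      ∃ (T' : A) (π : T' ⟶ T) (_ : Epi π) (x' : T' ⟶ X₁), x' ≫ u₁ = π ≫ y)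
    (hker : ∀ ⦃T : A⦄ (x : T ⟶ X₀), x ≫ u₀ = 0 → x ≫ f₀ = 0) :
    ∃ g₀ : Y₀ ⟶ I₀, u₀ ≫ g₀ = f₀ ∧ iY ≫ g₀ = g₁ ≫ iI := by
  let s : X₀ ⊞ Y₁ ⟶ Y₀ := biprod.desc u₀ iY
  let h : X₀ ⊞ Y₁ ⟶ I₀ := biprod.desc f₀ (g₁ ≫ iI)
  have hk : kernel.ι s ≫ h = 0 := by
    set k := kernel.ι s with hk_def
    have hks : k ≫ s = 0 := kernel.condition s
    have e1 : (k ≫ biprod.fst) ≫ u₀ + (k ≫ biprod.snd) ≫ iY = 0 := by
      have : k ≫ s = (k ≫ biprod.fst) ≫ u₀ + (k ≫ biprod.snd) ≫ iY := by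
        simp only [s, biprod.desc_eq, Preadditive.comp_add, Category.assoc]
      rw [← this, hks]
    have e2 : (-(k ≫ biprod.fst)) ≫ u₀ = (k ≫ biprod.snd) ≫ iY := by
      rw [Preadditive.neg_comp]
      exact neg_eq_of_add_eq_zero_right e1
    obtain ⟨T', π, hπ, x', hx'⟩ := hstrict _ _ e2
    have e3 : (x' ≫ iX + π ≫ k ≫ biprod.fst) ≫ u₀ = 0 := by
      rw [Preadditive.add_comp, Category.assoc, hu, reassoc_of% hx', Category.assoc,
        Category.assoc, ← Preadditive.comp_add]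
      have : (k ≫ biprod.snd) ≫ iY + (k ≫ biprod.fst) ≫ u₀ = 0 := by rw [add_comm]; exact e1
      simp only [Category.assoc] at this
      rw [this, comp_zero]
    have e4 := hker _ e3
    have e5 : π ≫ k ≫ h = 0 := by
      have : k ≫ h = (k ≫ biprod.fst) ≫ f₀ + (k ≫ biprod.snd) ≫ g₁ ≫ iI := by
        simp only [h, biprod.desc_eq, Preadditive.comp_add, Category.assoc]
      rw [this, Preadditive.comp_add, ← Category.assoc π, ← Category.assoc π (k ≫ biprod.snd),
        ← hx', Category.assoc x', reassoc_of% hg₁, ← hf, add_comm]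
      rw [Preadditive.add_comp] at e4
      simpa only [Category.assoc] using e4
    rw [← cancel_epi π, e5, comp_zero]
  let h' : Abelian.coimage s ⟶ I₀ := cokernel.desc (kernel.ι s) h hk
  let g₀ : Y₀ ⟶ I₀ := Injective.factorThru h' (Abelian.factorThruCoimage s)
  have hg₀ : s ≫ g₀ = h := by
    have : s = Abelian.coimage.π s ≫ Abelian.factorThruCoimage s := (Abelian.coimage.fac s).symm
    rw [this, Category.assoc, Injective.comp_factorThru]
    exact cokernel.π_desc _ _ _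
  refine ⟨g₀, ?_, ?_⟩
  · have := biprod.inl ≫= hg₀
    simpa [s, h] using this
  · have := biprod.inr ≫= hg₀
    simpa [s, h] using this

theorem exists_extension {X Y I : FilF A} (u : X ⟶ Y) (hu : IsStrict u)
    (hI : IsFilteredInjective I) (f : X ⟶ I)
    (hker : ∀ (p : ℤ) ⦃T : A⦄ (x : T ⟶ X.obj.obj (op p)),
      x ≫ u.hom.app (op p) = 0 → x ≫ f.hom.app (op p) = 0) :
    ∃ g : Y ⟶ I, u ≫ g = f := by
  obtain ⟨b, hb⟩ := I.property.2.1
  have stepA : ∀ n : ℕ, ∃ g : ∀ p : ℤ, Y.obj.obj (op p) ⟶ I.obj.obj (op p),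
      (∀ p, b ≤ p + n → u.hom.app (op p) ≫ g p = f.hom.app (op p)) ∧
      (∀ p, b ≤ p + n → Y.obj.map (stepHom p) ≫ g p = g (p + 1) ≫ I.obj.map (stepHom p)) := by
    intro n
    induction n with
    | zero =>
      exact ⟨fun p => 0, fun p hp => (hb p (by simpa using hp)).eq_of_tgt _ _,
        fun p hp => (hb p (by simpa using hp)).eq_of_tgt _ _⟩
    | succ n ih =>
      obtain ⟨g, hg1, hg2⟩ := ih
      obtain ⟨p₀, hp₀⟩ : ∃ p₀ : ℤ, p₀ = b - n - 1 := ⟨_, rfl⟩
      haveI := injective_level hI p₀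
      obtain ⟨g₀, h1, h2⟩ := exists_extension_step (X.obj.map (stepHom p₀))
        (Y.obj.map (stepHom p₀)) (I.obj.map (stepHom p₀)) (u.hom.app (op (p₀ + 1)))
        (u.hom.app (op p₀)) (f.hom.app (op (p₀ + 1))) (f.hom.app (op p₀)) (g (p₀ + 1))
        (u.hom.naturality _) (f.hom.naturality _) (hg1 (p₀ + 1) (by lia))
        (fun T x y hxy => (isStrict_iff u).1 hu p₀ (p₀ + 1) (by lia) x y
          (by rw [hxy, stepHom_eq])) (hker p₀)
      refine ⟨Function.update g p₀ g₀, ?_, ?_⟩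
      · intro p hp
        by_cases hpp : p = p₀
        · subst hpp
          rw [Function.update_self]; exact h1
        · rw [Function.update_of_ne hpp]
          exact hg1 p (by push_cast at hp; lia)
      · intro p hp
        by_cases hpp : p = p₀
        · subst hpp
          rw [Function.update_self, Function.update_of_ne (by lia)]; exact h2
        · rw [Function.update_of_ne hpp, Function.update_of_ne (by push_cast at hp; lia)]
          exact hg2 p (by push_cast at hp; lia)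
  obtain ⟨aX, haX⟩ := X.property.2.2
  obtain ⟨aY, haY⟩ := Y.property.2.2
  obtain ⟨aI, haI⟩ := I.property.2.2
  obtain ⟨a, ha⟩ : ∃ a : ℤ, a = min aX (min aY aI) := ⟨_, rfl⟩
  have ha1 : a ≤ aX := by rw [ha]; exact min_le_left _ _
  have ha2 : a ≤ aY := by rw [ha]; exact le_trans (min_le_right _ _) (min_le_left _ _)
  have isoX : ∀ (p : ℤ) (h : p ≤ a), IsIso (tr X.obj h) := fun p h => haX _ ha1
  have isoY : ∀ (p : ℤ) (h : p ≤ a), IsIso (tr Y.obj h) := fun p h => haY _ ha2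
  obtain ⟨g, hg1, hg2⟩ := stepA (b - a).toNat
  have hg1' : ∀ p, a ≤ p → u.hom.app (op p) ≫ g p = f.hom.app (op p) :=
    fun p hp => hg1 p (by lia)
  have hg2' : ∀ p, a ≤ p →
      Y.obj.map (stepHom p) ≫ g p = g (p + 1) ≫ I.obj.map (stepHom p) :=
    fun p hp => hg2 p (by lia)
  let G : ∀ p : ℤ, Y.obj.obj (op p) ⟶ I.obj.obj (op p) := fun p =>
    if h : a ≤ p then g p else
      (@inv _ _ _ _ (tr Y.obj (le_of_not_ge h)) (isoY p (le_of_not_ge h))) ≫ g a ≫
        tr I.obj (le_of_not_ge h)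
  have hG_ge : ∀ p, a ≤ p → G p = g p := fun p hp => dif_pos hp
  have hG_le : ∀ (p : ℤ) (h : p ≤ a), tr Y.obj h ≫ G p = g a ≫ tr I.obj h := by
    intro p h
    by_cases hp : a ≤ p
    · obtain rfl : p = a := le_antisymm h hp
      rw [hG_ge _ hp, tr_refl, tr_refl]
      simp
    · have : G p = (@inv _ _ _ _ (tr Y.obj (le_of_not_ge hp)) (isoY p (le_of_not_ge hp))) ≫
          g a ≫ tr I.obj (le_of_not_ge hp) := dif_neg hp
      rw [this]
      haveI := isoY p h
      exact IsIso.hom_inv_id_assoc _ _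
  have hGstep : ∀ p : ℤ, Y.obj.map (stepHom p) ≫ G p = G (p + 1) ≫ I.obj.map (stepHom p) := by
    intro p
    by_cases hp : a ≤ p
    · rw [hG_ge p hp, hG_ge (p + 1) (by lia)]
      exact hg2' p hp
    · have hp1 : p + 1 ≤ a := by lia
      haveI := isoY (p + 1) hp1
      rw [← cancel_epi (tr Y.obj hp1)]
      have e1 : tr Y.obj hp1 ≫ Y.obj.map (stepHom p) = tr Y.obj (show p ≤ a by lia) := by
        rw [stepHom_eq]; exact tr_tr Y.obj _ _
      have e2 : tr I.obj hp1 ≫ I.obj.map (stepHom p) = tr I.obj (show p ≤ a by lia) := by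
        rw [stepHom_eq]; exact tr_tr I.obj _ _
      rw [reassoc_of% e1, hG_le, reassoc_of% (hG_le (p + 1) hp1), e2]
  have hGu : ∀ p : ℤ, u.hom.app (op p) ≫ G p = f.hom.app (op p) := by
    intro p
    by_cases hp : a ≤ p
    · rw [hG_ge p hp]; exact hg1' p hp
    · have hp1 : p ≤ a := le_of_not_ge hp
      have := isoX p hp1
      rw [← cancel_epi (tr X.obj hp1), tr_naturality_assoc, hG_le p hp1,
        reassoc_of% (hg1' a le_rfl), tr_naturality]
  refine ⟨ObjectProperty.homMk (natTransOfSteps G hGstep), ?_⟩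
  ext P
  obtain ⟨p⟩ := P
  exact hGu p

end Groth.Agent.Lib.Helper86.FilD
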