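import Mathlib
import Groth.Prelude.Def_FilD
import Groth.Agent.Lib.Helper86.FilDExt

/-!
# helper86: null-homotopies of maps from filtered acyclic complexes to bounded below complexes of
filtered injectives
-/

set_option autoImplicit false
universe v u

open CategoryTheory CategoryTheory.Limits Opposite

namespace Groth.Agent.Lib.Helper86.FilD

open _root_.FilD

section Abstract

variable {C : Type*} [Category C] [Preadditive C] {K I : CochainComplex C ℤ} (φ : K ⟶ I)

/-- inductive construction of a null-homotopy for a map to a bounded below complex. -/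
lemma nonempty_homotopy_zero_of_step (a : ℤ) (hI : ∀ i : ℤ, i < a → IsZero (I.X i))
    (step : ∀ (m : ℤ) (h : K.X (m + 1) ⟶ I.X m),
      K.d m (m + 1) ≫ (φ.f (m + 1) - h ≫ I.d m (m + 1)) = 0 →
      ∃ h' : K.X (m + 1 + 1) ⟶ I.X (m + 1),
        K.d (m + 1) (m + 1 + 1) ≫ h' = φ.f (m + 1) - h ≫ I.d m (m + 1)) :
    Nonempty (Homotopy φ 0) := by
  classical
  -- the invariant
  let Inv : ∀ m : ℤ, (K.X (m + 1) ⟶ I.X m) → Prop := fun m h =>
    K.d m (m + 1) ≫ (φ.f (m + 1) - h ≫ I.d m (m + 1)) = 0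
  have step' : ∀ (m : ℤ) (h : {h : K.X (m + 1) ⟶ I.X m // Inv m h}),
      ∃ h' : {h' : K.X (m + 1 + 1) ⟶ I.X (m + 1) // Inv (m + 1) h'},
        K.d (m + 1) (m + 1 + 1) ≫ h'.1 = φ.f (m + 1) - h.1 ≫ I.d m (m + 1) := by
    intro m h
    obtain ⟨h', hh'⟩ := step m h.1 h.2
    refine ⟨⟨h', ?_⟩, hh'⟩
    change K.d (m + 1) (m + 1 + 1) ≫ (φ.f (m + 1 + 1) - h' ≫ I.d (m + 1) (m + 1 + 1)) = 0
    rw [Preadditive.comp_sub, ← Category.assoc, hh', Preadditive.sub_comp, Category.assoc,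
      I.d_comp_d, comp_zero, sub_zero, φ.comm, sub_self]
  have hzero : ∀ (m : ℤ), m + 1 < a → Inv m 0 := by
    intro m hm
    change K.d m (m + 1) ≫ (φ.f (m + 1) - 0 ≫ I.d m (m + 1)) = 0
    exact (hI (m + 1) hm).eq_of_tgt _ _
  have hbase : Inv (a - 1) 0 := by
    change K.d (a - 1) (a - 1 + 1) ≫ (φ.f (a - 1 + 1) - 0 ≫ I.d (a - 1) (a - 1 + 1)) = 0
    rw [zero_comp, sub_zero, ← φ.comm]
    have : φ.f (a - 1) = 0 := (hI (a - 1) (by lia)).eq_of_tgt _ _
    rw [this, zero_comp]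
  let σ : ∀ m : ℤ, {h : K.X (m + 1) ⟶ I.X m // Inv m h} := fun m =>
    Int.inductionOn' (motive := fun m => {h : K.X (m + 1) ⟶ I.X m // Inv m h}) m (a - 1)
      ⟨0, hbase⟩ (fun k _ hk => (step' k hk).choose)
      (fun k hk _ => ⟨0, hzero (k - 1) (by lia)⟩)
  have hσ : ∀ m : ℤ, a - 1 ≤ m →
      K.d (m + 1) (m + 1 + 1) ≫ (σ (m + 1)).1 = φ.f (m + 1) - (σ m).1 ≫ I.d m (m + 1) := by
    intro m hm
    have : σ (m + 1) = (step' m (σ m)).choose := Int.inductionOn'_add_one hm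
    rw [this]
    exact (step' m (σ m)).choose_spec
  let H : ∀ m : ℤ, K.X (m + 1) ⟶ I.X m := fun m => (σ m).1
  have hH : ∀ m : ℤ, φ.f (m + 1) = K.d (m + 1) (m + 1 + 1) ≫ H (m + 1) + H m ≫ I.d m (m + 1) := by
    intro m
    by_cases hm : a - 1 ≤ m
    · rw [hσ m hm]; abel
    · exact (hI (m + 1) (by lia)).eq_of_tgt _ _
  refine ⟨{ hom := fun i j => if h : j + 1 = i then (K.XIsoOfEq h.symm).hom ≫ H j else 0
            zero := fun i j hij => dif_neg hij
            comm := ?_ }⟩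
  intro i
  obtain ⟨m, rfl⟩ : ∃ m, i = m + 1 := ⟨i - 1, by ring⟩
  rw [dNext_eq _ (show (ComplexShape.up ℤ).Rel (m + 1) (m + 1 + 1) from rfl),
    prevD_eq _ (show (ComplexShape.up ℤ).Rel m (m + 1) from rfl)]
  simp only [dif_pos, HomologicalComplex.XIsoOfEq_rfl, Iso.refl_hom, Category.id_comp,
    HomologicalComplex.zero_f, add_zero]
  exact hH m

end Abstract

variable {A : Type u} [Category.{v} A] [Abelian A]

/-- the short complexes of a filtered acyclic complex are gr-exact. -/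
lemma sc'_gr_exact {K : CochainComplex (FilF A) ℤ} (hK : IsFilteredAcyclic K) (i j k : ℤ)
    (hij : i + 1 = j) (hjk : j + 1 = k) (p : ℤ) : ((K.sc' i j k).map (grF A p)).Exact := by
  have h := hK p j
  rw [HomologicalComplex.exactAt_iff' _ i j k (by simp [← hij]) (by simp [← hjk])] at h
  exact h

theorem nonempty_homotopy_zero (K I : CochainComplex (FilF A) ℤ)
    (hK : IsFilteredAcyclic K) (a : ℤ) [I.IsStrictlyGE a]
    (hI : ∀ n, IsFilteredInjective (I.X n)) (φ : K ⟶ I) : Nonempty (Homotopy φ 0) := by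
  apply nonempty_homotopy_zero_of_step φ a (fun i hi => I.isZero_of_isStrictlyGE a i hi)
  intro m h hinv
  have hS := sc'_gr_exact hK m (m + 1) (m + 1 + 1) rfl rfl
  have hstrict : IsStrict (K.d (m + 1) (m + 1 + 1)) := isStrict_g (K.sc' m (m + 1) (m + 1 + 1)) hS
  apply exists_extension _ hstrict (hI (m + 1))
  intro p T x hx
  have hex := exact_level (K.sc' m (m + 1) (m + 1 + 1)) hS p
  obtain ⟨T', π, hπ, x₁, hx₁⟩ := hex.exact_up_to_refinements x hx
  change T' ⟶ (K.X m).obj.obj (op p) at x₁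
  change π ≫ x = x₁ ≫ (K.d m (m + 1)).hom.app (op p) at hx₁
  rw [← cancel_epi π, comp_zero, reassoc_of% hx₁]
  have := congr_arg (fun ψ => ψ.hom.app (op p)) hinv
  simp only [ObjectProperty.FullSubcategory.comp_hom, NatTrans.comp_app] at this
  rw [this]
  simp

end Groth.Agent.Lib.Helper86.FilD
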