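import Mathlib
import Groth.Prelude.Def_FilD
import Groth.Agent.Lib.Helper86.FilDBiprod
import Groth.Agent.Lib.Helper86.FilDHtpy

/-!
# helper86: mapping cones of filtered quasi-isomorphisms and maps into filtered injective complexes
-/

set_option autoImplicit false
universe v u

open CategoryTheory CategoryTheory.Limits Opposite Pretriangulated

namespace Groth.Agent.Lib.Helper86.FilD

open _root_.FilD CochainComplex HomotopyCategory

variable {A : Type u} [Category.{v} A] [Abelian A]

lemma acyclic_mappingCone_of_quasiIso {K L : CochainComplex A ℤ} (f : K ⟶ L) [QuasiIso f] :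
    (mappingCone f).Acyclic := by
  rw [← HomotopyCategory.quotient_obj_mem_subcategoryAcyclic_iff_acyclic]
  have h : HomotopyCategory.quasiIso A (ComplexShape.up ℤ)
      ((HomotopyCategory.quotient _ _).map f) :=
    (HomotopyCategory.quotient_map_mem_quasiIso_iff f).2
      ((HomologicalComplex.mem_quasiIso_iff f).2 inferInstance)
  rw [HomotopyCategory.quasiIso_eq_trW_subcategoryAcyclic] at h
  exact ((HomotopyCategory.subcategoryAcyclic A).trW_iff_of_distinguished _
    (HomotopyCategory.mappingCone_triangleh_distinguished f)).1 h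

lemma isFilteredAcyclic_mappingCone {K L : CochainComplex (FilF A) ℤ} (α : K ⟶ L)
    (hα : IsFilteredQuasiIso α) : IsFilteredAcyclic (mappingCone α) := by
  intro p n
  haveI := hα p
  have h := acyclic_mappingCone_of_quasiIso ((grCx p).map α)
  exact (h n).of_iso (mappingCone.mapHomologicalComplexIso α (grF A p)).symm

lemma hom_eq_zero_of_acyclic₀ {C I : CochainComplex (FilF A) ℤ} (hC : IsFilteredAcyclic C)
    (a : ℤ) [I.IsStrictlyGE a] (hI : ∀ n, IsFilteredInjective (I.X n))
    (f : (HomotopyCategory.quotient _ _).obj C ⟶ (HomotopyCategory.quotient _ _).obj I) :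
    f = 0 := by
  obtain ⟨ψ, rfl⟩ := (HomotopyCategory.quotient _ _).map_surjective f
  obtain ⟨h⟩ := nonempty_homotopy_zero C I hC a hI ψ
  rw [HomotopyCategory.eq_of_homotopy _ _ h]
  simp

lemma hom_eq_zero_of_acyclic {C I : CochainComplex (FilF A) ℤ} (hC : IsFilteredAcyclic C)
    (a : ℤ) [I.IsStrictlyGE a] (hI : ∀ n, IsFilteredInjective (I.X n)) (n : ℤ)
    (f : (HomotopyCategory.quotient _ _).obj C ⟶ ((HomotopyCategory.quotient _ _).obj I)⟦n⟧) :
    f = 0 := by
  let e := ((HomotopyCategory.quotient (FilF A) (ComplexShape.up ℤ)).commShiftIso n).app I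
  haveI : (I⟦n⟧).IsStrictlyGE (a - n) := I.isStrictlyGE_shift a n (a - n) (by lia)
  have h0 : f ≫ e.inv = 0 :=
    hom_eq_zero_of_acyclic₀ (I := I⟦n⟧) hC (a - n) (fun i => hI (i + n)) (f ≫ e.inv)
  have : f = (f ≫ e.inv) ≫ e.hom := by simp
  rw [this, h0, zero_comp]

theorem bijective_precomp (I : CochainComplex (FilF A) ℤ)
    (a : ℤ) [I.IsStrictlyGE a] (hI : ∀ n, IsFilteredInjective (I.X n))
    {K L : CochainComplex (FilF A) ℤ} (α : K ⟶ L) (hα : IsFilteredQuasiIso α) :
    Function.Bijective (fun β : (HomotopyCategory.quotient (FilF A) (ComplexShape.up ℤ)).obj L ⟶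
        (HomotopyCategory.quotient (FilF A) (ComplexShape.up ℤ)).obj I =>
      (HomotopyCategory.quotient (FilF A) (ComplexShape.up ℤ)).map α ≫ β) := by
  have hC := isFilteredAcyclic_mappingCone α hα
  have hT := HomotopyCategory.mappingCone_triangleh_distinguished α
  constructor
  · intro β₁ β₂ h
    dsimp only at h
    have h0 : (mappingCone.triangleh α).mor₁ ≫ (β₁ - β₂) = 0 := by
      change (HomotopyCategory.quotient _ _).map α ≫ (β₁ - β₂) = 0
      rw [Preadditive.comp_sub, h, sub_self]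
    obtain ⟨g, hg⟩ := Triangle.yoneda_exact₂ _ hT (β₁ - β₂) h0
    have : g = 0 := hom_eq_zero_of_acyclic₀ hC a hI g
    rw [this, comp_zero] at hg
    exact sub_eq_zero.1 hg
  · intro β
    have hT' := rot_of_distTriang _ hT
    have h0 : (mappingCone.triangleh α).rotate.mor₂ ≫ β⟦(1 : ℤ)⟧' = 0 :=
      hom_eq_zero_of_acyclic hC a hI 1 _
    obtain ⟨g, hg⟩ := Triangle.yoneda_exact₃ _ hT' (β⟦(1 : ℤ)⟧') h0
    change β⟦(1 : ℤ)⟧' = (-((HomotopyCategory.quotient _ _).map α)⟦(1 : ℤ)⟧') ≫ g at hg
    obtain ⟨g', rfl⟩ : ∃ g' : (HomotopyCategory.quotient (FilF A) (ComplexShape.up ℤ)).obj L ⟶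
        (HomotopyCategory.quotient (FilF A) (ComplexShape.up ℤ)).obj I, g'⟦(1 : ℤ)⟧' = g :=
      (CategoryTheory.shiftFunctor (HomotopyCategory (FilF A) (ComplexShape.up ℤ))
        (1 : ℤ)).map_surjective g
    refine ⟨-g', ?_⟩
    apply (CategoryTheory.shiftFunctor (HomotopyCategory (FilF A) (ComplexShape.up ℤ)) (1 : ℤ)).map_injective
    dsimp only
    rw [hg, Preadditive.comp_neg, Functor.map_neg, Functor.map_comp, Preadditive.neg_comp]

end Groth.Agent.Lib.Helper86.FilD
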