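import Mathlib
import Groth.Prelude.Def_FilD
import Groth.Agent.Lib.Helper86.FilDCone
import Groth.Agent.Lib.Helper86.FilDExt
import Groth.Agent.Lib.Helper86.FilDBiprod

/-!
# helper86: the filtered horseshoe lemma
-/

set_option autoImplicit false
universe v u

open CategoryTheory CategoryTheory.Limits Opposite

namespace Groth.Agent.Lib.Helper86.FilD

open _root_.FilD

variable {A : Type u} [Category.{v} A] [Abelian A]

section Levelwise

variable (S : ShortComplex (FilF A)) (hS : ∀ p : ℤ, (S.map (ev p)).ShortExact)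
include hS

lemma mono_f_app_of_levelwise (p : ℤ) : Mono (S.f.hom.app (op p)) := (hS p).mono_f

lemma epi_g_app_of_levelwise (p : ℤ) : Epi (S.g.hom.app (op p)) := (hS p).epi_g

lemma isStrict_f_of_levelwise : IsStrict S.f := by
  rw [isStrict_iff]
  intro p q h T x y hxy
  have hzero : S.f.hom.app (op p) ≫ S.g.hom.app (op p) = 0 := zero_app S p
  have h3 : y ≫ (S.map (ev q)).g = 0 := by
    change y ≫ S.g.hom.app (op q) = 0
    rw [← cancel_mono (tr S.X₃.obj h), Category.assoc, zero_comp, ← tr_naturality,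
      ← reassoc_of% hxy, hzero, comp_zero]
  obtain ⟨T', π, hπ, x', hx'⟩ := (hS q).exact.exact_up_to_refinements _ h3
  exact ⟨T', π, hπ, x', hx'.symm⟩

lemma exists_desc_of_levelwise {W : FilF A} (k : S.X₂ ⟶ W) (hk : S.f ≫ k = 0) :
    ∃ kbar : S.X₃ ⟶ W, S.g ≫ kbar = k := by
  have hk' : ∀ p : ℤ, (S.map (ev p)).f ≫ k.hom.app (op p) = 0 := by
    intro p
    have := congr_arg (fun φ => φ.hom.app (op p)) hk
    exact this
  haveI : ∀ p : ℤ, Epi (S.map (ev p)).g := fun p => (hS p).epi_g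
  let kb : ∀ p : ℤ, S.X₃.obj.obj (op p) ⟶ W.obj.obj (op p) :=
    fun p => (hS p).exact.desc (k.hom.app (op p)) (hk' p)
  have hkb : ∀ p : ℤ, S.g.hom.app (op p) ≫ kb p = k.hom.app (op p) :=
    fun p => (hS p).exact.g_desc (k.hom.app (op p)) (hk' p)
  have hsteps : ∀ p : ℤ, S.X₃.obj.map (stepHom p) ≫ kb p = kb (p + 1) ≫ W.obj.map (stepHom p) := by
    intro p
    haveI : Epi (S.g.hom.app (op (p + 1))) := (hS (p + 1)).epi_g
    rw [← cancel_epi (S.g.hom.app (op (p + 1))), ← S.g.hom.naturality_assoc, hkb,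
      reassoc_of% (hkb (p + 1)), k.hom.naturality]
  refine ⟨ObjectProperty.homMk (natTransOfSteps kb hsteps), ?_⟩
  ext P
  obtain ⟨p⟩ := P
  exact hkb p

end Levelwise

section Shift

variable (I : CochainComplex (FilF A) ℤ)

/-- the shifted complex `I[1]` (with the sign on the differential). -/
noncomputable def shCx : CochainComplex (FilF A) ℤ :=
  CochainComplex.of (fun n => I.X (n + 1)) (fun n => -I.d (n + 1) (n + 1 + 1)) (by
    intro n
    rw [Preadditive.neg_comp, Preadditive.comp_neg, HomologicalComplex.d_comp_d, neg_zero,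
      neg_zero])

lemma shCx_d (i j : ℤ) (hij : i + 1 = j) : (shCx I).d i j = -I.d (i + 1) (j + 1) := by
  subst hij
  exact CochainComplex.of_d (fun n => I.X (n + 1)) (fun n => -I.d (n + 1) (n + 1 + 1)) i

instance [I.IsStrictlyGE 0] : (shCx I).IsStrictlyGE (-1) := by
  rw [CochainComplex.isStrictlyGE_iff]
  intro n hn
  exact I.isZero_of_isStrictlyGE 0 (n + 1) (by lia)

end Shift

section Cx

variable (I J : CochainComplex (FilF A) ℤ) (τ : J ⟶ shCx I)

/-- the components of `τ`, with target written as `I.X (n + 1)`. -/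
noncomputable def hsτ (n : ℤ) : J.X n ⟶ I.X (n + 1) := τ.f n

@[reassoc]
lemma hsτ_comm (n : ℤ) :
    hsτ I J τ n ≫ I.d (n + 1) (n + 1 + 1) = -(J.d n (n + 1) ≫ hsτ I J τ (n + 1)) := by
  have h : hsτ I J τ n ≫ (-I.d (n + 1) (n + 1 + 1)) = J.d n (n + 1) ≫ hsτ I J τ (n + 1) := by
    have h := τ.comm n (n + 1)
    rw [shCx_d I n (n + 1) rfl] at h
    exact h
  rw [Preadditive.comp_neg] at h
  rw [← h, neg_neg]

/-- the differential of the horseshoe complex. -/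
noncomputable def hsD (n : ℤ) : I.X n ⊞ J.X n ⟶ I.X (n + 1) ⊞ J.X (n + 1) :=
  biprod.desc (I.d n (n + 1) ≫ biprod.inl)
    (hsτ I J τ n ≫ biprod.inl + J.d n (n + 1) ≫ biprod.inr)

@[reassoc]
lemma inl_hsD (n : ℤ) : biprod.inl ≫ hsD I J τ n = I.d n (n + 1) ≫ biprod.inl :=
  biprod.inl_desc _ _

@[reassoc]
lemma inr_hsD (n : ℤ) : biprod.inr ≫ hsD I J τ n =
    hsτ I J τ n ≫ biprod.inl + J.d n (n + 1) ≫ biprod.inr :=
  biprod.inr_desc _ _

lemma hsD_comp (n : ℤ) : hsD I J τ n ≫ hsD I J τ (n + 1) = 0 := by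
  apply biprod.hom_ext'
  · rw [inl_hsD_assoc, inl_hsD, HomologicalComplex.d_comp_d_assoc, zero_comp, comp_zero]
  · rw [inr_hsD_assoc, Preadditive.add_comp, Category.assoc, Category.assoc, inl_hsD, inr_hsD,
      Preadditive.comp_add, hsτ_comm_assoc, HomologicalComplex.d_comp_d_assoc, zero_comp,
      add_zero, comp_zero, Preadditive.neg_comp, Category.assoc, neg_add_cancel]

lemma snd_hsD (n : ℤ) : (biprod.snd : I.X n ⊞ J.X n ⟶ J.X n) ≫ J.d n (n + 1) =
    hsD I J τ n ≫ biprod.snd := by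
  apply biprod.hom_ext'
  · rw [inl_hsD_assoc, biprod.inl_snd_assoc, zero_comp, biprod.inl_snd, comp_zero]
  · rw [inr_hsD_assoc, biprod.inr_snd_assoc, Preadditive.add_comp, Category.assoc,
      Category.assoc, biprod.inl_snd, biprod.inr_snd, comp_zero, zero_add, Category.comp_id]

/-- the horseshoe complex with terms `I^n ⊞ J^n`. -/
noncomputable def hsCx : CochainComplex (FilF A) ℤ :=
  CochainComplex.of (fun n => I.X n ⊞ J.X n) (hsD I J τ) (hsD_comp I J τ)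

lemma hsCx_d (n : ℤ) : (hsCx I J τ).d n (n + 1) = hsD I J τ n :=
  CochainComplex.of_d (fun n => I.X n ⊞ J.X n) (hsD I J τ) n

/-- the inclusion `I ⟶ M`. -/
noncomputable def hsα : I ⟶ hsCx I J τ where
  f n := (biprod.inl : I.X n ⟶ I.X n ⊞ J.X n)
  comm' i j hij := by
    obtain rfl : i + 1 = j := hij
    rw [hsCx_d]
    exact (inl_hsD I J τ i)

/-- the projection `M ⟶ J`. -/
noncomputable def hsβ : hsCx I J τ ⟶ J where
  f n := (biprod.snd : I.X n ⊞ J.X n ⟶ J.X n)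
  comm' i j hij := by
    obtain rfl : i + 1 = j := hij
    rw [hsCx_d]
    exact snd_hsD I J τ i

end Cx

section Main

lemma epi_g_of_levelwise (S : ShortComplex (FilF A))
    (hS : ∀ p : ℤ, (S.map (ev p)).ShortExact) : Epi S.g := by
  constructor
  intro W u v huv
  ext P
  obtain ⟨p⟩ := P
  have h2 := congr_arg (fun ψ => ψ.hom.app (op p)) huv
  simp only [ObjectProperty.FullSubcategory.comp_hom, NatTrans.comp_app] at h2
  haveI := epi_g_app_of_levelwise S hS p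
  exact (cancel_epi _).1 h2

theorem horseshoe (S : ShortComplex (FilF A))
    (hS : ∀ p : ℤ, (S.map (ev p)).ShortExact)
    (I : CochainComplex (FilF A) ℤ) [I.IsStrictlyGE 0] (hI : ∀ n, IsFilteredInjective (I.X n))
    (a : (CochainComplex.singleFunctor (FilF A) 0).obj S.X₁ ⟶ I)
    (J : CochainComplex (FilF A) ℤ) [J.IsStrictlyGE 0]
    (c : (CochainComplex.singleFunctor (FilF A) 0).obj S.X₃ ⟶ J) (hc : IsFilteredQuasiIso c) :
    ∃ (M : CochainComplex (FilF A) ℤ) (α : I ⟶ M) (β : M ⟶ J)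
      (b : (CochainComplex.singleFunctor (FilF A) 0).obj S.X₂ ⟶ M),
      (∀ n, ∃ (r : M.X n ⟶ I.X n) (s : J.X n ⟶ M.X n), α.f n ≫ r = 𝟙 _ ∧ s ≫ β.f n = 𝟙 _ ∧
        α.f n ≫ β.f n = 0 ∧ r ≫ α.f n + β.f n ≫ s = 𝟙 _) ∧
      a ≫ α = (CochainComplex.singleFunctor (FilF A) 0).map S.f ≫ b ∧
      b ≫ β = (CochainComplex.singleFunctor (FilF A) 0).map S.g ≫ c := by
  classical
  let sX : ((CochainComplex.singleFunctor (FilF A) 0).obj S.X₁).X 0 ≅ S.X₁ :=
    HomologicalComplex.singleObjXSelf (ComplexShape.up ℤ) 0 S.X₁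
  let sY : ((CochainComplex.singleFunctor (FilF A) 0).obj S.X₂).X 0 ≅ S.X₂ :=
    HomologicalComplex.singleObjXSelf (ComplexShape.up ℤ) 0 S.X₂
  let sZ : ((CochainComplex.singleFunctor (FilF A) 0).obj S.X₃).X 0 ≅ S.X₃ :=
    HomologicalComplex.singleObjXSelf (ComplexShape.up ℤ) 0 S.X₃
  let a0 : S.X₁ ⟶ I.X 0 := sX.inv ≫ a.f 0
  let c0 : S.X₃ ⟶ J.X 0 := sZ.inv ≫ c.f 0
  have ha0 : a0 ≫ I.d 0 (0 + 1) = 0 := by
    have h1 : a.f 0 ≫ I.d 0 (0 + 1) = 0 := by
      rw [a.comm 0 (0 + 1), CochainComplex.singleFunctor_obj_d, zero_comp]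
    rw [Category.assoc, h1, comp_zero]
  have hc0 : c0 ≫ J.d 0 (0 + 1) = 0 := by
    have h1 : c.f 0 ≫ J.d 0 (0 + 1) = 0 := by
      rw [c.comm 0 (0 + 1), CochainComplex.singleFunctor_obj_d, zero_comp]
    rw [Category.assoc, h1, comp_zero]
  -- the extension `e`
  obtain ⟨e, he⟩ := exists_extension S.f (isStrict_f_of_levelwise S hS) (hI 0) a0 (by
    intro p T x hx
    haveI := mono_f_app_of_levelwise S hS p
    have : x = 0 := by rw [← cancel_mono (S.f.hom.app (op p)), hx, zero_comp]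
    rw [this, zero_comp])
  -- the induced map `ebar`
  obtain ⟨ebar, hebar⟩ := exists_desc_of_levelwise S hS (e ≫ I.d 0 (0 + 1))
    (by rw [reassoc_of% he, ha0])
  have hebar_d : ebar ≫ I.d (0 + 1) (0 + 1 + 1) = 0 := by
    haveI := epi_g_of_levelwise S hS
    rw [← cancel_epi S.g, reassoc_of% hebar, HomologicalComplex.d_comp_d, comp_zero, comp_zero]
  -- the morphism `ε`
  have hε : ∀ k : ℤ, (ComplexShape.up ℤ).Rel 0 k →
      ((-ebar : S.X₃ ⟶ I.X (0 + 1)) : S.X₃ ⟶ (shCx I).X 0) ≫ (shCx I).d 0 k = 0 := by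
    intro k hk
    obtain rfl : (0 : ℤ) + 1 = k := hk
    rw [shCx_d I 0 (0 + 1) rfl]
    change (-ebar) ≫ (-I.d (0 + 1) (0 + 1 + 1)) = 0
    rw [Preadditive.neg_comp, Preadditive.comp_neg, hebar_d, neg_zero, neg_zero]
  let ε : (CochainComplex.singleFunctor (FilF A) 0).obj S.X₃ ⟶ shCx I :=
    HomologicalComplex.mkHomFromSingle (K := shCx I) (j := 0) (A := S.X₃) (-ebar) hε
  have hε0 : ε.f 0 = sZ.hom ≫ ((-ebar : S.X₃ ⟶ I.X (0 + 1)) : S.X₃ ⟶ (shCx I).X 0) :=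
    HomologicalComplex.mkHomFromSingle_f _ _
  obtain ⟨β', hβ'⟩ := (bijective_precomp (shCx I) (-1) (fun n => hI (n + 1)) c hc).2
    ((HomotopyCategory.quotient _ _).map ε)
  dsimp only at hβ'
  obtain ⟨τ, rfl⟩ := (HomotopyCategory.quotient _ _).map_surjective β'
  rw [← Functor.map_comp] at hβ'
  have h := HomotopyCategory.homotopyOfEq _ _ hβ'
  obtain ⟨hm, hhm⟩ : ∃ hm : ((CochainComplex.singleFunctor (FilF A) 0).obj S.X₃).X 0 ⟶
      I.X (-1 + 1), hm = h.hom 0 (-1) := ⟨_, rfl⟩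
  have hcomm : c.f 0 ≫ hsτ I J τ 0 = hm ≫ (-I.d (-1 + 1) (0 + 1)) + sZ.hom ≫ (-ebar) := by
    have hcomm := h.comm 0
    rw [dNext_eq h.hom (show (ComplexShape.up ℤ).Rel 0 (0 + 1) from rfl),
      prevD_eq h.hom (show (ComplexShape.up ℤ).Rel (-1) 0 by simp),
      CochainComplex.singleFunctor_obj_d, zero_comp, zero_add,
      shCx_d I (-1) 0 (by norm_num), hε0] at hcomm
    rw [hhm]
    exact hcomm
  obtain ⟨hh, hhdef⟩ : ∃ hh : S.X₃ ⟶ I.X 0, hh = sZ.inv ≫ hm ≫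
    (I.XIsoOfEq (show (-1 : ℤ) + 1 = 0 by norm_num)).hom := ⟨_, rfl⟩
  have hhd : hh ≫ I.d 0 (0 + 1) = sZ.inv ≫ hm ≫ I.d (-1 + 1) (0 + 1) := by
    rw [hhdef, Category.assoc, Category.assoc, HomologicalComplex.XIsoOfEq_hom_comp_d]
  have hkey : c0 ≫ hsτ I J τ 0 = -(hh ≫ I.d 0 (0 + 1)) - ebar := by
    have h1 : c0 ≫ hsτ I J τ 0 = sZ.inv ≫ c.f 0 ≫ hsτ I J τ 0 := by
      simp only [c0, Category.assoc]
    rw [h1, hcomm, hhd, Preadditive.comp_add, Preadditive.comp_neg, Preadditive.comp_neg,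
      Preadditive.comp_neg, Preadditive.comp_neg, Iso.inv_hom_id_assoc, sub_eq_add_neg]
  obtain ⟨e', he'def⟩ : ∃ e' : S.X₂ ⟶ I.X 0, e' = e + S.g ≫ hh := ⟨_, rfl⟩
  have he' : S.f ≫ e' = a0 := by
    rw [he'def, Preadditive.comp_add, he, S.zero_assoc, zero_comp, add_zero]
  have he'd : e' ≫ I.d 0 (0 + 1) + (S.g ≫ c0) ≫ hsτ I J τ 0 = 0 := by
    rw [he'def, Preadditive.add_comp, Category.assoc, Category.assoc, hkey, Preadditive.comp_sub,
      Preadditive.comp_neg, hebar]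
    abel
  have hb : ∀ k : ℤ, (ComplexShape.up ℤ).Rel 0 k →
      (biprod.lift e' (S.g ≫ c0) : S.X₂ ⟶ (hsCx I J τ).X 0) ≫ (hsCx I J τ).d 0 k = 0 := by
    intro k hk
    obtain rfl : (0 : ℤ) + 1 = k := hk
    rw [hsCx_d]
    change biprod.lift e' (S.g ≫ c0) ≫ hsD I J τ 0 = 0
    have e1 : biprod.lift e' (S.g ≫ c0) ≫ hsD I J τ 0 =
        (e' ≫ I.d 0 (0 + 1) + (S.g ≫ c0) ≫ hsτ I J τ 0) ≫ biprod.inl +
          S.g ≫ (c0 ≫ J.d 0 (0 + 1)) ≫ biprod.inr := by
      rw [biprod.lift_eq, Preadditive.add_comp, Category.assoc, Category.assoc, inl_hsD, inr_hsD]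
      simp only [Preadditive.add_comp, Preadditive.comp_add, Category.assoc, add_assoc]
    rw [e1, he'd, hc0, zero_comp, zero_comp, comp_zero, add_zero]
  let b : (CochainComplex.singleFunctor (FilF A) 0).obj S.X₂ ⟶ hsCx I J τ :=
    HomologicalComplex.mkHomFromSingle (K := hsCx I J τ) (j := 0) (A := S.X₂)
      (biprod.lift e' (S.g ≫ c0)) hb
  have hb0 : b.f 0 = sY.hom ≫ (biprod.lift e' (S.g ≫ c0) : S.X₂ ⟶ (hsCx I J τ).X 0) :=
    HomologicalComplex.mkHomFromSingle_f _ _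
  refine ⟨hsCx I J τ, hsα I J τ, hsβ I J τ, b, ?_, ?_, ?_⟩
  · intro n
    exact ⟨(biprod.fst : I.X n ⊞ J.X n ⟶ I.X n), (biprod.inr : J.X n ⟶ I.X n ⊞ J.X n),
      biprod.inl_fst, biprod.inr_snd, biprod.inl_snd, biprod.total⟩
  · apply HomologicalComplex.from_single_hom_ext
    have hf0 : ((CochainComplex.singleFunctor (FilF A) 0).map S.f).f 0 =
        sX.hom ≫ S.f ≫ sY.inv := HomologicalComplex.single_map_f_self _ _ _
    rw [HomologicalComplex.comp_f, HomologicalComplex.comp_f, hf0, hb0]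
    change a.f 0 ≫ (biprod.inl : I.X 0 ⟶ I.X 0 ⊞ J.X 0) =
      (sX.hom ≫ S.f ≫ sY.inv) ≫ sY.hom ≫ biprod.lift e' (S.g ≫ c0)
    apply biprod.hom_ext
    · simp only [Category.assoc, Iso.inv_hom_id_assoc, biprod.lift_fst, biprod.inl_fst,
        Category.comp_id, he', a0, Iso.hom_inv_id_assoc]
    · simp only [Category.assoc, Iso.inv_hom_id_assoc, biprod.lift_snd, biprod.inl_snd,
        comp_zero, S.zero_assoc, zero_comp]
  · apply HomologicalComplex.from_single_hom_ext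
    have hg0 : ((CochainComplex.singleFunctor (FilF A) 0).map S.g).f 0 =
        sY.hom ≫ S.g ≫ sZ.inv := HomologicalComplex.single_map_f_self _ _ _
    rw [HomologicalComplex.comp_f, HomologicalComplex.comp_f, hg0, hb0]
    change (sY.hom ≫ biprod.lift e' (S.g ≫ c0)) ≫ (biprod.snd : I.X 0 ⊞ J.X 0 ⟶ J.X 0) =
      (sY.hom ≫ S.g ≫ sZ.inv) ≫ c.f 0
    rw [Category.assoc, biprod.lift_snd]
    simp only [c0, Category.assoc]

end Main

end Groth.Agent.Lib.Helper86.FilD
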