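import Mathlib
import Groth.Prelude.Def_FilD
import Groth.Agent.Lib.Helper86.FilDCoker
import Groth.Agent.Lib.Helper86.FilDEnough

/-!
# helper86: filtered injective resolutions of finite filtered objects
-/

set_option autoImplicit false
universe v u

open CategoryTheory CategoryTheory.Limits Opposite

namespace Groth.Agent.Lib.Helper86.FilD

open _root_.FilD

section Abstract

variable {B : Type*} [Category B] [Abelian B]

/-- criterion for a morphism from a complex concentrated in degree `0` to a complex in degrees `≥ 0`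
to be a quasi-isomorphism. -/
lemma quasiIso_of_resolution {K L : CochainComplex B ℤ} (ψ : K ⟶ L)
    (hK : ∀ n : ℤ, n ≠ 0 → IsZero (K.X n)) (hL : ∀ n : ℤ, n < 0 → IsZero (L.X n))
    (hex : ∀ n : ℤ, 0 < n → L.ExactAt n) (hmono : Mono (ψ.f 0))
    (h0 : (ShortComplex.mk (ψ.f 0) (L.d 0 1) (by
      rw [ψ.comm, (hK 1 (by lia)).eq_of_tgt (K.d 0 1) 0, zero_comp])).Exact) :
    QuasiIso ψ := by
  rw [quasiIso_iff]
  intro n
  have hKex : ∀ n : ℤ, n ≠ 0 → K.ExactAt n := fun n hn =>
    (K.exactAt_iff n).2 (ShortComplex.exact_of_isZero_X₂ _ (hK n hn))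
  rcases lt_trichotomy n 0 with hn | hn | hn
  · rw [quasiIsoAt_iff_exactAt ψ n (hKex n hn.ne)]
    exact (L.exactAt_iff n).2 (ShortComplex.exact_of_isZero_X₂ _ (hL n hn))
  · subst hn
    rw [quasiIsoAt_iff' ψ (-1) 0 1 (by simp) (by simp),
      ShortComplex.quasiIso_iff_of_zeros _ ((hK (-1) (by lia)).eq_of_src _ _)
        ((hK 1 (by lia)).eq_of_tgt _ _) ((hL (-1) (by lia)).eq_of_src _ _)]
    exact ⟨h0, hmono⟩
  · rw [quasiIsoAt_iff_exactAt ψ n (hKex n hn.ne')]
    exact hex n hn

lemma exact_epi_comp_comp_mono {X₀ X₁ X₂ X₃ X₄ : B} (e : X₀ ⟶ X₁) (f : X₁ ⟶ X₂) (g : X₂ ⟶ X₃)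
    (m : X₃ ⟶ X₄) [Epi e] [Mono m] (w : f ≫ g = 0) (h : (ShortComplex.mk f g w).Exact) :
    (ShortComplex.mk (e ≫ f) (g ≫ m) (by
      rw [Category.assoc, reassoc_of% w, zero_comp, comp_zero])).Exact := by
  rw [ShortComplex.exact_iff_exact_up_to_refinements]
  intro T x₂ hx₂
  change T ⟶ X₂ at x₂
  change x₂ ≫ g ≫ m = 0 at hx₂
  have hx₂' : x₂ ≫ g = 0 := by
    rw [← cancel_mono m, Category.assoc, hx₂, zero_comp]
  obtain ⟨T₁, π₁, hπ₁, x₁, hx₁⟩ := h.exact_up_to_refinements x₂ hx₂'
  change T₁ ⟶ X₁ at x₁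
  change π₁ ≫ x₂ = x₁ ≫ f at hx₁
  obtain ⟨T₂, π₂, hπ₂, x₀, hx₀⟩ := surjective_up_to_refinements_of_epi e x₁
  refine ⟨T₂, π₂ ≫ π₁, inferInstance, x₀, ?_⟩
  change (π₂ ≫ π₁) ≫ x₂ = x₀ ≫ e ≫ f
  rw [Category.assoc, hx₁, reassoc_of% hx₀]

end Abstract

section Construction

open ZeroObject

variable {A : Type u} [Category.{v} A] [Abelian A] [EnoughInjectives A]

/-- a chosen filtered injective envelope. -/
noncomputable def resI (Z : FilF A) : FilF A := (exists_strict_mono_filteredInjective Z).choose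

/-- the chosen strict monomorphism into the filtered injective envelope. -/
noncomputable def resU (Z : FilF A) : Z ⟶ resI Z :=
  (exists_strict_mono_filteredInjective Z).choose_spec.choose

lemma resI_inj (Z : FilF A) : IsFilteredInjective (resI Z) :=
  (exists_strict_mono_filteredInjective Z).choose_spec.choose_spec.1

instance resU_mono (Z : FilF A) : Mono (resU Z) :=
  (exists_strict_mono_filteredInjective Z).choose_spec.choose_spec.2.1

lemma resU_strict (Z : FilF A) : IsStrict (resU Z) :=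
  (exists_strict_mono_filteredInjective Z).choose_spec.choose_spec.2.2

/-- the successive cokernels. -/
noncomputable def resZ (X : FilF A) : ℕ → FilF A
  | 0 => X
  | n + 1 => cokerFil (resU (resZ X n)) (resU_strict _)

/-- the terms of the resolution. -/
noncomputable abbrev resIn (X : FilF A) (n : ℕ) : FilF A := resI (resZ X n)

/-- the strict monomorphisms `Z^n ⟶ I^n`. -/
noncomputable abbrev resUn (X : FilF A) (n : ℕ) : resZ X n ⟶ resIn X n := resU (resZ X n)

/-- the projections `I^n ⟶ Z^{n+1}`. -/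
noncomputable abbrev resπ (X : FilF A) (n : ℕ) : resIn X n ⟶ resZ X (n + 1) :=
  cokerFilπ (resUn X n) (resU_strict _)

/-- the differentials. -/
noncomputable def resD (X : FilF A) (n : ℕ) : resIn X n ⟶ resIn X (n + 1) :=
  resπ X n ≫ resUn X (n + 1)

lemma resU_comp_π (X : FilF A) (n : ℕ) : resUn X n ≫ resπ X n = 0 :=
  comp_cokerFilπ _ _

lemma resD_comp (X : FilF A) (n : ℕ) : resD X n ≫ resD X (n + 1) = 0 := by
  simp only [resD, Category.assoc]
  rw [reassoc_of% (resU_comp_π X (n + 1)), zero_comp, comp_zero]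

/-- the terms, indexed by `ℤ`. -/
noncomputable def resXZ (X : FilF A) : ℤ → FilF A
  | .ofNat n => resIn X n
  | .negSucc _ => 0

/-- the differentials, indexed by `ℤ`. -/
noncomputable def resDZ (X : FilF A) : ∀ n : ℤ, resXZ X n ⟶ resXZ X (n + 1)
  | .ofNat n => resD X n
  | .negSucc _ => 0

lemma resDZ_comp (X : FilF A) : ∀ n : ℤ, resDZ X n ≫ resDZ X (n + 1) = 0
  | .ofNat n => resD_comp X n
  | .negSucc _ => zero_comp

/-- the resolution complex. -/
noncomputable def resCx (X : FilF A) : CochainComplex (FilF A) ℤ :=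
  CochainComplex.of (resXZ X) (resDZ X) (resDZ_comp X)

lemma resCx_d (X : FilF A) (k : ℕ) : (resCx X).d (k : ℤ) ((k : ℤ) + 1) = resD X k :=
  CochainComplex.of_d _ _ _

lemma resCx_d' (X : FilF A) (k : ℕ) :
    (resCx X).d ((k : ℤ) + 1) ((k : ℤ) + 1 + 1) = resD X (k + 1) :=
  CochainComplex.of_d _ _ _

lemma isZero_resCx_X (X : FilF A) (n : ℤ) (hn : n < 0) : IsZero ((resCx X).X n) := by
  obtain ⟨k, rfl⟩ := Int.eq_negSucc_of_lt_zero hn
  exact isZero_zero _

instance (X : FilF A) : (resCx X).IsStrictlyGE 0 := by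
  rw [CochainComplex.isStrictlyGE_iff]
  exact isZero_resCx_X X

lemma isFilteredInjective_of_isZero {Z : FilF A} (hZ : IsZero Z) : IsFilteredInjective Z :=
  fun p => ((grF A p).map_isZero hZ).injective

lemma isFilteredInjective_resCx_X (X : FilF A) (n : ℤ) : IsFilteredInjective ((resCx X).X n) := by
  by_cases hn : n < 0
  · exact isFilteredInjective_of_isZero (isZero_resCx_X X n hn)
  · obtain ⟨k, rfl⟩ := Int.eq_ofNat_of_zero_le (not_lt.1 hn)
    exact resI_inj _

instance resUn_app_mono (X : FilF A) (n : ℕ) (p : ℤ) : Mono ((resUn X n).hom.app (op p)) :=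
  mono_app_of_mono _ p

instance resUn_gr_mono (X : FilF A) (n : ℕ) (p : ℤ) : Mono ((gr A p).map (resUn X n).hom) :=
  mono_gr_of_strict_mono _ (resU_strict _) (fun q => inferInstance) p

instance resπ_gr_epi (X : FilF A) (n : ℕ) (p : ℤ) : Epi ((gr A p).map (resπ X n).hom) :=
  epi_gr_cokerFilπ _ _ p

lemma gr_resU_π_exact (X : FilF A) (n : ℕ) (p : ℤ) :
    (ShortComplex.mk ((gr A p).map (resUn X n).hom) ((gr A p).map (resπ X n).hom)
      (by rw [← Functor.map_comp, ← ObjectProperty.FullSubcategory.comp_hom, resU_comp_π]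
          exact (gr A p).map_zero _ _)).Exact :=
  gr_exact_coker _ (resU_strict _) p

/-- the first strict monomorphism `X ⟶ I^0`. -/
noncomputable def resAug0 (X : FilF A) : X ⟶ resIn X 0 := resUn X 0

lemma resAug0_comp_π (X : FilF A) : resAug0 X ≫ resπ X 0 = 0 := resU_comp_π X 0

instance resAug0_gr_mono (X : FilF A) (p : ℤ) : Mono ((gr A p).map (resAug0 X).hom) :=
  resUn_gr_mono X 0 p

lemma gr_resAug0_π_exact (X : FilF A) (p : ℤ) :
    (ShortComplex.mk ((gr A p).map (resAug0 X).hom) ((gr A p).map (resπ X 0).hom)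
      (by rw [← Functor.map_comp, ← ObjectProperty.FullSubcategory.comp_hom, resAug0_comp_π]
          exact (gr A p).map_zero _ _)).Exact :=
  gr_resU_π_exact X 0 p

/-- the augmentation `X[0] ⟶ I`. -/
noncomputable def resAug (X : FilF A) :
    (CochainComplex.singleFunctor (FilF A) 0).obj X ⟶ resCx X :=
  HomologicalComplex.mkHomFromSingle (K := resCx X) (j := 0) (A := X) (resAug0 X) (by
    intro k hk
    obtain rfl : (0 : ℤ) + 1 = k := hk
    have : (resCx X).d 0 (0 + 1) = resD X 0 := resCx_d X 0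
    rw [this]
    change resAug0 X ≫ resD X 0 = 0
    rw [resD, reassoc_of% (resAug0_comp_π X), zero_comp])

lemma resAug_f_zero (X : FilF A) : (resAug X).f 0 =
    (HomologicalComplex.singleObjXSelf (ComplexShape.up ℤ) 0 X).hom ≫ resAug0 X :=
  HomologicalComplex.mkHomFromSingle_f _ _

omit [EnoughInjectives A] in
lemma exact_of_eq {X₁ X₂ X₃ : A} {f f' : X₁ ⟶ X₂} {g g' : X₂ ⟶ X₃} (w : f ≫ g = 0)
    (w' : f' ≫ g' = 0) (hf : f = f') (hg : g = g') (h : (ShortComplex.mk f g w).Exact) :
    (ShortComplex.mk f' g' w').Exact := by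
  subst hf hg
  exact h

lemma isFilteredQuasiIso_resAug (X : FilF A) : IsFilteredQuasiIso (resAug X) := by
  intro p
  refine quasiIso_of_resolution ((grCx p).map (resAug X)) ?hK ?hL ?hex ?hmono ?h0
  case hK =>
    intro n hn
    exact (grF A p).map_isZero (HomologicalComplex.isZero_single_obj_X _ _ _ _ hn)
  case hL =>
    intro n hn
    exact (grF A p).map_isZero (isZero_resCx_X X n hn)
  case hex =>
    intro n hn
    obtain ⟨k, rfl⟩ : ∃ k : ℕ, n = (k : ℤ) + 1 := ⟨(n - 1).toNat, by lia⟩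
    rw [HomologicalComplex.exactAt_iff' _ (k : ℤ) ((k : ℤ) + 1) ((k : ℤ) + 1 + 1) (by simp)
      (by simp)]
    have h := exact_epi_comp_comp_mono ((gr A p).map (resπ X k).hom)
      ((gr A p).map (resUn X (k + 1)).hom) ((gr A p).map (resπ X (k + 1)).hom)
      ((gr A p).map (resUn X (k + 1 + 1)).hom) _ (gr_resU_π_exact X (k + 1) p)
    have hf : (gr A p).map (resπ X k).hom ≫ (gr A p).map (resUn X (k + 1)).hom =
        (gr A p).map ((resCx X).d (k : ℤ) ((k : ℤ) + 1)).hom := by
      rw [resCx_d X k, resD, ObjectProperty.FullSubcategory.comp_hom]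
      exact ((gr A p).map_comp _ _).symm
    have hg : (gr A p).map (resπ X (k + 1)).hom ≫ (gr A p).map (resUn X (k + 1 + 1)).hom =
        (gr A p).map ((resCx X).d ((k : ℤ) + 1) ((k : ℤ) + 1 + 1)).hom := by
      rw [resCx_d' X k, resD, ObjectProperty.FullSubcategory.comp_hom]
      exact ((gr A p).map_comp _ _).symm
    exact exact_of_eq _ (HomologicalComplex.d_comp_d _ _ _ _) hf hg h
  case hmono =>
    change Mono ((gr A p).map ((resAug X).f 0).hom)
    have hiso : IsIso ((gr A p).map
        (HomologicalComplex.singleObjXSelf (ComplexShape.up ℤ) 0 X).hom.hom) :=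
      inferInstanceAs (IsIso ((grF A p).map
        (HomologicalComplex.singleObjXSelf (ComplexShape.up ℤ) 0 X).hom))
    have e : (gr A p).map ((resAug X).f 0).hom =
        (gr A p).map (HomologicalComplex.singleObjXSelf (ComplexShape.up ℤ) 0 X).hom.hom ≫
          (gr A p).map (resAug0 X).hom := by
      rw [resAug_f_zero, ObjectProperty.FullSubcategory.comp_hom]
      exact (gr A p).map_comp _ _
    rw [e]
    exact @mono_comp _ _ _ _ _ _ (@IsIso.mono_of_iso _ _ _ _ _ hiso) _ (resAug0_gr_mono X p)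
  case h0 =>
    haveI : IsIso ((gr A p).map
        (HomologicalComplex.singleObjXSelf (ComplexShape.up ℤ) 0 X).hom.hom) :=
      inferInstanceAs (IsIso ((grF A p).map
        (HomologicalComplex.singleObjXSelf (ComplexShape.up ℤ) 0 X).hom))
    have h := exact_epi_comp_comp_mono ((gr A p).map
        (HomologicalComplex.singleObjXSelf (ComplexShape.up ℤ) 0 X).hom.hom)
      ((gr A p).map (resAug0 X).hom) ((gr A p).map (resπ X 0).hom)
      ((gr A p).map (resUn X (0 + 1)).hom) _ (gr_resAug0_π_exact X p)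
    have hf : (gr A p).map (HomologicalComplex.singleObjXSelf (ComplexShape.up ℤ) 0 X).hom.hom ≫
        (gr A p).map (resAug0 X).hom = (gr A p).map ((resAug X).f 0).hom := by
      rw [resAug_f_zero, ObjectProperty.FullSubcategory.comp_hom]
      exact ((gr A p).map_comp _ _).symm
    have hg : (gr A p).map (resπ X 0).hom ≫ (gr A p).map (resUn X (0 + 1)).hom =
        (gr A p).map ((resCx X).d 0 1).hom := by
      have : (resCx X).d 0 1 = resD X 0 := resCx_d X 0
      rw [this, resD, ObjectProperty.FullSubcategory.comp_hom]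
      exact ((gr A p).map_comp _ _).symm
    exact exact_of_eq _ _ hf hg h

theorem exists_resolution (X : FilF A) :
    ∃ (I : CochainComplex (FilF A) ℤ)
      (φ : (CochainComplex.singleFunctor (FilF A) 0).obj X ⟶ I), I.IsStrictlyGE 0 ∧
      (∀ n, IsFilteredInjective (I.X n)) ∧ IsFilteredQuasiIso φ :=
  ⟨resCx X, resAug X, inferInstance, isFilteredInjective_resCx_X X, isFilteredQuasiIso_resAug X⟩

end Construction

end Groth.Agent.Lib.Helper86.FilD
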