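import Mathlib

/-! # Simplicial homotopies from `Δ[1]`-indexed families

A family of morphisms `H θ : A_p ⟶ B_p` indexed by `θ : ⦋p⦌ ⟶ ⦋1⦌`, natural in `⦋p⦌`
(this is the data of a morphism "`A × Δ[1] ⟶ B`" without forming the product), gives a
combinatorial simplicial homotopy (`SimplicialObject.Homotopy`) from `H (all zeros)` to
`H (all ones)`. -/

set_option autoImplicit false

universe v u

open CategoryTheory Simplicial SimplexCategory Opposite

namespace Groth.Agent.Lib.Helper86.HomotopyFamily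

variable {C : Type u} [Category.{v} C]

/-- A `Δ[1]`-indexed natural family of morphisms between two simplicial objects. -/
structure Family (A B : SimplicialObject C) where
  /-- the component attached to `θ : ⦋p⦌ ⟶ ⦋1⦌` -/
  H : ∀ {p : ℕ}, (⦋p⦌ ⟶ ⦋1⦌) → (A _⦋p⦌ ⟶ B _⦋p⦌)
  nat : ∀ {p q : ℕ} (ψ : ⦋q⦌ ⟶ ⦋p⦌) (θ : ⦋p⦌ ⟶ ⦋1⦌),
    H θ ≫ B.map ψ.op = A.map ψ.op ≫ H (ψ ≫ θ)

namespace Family

variable {A B : SimplicialObject C} (F : Family A B)

lemma key {p q r : ℕ} (φ : ⦋p⦌ ⟶ ⦋r⦌) (θ : ⦋p⦌ ⟶ ⦋1⦌) (ψ : ⦋q⦌ ⟶ ⦋p⦌) :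
    (A.map φ.op ≫ F.H θ) ≫ B.map ψ.op = A.map (ψ ≫ φ).op ≫ F.H (ψ ≫ θ) := by
  rw [Category.assoc, F.nat, ← Category.assoc, ← A.map_comp, ← op_comp]

lemma key' {p q r : ℕ} (φ : ⦋p⦌ ⟶ ⦋r⦌) (θ : ⦋p⦌ ⟶ ⦋1⦌) (ψ : ⦋r⦌ ⟶ ⦋q⦌) :
    A.map ψ.op ≫ (A.map φ.op ≫ F.H θ) = A.map (φ ≫ ψ).op ≫ F.H θ := by
  rw [← Category.assoc, ← A.map_comp, ← op_comp]

lemma congr_H {p r : ℕ} {φ φ' : ⦋p⦌ ⟶ ⦋r⦌} {θ θ' : ⦋p⦌ ⟶ ⦋1⦌} (h1 : φ = φ') (h2 : θ = θ') :
    A.map φ.op ≫ F.H θ = A.map φ'.op ≫ F.H θ' := by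
  subst h1 h2; rfl

lemma id_H {p : ℕ} {φ : ⦋p⦌ ⟶ ⦋p⦌} {θ θ' : ⦋p⦌ ⟶ ⦋1⦌} (h1 : φ = 𝟙 _) (h2 : θ = θ') :
    A.map φ.op ≫ F.H θ = F.H θ' := by
  subst h1 h2; simp

/-- The simplicial homotopy attached to a `Δ[1]`-family. -/
noncomputable def homotopy (f g : A ⟶ B)
    (hf : ∀ p : ℕ, f.app (op ⦋p⦌) = F.H (toMk₁ (Fin.last (p + 1))))
    (hg : ∀ p : ℕ, g.app (op ⦋p⦌) = F.H (toMk₁ 0)) :
    SimplicialObject.Homotopy f g where
  h i := A.map (SimplexCategory.σ i).op ≫ F.H (toMk₁ i.succ.castSucc)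
  h_zero_comp_δ_zero n := by
    rw [hg]
    change (A.map (SimplexCategory.σ 0).op ≫ F.H _) ≫ B.map (SimplexCategory.δ 0).op = _
    rw [F.key]
    apply F.id_H
    · exact SimplexCategory.δ_comp_σ_self (i := (0 : Fin (n + 1)))
    · rw [δ_comp_toMk₁_of_lt _ _ (by simp)]
      rfl
  h_last_comp_δ_last n := by
    rw [hf]
    change (A.map (SimplexCategory.σ (Fin.last n)).op ≫ F.H _) ≫
      B.map (SimplexCategory.δ (Fin.last (n + 1))).op = _
    rw [F.key]
    apply F.id_H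
    · exact SimplexCategory.δ_comp_σ_succ (i := Fin.last n)
    · rw [δ_comp_toMk₁_of_le _ _ (by simp)]
      rfl
  h_succ_comp_δ_castSucc_of_lt {n} i j hij := by
    change (A.map (SimplexCategory.σ j.succ).op ≫ F.H _) ≫
      B.map (SimplexCategory.δ i.castSucc).op =
      A.map (SimplexCategory.δ i).op ≫ (A.map (SimplexCategory.σ j).op ≫ F.H _)
    rw [F.key, F.key']
    apply F.congr_H
    · exact SimplexCategory.δ_comp_σ_of_le hij
    · rw [δ_comp_toMk₁_of_lt]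
      · rfl
      · have := Fin.le_def.mp hij
        simp only [Fin.lt_def, Fin.val_castSucc, Fin.val_succ] at this ⊢
        omega
  h_succ_comp_δ_castSucc_succ {n} j := by
    change (A.map (SimplexCategory.σ j.succ).op ≫ F.H _) ≫
      B.map (SimplexCategory.δ j.castSucc.succ).op =
      (A.map (SimplexCategory.σ j.castSucc).op ≫ F.H _) ≫
      B.map (SimplexCategory.δ j.castSucc.succ).op
    rw [F.key, F.key]
    apply F.congr_H
    · trans 𝟙 _
      · have : δ j.castSucc.succ ≫ σ j.succ = δ j.succ.castSucc ≫ σ j.succ := by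
          rw [Fin.succ_castSucc]
        rw [this, SimplexCategory.δ_comp_σ_self]
      · rw [SimplexCategory.δ_comp_σ_succ]
    · rw [δ_comp_toMk₁_of_lt _ _ (by
          simp only [Fin.lt_def, Fin.val_castSucc, Fin.val_succ]; omega),
        δ_comp_toMk₁_of_le _ _ (by
          simp only [Fin.le_def, Fin.val_castSucc, Fin.val_succ]; omega)]
      rfl
  h_castSucc_comp_δ_succ_of_lt {n} i j hji := by
    change (A.map (SimplexCategory.σ j.castSucc).op ≫ F.H _) ≫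
      B.map (SimplexCategory.δ i.succ).op =
      A.map (SimplexCategory.δ i).op ≫ (A.map (SimplexCategory.σ j).op ≫ F.H _)
    rw [F.key, F.key']
    apply F.congr_H
    · exact SimplexCategory.δ_comp_σ_of_gt hji
    · rw [δ_comp_toMk₁_of_le]
      · rfl
      · have := Fin.lt_def.mp hji
        simp only [Fin.le_def, Fin.val_castSucc, Fin.val_succ] at this ⊢
        omega
  h_comp_σ_castSucc_of_le {n} i j hij := by
    change (A.map (SimplexCategory.σ j).op ≫ F.H _) ≫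
      B.map (SimplexCategory.σ i.castSucc).op =
      A.map (SimplexCategory.σ i).op ≫ (A.map (SimplexCategory.σ j.succ).op ≫ F.H _)
    rw [F.key, F.key']
    apply F.congr_H
    · exact SimplexCategory.σ_comp_σ hij
    · rw [σ_comp_toMk₁_of_lt]
      · rfl
      · have := Fin.le_def.mp hij
        simp only [Fin.lt_def, Fin.val_castSucc, Fin.val_succ] at this ⊢
        omega
  h_comp_σ_succ_of_lt {n} i j hji := by
    change (A.map (SimplexCategory.σ j).op ≫ F.H _) ≫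
      B.map (SimplexCategory.σ i.succ).op =
      A.map (SimplexCategory.σ i).op ≫ (A.map (SimplexCategory.σ j.castSucc).op ≫ F.H _)
    rw [F.key, F.key']
    apply F.congr_H
    · exact (SimplexCategory.σ_comp_σ hji).symm
    · rw [σ_comp_toMk₁_of_le]
      · rfl
      · have := Fin.le_def.mp hji
        simp only [Fin.le_def, Fin.val_castSucc, Fin.val_succ] at this ⊢
        omega

end Family

end Groth.Agent.Lib.Helper86.HomotopyFamily
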