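import Mathlib
import Groth.Prelude.Def_W4stkcategoriessitesFib

/-! Helper lemmas on `FibCat.inertia` (helper86). -/

set_option autoImplicit false
open CategoryTheory
universe v u
open FibCat

namespace Groth.Agent.Lib.Helper86.Inertia

variable {C : Type u} [Category.{v} C] {𝒳 𝒴 : BasedCategory.{v, max u v} C}

theorem aut_lift (F : 𝒳 ⥤ᵇ 𝒴) (a : InertiaObj F) :
    𝒳.p.IsHomLift (𝟙 (𝒳.p.obj a.pt)) a.aut.hom := by
  rw [← BasedFunctor.isHomLift_iff F, a.map_aut]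
  exact IsHomLift.id (F.w_obj a.pt)

theorem inertia_homLift_iff (F : 𝒳 ⥤ᵇ 𝒴) {R S : C} (f : R ⟶ S) {a b : InertiaObj F} (φ : a ⟶ b) :
    (inertia F).p.IsHomLift f φ ↔ 𝒳.p.IsHomLift f φ.hom := by
  constructor
  · intro h
    obtain ⟨⟩ := h
    exact Functor.IsHomLift.map (p := 𝒳.p) φ.hom
  · intro h
    have h1 := IsHomLift.domain_eq 𝒳.p f φ.hom
    have h2 := IsHomLift.codomain_eq 𝒳.p f φ.hom
    have h3 := IsHomLift.fac 𝒳.p f φ.hom
    exact IsHomLift.of_fac (inertia F).p f φ h1 h2 h3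

theorem exists_cart (F : 𝒳 ⥤ᵇ 𝒴) [𝒳.p.IsFibered] (hF : FibCat.PreservesStronglyCartesian F)
    (a : InertiaObj F) (R : C) (f : R ⟶ 𝒳.p.obj a.pt) :
    ∃ (b : InertiaObj F) (φ : b ⟶ a), (inertia F).p.IsStronglyCartesian f φ := by
  obtain ⟨y, φ, hφ⟩ := Functor.IsPreFibered.exists_isCartesian' (p := 𝒳.p) f
  have hφs : 𝒳.p.IsStronglyCartesian f φ := inferInstance
  have hα := aut_lift F a
  have hαi : 𝒳.p.IsHomLift (𝟙 (𝒳.p.obj a.pt)) a.aut.inv := inferInstance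
  have e0 : f = 𝟙 R ≫ f := (Category.id_comp f).symm
  let β : y ⟶ y := Functor.IsStronglyCartesian.map 𝒳.p f φ e0 (φ ≫ a.aut.hom)
  let β' : y ⟶ y := Functor.IsStronglyCartesian.map 𝒳.p f φ e0 (φ ≫ a.aut.inv)
  have hβ : β ≫ φ = φ ≫ a.aut.hom := Functor.IsStronglyCartesian.fac 𝒳.p f φ e0 _
  have hβ' : β' ≫ φ = φ ≫ a.aut.inv := Functor.IsStronglyCartesian.fac 𝒳.p f φ e0 _
  have hβl : 𝒳.p.IsHomLift (𝟙 R) β := inferInstance
  have hβl' : 𝒳.p.IsHomLift (𝟙 R) β' := inferInstance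
  have hy : 𝒳.p.obj y = R := IsHomLift.domain_eq 𝒳.p f φ
  have h1l : 𝒳.p.IsHomLift (𝟙 R) (𝟙 y) := IsHomLift.id hy
  have e1 : β ≫ β' = 𝟙 y := by
    apply Functor.IsStronglyCartesian.ext 𝒳.p f φ (𝟙 R)
    rw [Category.assoc, hβ', reassoc_of% hβ, Iso.hom_inv_id, Category.comp_id, Category.id_comp]
  have e2 : β' ≫ β = 𝟙 y := by
    apply Functor.IsStronglyCartesian.ext 𝒳.p f φ (𝟙 R)
    rw [Category.assoc, hβ, reassoc_of% hβ', Iso.inv_hom_id, Category.comp_id, Category.id_comp]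
  have hFφ : 𝒴.p.IsStronglyCartesian f (F.map φ) := hF f φ hφs
  have hFβ : F.map β = 𝟙 (F.obj y) := by
    have : 𝒴.p.IsHomLift (𝟙 R) (𝟙 (F.obj y)) := IsHomLift.id ((F.w_obj y).trans hy)
    apply Functor.IsStronglyCartesian.ext 𝒴.p f (F.map φ) (𝟙 R)
    rw [← F.map_comp, hβ, F.map_comp, a.map_aut, Category.comp_id, Category.id_comp]
  let b : InertiaObj F := ⟨y, ⟨β, β', e1, e2⟩, hFβ⟩
  let Φ : b ⟶ a := ⟨φ, hβ⟩
  refine ⟨b, Φ, ?_⟩
  have hΦ : (inertia F).p.IsHomLift f Φ := (inertia_homLift_iff F f Φ).2 inferInstance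
  refine { toIsHomLift := hΦ, universal_property' := ?_ }
  intro c g ψ hψ
  change 𝒳.p.obj c.pt ⟶ R at g
  have hψ' : 𝒳.p.IsHomLift (g ≫ f) ψ.hom := (inertia_homLift_iff F _ ψ).1 hψ
  let χ : c.pt ⟶ y := Functor.IsStronglyCartesian.map 𝒳.p f φ (g := g) (f' := g ≫ f) rfl ψ.hom
  have hχ : χ ≫ φ = ψ.hom := Functor.IsStronglyCartesian.fac 𝒳.p f φ (g := g) (f' := g ≫ f) rfl _
  have hχl : 𝒳.p.IsHomLift g χ := inferInstance
  have hγ := aut_lift F c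
  have hcomm : c.aut.hom ≫ χ = χ ≫ β := by
    have : 𝒳.p.IsHomLift g (c.aut.hom ≫ χ) := inferInstance
    have : 𝒳.p.IsHomLift g (χ ≫ β) := inferInstance
    apply Functor.IsStronglyCartesian.ext 𝒳.p f φ g
    rw [Category.assoc, Category.assoc, hχ, hβ, reassoc_of% hχ]
    exact ψ.comm
  refine ⟨⟨χ, hcomm⟩, ⟨(inertia_homLift_iff F g _).2 hχl, InertiaObj.hom_ext hχ⟩, ?_⟩
  rintro χ' ⟨h1, h2⟩
  apply InertiaObj.hom_ext
  have : 𝒳.p.IsHomLift g χ'.hom := (inertia_homLift_iff F g _).1 h1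
  apply Functor.IsStronglyCartesian.ext 𝒳.p f φ g
  show χ'.hom ≫ φ = χ ≫ φ
  rw [hχ]
  exact congrArg InertiaObj.Hom.hom h2


theorem inertia_isFibered [𝒳.p.IsFibered] (F : 𝒳 ⥤ᵇ 𝒴) (hF : FibCat.PreservesStronglyCartesian F) :
    (FibCat.inertia F).p.IsFibered := by
  apply Functor.IsFibered.of_exists_isStronglyCartesian
  intro a R f
  exact exists_cart F hF a R f

end Groth.Agent.Lib.Helper86.Inertia
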