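import Mathlib

open CategoryTheory Limits Opposite

/-! # The short exact sequences of kernels attached to an injective resolution -/

namespace Groth.Agent.Lib.Helper86.InjResSES
universe w v u

section Res
variable {𝒜 : Type u} [Category.{v} 𝒜] [Abelian 𝒜] {Y : 𝒜} (R : InjectiveResolution Y)

/-- kernels of the differentials of the resolution. -/
noncomputable abbrev ZK (k : ℕ) : 𝒜 := kernel (R.cocomplex.d k (k + 1))

/-- the corestriction of the differential. -/
noncomputable def gK (k : ℕ) : R.cocomplex.X k ⟶ ZK R (k + 1) :=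
  kernel.lift _ (R.cocomplex.d k (k + 1)) (R.cocomplex.d_comp_d _ _ _)

@[reassoc]
theorem gK_ι (k : ℕ) : gK R k ≫ kernel.ι _ = R.cocomplex.d k (k + 1) := kernel.lift_ι _ _ _

instance (k : ℕ) : Epi (gK R k) :=
  (ShortComplex.exact_iff_epi_kernel_lift _).1 (R.exact_succ k)

/-- the augmentation. -/
noncomputable def aug : Y ⟶ R.cocomplex.X 0 := R.ι.f 0

instance : Mono (aug R) := inferInstanceAs (Mono (R.ι.f 0))

theorem aug_d : aug R ≫ R.cocomplex.d 0 1 = 0 := R.ι_f_zero_comp_complex_d

/-- `0 → Y → R⁰ → Z¹ → 0`. -/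
noncomputable def ses0 : ShortComplex 𝒜 :=
  ShortComplex.mk (aug R) (gK R 0) (by
    rw [← cancel_mono (kernel.ι _), Category.assoc, gK_ι, zero_comp]
    exact aug_d R)

theorem ses0_shortExact : (ses0 R).ShortExact := by
  have hex : (ses0 R).Exact := by
    apply ShortComplex.exact_of_f_is_kernel
    exact isKernelOfComp (kernel.ι _) (R.cocomplex.d 0 1) R.isLimitKernelFork (ses0 R).zero (gK_ι R 0)
  exact ShortComplex.ShortExact.mk' hex (inferInstanceAs (Mono (aug R)))
    (inferInstanceAs (Epi (gK R 0)))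

/-- `0 → Z^{k+1} → R^{k+1} → Z^{k+2} → 0`. -/
noncomputable def sesK (k : ℕ) : ShortComplex 𝒜 :=
  ShortComplex.mk (kernel.ι (R.cocomplex.d (k + 1) (k + 1 + 1))) (gK R (k + 1)) (by
    rw [← cancel_mono (kernel.ι (R.cocomplex.d (k + 1 + 1) (k + 1 + 1 + 1))), Category.assoc, gK_ι,
      zero_comp]
    exact kernel.condition _)

theorem sesK_shortExact (k : ℕ) : (sesK R k).ShortExact := by
  have hex : (sesK R k).Exact := by
    apply ShortComplex.exact_of_f_is_kernel
    exact isKernelOfComp (kernel.ι _) (R.cocomplex.d (k + 1) (k + 1 + 1)) (kernelIsKernel _)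
      (sesK R k).zero (gK_ι R (k + 1))
  haveI : Mono (sesK R k).f := by
    unfold sesK
    dsimp only
    infer_instance
  haveI : Epi (sesK R k).g := by
    unfold sesK
    dsimp only
    infer_instance
  exact ShortComplex.ShortExact.mk' hex inferInstance inferInstance

end Res

end Groth.Agent.Lib.Helper86.InjResSES
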