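import Mathlib.CategoryTheory.Monoidal.Cartesian.Over
import Mathlib.CategoryTheory.Limits.Shapes.Pullback.IsPullback.Basic
import Mathlib.CategoryTheory.Limits.Preserves.Shapes.Pullbacks
import Mathlib.CategoryTheory.Limits.Preserves.Shapes.BinaryProducts
import Mathlib.CategoryTheory.Limits.Preserves.Shapes.Terminal
import Mathlib.CategoryTheory.Adjunction.Limits

/-!
# Formal lemmas on "mapping properties" (helper86)

`HomBij F Z N`: the functor `F` induces a bijection `Hom(Z, N) → Hom(F Z, F N)`.
Closure under products, pullbacks, isomorphisms; detection of isomorphisms.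
-/

set_option autoImplicit false

open CategoryTheory Limits MonoidalCategory CartesianMonoidalCategory

namespace Groth.Agent.Lib.Helper86.NMP

universe v₁ v₂ u₁ u₂

variable {C : Type u₁} [Category.{v₁} C] {D : Type u₂} [Category.{v₂} D] (F : C ⥤ D)

/-- `F` induces a bijection `Hom(Z, N) → Hom(F Z, F N)`. -/
def HomBij (Z N : C) : Prop := Function.Bijective (fun g : Z ⟶ N => F.map g)

variable {F}

lemma HomBij.map_injective {Z N : C} (h : HomBij F Z N) {g₁ g₂ : Z ⟶ N}
    (hg : F.map g₁ = F.map g₂) : g₁ = g₂ := h.1 hg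

lemma HomBij.exists_map_eq {Z N : C} (h : HomBij F Z N) (k : F.obj Z ⟶ F.obj N) :
    ∃ g : Z ⟶ N, F.map g = k := h.2 k

/-- Closure under pullback squares preserved by `F`. -/
lemma homBij_of_isPullback {P X Y W : C} {fst : P ⟶ X} {snd : P ⟶ Y} {f : X ⟶ W} {g : Y ⟶ W}
    (hP : IsPullback fst snd f g) (hFP : IsPullback (F.map fst) (F.map snd) (F.map f) (F.map g))
    {Z : C} (hX : HomBij F Z X) (hY : HomBij F Z Y)
    (hW : Function.Injective (fun g : Z ⟶ W => F.map g)) : HomBij F Z P := by
  constructor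
  · intro g₁ g₂ hg
    have hg' : F.map g₁ = F.map g₂ := hg
    apply hP.hom_ext
    · apply hX.map_injective
      rw [Functor.map_comp, Functor.map_comp, hg']
    · apply hY.map_injective
      rw [Functor.map_comp, Functor.map_comp, hg']
  · intro k
    obtain ⟨a, ha⟩ := hX.exists_map_eq (k ≫ F.map fst)
    obtain ⟨b, hb⟩ := hY.exists_map_eq (k ≫ F.map snd)
    have hab : a ≫ f = b ≫ g := by
      apply hW
      change F.map (a ≫ f) = F.map (b ≫ g)
      rw [Functor.map_comp, Functor.map_comp, ha, hb, Category.assoc, Category.assoc, hFP.w]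
    refine ⟨hP.lift a b hab, ?_⟩
    apply hFP.hom_ext
    · change F.map (hP.lift a b hab) ≫ F.map fst = k ≫ F.map fst
      rw [← Functor.map_comp, hP.lift_fst, ha]
    · change F.map (hP.lift a b hab) ≫ F.map snd = k ≫ F.map snd
      rw [← Functor.map_comp, hP.lift_snd, hb]

/-- Mapping into a terminal object preserved by `F`. -/
lemma homBij_of_isTerminal {T : C} (hT : IsTerminal T) (hFT : IsTerminal (F.obj T)) (Z : C) :
    HomBij F Z T :=
  ⟨fun _ _ _ => hT.hom_ext _ _, fun _ => ⟨hT.from Z, hFT.hom_ext _ _⟩⟩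

/-- Invariance under isomorphism of the target. -/
lemma HomBij.of_iso {Z N N' : C} (h : HomBij F Z N) (e : N ≅ N') : HomBij F Z N' := by
  constructor
  · intro g₁ g₂ hg
    have hg' : F.map g₁ = F.map g₂ := hg
    have : g₁ ≫ e.inv = g₂ ≫ e.inv := by
      apply h.map_injective
      rw [Functor.map_comp, Functor.map_comp, hg']
    simpa using congrArg (· ≫ e.hom) this
  · intro k
    obtain ⟨g, hg⟩ := h.exists_map_eq (k ≫ F.map e.inv)
    refine ⟨g ≫ e.hom, ?_⟩
    change F.map (g ≫ e.hom) = k
    rw [Functor.map_comp, hg, Category.assoc, ← Functor.map_comp, e.inv_hom_id, F.map_id,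
      Category.comp_id]

/-- Closure under binary products in a cartesian monoidal category. -/
lemma homBij_tensor [CartesianMonoidalCategory C] (N M : C) [PreservesLimit (pair N M) F]
    {Z : C} (hN : HomBij F Z N) (hM : HomBij F Z M) : HomBij F Z (N ⊗ M) := by
  have hF : IsLimit (BinaryFan.mk (F.map (fst N M)) (F.map (snd N M))) :=
    mapIsLimitOfPreservesOfIsLimit F _ _ (tensorProductIsBinaryProduct N M)
  constructor
  · intro g₁ g₂ hg
    have hg' : F.map g₁ = F.map g₂ := hg
    apply CartesianMonoidalCategory.hom_ext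
    · apply hN.map_injective
      rw [Functor.map_comp, Functor.map_comp, hg']
    · apply hM.map_injective
      rw [Functor.map_comp, Functor.map_comp, hg']
  · intro k
    obtain ⟨a, ha⟩ := hN.exists_map_eq (k ≫ F.map (fst N M))
    obtain ⟨b, hb⟩ := hM.exists_map_eq (k ≫ F.map (snd N M))
    refine ⟨lift a b, ?_⟩
    apply BinaryFan.IsLimit.hom_ext hF
    · change F.map (lift a b) ≫ F.map (fst N M) = k ≫ F.map (fst N M)
      rw [← Functor.map_comp, lift_fst, ha]
    · change F.map (lift a b) ≫ F.map (snd N M) = k ≫ F.map (snd N M)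
      rw [← Functor.map_comp, lift_snd, hb]

/-- A morphism between objects with the mapping property (w.r.t. each other and themselves)
which becomes an isomorphism after applying `F` is an isomorphism. -/
lemma isIso_of_homBij {P Q : C} (τ : P ⟶ Q) (hτ : IsIso (F.map τ))
    (hQP : HomBij F Q P) (hPP : HomBij F P P) (hQQ : HomBij F Q Q) : IsIso τ := by
  obtain ⟨σ, hσ⟩ := hQP.exists_map_eq (inv (F.map τ))
  refine ⟨σ, ?_, ?_⟩
  · apply hPP.map_injective
    rw [Functor.map_comp, hσ, IsIso.hom_inv_id, F.map_id]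
  · apply hQQ.map_injective
    rw [Functor.map_comp, hσ, IsIso.inv_hom_id, F.map_id]

section Comp

variable {E : Type*} [Category E] {G : D ⥤ E}

lemma HomBij.comp {Z N : C} (h : HomBij F Z N) (h' : HomBij G (F.obj Z) (F.obj N)) :
    HomBij (F ⋙ G) Z N := by
  have h1 : Function.Bijective (fun g : Z ⟶ N => F.map g) := h
  have h2 : Function.Bijective (fun k : F.obj Z ⟶ F.obj N => G.map k) := h'
  exact h2.comp h1

lemma HomBij.of_comp {Z N : C} (h : HomBij (F ⋙ G) Z N) (h' : HomBij G (F.obj Z) (F.obj N)) :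
    HomBij F Z N := by
  have h2 : Function.Bijective (fun k : F.obj Z ⟶ F.obj N => G.map k) := h'
  have h1 : Function.Bijective ((fun k : F.obj Z ⟶ F.obj N => G.map k) ∘
      (fun g : Z ⟶ N => F.map g)) := h
  exact (Function.Bijective.of_comp_iff' h2 _).1 h1

lemma homBij_of_fullyFaithful [G.Full] [G.Faithful] (X Y : D) : HomBij G X Y :=
  ⟨fun _ _ h => G.map_injective h, fun k => G.map_surjective k⟩

lemma HomBij.of_natIso {F' : C ⥤ D} (e : F ≅ F') {Z N : C} (h : HomBij F Z N) :
    HomBij F' Z N := by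
  have key : (fun g : Z ⟶ N => F'.map g) =
      (fun k => e.inv.app Z ≫ k ≫ e.hom.app N) ∘ (fun g : Z ⟶ N => F.map g) := by
    funext g
    simp
  unfold HomBij
  rw [key]
  refine Function.Bijective.comp ⟨?_, ?_⟩ h
  · intro k₁ k₂ hk
    simpa using hk
  · intro k
    exact ⟨e.hom.app Z ≫ k ≫ e.inv.app N, by simp⟩

end Comp

end Groth.Agent.Lib.Helper86.NMP
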