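import Groth.Agent.Lib.Helper86.NMP
import Mathlib.AlgebraicGeometry.Pullbacks
import Mathlib.AlgebraicGeometry.OpenImmersion
import Mathlib.AlgebraicGeometry.Restrict
import Mathlib.CategoryTheory.Adjunction.FullyFaithful

/-!
# Mapping properties and restriction to nested opens (helper86)
-/

set_option autoImplicit false
universe u

open CategoryTheory AlgebraicGeometry

namespace Groth.Agent.Lib.Helper86.NMP

/-- `Over.pullback` along equal morphisms. -/
noncomputable def pullbackCongr {C : Type*} [Category C] {X Y : C} {f g : X ⟶ Y} (h : f = g)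
    [Limits.HasPullbacksAlong f] [Limits.HasPullbacksAlong g] :
    Over.pullback f ≅ Over.pullback g := by
  subst h
  exact Iso.refl _

/-- Restricting to `S₀ ≤ S₁` is the same as restricting to `S₁` and then to `S₁.ι ⁻¹ᵁ S₀`. -/
lemma homBij_pullback_opens_iff {S : Scheme.{u}} (S₀ S₁ : S.Opens) (h01 : S₀ ≤ S₁)
    (Z N : Over S) :
    HomBij (Over.pullback S₀.ι) Z N ↔
      HomBij (Over.pullback S₁.ι ⋙ Over.pullback (S₁.ι ⁻¹ᵁ S₀).ι) Z N := by
  have hrange : Set.range ((S₁.ι ⁻¹ᵁ S₀).ι ≫ S₁.ι) = Set.range S₀.ι := by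
    rw [Scheme.Hom.comp_base, TopCat.coe_comp, Set.range_comp, Scheme.Opens.range_ι,
      Scheme.Opens.range_ι]
    ext x
    constructor
    · rintro ⟨y, hy, rfl⟩
      exact hy
    · intro hx
      exact ⟨⟨x, h01 hx⟩, hx, rfl⟩
  let j : ((S₁.ι ⁻¹ᵁ S₀ : (S₁ : Scheme.{u}).Opens) : Scheme.{u}) ≅ (S₀ : Scheme.{u}) :=
    IsOpenImmersion.isoOfRangeEq ((S₁.ι ⁻¹ᵁ S₀).ι ≫ S₁.ι) S₀.ι hrange
  have hj : j.hom ≫ S₀.ι = (S₁.ι ⁻¹ᵁ S₀).ι ≫ S₁.ι :=
    IsOpenImmersion.isoOfRangeEq_hom_fac _ _ _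
  let e : Over.pullback S₁.ι ⋙ Over.pullback (S₁.ι ⁻¹ᵁ S₀).ι ≅
      Over.pullback S₀.ι ⋙ Over.pullback j.hom :=
    (Over.pullbackComp (S₁.ι ⁻¹ᵁ S₀).ι S₁.ι).symm ≪≫ pullbackCongr hj.symm ≪≫
      Over.pullbackComp j.hom S₀.ι
  have : (Over.pullback j.hom).IsEquivalence :=
    (Over.mapPullbackAdj j.hom).isEquivalence_right_of_isEquivalence_left
  constructor
  · intro h
    exact (h.comp (homBij_of_fullyFaithful _ _)).of_natIso e.symm
  · intro h
    exact (h.of_natIso e).of_comp (homBij_of_fullyFaithful _ _)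

end Groth.Agent.Lib.Helper86.NMP
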