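import Mathlib

set_option autoImplicit false
universe u
open CategoryTheory CategoryTheory.Limits AlgebraicGeometry TensorProduct

namespace Groth.Agent.Lib.Helper86.SD77PLUMB

theorem appLE_SpecMap_fromSpec {X : Scheme.{u}} {U : X.Opens} (hU : IsAffineOpen U)
    {R' : CommRingCat.{u}} (β : Γ(X, U) ⟶ R') (g : Spec R' ⟶ X)
    (hg : g = Spec.map β ≫ hU.fromSpec) (e : ⊤ ≤ g ⁻¹ᵁ U) :
    g.appLE U ⊤ e = β ≫ (Scheme.ΓSpecIso R').inv := by
  subst hg
  rw [Scheme.ΓSpecIso_inv_naturality, Scheme.Hom.comp_appLE, hU.fromSpec_app_self, Category.assoc]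
  congr 1

theorem plumb {k : Type u} [Field k] {X S' : Scheme.{u}} (p : X ⟶ Spec (CommRingCat.of k))
    (q : S' ⟶ Spec (CommRingCat.of k)) (V : (pullback p q).Opens) (x : ↥(pullback p q)) (hx : x ∈ V) :
    ∃ (U : X.Opens) (_ : IsAffineOpen U) (U' : (pullback p q).Opens) (_ : IsAffineOpen U')
      (hUU' : U' ≤ (pullback.fst p q) ⁻¹ᵁ U) (_ : x ∈ U') (_ : U' ≤ V) (_ : Algebra k Γ(X, U))
      (R : Type u) (_ : CommRing R) (_ : Algebra k R) (ι : Γ(X, U) ⊗[k] R →+* Γ(pullback p q, U'))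
      (b : Γ(X, U) ⊗[k] R),
      ι.comp Algebra.TensorProduct.includeLeftRingHom = ((pullback.fst p q).appLE U U' hUU').hom ∧
        (letI := ι.toAlgebra; IsLocalization.Away b Γ(pullback p q, U')) := by
  obtain ⟨_, ⟨U, hU : IsAffineOpen U, rfl⟩, hxU, -⟩ :=
    X.isBasis_affineOpens.exists_subset_of_mem_open (Set.mem_univ (pullback.fst p q x)) isOpen_univ
  obtain ⟨_, ⟨T, hT : IsAffineOpen T, rfl⟩, hxT, -⟩ :=
    S'.isBasis_affineOpens.exists_subset_of_mem_open (Set.mem_univ (pullback.snd p q x)) isOpen_univ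
  let φU : CommRingCat.of k ⟶ Γ(X, U) := Spec.preimage (hU.fromSpec ≫ p)
  let φT : CommRingCat.of k ⟶ Γ(S', T) := Spec.preimage (hT.fromSpec ≫ q)
  letI algA : Algebra k Γ(X, U) := φU.hom.toAlgebra
  letI algR : Algebra k Γ(S', T) := φT.hom.toAlgebra
  have e1 : Spec.map (CommRingCat.ofHom (algebraMap k Γ(X, U))) ≫ 𝟙 _ = hU.fromSpec ≫ p := by
    rw [Category.comp_id]; exact Spec.map_preimage _
  have e2 : Spec.map (CommRingCat.ofHom (algebraMap k Γ(S', T))) ≫ 𝟙 _ = hT.fromSpec ≫ q := by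
    rw [Category.comp_id]; exact Spec.map_preimage _
  let j : Spec (CommRingCat.of (Γ(X, U) ⊗[k] Γ(S', T))) ⟶ pullback p q :=
    (pullbackSpecIso k Γ(X, U) Γ(S', T)).inv ≫
      pullback.map _ _ p q hU.fromSpec hT.fromSpec (𝟙 _) e1 e2
  haveI : IsOpenImmersion j := inferInstance
  have hjfst : j ≫ pullback.fst p q =
      Spec.map (CommRingCat.ofHom Algebra.TensorProduct.includeLeftRingHom) ≫ hU.fromSpec := by
    simp only [j, Category.assoc]
    erw [pullback.lift_fst]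
    rw [← Category.assoc, pullbackSpecIso_inv_fst]
  have hxj : x ∈ Set.range j := by
    have hx' : x ∈ Set.range (pullback.map _ _ p q hU.fromSpec hT.fromSpec (𝟙 _) e1 e2) := by
      rw [Scheme.Pullback.range_map]
      exact ⟨by rw [hU.range_fromSpec]; exact hxU, by rw [hT.range_fromSpec]; exact hxT⟩
    obtain ⟨y0, hy0⟩ := hx'
    refine ⟨(pullbackSpecIso k Γ(X, U) Γ(S', T)).hom y0, ?_⟩
    rw [← Scheme.Hom.comp_apply]
    simp only [j, Iso.hom_inv_id_assoc]
    exact hy0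
  obtain ⟨y, hy⟩ := hxj
  let W : (pullback p q).Opens := j ''ᵁ ⊤
  have hW : IsAffineOpen W := (isAffineOpen_top _).image_of_isOpenImmersion j
  have hxW : x ∈ W := ⟨y, trivial, hy⟩
  obtain ⟨f, hfV, hxf⟩ := hW.exists_basicOpen_le ⟨x, hx⟩ hxW
  have hU'W : (pullback p q).basicOpen f ≤ W := (pullback p q).basicOpen_le f
  have hWU : W ≤ (pullback.fst p q) ⁻¹ᵁ U := by
    rintro _ ⟨z, -, rfl⟩
    change pullback.fst p q (j z) ∈ U
    rw [← Scheme.Hom.comp_apply, hjfst, Scheme.Hom.comp_apply]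
    have := Set.mem_range_self (f := hU.fromSpec)
      (Spec.map (CommRingCat.ofHom Algebra.TensorProduct.includeLeftRingHom) z)
    rw [hU.range_fromSpec] at this
    exact this
  let ι₀ : CommRingCat.of (Γ(X, U) ⊗[k] Γ(S', T)) ≅ Γ(pullback p q, W) :=
    (Scheme.ΓSpecIso _).symm ≪≫ (j.appIso ⊤).symm
  refine ⟨U, hU, (pullback p q).basicOpen f, hW.basicOpen f, hU'W.trans hWU, hxf, hfV, algA,
    Γ(S', T), inferInstance, algR,
    (ι₀.hom ≫ (pullback p q).presheaf.map (homOfLE hU'W).op).hom, ι₀.inv.hom f, ?_, ?_⟩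
  · have h1 : (pullback.fst p q).appLE U W hWU ≫ (j.appIso ⊤).hom =
        CommRingCat.ofHom Algebra.TensorProduct.includeLeftRingHom ≫ (Scheme.ΓSpecIso _).inv := by
      rw [Scheme.Hom.appIso_hom', Scheme.Hom.appLE_comp_appLE]
      exact appLE_SpecMap_fromSpec hU _ _ hjfst _
    have h2 : (pullback.fst p q).appLE U W hWU =
        CommRingCat.ofHom Algebra.TensorProduct.includeLeftRingHom ≫ ι₀.hom := by
      rw [(Iso.eq_comp_inv _).mpr h1, Category.assoc]
      rfl
    have h3 : (pullback.fst p q).appLE U ((pullback p q).basicOpen f) (hU'W.trans hWU) =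
        (pullback.fst p q).appLE U W hWU ≫ (pullback p q).presheaf.map (homOfLE hU'W).op :=
      (Scheme.Hom.appLE_map _ _ _).symm
    rw [h3, h2]
    rfl
  · letI := (ι₀.hom ≫ (pullback p q).presheaf.map (homOfLE hU'W).op).hom.toAlgebra
    haveI := hW.isLocalization_basicOpen f
    refine IsLocalization.of_ringEquiv_left (ι₀.commRingCatIsoToRingEquiv)
      (M₁ := Submonoid.powers f) ?_ ?_
    · rw [Submonoid.map_powers]
      congr 1
      exact ι₀.inv_hom_id_apply f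
    · intro x
      rfl

end Groth.Agent.Lib.Helper86.SD77PLUMB
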