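import Mathlib

set_option autoImplicit false
universe u
open CategoryTheory CategoryTheory.Limits AlgebraicGeometry TensorProduct

namespace Groth.Agent.Lib.Helper86.SDG1F

theorem G1F {X X' Zi : Scheme.{u}} (fi : Zi ⟶ X) (g : X' ⟶ X) (U : X.Opens) (hU : IsAffineOpen U)
    (U' : X'.Opens) (hU' : IsAffineOpen U') (hUU' : U' ≤ g ⁻¹ᵁ U) (W : Zi.Opens) (hW : IsAffineOpen W)
    (hWU : W ≤ fi ⁻¹ᵁ U) (t : Γ(X', U')) (ht : (pullback.snd fi g).app U' t = 0)
    (R' : CommRingCat.{u}) (α : Γ(Zi, W) ⟶ R') (β : Γ(X', U') ⟶ R')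
    (hαβ : fi.appLE U W hWU ≫ α = g.appLE U U' hUU' ≫ β) : β.hom t = 0 := by
  let a : Spec R' ⟶ Zi := Spec.map α ≫ hW.fromSpec
  let b : Spec R' ⟶ X' := Spec.map β ≫ hU'.fromSpec
  have hab : a ≫ fi = b ≫ g := by
    simp only [a, b, Category.assoc]
    rw [← IsAffineOpen.SpecMap_appLE_fromSpec fi hU hW hWU,
      ← IsAffineOpen.SpecMap_appLE_fromSpec g hU hU' hUU',
      ← Spec.map_comp_assoc, ← Spec.map_comp_assoc, hαβ]
  let c : Spec R' ⟶ pullback fi g := pullback.lift a b hab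
  have hc : c ≫ pullback.snd fi g = b := pullback.lift_snd _ _ _
  have he : (⊤ : (Spec R').Opens) ≤ b ⁻¹ᵁ U' := by
    simp only [b, Scheme.Hom.comp_preimage, hU'.fromSpec_preimage_self]
    exact le_of_eq (by simp)
  have hb : ∀ e, b.appLE U' ⊤ e = β ≫ (Scheme.ΓSpecIso R').inv := by
    intro e
    rw [Scheme.ΓSpecIso_inv_naturality]
    simp only [b]
    rw [Scheme.Hom.comp_appLE, hU'.fromSpec_app_self, Category.assoc]
    congr 1
  have key : ∀ (b' : Spec R' ⟶ X') (_ : b' = b) (e : ⊤ ≤ b' ⁻¹ᵁ U'),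
      b'.appLE U' ⊤ e = β ≫ (Scheme.ΓSpecIso R').inv := by
    rintro b' rfl e
    exact hb e
  have h1 := key (c ≫ pullback.snd fi g) hc (by rw [hc]; exact he)
  rw [Scheme.Hom.comp_appLE] at h1
  have h2 := congr($h1 t)
  rw [CommRingCat.comp_apply, ht, map_zero, CommRingCat.comp_apply] at h2
  have h3 := congrArg (Scheme.ΓSpecIso R').hom h2
  rw [map_zero] at h3
  simpa using h3.symm

end Groth.Agent.Lib.Helper86.SDG1F
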