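import Mathlib

/-!
# Cofree simplicial objects and left Kan extensions along the truncated simplex category

* `cofree n W`: the simplicial object `X ↦ ∏_{[n] ⟶ X} W` in an abelian category, with the map
  `toCofree L n g : L ⟶ cofree n W` attached to `g : L_n ⟶ W`.
* For a left Kan extension `(L, η)` of `F : SimplicialObject.Truncated A m` along the inclusion:
  `eq_zero_of_isLeftKanExtension` (a map out of `L_k` killing all `L(θ)`, `θ : [k] ⟶ [i]`, `i ≤ m`,
  is zero), `epi_unit_app` (the unit is an epimorphism in each degree).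
-/

set_option autoImplicit false
universe v u

open CategoryTheory CategoryTheory.Limits Opposite

namespace Groth.Agent.Lib.Helper86.SkCofree

variable {A : Type u} [Category.{v} A] [Abelian A]

/-- The cofree simplicial object on `W` placed in degree `n`. -/
noncomputable def cofree (n : ℕ) (W : A) : SimplicialObject A where
  obj X := ∏ᶜ fun (_ : SimplexCategory.mk n ⟶ X.unop) => W
  map {X Y} f := Pi.lift (fun θ => Pi.π (fun (_ : SimplexCategory.mk n ⟶ X.unop) => W) (θ ≫ f.unop))
  map_id X := by
    apply Pi.hom_ext
    intro θ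
    simp
  map_comp f g := by
    apply Pi.hom_ext
    intro θ
    simp

/-- The map to the cofree object determined by `g`. -/
noncomputable def toCofree (L : SimplicialObject A) (n : ℕ) {W : A}
    (g : L.obj (op (SimplexCategory.mk n)) ⟶ W) : L ⟶ cofree n W where
  app X := Pi.lift (fun θ => L.map θ.op ≫ g)
  naturality X Y f := by
    apply Pi.hom_ext
    intro θ
    simp only [cofree, Category.assoc, Pi.lift_π]
    rw [← L.map_comp_assoc]
    rfl

/-- Projections of the cofree object. -/
noncomputable def cofreeπ (n : ℕ) (W : A) (X : SimplexCategoryᵒᵖ)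
    (θ : SimplexCategory.mk n ⟶ X.unop) : (cofree n W).obj X ⟶ W :=
  Pi.π (fun (_ : SimplexCategory.mk n ⟶ X.unop) => W) θ

lemma cofree_hom_ext {n : ℕ} {W : A} {X : SimplexCategoryᵒᵖ} {T : A}
    {a b : T ⟶ (cofree n W).obj X}
    (h : ∀ θ, a ≫ cofreeπ n W X θ = b ≫ cofreeπ n W X θ) : a = b :=
  Pi.hom_ext _ _ h

lemma toCofree_app_π (L : SimplicialObject A) (n : ℕ) {W : A}
    (g : L.obj (op (SimplexCategory.mk n)) ⟶ W) (X : SimplexCategoryᵒᵖ)
    (θ : SimplexCategory.mk n ⟶ X.unop) :
    (toCofree L n g).app X ≫ cofreeπ n W X θ = L.map θ.op ≫ g :=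
  Pi.lift_π _ _

section Kan

variable {m : ℕ} {F : SimplicialObject.Truncated A m} (L : SimplicialObject A)
  (η : F ⟶ (SimplexCategory.Truncated.inclusion m).op ⋙ L) [L.IsLeftKanExtension η]

include η in
/-- A map out of `L_k` which kills the images of all `L_i ⟶ L_k`, `i ≤ m`, is zero. -/
lemma eq_zero_of_isLeftKanExtension (k : ℕ) {W : A}
    (g : L.obj (op (SimplexCategory.mk k)) ⟶ W)
    (hg : ∀ (i : ℕ) (_ : i ≤ m) (θ : SimplexCategory.mk k ⟶ SimplexCategory.mk i),
      L.map θ.op ≫ g = 0) : g = 0 := by
  have hq : toCofree L k g = 0 := by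
    apply Functor.hom_ext_of_isLeftKanExtension L η
    ext X
    have h0 : (toCofree L k g).app ((SimplexCategory.Truncated.inclusion m).op.obj X) = 0 := by
      apply cofree_hom_ext
      intro θ
      rw [toCofree_app_π, zero_comp]
      exact hg X.unop.obj.len X.unop.property θ
    simp only [NatTrans.comp_app, Functor.whiskerLeft_app]
    rw [h0]
    simp
  have h1 := toCofree_app_π L k g (op (SimplexCategory.mk k)) (𝟙 _)
  rw [hq] at h1
  simpa using h1.symm

/-- The unit of a left Kan extension along the truncated simplex category is epi in each degree. -/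
lemma epi_unit_app (X : (SimplexCategory.Truncated m)ᵒᵖ) : Epi (η.app X) := by
  apply Preadditive.epi_of_cancel_zero
  intro W g hg
  have hq : toCofree L X.unop.obj.len (W := W) g = 0 := by
    apply Functor.hom_ext_of_isLeftKanExtension L η
    ext Y
    have h0 : η.app Y ≫ (toCofree L X.unop.obj.len (W := W) g).app
        ((SimplexCategory.Truncated.inclusion m).op.obj Y) = 0 := by
      apply cofree_hom_ext
      intro θ
      rw [Category.assoc, toCofree_app_π, zero_comp]
      have hnat := η.naturality
        (X := Y) (Y := X) (Quiver.Hom.op (ObjectProperty.homMk θ : X.unop ⟶ Y.unop))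
      have hnat' : η.app Y ≫ L.map θ.op = F.map (Quiver.Hom.op
          (ObjectProperty.homMk θ : X.unop ⟶ Y.unop)) ≫ η.app X := hnat.symm
      rw [← Category.assoc, hnat', Category.assoc, hg, comp_zero]
    simp only [NatTrans.comp_app, Functor.whiskerLeft_app]
    rw [h0]
    simp
  have h1 := toCofree_app_π L X.unop.obj.len (W := W) g (op X.unop.obj) (𝟙 _)
  rw [hq] at h1
  simpa using h1.symm

end Kan

end Groth.Agent.Lib.Helper86.SkCofree
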