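import Groth.Agent.Lib.Helper86.TruncD

/-!
# Splitting of bounded objects of the derived category (helper86)
-/

set_option autoImplicit false
universe w v u

open CategoryTheory CategoryTheory.Limits CategoryTheory.Pretriangulated CategoryTheory.Triangulated
open DerivedCategory

namespace Groth.Agent.Lib.Helper86.SplitD

open Groth.Agent.Lib.Helper84.DerivedT Groth.Agent.Lib.Helper86.TruncD

variable {C : Type u} [Category.{v} C] [Abelian C] [HasDerivedCategory.{w} C]

/-- Vanishing of `Hom(X[-i], Y[-j][1])` from vanishing of `Hom(X[0], Y[0][p])`, `p = i - j + 1`. -/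
lemma hom_single_shift_one_eq_zero (X Y : C) (i j : ℤ) (p : ℕ) (hp : (p : ℤ) = i - j + 1)
    (h : ∀ f' : (singleFunctor C 0).obj X ⟶ ((singleFunctor C 0).obj Y)⟦(p : ℤ)⟧, f' = 0)
    (f : (singleFunctor C i).obj X ⟶ ((singleFunctor C j).obj Y)⟦(1 : ℤ)⟧) : f = 0 := by
  let α : ((singleFunctor C i).obj X)⟦i⟧ ≅ (singleFunctor C 0).obj X :=
    ((singleFunctors C).shiftIso i 0 i (by simp)).app X
  let β : (((singleFunctor C j).obj Y)⟦(1 : ℤ)⟧)⟦i⟧ ≅ ((singleFunctor C 0).obj Y)⟦(p : ℤ)⟧ :=
    (shiftFunctorAdd' (DerivedCategory C) 1 i (1 + i) rfl).symm.app _ ≪≫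
      (shiftFunctorAdd' (DerivedCategory C) j (p : ℤ) (1 + i) (by lia)).app _ ≪≫
      (shiftFunctor (DerivedCategory C) (p : ℤ)).mapIso
        (((singleFunctors C).shiftIso j 0 j (by simp)).app Y)
  have h1 : α.inv ≫ f⟦i⟧' ≫ β.hom = 0 := h _
  have h2 : f⟦i⟧' = 0 := by
    rw [← cancel_epi α.inv, ← cancel_mono β.hom, Category.assoc, h1, comp_zero, zero_comp]
  apply (shiftFunctor (DerivedCategory C) i).map_injective
  rw [h2, Functor.map_zero]

/-- Dévissage: if `Hom(S, H^j(Z)[-j][1]) = 0` for all `j`, and `Z` is bounded, then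
`Hom(S, Z[1]) = 0`. -/
lemma hom_shift_one_eq_zero_of_bounded {S : DerivedCategory C} (a : ℤ) (n : ℕ) :
    ∀ (Z : DerivedCategory C) [Z.IsGE a], Z.IsLE (a + n - 1) →
    (∀ (j : ℤ) (M : C), Nonempty (M ≅ (homologyFunctor C j).obj Z) →
        ∀ f : S ⟶ ((singleFunctor C j).obj M)⟦(1 : ℤ)⟧, f = 0) →
    ∀ f : S ⟶ Z⟦(1 : ℤ)⟧, f = 0 := by
  induction n with
  | zero =>
    intro Z _ hZ _ f
    have : Z.IsLE (a - 1) := by simpa using hZ
    have hz : IsZero Z := TStructure.t.isZero Z (a - 1) a (by lia)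
    exact ((shiftFunctor (DerivedCategory C) (1 : ℤ)).map_isZero hz).eq_of_tgt _ _
  | succ n ih =>
    intro Z _ hZ h f
    have hZc : Z.IsLE (a + n) := by
      have : a + ((n + 1 : ℕ) : ℤ) - 1 = a + n := by push_cast; ring
      rwa [this] at hZ
    have hT := TStructure.t.triangleLTGE_distinguished (a + n) Z
    have hT2 := rot_of_distTriang _ (rot_of_distTriang _ hT)
    have iGE : ((TStructure.t.truncGE (a + n)).obj Z).IsGE (a + n) := inferInstance
    have iLE : ((TStructure.t.truncGE (a + n)).obj Z).IsLE (a + n) := inferInstance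
    obtain ⟨M, ⟨e⟩⟩ :=
      exists_iso_singleFunctor_obj_of_isGE_of_isLE ((TStructure.t.truncGE (a + n)).obj Z) (a + n)
    have : IsIso ((homologyFunctor C (a + n)).map ((TStructure.t.truncGEπ (a + n)).app Z)) :=
      isIso_homologyMap_truncGEπ Z (a + n) (a + n) le_rfl
    have eM : M ≅ (homologyFunctor C (a + n)).obj Z :=
      ((singleFunctorCompHomologyFunctorIso C (a + n)).app M).symm ≪≫
        (homologyFunctor C (a + n)).mapIso e.symm ≪≫
        (asIso ((homologyFunctor C (a + n)).map ((TStructure.t.truncGEπ (a + n)).app Z))).symm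
    have h1 : f ≫ ((TStructure.t.truncGEπ (a + n)).app Z)⟦(1 : ℤ)⟧' = 0 := by
      have := h (a + n) M ⟨eM⟩
        ((f ≫ ((TStructure.t.truncGEπ (a + n)).app Z)⟦(1 : ℤ)⟧') ≫ e.hom⟦(1 : ℤ)⟧')
      have he : IsIso (e.hom⟦(1 : ℤ)⟧') := inferInstance
      rw [← cancel_mono (e.hom⟦(1 : ℤ)⟧'), this, zero_comp]
    obtain ⟨g, hg⟩ := Triangle.coyoneda_exact₃ _ hT2 f (by
      change f ≫ (-(((TStructure.t.truncGEπ (a + n)).app Z)⟦(1 : ℤ)⟧')) = 0
      rw [Preadditive.comp_neg, h1, neg_zero])
    have iZ'GE : ((TStructure.t.truncLT (a + n)).obj Z).IsGE a := inferInstance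
    have iZ'LE : ((TStructure.t.truncLT (a + n)).obj Z).IsLE (a + n - 1) := inferInstance
    have hg0 : g = 0 := by
      refine ih ((TStructure.t.truncLT (a + n)).obj Z) iZ'LE ?_ g
      rintro j N ⟨eN⟩ f'
      by_cases hj : j < a + n
      · have : IsIso ((homologyFunctor C j).map ((TStructure.t.truncLTι (a + n)).app Z)) :=
          isIso_homologyMap_truncLTι Z (a + n) j hj
        exact h j N
          ⟨eN ≪≫ asIso ((homologyFunctor C j).map ((TStructure.t.truncLTι (a + n)).app Z))⟩ f'
      · have hz : IsZero N :=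
          (isZero_of_isLE ((TStructure.t.truncLT (a + n)).obj Z) (a + n - 1) j (by lia)).of_iso eN
        have hz' : IsZero ((singleFunctor C j).obj N) := (singleFunctor C j).map_isZero hz
        exact ((shiftFunctor (DerivedCategory C) (1 : ℤ)).map_isZero hz').eq_of_tgt _ _
    rw [hg, hg0]
    exact zero_comp

/-- Existence of a "section" `H^i(K)[-i] ⟶ K` inducing an iso on `H^i`, under vanishing of
the relevant `Hom(-, -[1])` groups. -/
lemma exists_section (K : DerivedCategory C) (a : ℤ) [K.IsGE a] (i : ℤ)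
    (H : ∀ (j : ℤ), j < i → ∀ (M N : C), Nonempty (M ≅ (homologyFunctor C i).obj K) →
        Nonempty (N ≅ (homologyFunctor C j).obj K) →
        ∀ f : (singleFunctor C i).obj M ⟶ ((singleFunctor C j).obj N)⟦(1 : ℤ)⟧, f = 0) :
    ∃ s : (singleFunctor C i).obj ((homologyFunctor C i).obj K) ⟶ K,
      IsIso ((homologyFunctor C i).map s) := by
  let t := TStructure.t (C := C)
  have hT := t.triangleLTLTGELT_distinguished i (i + 1) (by lia) K
  have iGE : ((t.truncGE i).obj ((t.truncLT (i + 1)).obj K)).IsGE i := inferInstance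
  have iLE : ((t.truncGE i).obj ((t.truncLT (i + 1)).obj K)).IsLE i := inferInstance
  obtain ⟨M, ⟨e⟩⟩ :=
    exists_iso_singleFunctor_obj_of_isGE_of_isLE ((t.truncGE i).obj ((t.truncLT (i + 1)).obj K)) i
  have i1 : IsIso ((homologyFunctor C i).map ((t.truncGEπ i).app ((t.truncLT (i + 1)).obj K))) :=
    isIso_homologyMap_truncGEπ _ i i le_rfl
  have i2 : IsIso ((homologyFunctor C i).map ((t.truncLTι (i + 1)).app K)) :=
    isIso_homologyMap_truncLTι K (i + 1) i (by lia)
  let eM : M ≅ (homologyFunctor C i).obj K :=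
    ((singleFunctorCompHomologyFunctorIso C i).app M).symm ≪≫
      (homologyFunctor C i).mapIso e.symm ≪≫
      (asIso ((homologyFunctor C i).map
        ((t.truncGEπ i).app ((t.truncLT (i + 1)).obj K)))).symm ≪≫
      asIso ((homologyFunctor C i).map ((t.truncLTι (i + 1)).app K))
  have h3 : ((t.triangleLTLTGELT i (i + 1) (by lia)).obj K).mor₃ = 0 := by
    have iZGE : ((t.truncLT i).obj K).IsGE a := inferInstance
    have iZLE : ((t.truncLT i).obj K).IsLE (a + ((i - a).toNat : ℤ) - 1) :=
      t.isLE_of_le _ (i - 1) _ (by lia)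
    refine hom_shift_one_eq_zero_of_bounded a (i - a).toNat ((t.truncLT i).obj K) iZLE ?_ _
    rintro j N ⟨eN⟩ f
    by_cases hj : j < i
    · have : IsIso ((homologyFunctor C j).map ((t.truncLTι i).app K)) :=
        isIso_homologyMap_truncLTι K i j hj
      have := H j hj M N ⟨eM⟩
        ⟨eN ≪≫ asIso ((homologyFunctor C j).map ((t.truncLTι i).app K))⟩ (e.inv ≫ f)
      exact (cancel_epi e.inv).1 (this.trans comp_zero.symm)
    · have hz : IsZero N :=
        (isZero_of_isLE ((t.truncLT i).obj K) (i - 1) j (by lia)).of_iso eN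
      have hz' : IsZero ((singleFunctor C j).obj N) := (singleFunctor C j).map_isZero hz
      exact ((shiftFunctor (DerivedCategory C) (1 : ℤ)).map_isZero hz').eq_of_tgt _ _
  obtain ⟨σ, hσ⟩ : ∃ σ : (t.truncGE i).obj ((t.truncLT (i + 1)).obj K) ⟶ (t.truncLT (i + 1)).obj K,
      𝟙 ((t.truncGE i).obj ((t.truncLT (i + 1)).obj K)) =
        σ ≫ (t.truncGEπ i).app ((t.truncLT (i + 1)).obj K) :=
    Triangle.coyoneda_exact₃ _ hT (𝟙 _) (by rw [h3, comp_zero])
  have hσ' : IsIso ((homologyFunctor C i).map σ) := by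
    have fac : (homologyFunctor C i).map σ ≫ (homologyFunctor C i).map
        ((t.truncGEπ i).app ((t.truncLT (i + 1)).obj K)) = 𝟙 _ := by
      rw [← Functor.map_comp, ← hσ, (homologyFunctor C i).map_id]
    exact IsIso.of_isIso_fac_right fac
  refine ⟨(singleFunctor C i).map eM.inv ≫ e.inv ≫ σ ≫ (t.truncLTι (i + 1)).app K, ?_⟩
  rw [Functor.map_comp, Functor.map_comp, Functor.map_comp]
  infer_instance

/-- A map from a finite biproduct of objects concentrated in distinct degrees which is an iso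
on each relevant cohomology is an iso. -/
lemma isIso_biproduct_desc {J : Type} [Fintype J] (deg : J → ℤ)
    (hdeg : Function.Injective deg)
    (S : J → DerivedCategory C) [HasBiproduct S]
    (hS : ∀ j n, n ≠ deg j → IsZero ((homologyFunctor C n).obj (S j)))
    (K : DerivedCategory C) (s : ∀ j, S j ⟶ K)
    (hs : ∀ j, IsIso ((homologyFunctor C (deg j)).map (s j)))
    (hK : ∀ n, (∀ j, deg j ≠ n) → IsZero ((homologyFunctor C n).obj K)) :
    IsIso (biproduct.desc s) := by
  classical
  rw [isIso_iff]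
  intro n
  have htot : 𝟙 ((homologyFunctor C n).obj (⨁ S)) =
      ∑ j, (homologyFunctor C n).map (biproduct.π S j) ≫
        (homologyFunctor C n).map (biproduct.ι S j) := by
    rw [← (homologyFunctor C n).map_id, ← biproduct.total, Functor.map_sum]
    simp only [Functor.map_comp]
  by_cases hn : ∃ j₀, deg j₀ = n
  · obtain ⟨j₀, rfl⟩ := hn
    have hsum : 𝟙 _ = (homologyFunctor C (deg j₀)).map (biproduct.π S j₀) ≫
        (homologyFunctor C (deg j₀)).map (biproduct.ι S j₀) := by
      rw [htot]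
      apply Finset.sum_eq_single j₀
      · intro j _ hj
        rw [(hS j (deg j₀) (fun h => hj (hdeg h.symm))).eq_of_src
          ((homologyFunctor C (deg j₀)).map (biproduct.ι S j)) 0, comp_zero]
      · intro h; exact absurd (Finset.mem_univ _) h
    have hι : IsIso ((homologyFunctor C (deg j₀)).map (biproduct.ι S j₀)) :=
      ⟨(homologyFunctor C (deg j₀)).map (biproduct.π S j₀), by
        rw [← Functor.map_comp, biproduct.ι_π_self, (homologyFunctor C (deg j₀)).map_id],
        hsum.symm⟩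
    have fac : (homologyFunctor C (deg j₀)).map (biproduct.ι S j₀) ≫
        (homologyFunctor C (deg j₀)).map (biproduct.desc s) =
        (homologyFunctor C (deg j₀)).map (s j₀) := by
      rw [← Functor.map_comp, biproduct.ι_desc]
    have := hs j₀
    exact IsIso.of_isIso_fac_left fac
  · push_neg at hn
    have h1 : IsZero ((homologyFunctor C n).obj (⨁ S)) := by
      rw [IsZero.iff_id_eq_zero, htot]
      apply Finset.sum_eq_zero
      intro j _
      rw [(hS j n (fun h => hn j h.symm)).eq_of_src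
        ((homologyFunctor C n).map (biproduct.ι S j)) 0, comp_zero]
    exact ⟨0, h1.eq_of_src _ _, (hK n hn).eq_of_src _ _⟩

end Groth.Agent.Lib.Helper86.SplitD
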