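import Groth.Agent.Lib.Helper84.DerivedT

/-!
# Truncation lemmas in the derived category (helper86)

* `exists_lift_truncLT`: a map from a `≤ n` object which is zero on `H^n` lifts through `τ_{<n}`.
* `exists_lift_Q_truncLE`: a map from a `≤ m` object to `Q.obj K` lifts through `Q.obj (K.truncLE m)`.
-/

set_option autoImplicit false
universe w v u

open CategoryTheory CategoryTheory.Limits CategoryTheory.Pretriangulated CategoryTheory.Triangulated
open DerivedCategory

namespace Groth.Agent.Lib.Helper86.TruncD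

open Groth.Agent.Lib.Helper84.DerivedT

variable {C : Type u} [Category.{v} C] [Abelian C] [HasDerivedCategory.{w} C]

/-- A morphism from a `≤ n` object that vanishes on `H^n` composes to zero with `τ_{≥ n}`. -/
lemma comp_truncGEπ_eq_zero {X Y : DerivedCategory C} (n : ℤ) [X.IsLE n] (f : X ⟶ Y)
    (hf : (homologyFunctor C n).map f = 0) :
    f ≫ (TStructure.t.truncGEπ n).app Y = 0 := by
  apply eq_zero_of_homologyMap_eq_zero n
  rw [Functor.map_comp, hf, zero_comp]

/-- A morphism from a `≤ n` object that vanishes on `H^n` lifts through `τ_{< n}`. -/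
lemma exists_lift_truncLT {X Y : DerivedCategory C} (n : ℤ) [X.IsLE n] (f : X ⟶ Y)
    (hf : (homologyFunctor C n).map f = 0) :
    ∃ g : X ⟶ (TStructure.t.truncLT n).obj Y, g ≫ (TStructure.t.truncLTι n).app Y = f := by
  have h0 := comp_truncGEπ_eq_zero n f hf
  obtain ⟨g, hg⟩ := Triangle.coyoneda_exact₂ _ (TStructure.t.triangleLTGE_distinguished n Y) f h0
  exact ⟨g, hg.symm⟩

/-- A morphism to a `≥ n` object that vanishes on `H^n` factors through `τ_{≥ n+1}`... dual:
composes to zero with `τ_{<n+1}`. -/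
lemma truncLTι_comp_eq_zero {X Y : DerivedCategory C} (n : ℤ) [Y.IsGE n] (f : X ⟶ Y)
    (hf : (homologyFunctor C n).map f = 0) :
    (TStructure.t.truncLTι (n + 1)).app X ≫ f = 0 := by
  apply eq_zero_of_homologyMap_eq_zero n
  rw [Functor.map_comp, hf, comp_zero]

/-- A morphism to a `≥ n` object that vanishes on `H^n` factors through `τ_{≥ n+1}`. -/
lemma exists_desc_truncGE {X Y : DerivedCategory C} (n : ℤ) [Y.IsGE n] (f : X ⟶ Y)
    (hf : (homologyFunctor C n).map f = 0) :
    ∃ g : (TStructure.t.truncGE (n + 1)).obj X ⟶ Y,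
      (TStructure.t.truncGEπ (n + 1)).app X ≫ g = f := by
  have h0 := truncLTι_comp_eq_zero n f hf
  obtain ⟨g, hg⟩ := Triangle.yoneda_exact₂ _
    (TStructure.t.triangleLTGE_distinguished (n + 1) X) f h0
  exact ⟨g, hg.symm⟩

/-- The third object of the truncation short exact sequence is `≥ m + 1`. -/
lemma isGE_shortComplexTruncLE_X₃ (K : CochainComplex C ℤ) (m : ℤ) :
    (Q.obj (K.shortComplexTruncLE m).X₃).IsGE (m + 1) := by
  have e : Q.obj (K.shortComplexTruncLE m).X₃ ≅ Q.obj (K.truncGE (m + 1)) :=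
    asIso (Q.map (K.shortComplexTruncLEX₃ToTruncGE m (m + 1) rfl))
  exact TStructure.t.isGE_of_iso e.symm (m + 1)

/-- A morphism from a `≤ m` object to `Q.obj K` lifts through `Q.obj (K.truncLE m)`. -/
lemma exists_lift_Q_truncLE {X : DerivedCategory C} (m : ℤ) [X.IsLE m]
    (K : CochainComplex C ℤ) (g : X ⟶ Q.obj K) :
    ∃ φ : X ⟶ Q.obj (K.truncLE m), φ ≫ Q.map (K.ιTruncLE m) = g := by
  have hS := K.shortComplexTruncLE_shortExact m
  have hT := triangleOfSES_distinguished hS
  have := isGE_shortComplexTruncLE_X₃ K m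
  have h0 : g ≫ (triangleOfSES hS).mor₂ = 0 :=
    TStructure.t.zero_of_isLE_of_isGE _ m (m + 1) (by lia) inferInstance
      (by change (Q.obj (K.shortComplexTruncLE m).X₃).IsGE (m + 1); infer_instance)
  obtain ⟨φ, hφ⟩ := Triangle.coyoneda_exact₂ _ hT g h0
  exact ⟨φ, hφ.symm⟩

/-- A morphism between two objects concentrated in degree `k` which is an iso on `H^k` is an
iso. -/
lemma isIso_of_isIso_homologyMap {X Y : DerivedCategory C} (k : ℤ) [X.IsGE k] [X.IsLE k]
    [Y.IsGE k] [Y.IsLE k] (d : X ⟶ Y) (hd : IsIso ((homologyFunctor C k).map d)) : IsIso d := by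
  rw [isIso_iff]
  intro n
  rcases lt_trichotomy n k with h | h | h
  · exact ⟨0, (isZero_of_isGE X k n h).eq_of_src _ _, (isZero_of_isGE Y k n h).eq_of_src _ _⟩
  · subst h; exact hd
  · exact ⟨0, (isZero_of_isLE X k n h).eq_of_src _ _, (isZero_of_isLE Y k n h).eq_of_src _ _⟩

/-- If `X` is `≤ k`, `π : X ⟶ S` is an iso on `H^k` with `S` concentrated in degree `k`,
then any `F : X ⟶ Y` killing `τ_{<k} X` factors through `π`. -/
lemma exists_factor_through_top {X S Y : DerivedCategory C} (k : ℤ) [X.IsLE k]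
    [S.IsGE k] [S.IsLE k] (π : X ⟶ S) (hπ : IsIso ((homologyFunctor C k).map π))
    (F : X ⟶ Y) (hF : (TStructure.t.truncLTι k).app X ≫ F = 0) :
    ∃ φ : S ⟶ Y, F = π ≫ φ := by
  obtain ⟨φ', hφ'⟩ := Triangle.yoneda_exact₂ _
    (TStructure.t.triangleLTGE_distinguished k X) F hF
  have hd := TStructure.t.π_descTruncGE π k
  set d := TStructure.t.descTruncGE π k with hddef
  have : IsIso ((homologyFunctor C k).map ((TStructure.t.truncGEπ k).app X)) :=
    isIso_homologyMap_truncGEπ X k k le_rfl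
  have hd' : IsIso ((homologyFunctor C k).map d) := by
    have h1 : (homologyFunctor C k).map ((TStructure.t.truncGEπ k).app X) ≫
        (homologyFunctor C k).map d = (homologyFunctor C k).map π := by
      rw [← Functor.map_comp, hd]
    rw [← h1] at hπ
    exact IsIso.of_isIso_comp_left ((homologyFunctor C k).map ((TStructure.t.truncGEπ k).app X)) _
  have : IsIso d := isIso_of_isIso_homologyMap k d hd'
  refine ⟨inv d ≫ φ', ?_⟩
  rw [← hd, Category.assoc, IsIso.hom_inv_id_assoc]
  exact hφ'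

section Homology

/-- `H^j(obj₁) = 0` if `H^{j-1}(mor₂)` is epi and `H^j(mor₂)` is mono. -/
lemma isZero_homology_obj₁ (T : Triangle (DerivedCategory C)) (hT : T ∈ distTriang _) (i j : ℤ)
    (hij : i + 1 = j)
    (h₁ : Epi ((homologyFunctor C i).map T.mor₂)) (h₂ : Mono ((homologyFunctor C j).map T.mor₂)) :
    IsZero ((homologyFunctor C j).obj T.obj₁) := by
  have hδ := (HomologySequence.epi_homologyMap_mor₂_iff T hT i j hij).1 h₁
  have hm := (HomologySequence.mono_homologyMap_mor₂_iff T hT j).1 h₂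
  exact (HomologySequence.exact₁ T hT i j hij).isZero_of_both_zeros hδ hm

lemma isIso_homologyMap_natTransTruncLTOfLE (a b : ℤ) (h : a ≤ b) (X : DerivedCategory C)
    (n : ℤ) (hn : n < a) :
    IsIso ((homologyFunctor C n).map ((TStructure.t.natTransTruncLTOfLE a b h).app X)) := by
  have := isIso_homologyMap_truncLTι X a n hn
  have := isIso_homologyMap_truncLTι X b n (by lia)
  have fac : (homologyFunctor C n).map ((TStructure.t.natTransTruncLTOfLE a b h).app X) ≫
      (homologyFunctor C n).map ((TStructure.t.truncLTι b).app X) =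
      (homologyFunctor C n).map ((TStructure.t.truncLTι a).app X) := by
    rw [← Functor.map_comp, TStructure.t.natTransTruncLTOfLE_ι_app]
  exact IsIso.of_isIso_fac_right fac

lemma isIso_homologyMap_natTransTruncGEOfLE (a b : ℤ) (h : a ≤ b) (X : DerivedCategory C)
    (n : ℤ) (hn : b ≤ n) :
    IsIso ((homologyFunctor C n).map ((TStructure.t.natTransTruncGEOfLE a b h).app X)) := by
  have := isIso_homologyMap_truncGEπ X a n (by lia)
  have := isIso_homologyMap_truncGEπ X b n hn
  have fac : (homologyFunctor C n).map ((TStructure.t.truncGEπ a).app X) ≫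
      (homologyFunctor C n).map ((TStructure.t.natTransTruncGEOfLE a b h).app X) =
      (homologyFunctor C n).map ((TStructure.t.truncGEπ b).app X) := by
    rw [← Functor.map_comp, TStructure.t.π_natTransTruncGEOfLE_app]
  exact IsIso.of_isIso_fac_left fac

lemma isIso_homologyMap_truncGE_map {X Y : DerivedCategory C} (g : X ⟶ Y) (a n : ℤ) (hn : a ≤ n)
    (hg : IsIso ((homologyFunctor C n).map g)) :
    IsIso ((homologyFunctor C n).map ((TStructure.t.truncGE a).map g)) := by
  have := isIso_homologyMap_truncGEπ X a n hn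
  have := isIso_homologyMap_truncGEπ Y a n hn
  have fac : (homologyFunctor C n).map ((TStructure.t.truncGEπ a).app X) ≫
      (homologyFunctor C n).map ((TStructure.t.truncGE a).map g) =
      (homologyFunctor C n).map g ≫ (homologyFunctor C n).map ((TStructure.t.truncGEπ a).app Y) := by
    rw [← Functor.map_comp, ← Functor.map_comp, TStructure.t.truncGEπ_naturality]
  exact IsIso.of_isIso_fac_left fac

lemma homologyMap_truncGE_map_eq_zero {X Y : DerivedCategory C} (g : X ⟶ Y) (a n : ℤ) (hn : a ≤ n)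
    (hg : (homologyFunctor C n).map g = 0) :
    (homologyFunctor C n).map ((TStructure.t.truncGE a).map g) = 0 := by
  have := isIso_homologyMap_truncGEπ X a n hn
  rw [← cancel_epi ((homologyFunctor C n).map ((TStructure.t.truncGEπ a).app X)),
    ← Functor.map_comp, TStructure.t.truncGEπ_naturality, Functor.map_comp, hg, zero_comp,
    comp_zero]

lemma homologyMap_truncLT_map_eq_zero {X Y : DerivedCategory C} (g : X ⟶ Y) (b n : ℤ) (hn : n < b)
    (hg : (homologyFunctor C n).map g = 0) :
    (homologyFunctor C n).map ((TStructure.t.truncLT b).map g) = 0 := by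
  have := isIso_homologyMap_truncLTι Y b n hn
  have nat : (TStructure.t.truncLT b).map g ≫ (TStructure.t.truncLTι b).app Y =
      (TStructure.t.truncLTι b).app X ≫ g := (TStructure.t.truncLTι b).naturality g
  rw [← cancel_mono ((homologyFunctor C n).map ((TStructure.t.truncLTι b).app Y)),
    ← Functor.map_comp, nat, Functor.map_comp, hg, zero_comp, comp_zero]

end Homology

section Orthogonality

/-- Uniqueness of factorizations through `mor₂`. -/
lemma eq_zero_of_mor₂_comp_eq_zero (T : Triangle (DerivedCategory C)) (hT : T ∈ distTriang _)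
    {Y : DerivedCategory C} (n₀ n₁ : ℤ) (h : n₀ ≤ n₁) [T.obj₁.IsLE n₀] [Y.IsGE n₁]
    (g : T.obj₃ ⟶ Y) (hg : T.mor₂ ≫ g = 0) : g = 0 := by
  obtain ⟨e, he⟩ := Triangle.yoneda_exact₃ _ hT g hg
  have : (T.obj₁⟦(1 : ℤ)⟧).IsLE (n₀ - 1) := TStructure.t.isLE_shift T.obj₁ n₀ 1 (n₀ - 1)
  rw [he, TStructure.t.zero_of_isLE_of_isGE e (n₀ - 1) n₁ (by lia) inferInstance inferInstance,
    comp_zero]

/-- Uniqueness of factorizations through `mor₁`. -/
lemma eq_zero_of_comp_mor₁_eq_zero (T : Triangle (DerivedCategory C)) (hT : T ∈ distTriang _)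
    {X : DerivedCategory C} (n₀ n₁ : ℤ) (h : n₀ ≤ n₁) [X.IsLE n₀] [T.obj₃.IsGE n₁]
    (g : X ⟶ T.obj₁) (hg : g ≫ T.mor₁ = 0) : g = 0 := by
  obtain ⟨e, he⟩ := Triangle.coyoneda_exact₂ _ (inv_rot_of_distTriang _ hT) g hg
  have : (T.obj₃⟦(-1 : ℤ)⟧).IsGE (n₁ + 1) := TStructure.t.isGE_shift T.obj₃ n₁ (-1) (n₁ + 1)
  have he0 : e = 0 :=
    TStructure.t.zero_of_isLE_of_isGE e n₀ (n₁ + 1) (by lia) inferInstance
      (by change (T.obj₃⟦(-1 : ℤ)⟧).IsGE (n₁ + 1); infer_instance)
  rw [he, he0]
  exact zero_comp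

/-- Existence of factorizations through `mor₂`. -/
lemma exists_fac_mor₂ (T : Triangle (DerivedCategory C)) (hT : T ∈ distTriang _)
    {Y : DerivedCategory C} (n : ℤ) [T.obj₁.IsLE n] [Y.IsGE n]
    (F : T.obj₂ ⟶ Y) (hF : (homologyFunctor C n).map F = 0) :
    ∃ G : T.obj₃ ⟶ Y, F = T.mor₂ ≫ G := by
  apply Triangle.yoneda_exact₂ _ hT
  apply eq_zero_of_homologyMap_eq_zero n
  rw [Functor.map_comp, hF, comp_zero]

/-- Existence of factorizations through `mor₁`. -/
lemma exists_fac_mor₁ (T : Triangle (DerivedCategory C)) (hT : T ∈ distTriang _)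
    {X : DerivedCategory C} (n : ℤ) [X.IsLE n] [T.obj₃.IsGE n]
    (G : X ⟶ T.obj₂) (hG : (homologyFunctor C n).map G = 0) :
    ∃ L : X ⟶ T.obj₁, G = L ≫ T.mor₁ := by
  apply Triangle.coyoneda_exact₂ _ hT
  apply eq_zero_of_homologyMap_eq_zero n
  rw [Functor.map_comp, hG, zero_comp]

end Orthogonality

end Groth.Agent.Lib.Helper86.TruncD
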