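import Mathlib
import Groth.Prelude.Def_Adeq2
import Groth.Agent.Lib.Helper86.CartanFppf
import Groth.Agent.Lib.Helper86.InjResSES
import Groth.Agent.Lib.Helper82.BigZar2
import Groth.Agent.Lib.Helper82.HComp

open CategoryTheory Limits Opposite AlgebraicGeometry TopologicalSpace

/-! # Zariski versus fppf cohomology for Čech-acyclic sheaves on the big fppf site (Stacks 46.5) -/

namespace Groth.Agent.Lib.Helper86.ZarFppf
universe u

open Groth.Agent.Lib.Helper86.CechPow Groth.Agent.Lib.Helper86.CartanFppf
open Groth.Agent.Lib.Helper86.InjResSES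

section ExactLocal
variable {X : Scheme.{u}}

instance zarWEq' : (Opens.grothendieckTopology X).WEqualsLocallyBijective AddCommGrpCat.{u + 1} :=
  .ofEssentiallySmall (Opens.grothendieckTopology X)

theorem mono_sections {F G : EtZar.Ab X} (φ : F ⟶ G) [Mono φ] (U : (X.Opens)ᵒᵖ) :
    Function.Injective (φ.hom.app U) := by
  let E : EtZar.Ab X ⥤ AddCommGrpCat.{u + 1} := sheafToPresheaf _ _ ⋙ (evaluation _ _).obj U
  haveI : Mono (E.map φ) := inferInstance
  exact (AddCommGrpCat.mono_iff_injective (E.map φ)).1 this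

/-- a short complex of abelian sheaves is exact if cycles lift locally. -/
theorem exact_of_locally (S : ShortComplex (EtZar.Ab X))
    (h : ∀ (U : X.Opens) (b : S.X₂.obj.obj (op U)), S.g.hom.app _ b = 0 →
      ∃ R : Sieve U, R ∈ Opens.grothendieckTopology X U ∧ ∀ ⦃V : X.Opens⦄ (f : V ⟶ U), R f →
        ∃ a : S.X₁.obj.obj (op V), S.f.hom.app _ a = S.X₂.obj.map f.op b) :
    S.Exact := by
  rw [ShortComplex.exact_iff_epi_toCycles]
  haveI : Sheaf.IsLocallySurjective S.toCycles := by
    refine ⟨fun {U} z => ?_⟩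
    have hb : S.g.hom.app (op U) (S.iCycles.hom.app (op U) z) = 0 := by
      have h0 := congrArg (fun t => t.hom.app (op U)) S.iCycles_g
      exact ConcreteCategory.congr_hom h0 z
    obtain ⟨R, hR, hlift⟩ := h U _ hb
    refine (Opens.grothendieckTopology X).superset_covering ?_ hR
    intro V f hf
    obtain ⟨a, ha⟩ := hlift f hf
    refine ⟨a, mono_sections S.iCycles (op V) ?_⟩
    have h1 : S.iCycles.hom.app (op V) (S.toCycles.hom.app (op V) a) = S.f.hom.app (op V) a := by
      have h0 := congrArg (fun t => t.hom.app (op V)) S.toCycles_i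
      exact ConcreteCategory.congr_hom h0 a
    have h2 : S.iCycles.hom.app (op V) (S.cycles.obj.map f.op z) =
        S.X₂.obj.map f.op (S.iCycles.hom.app (op U) z) :=
      (ConcreteCategory.congr_hom (S.iCycles.hom.naturality f.op) z)
    exact h1.trans (ha.trans h2.symm)
  exact (Sheaf.isLocallySurjective_iff_epi' (φ := S.toCycles)).1 inferInstance

end ExactLocal


section SectionsExact
variable {S : Scheme.{u}} {Y : BigSite.Ab KK S} (R : InjectiveResolution Y)

theorem CA_ZK (hY : CA Y.obj) (k : ℕ) : CA (ZK R (k + 1)).obj := by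
  induction k with
  | zero =>
    haveI : Injective (ses0 R).X₂ := R.injective 0
    exact CA_X₃ (ses0_shortExact R) hY
  | succ k ih =>
    haveI : Injective (sesK R k).X₂ := R.injective (k + 1)
    exact CA_X₃ (sesK_shortExact R k) ih

theorem surj_gK (hY : CA Y.obj) (k : ℕ) (V : Over S) [IsAffine V.left] :
    Function.Surjective ((gK R k).hom.app (op V)) := by
  cases k with
  | zero => exact surj_affine (ses0_shortExact R) hY V
  | succ k => exact surj_affine (sesK_shortExact R k) (CA_ZK R hY k) V

/-- the sections of an injective resolution of a Čech-acyclic sheaf over an affine object form an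
exact complex in positive degrees. -/
theorem sections_exact (hY : CA Y.obj) (k : ℕ) (V : Over S) [IsAffine V.left]
    (b : (R.cocomplex.X (k + 1)).obj.obj (op V))
    (hb : (R.cocomplex.d (k + 1) (k + 1 + 1)).hom.app _ b = 0) :
    ∃ a : (R.cocomplex.X k).obj.obj (op V), (R.cocomplex.d k (k + 1)).hom.app _ a = b := by
  have h1 : (gK R (k + 1)).hom.app (op V) b = 0 := by
    apply sec_inj (sesK_shortExact R (k + 1)) (op V)
    have h0 := congrArg (fun t => t.hom.app (op V)) (gK_ι R (k + 1))
    have h2 := ConcreteCategory.congr_hom h0 b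
    exact (h2.trans hb).trans (map_zero _).symm
  obtain ⟨z, hz⟩ := sec_ex (sesK_shortExact R k) (op V) b h1
  obtain ⟨a, ha⟩ := surj_gK R hY k V z
  refine ⟨a, ?_⟩
  have h0 := congrArg (fun t => t.hom.app (op V)) (gK_ι R k)
  have h2 := ConcreteCategory.congr_hom h0 a
  refine h2.symm.trans ?_
  change (kernel.ι (R.cocomplex.d (k + 1) (k + 1 + 1))).hom.app (op V)
    ((gK R k).hom.app (op V) a) = b
  rw [ha]
  exact hz

end SectionsExact


section Zar
variable (S : Scheme.{u}) [BigSite.ZarCont KK S]

/-- the sieve of opens contained in an affine open of `U`. -/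
def affSieve (U : S.Opens) : Sieve U where
  arrows V _ := ∃ W : S.Opens, IsAffineOpen W ∧ V ≤ W ∧ W ≤ U
  downward_closed := by
    rintro V V' f ⟨W, hW, hVW, hWU⟩ g
    exact ⟨W, hW, g.le.trans hVW, hWU⟩

theorem affSieve_mem (U : S.Opens) : affSieve S U ∈ Opens.grothendieckTopology S U := by
  intro x hx
  obtain ⟨_, ⟨W, hW, rfl⟩, hxW, hWU⟩ := S.isBasis_affineOpens.exists_subset_of_mem_open hx U.2
  exact ⟨W, homOfLE hWU, ⟨W, hW, le_rfl, hWU⟩, hxW⟩

/-- Čech-acyclic sheaves on the big fppf site are acyclic for the restriction to the Zariski site. -/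
theorem isZero_RresZar (Y : BigSite.Ab KK S) (hY : CA Y.obj) (n : ℕ) :
    IsZero (((BigSite.resZar KK S).rightDerived (n + 1)).obj Y) := by
  let R : InjectiveResolution Y := injectiveResolution Y
  refine IsZero.of_iso ?_ (R.isoRightDerivedObj (BigSite.resZar KK S) (n + 1))
  erw [← HomologicalComplex.exactAt_iff_isZero_homology]
  rw [HomologicalComplex.exactAt_iff' _ n (n + 1) (n + 1 + 1) (CochainComplex.prev_nat_succ n)
    (CochainComplex.next ℕ (n + 1))]
  apply exact_of_locally
  intro U b hb
  obtain ⟨b, rfl⟩ : ∃ b' : (R.cocomplex.X (n + 1)).obj.obj (op ((BigSite.zarIncl S).obj U)),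
    b' = b := ⟨b, rfl⟩
  refine ⟨affSieve S U, affSieve_mem S U, ?_⟩
  rintro V f ⟨W, hW, hVW, hWU⟩
  haveI : IsAffine ((BigSite.zarIncl S).obj W).left := hW
  obtain ⟨a, ha⟩ := sections_exact R hY n ((BigSite.zarIncl S).obj W)
    ((R.cocomplex.X (n + 1)).obj.map ((BigSite.zarIncl S).map (homOfLE hWU)).op b) (by
      have h0 := ConcreteCategory.congr_hom
        ((R.cocomplex.d (n + 1) (n + 1 + 1)).hom.naturality ((BigSite.zarIncl S).map (homOfLE hWU)).op) b
      refine h0.trans ?_
      have hb' : (R.cocomplex.d (n + 1) (n + 1 + 1)).hom.app (op ((BigSite.zarIncl S).obj U)) b = 0 := hb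
      change (R.cocomplex.X (n + 1 + 1)).obj.map ((BigSite.zarIncl S).map (homOfLE hWU)).op
        ((R.cocomplex.d (n + 1) (n + 1 + 1)).hom.app (op ((BigSite.zarIncl S).obj U)) b) = 0
      rw [hb', map_zero])
  refine ⟨(R.cocomplex.X n).obj.map ((BigSite.zarIncl S).map (homOfLE hVW)).op a, ?_⟩
  have h1 := ConcreteCategory.congr_hom
    ((R.cocomplex.d n (n + 1)).hom.naturality ((BigSite.zarIncl S).map (homOfLE hVW)).op) a
  refine h1.trans ?_
  change (R.cocomplex.X (n + 1)).obj.map ((BigSite.zarIncl S).map (homOfLE hVW)).op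
    ((R.cocomplex.d n (n + 1)).hom.app (op ((BigSite.zarIncl S).obj W)) a) =
    (R.cocomplex.X (n + 1)).obj.map ((BigSite.zarIncl S).map f).op b
  rw [ha, map_comp_apply', ← Functor.map_comp]
  congr 4

end Zar


section Final
open Groth.Agent.Lib.Helper19
variable (S : Scheme.{u})

attribute [local instance] reflectsLimitsOfShape_of_reflectsIsomorphisms in
theorem lan_zarIncl_preservesFiniteLimits' :
    PreservesFiniteLimits ((BigSite.zarIncl S).op.lan :
      ((S.Opens)ᵒᵖ ⥤ AddCommGrpCat.{u+1}) ⥤ ((Over S)ᵒᵖ ⥤ AddCommGrpCat.{u+1})) := by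
  haveI : PreservesFiniteLimits (EtFppf.a S) :=
    inferInstanceAs (PreservesFiniteLimits (Scheme.Etale.forget S))
  haveI : RepresentablyFlat (EtFppf.a S) := flat_of_preservesFiniteLimits _
  haveI : RepresentablyFlat (BigSite.zarIncl S) :=
    inferInstanceAs (RepresentablyFlat (EtZar.zarToEt S ⋙ EtFppf.a S))
  exact LanFlat.lan_preservesFiniteLimits_of_flat AddCommGrpCat.{u+1} (BigSite.zarIncl S)
    (fun K J _ _ => by
    haveI : IsFiltered (CostructuredArrow (BigSite.zarIncl S).op K) :=
      IsFiltered.of_equivalence (structuredArrowOpEquivalence (BigSite.zarIncl S) (Opposite.unop K))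
    haveI : PreservesFilteredColimitsOfSize.{u, u} (forget AddCommGrpCat.{u+1}) :=
      preservesFilteredColimitsOfSize_shrink.{u, u+1, u, u+1} _
    exact filtered_colim_preservesFiniteLimits)

variable [BigSite.ZarCont KK S]

theorem piZarPull_preservesFiniteLimits' :
    PreservesFiniteLimits (BigSite.piZarPull KK S) := by
  haveI := lan_zarIncl_preservesFiniteLimits' S
  exact Functor.sheafPullbackConstruction.preservesFiniteLimits (BigSite.zarIncl S)
    AddCommGrpCat.{u+1} (Opens.grothendieckTopology S) (QuotSh.J KK S)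

theorem injective_resZar' (I : BigSite.Ab KK S) (hI : Injective I) :
    Injective ((BigSite.resZar KK S).obj I) := by
  haveI := piZarPull_preservesFiniteLimits' S
  exact Injective.injective_of_adjoint (BigSite.piZarAdj KK S) I

theorem preservesFiniteLimits_resZar' : PreservesFiniteLimits (BigSite.resZar KK S) := by
  haveI := (BigSite.piZarAdj KK S).rightAdjoint_preservesLimits
  infer_instance

/-- comparison of Zariski and fppf cohomology for Čech-acyclic sheaves. -/
theorem nonempty_H_equiv_of_CA (Y : BigSite.Ab KK S) (hY : CA Y.obj) (q : ℕ) :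
    Nonempty (EtZar.H ((BigSite.resZar KK S).obj Y) q ≃+ BigSite.H KK S Y q) := by
  haveI := preservesFiniteLimits_resZar' S
  obtain ⟨e⟩ := Groth.Agent.Lib.Helper82.HComp.nonempty_H_equiv
    (QuotSh.J KK S) (Opens.grothendieckTopology S)
    (BigSite.zarIncl S) (Groth.Agent.Lib.Helper82.BigZar.isTerminal_top S)
    (Groth.Agent.Lib.Helper82.BigZar.isTerminal_zarIncl_top S)
    (fun I hI => injective_resZar' S I hI) Y
    (fun n => isZero_RresZar S Y hY n) q
  exact ⟨e.symm⟩

end Final


section Adequate
open Groth.Agent.Lib.Helper86.AdeqCech Groth.Agent.Lib.Helper86.Adeq2Cech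
open Groth.Agent.Lib.Helper86.Adeq2Main

/-- the abelian sheaf underlying an adequate module is Čech-acyclic. -/
theorem CA_adequate {S : Scheme.{u}} (M : BigSite.Mod KK S) (hM : Adeq.adequateMod KK S M) :
    CA ((BigSite.toAbMod KK S).obj M).obj := by
  intro R a B _ _ _ n
  have hF : Adeq.adequate R ((Adeq.toMVF KK a).obj M) := adequate_toMVF_fppf M hM R a
  have h1 := exactP_adequate (A := R) B n _ hF
  have h2 := exactP_of_bijective (X₀ := X0 (A := R) B) (αIso M R a)
    (fun n => Function.bijective_id) n h1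
  exact exactP_transfer (algSpec R) (X0 (A := R) B)
    ((Over.map a).op ⋙ ((BigSite.toAbMod KK S).obj M).obj) n h2

/-- S8785: Zariski and fppf cohomology of an adequate module agree. -/
theorem nonempty_H_equiv_adequate (S : Scheme.{u}) [BigSite.ZarCont KK S] (M : BigSite.Mod KK S)
    (hM : Adeq.adequateMod KK S M) (q : ℕ) :
    Nonempty (EtZar.H ((BigSite.resZar KK S).obj ((BigSite.toAbMod KK S).obj M)) q ≃+
      BigSite.HMod KK S M q) :=
  nonempty_H_equiv_of_CA S _ (CA_adequate M hM) q

end Adequate

end Groth.Agent.Lib.Helper86.ZarFppf
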